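import Cfsg.Agent.Fusion.TwistProduct
import Cfsg.Agent.Fusion.SubsystemCentric

/-!
A character of a group of automorphisms of `T`, trivial on `Aut_E(T)` and with values of order prime to `p`, is
trivial on the automorphisms restricting to maps of `E` on a centric subgroup.
-/

set_option autoImplicit false
set_option linter.style.haveILetI false

open Cfsg

namespace CfsgLib.Fusion

open Cfsg.FusionSystem

variable {Ω : Type*} [Group Ω] {T : Subgroup Ω} {E : Cfsg.FusionSystem T} {p : ℕ}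

theorem eq_one_of_restrict_mem' [Finite T] [Fact p.Prime] (hT : IsPGroup p T)
    {B : Subgroup (MulAut T)} (hinv : InvBy E B)
    (hextend : ∀ R : Subgroup Ω, ∀ hR : E.IsCentric R, ∀ b : B,
      (T.subtype.comp (b : MulAut T).toMonoidHom).comp (Subgroup.inclusion hR.1) ∈ E.Hom R →
        ∃ e ∈ E.Hom (normalizerIn T R), ∀ (x : R) (hx : (x : Ω) ∈ normalizerIn T R),
          e ⟨x, hx⟩ = (((b : MulAut T) ⟨x, hR.1 x.2⟩ : T) : Ω))
    {Δ : Type*} [Group Δ] (hΔ : (Nat.card Δ).Coprime p)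
    (ξ : B →* Δ) (hker : ∀ b : B, (b : MulAut T) ∈ E.autGroup T → ξ b = 1) {R : Subgroup Ω} (hR : E.IsCentric R)
    (b : B) (hb : (T.subtype.comp (b : MulAut T).toMonoidHom).comp (Subgroup.inclusion hR.1) ∈ E.Hom R) :
    ξ b = 1 := by
  induction hd : Nat.card T - Nat.card R using Nat.strong_induction_on generalizing R b with
  | _ d ih =>
  rcases hR.1.eq_or_lt with hRT | hlt
  · subst hRT
    exact hker b ((mem_autGroup le_rfl).2 (mem_of_eq hb fun _ => rfl))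
  set θ := (T.subtype.comp (b : MulAut T).toMonoidHom).comp (Subgroup.inclusion hR.1)
  have hN : R < normalizerIn T R := lt_normalizerIn hT hlt
  set N := normalizerIn T R
  have hNT : N ≤ T := inf_le_left
  haveI := finite_of_le hNT
  obtain ⟨e, he, heq⟩ := hextend R hR b hb
  have heR : ∀ (x : Ω) (hx : x ∈ R), e ⟨x, hN.le hx⟩ = θ ⟨x, hx⟩ := fun x hx => heq ⟨x, hx⟩ _
  -- `b⁻¹ e` stabilizes `1 ≤ R ≤ N`
  obtain ⟨c, hcdef⟩ : ∃ c : N → Ω, ∀ g : N, c g = (g : Ω)⁻¹ * (((b : MulAut T)⁻¹ ⟨e g, val_mem he g⟩ : T) : Ω) :=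
    ⟨_, fun _ => rfl⟩
  have hcR : ∀ g : N, c g ∈ R := by
    intro g
    refine hR.2 R (IsConj.refl hR.1) ⟨?_, Subgroup.mem_centralizer_iff.2 fun x hx => ?_⟩
    · rw [hcdef]
      exact T.mul_mem (T.inv_mem (hNT g.2)) ((b : MulAut T)⁻¹ _).2
    · have hgx : (g : Ω) * x * (g : Ω)⁻¹ ∈ R := conj_mem_of_normalizer g.2.2 hx
      have h1 := heR _ hgx
      rw [show (⟨(g : Ω) * x * (g : Ω)⁻¹, hN.le hgx⟩ : N) = g * ⟨x, hN.le hx⟩ * g⁻¹ from rfl, map_mul, map_mul,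
        map_inv, heR x hx] at h1
      have h2 : (⟨e g, val_mem he g⟩ : T) * (b : MulAut T) ⟨x, hR.1 hx⟩ * (⟨e g, val_mem he g⟩ : T)⁻¹ =
          (b : MulAut T) ⟨(g : Ω) * x * (g : Ω)⁻¹, hR.1 hgx⟩ := Subtype.ext h1
      have h3 := congrArg (fun z : T => (((b : MulAut T)⁻¹ z : T) : Ω)) h2
      simp only [map_mul, map_inv, MulAut.inv_apply_self, Subgroup.coe_mul, Subgroup.coe_inv] at h3
      rw [hcdef]
      have h4 := congrArg (fun z => (g : Ω)⁻¹ * z * (((b : MulAut T)⁻¹ ⟨e g, val_mem he g⟩ : T) : Ω)) h3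
      simp only [mul_assoc, inv_mul_cancel, mul_one, inv_mul_cancel_left] at h4 ⊢
      exact h4.symm
  let δ₀ : N →* N :=
    { toFun := fun g => ⟨(((b : MulAut T)⁻¹ ⟨e g, val_mem he g⟩ : T) : Ω), by
        have := mul_mem g.2 (hN.le (hcR g))
        rwa [hcdef, mul_inv_cancel_left] at this⟩
      map_one' := Subtype.ext (by
        show (((b : MulAut T)⁻¹ ⟨e 1, _⟩ : T) : Ω) = 1
        rw [show (⟨e 1, val_mem he 1⟩ : T) = 1 from Subtype.ext (map_one e), map_one]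
        rfl)
      map_mul' := fun x y => Subtype.ext (by
        show (((b : MulAut T)⁻¹ ⟨e (x * y), _⟩ : T) : Ω) = _
        rw [show (⟨e (x * y), val_mem he _⟩ : T) = ⟨e x, val_mem he x⟩ * ⟨e y, val_mem he y⟩ from
          Subtype.ext (map_mul e x y), map_mul]
        rfl) }
  have hδinj : Function.Injective δ₀ := fun x y hxy => by
    have h1 : ((b : MulAut T)⁻¹ ⟨e x, val_mem he x⟩) = (b : MulAut T)⁻¹ ⟨e y, val_mem he y⟩ :=
      Subtype.ext (congrArg Subtype.val hxy :)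
    exact E.injective_of_mem he (congrArg Subtype.val ((b : MulAut T)⁻¹.injective h1))
  let δ : MulAut N := MulEquiv.ofBijective δ₀ (Finite.injective_iff_bijective.1 hδinj)
  have hδv : ∀ g : N, ((δ g : N) : Ω) = (g : Ω) * c g := fun g => by
    rw [hcdef, mul_inv_cancel_left]; rfl
  have hδR : ∀ (g : N), (g : Ω) ∈ R → δ g = g := fun g hg => Subtype.ext (by
    show (((b : MulAut T)⁻¹ ⟨e g, val_mem he g⟩ : T) : Ω) = g
    rw [show (⟨e g, val_mem he g⟩ : T) = (b : MulAut T) ⟨g, hR.1 hg⟩ from Subtype.ext (heR g hg),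
      MulAut.inv_apply_self])
  haveI := finite_of_le hR.1
  obtain ⟨k, hk⟩ := IsPGroup.iff_card.1 (hT.to_le hR.1)
  have hpow : ∀ (n : ℕ) (g : N), (((δ ^ n) g : N) : Ω) = (g : Ω) * c g ^ n := by
    intro n g
    induction n with
    | zero => simp
    | succ n ihn =>
      have h2 : ∀ g' : N, (g' : Ω) = (g : Ω) * c g ^ n → ((δ g' : N) : Ω) = (g : Ω) * c g ^ (n + 1) := by
        intro g' hg'
        have hd : g' = g * ⟨c g ^ n, hN.le (R.pow_mem (hcR g) n)⟩ := Subtype.ext hg'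
        rw [hd, map_mul, Subgroup.coe_mul, hδv, hδR _ (R.pow_mem (hcR g) n), mul_assoc, pow_succ']
      rw [pow_succ', MulAut.mul_apply]
      exact h2 _ ihn
  have hδ1 : δ ^ p ^ k = 1 := MulEquiv.ext fun g => Subtype.ext (by
    rw [hpow, ← hk, show c g ^ Nat.card R = 1 from congrArg Subtype.val (pow_card_eq_one' (x := (⟨c g, hcR g⟩ : R))),
      mul_one]
    rfl)
  -- the powers lie in `B E`
  have hrep : ∀ n : ℕ, ∃ f ∈ E.Hom N, ∀ (g : N) (hf : f g ∈ T),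
      (((δ ^ n) g : N) : Ω) = ((((b : MulAut T)⁻¹) ^ n) ⟨f g, hf⟩ : T) := by
    intro n
    induction n with
    | zero => exact ⟨N.subtype, subtype_mem hNT, fun g hf => by simp⟩
    | succ n ihn =>
      obtain ⟨f, hf, hfv⟩ := ihn
      set α := ((b : MulAut T)⁻¹) ^ n with hα
      have hαB : α ∈ B := pow_mem (inv_mem b.2) n
      have hr : f.range ≤ T := range_le hf
      have hm : ∀ r : f.range, ((α ⟨r, hr r.2⟩ : T) : Ω) ∈ N := by
        rintro ⟨_, g, rfl⟩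
        rw [← hfv g (val_mem hf g)]
        exact ((δ ^ n) g).2
      refine ⟨_, E.comp_mem hf (hinv N e he α hαB f.range hr hm) (fun g => ⟨g, rfl⟩), fun g hg => ?_⟩
      rw [pow_succ' δ, MulAut.mul_apply, pow_succ', MulAut.mul_apply, ← hα]
      show (((b : MulAut T)⁻¹ ⟨e ((δ ^ n) g), _⟩ : T) : Ω) = _
      refine congrArg (fun z : T => (((b : MulAut T)⁻¹ z : T) : Ω)) ?_
      have h3 : (⟨_, hg⟩ : T) = α⁻¹ ⟨e ⟨_, hm ⟨f g, g, rfl⟩⟩, val_mem he _⟩ := Subtype.ext rfl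
      rw [h3, MulAut.apply_inv_self]
      exact Subtype.ext (congrArg e (Subtype.ext (hfv g (val_mem hf g))))
  obtain ⟨f, hf, hfv⟩ := hrep (p ^ k)
  have hcN : E.IsCentric f.range := isCentric_of_conj ⟨hNT, fun Q hQ => by
    obtain ⟨φ, hφ, rfl⟩ := hQ
    intro y hy
    have h1 : y ∈ (φ.comp (Subgroup.inclusion hN.le)).range := hR.2 _ ⟨_, restrict hφ hN.le, rfl⟩
      ⟨hy.1, Subgroup.mem_centralizer_iff.2 (by
        rintro _ ⟨x, rfl⟩
        exact Subgroup.mem_centralizer_iff.1 hy.2 _ ⟨_, rfl⟩)⟩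
    obtain ⟨x, hx⟩ := h1
    exact ⟨_, hx⟩⟩ ⟨f, hf, rfl⟩
  have hNR : Nat.card R < Nat.card f.range := by
    rw [← Nat.card_congr (MonoidHom.ofInjective (E.injective_of_mem hf)).toEquiv]
    exact lt_of_le_of_ne (Subgroup.card_le_of_le hN.le) fun h => hN.ne (Subgroup.eq_of_le_of_card_ge hN.le h.ge)
  have hTc : Nat.card f.range ≤ Nat.card T := Subgroup.card_le_of_le (range_le hf)
  have h1 : ξ (b⁻¹ ^ p ^ k) = 1 := by
    refine ih _ (by omega) hcN _ ?_ rfl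
    obtain ⟨χ, hχ, -, hχ1, -⟩ := exists_inv hf (rfl : f.range = f.range)
    refine mem_of_eq hχ ?_
    rintro ⟨_, g, rfl⟩
    show ((((b : MulAut T)⁻¹) ^ p ^ k) ⟨f g, _⟩ : T) = (χ ⟨f g, _⟩ : Ω)
    rw [← hfv g (val_mem hf g), hδ1, hχ1 g ⟨g, rfl⟩]
    rfl
  rw [map_pow, map_inv, inv_pow, inv_eq_one] at h1
  have h2 : orderOf (ξ b) ∣ Nat.gcd (Nat.card Δ) (p ^ k) :=
    Nat.dvd_gcd (orderOf_dvd_natCard _) (orderOf_dvd_of_pow_eq_one h1)
  rw [(hΔ.pow_right k), Nat.dvd_one, orderOf_eq_one_iff] at h2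
  exact h2

theorem eq_one_of_restrict_mem [Finite T] [Fact p.Prime] (hT : IsPGroup p T) (hE : E.IsSaturated p)
    {B : Subgroup (MulAut T)} (hinv : InvBy E B) {Δ : Type*} [Group Δ] (hΔ : (Nat.card Δ).Coprime p)
    (ξ : B →* Δ) (hker : ∀ b : B, (b : MulAut T) ∈ E.autGroup T → ξ b = 1) {R : Subgroup Ω} (hR : E.IsCentric R)
    (b : B) (hb : (T.subtype.comp (b : MulAut T).toMonoidHom).comp (Subgroup.inclusion hR.1) ∈ E.Hom R) :
    ξ b = 1 := by
  refine eq_one_of_restrict_mem' hT hinv (fun R hR b hb => ?_) hΔ ξ hker hR b hb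
  set θ := (T.subtype.comp (b : MulAut T).toMonoidHom).comp (Subgroup.inclusion hR.1)
  have hR' : E.IsCentric θ.range := isCentric_of_conj hR ⟨θ, hb, rfl⟩
  obtain ⟨ψ, hψ, hag⟩ := (receptive_of_fullyCentralized hT hE (isFullyCentralized_of_centric hR')).2 R θ hb rfl
  have hext : normalizerIn T R ≤ extender T R θ := fun g hg =>
    mem_extender.2 ⟨hg.1, hg.2, ((b : MulAut T) ⟨g, hg.1⟩ : T), ((b : MulAut T) ⟨g, hg.1⟩).2, fun x hx => by
      show (((b : MulAut T) ⟨g * (x : Ω) * g⁻¹, _⟩ : T) : Ω) = _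
      rw [show (⟨g * (x : Ω) * g⁻¹, hR.1 hx⟩ : T) = ⟨g, hg.1⟩ * ⟨x, hR.1 x.2⟩ * ⟨g, hg.1⟩⁻¹ from rfl,
        map_mul, map_mul, map_inv]
      rfl⟩
  exact ⟨_, restrict hψ hext, fun x hx => hag x x.2 _⟩

end CfsgLib.Fusion
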