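import Cfsg.Agent.Fusion.SeriesNormal
import Cfsg.Agent.Fusion.Factor
import Cfsg.Agent.PCore.Basic

/-!
Centric subgroups meeting a normal subsystem noncentrically are not radical.
-/

set_option autoImplicit false
set_option linter.style.haveILetI false

open Cfsg

namespace CfsgLib.Fusion

open Cfsg.FusionSystem
open scoped commutatorElement Pointwise

variable {Ω : Type*} [Group Ω] {S T : Subgroup Ω} {F : Cfsg.FusionSystem S} {P Q : Subgroup Ω}
variable {p : ℕ}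

/-- `O_p(Aut_F(P)) = Inn(P)` passes to conjugates. -/
lemma mem_inn_of_conj_radical (hr : F.IsRadical p P) {φ : P →* Ω} (hφ : φ ∈ F.Hom P) {α : MulAut φ.range}
    (hα : α ∈ (Cfsg.pCore p (F.autGroup φ.range)).map (F.autGroup φ.range).subtype) :
    α ∈ Cfsg.Inn φ.range := by
  obtain ⟨ψ, hψ, hψr, -, -⟩ := exists_inv hφ (rfl : φ.range = φ.range)
  set f := isoOfHom (F.injective_of_mem hψ) hψr
  let E : F.autGroup φ.range ≃* F.autGroup P :=
    ((F.autGroup φ.range).equivMapOfInjective _ (MulEquiv.injective _)).trans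
      (MulEquiv.subgroupCongr (map_autGroup hψ hψr))
  obtain ⟨a, ha, rfl⟩ := hα
  have h1 : MulAut.congr f (a : MulAut φ.range) ∈ Cfsg.Inn P :=
    hr.2.le ⟨E a, (CfsgLib.PCore.map_pCore_equiv E).le ⟨a, ha, rfl⟩, rfl⟩
  obtain ⟨y, hy⟩ := h1
  refine ⟨f.symm y, (MulAut.congr f).injective ?_⟩
  rw [show (MulAut.congr f) ((F.autGroup φ.range).subtype a) = MulAut.conj y from hy.symm]
  ext x
  show ((f (f.symm y * f.symm x * (f.symm y)⁻¹) : P) : Ω) = _
  simp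

variable [Fact p.Prime]

theorem centric_meet_normal [Finite S] (hS : IsPGroup p S) (hF : F.IsSaturated p) {E : Cfsg.FusionSystem T}
    (hEF : E.IsSubsystemOf F) (hT : F.StronglyClosed T) (hP : F.IsCentric P) (hPT : ¬ E.IsCentric (P ⊓ T)) :
    (∃ φ ∈ F.Hom P, ∃ x ∈ S ⊓ Subgroup.normalizer (φ.range : Set Ω), x ∉ φ.range ∧
      ∃ α ∈ ((Cfsg.pCore p ↥(F.autGroup φ.range)).map (F.autGroup φ.range).subtype :
        Subgroup (MulAut ↥φ.range)), ∀ y : ↥φ.range, ((α y : ↥φ.range) : Ω) = x * (y : Ω) * x⁻¹) ∧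
      ¬ F.IsRadical p P := by
  set R := P ⊓ T
  have hRT : R ≤ T := inf_le_right
  have hRS : R ≤ S := hRT.trans hT.1
  obtain ⟨R', hcE, hnle⟩ : ∃ R', E.IsConj R R' ∧ ¬ centralizerIn T R' ≤ R' := by
    by_contra h
    push_neg at h
    exact hPT ⟨hRT, h⟩
  obtain ⟨R₁, hcR, hR₁⟩ := exists_fullyNormalized (F := F) hRS
  have hr₁ := receptive_of_fullyNormalized hS hF hR₁
  obtain ⟨χ, hχ, hRN, hχR, -⟩ := exists_map_normalizer p hS (fullyAutomized_of_fullyNormalized hS hF hR₁) hr₁ hcR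
  have hTn := le_normalizer_of_weaklyClosed_fusion (weaklyClosed_of_stronglyClosed hT)
  have hPN : P ≤ normalizerIn S R := by
    refine le_inf hP.1 fun g hg => Subgroup.mem_normalizer_iff.2 fun y => ?_
    have h1 := Subgroup.mem_normalizer_iff.1 (Subgroup.le_normalizer hg : g ∈ Subgroup.normalizer (P : Set Ω)) y
    have h2 := Subgroup.mem_normalizer_iff.1 (hTn (hP.1 hg)) y
    exact and_congr h1 h2
  set φ := χ.comp (Subgroup.inclusion hPN)
  have hφ : φ ∈ F.Hom P := restrict hχ hPN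
  set D := φ.range with hD
  have hDS : D ≤ S := range_le hφ
  have hR₁D : R₁ ≤ D := by
    rw [← hχR]
    rintro _ ⟨x, rfl⟩
    exact ⟨⟨x, x.2.1⟩, rfl⟩
  have hR₁T : R₁ ≤ T := by
    rw [← hχR]
    rintro _ ⟨x, rfl⟩
    exact hT.2 R hRT _ (restrict hχ hRN) x
  have hDT : ∀ y ∈ D, y ∈ T → y ∈ R₁ := by
    rintro _ ⟨x, rfl⟩ hy
    obtain ⟨ψ, hψ, -, h1, -⟩ := exists_inv hφ (rfl : φ.range = φ.range)
    have h2 := stronglyClosed_mapsTo hT hψ ⟨φ x, x, rfl⟩ hy
    rw [h1 x ⟨x, rfl⟩] at h2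
    rw [← hχR]
    exact ⟨⟨x, x.2, h2⟩, rfl⟩
  -- `C_T(R₁)` is not contained in `R₁`
  have hX : ¬ centralizerIn T R₁ ≤ R₁ := by
    intro hle
    refine hnle fun c hc => ?_
    obtain ⟨θ, hθ, hθr⟩ := hcE
    obtain ⟨τ, hτ, hτr⟩ := IsConj.trans (IsConj.symm (F := F) ⟨θ, hEF _ hθ, hθr⟩) hcR
    obtain ⟨ψ, hψ, hag⟩ := hr₁.2 R' τ hτ hτr
    have hcN : c ∈ extender S R' τ := centralizerIn_le_extender ⟨hT.1 hc.1, hc.2⟩
    have h1 := map_mem_centralizerIn hψ (le_extender hτ) (fun x => hag x x.2 _) hcN hc.2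
    rw [hτr] at h1
    obtain ⟨w, hw⟩ := hτr.ge (hle ⟨stronglyClosed_mapsTo hT hψ ⟨c, hcN⟩ hc.1, h1.2⟩)
    have h2 := hag w w.2 (le_extender hτ w.2)
    have h3 : ψ ⟨(w : Ω), le_extender hτ w.2⟩ = ψ ⟨c, hcN⟩ := h2.trans hw
    have h4 : (w : Ω) = c := congrArg Subtype.val (F.injective_of_mem hψ h3)
    exact h4 ▸ w.2
  -- an element of `C_T(R₁)` normalizing `D` outside it
  set X := centralizerIn T R₁
  have hXS : X ≤ S := inf_le_left.trans hT.1
  have hDX : D ≤ Subgroup.normalizer (X : Set Ω) := by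
    intro g hg
    have key : ∀ g ∈ D, ∀ x ∈ X, g * x * g⁻¹ ∈ X := by
      rintro g hg x ⟨hxT, hxc⟩
      refine ⟨conj_mem_of_normalizer (hTn (hDS hg)) hxT, Subgroup.mem_centralizer_iff.2 fun r hr => ?_⟩
      have hr' : g⁻¹ * r * g ∈ R₁ := hDT _ (D.mul_mem (D.mul_mem (D.inv_mem hg) (hR₁D hr)) hg)
        (conj_inv_mem_of_normalizer (hTn (hDS hg)) (hR₁T hr))
      have h5 := Subgroup.mem_centralizer_iff.1 hxc _ hr'
      calc r * (g * x * g⁻¹) = g * (g⁻¹ * r * g * x) * g⁻¹ := by group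
        _ = g * (x * (g⁻¹ * r * g)) * g⁻¹ := by rw [h5]
        _ = g * x * g⁻¹ * r := by group
    refine Subgroup.mem_normalizer_iff.2 fun x => ⟨key g hg x, fun hx => ?_⟩
    have := key g⁻¹ (D.inv_mem hg) _ hx
    simpa [mul_assoc] using this
  have hXD : ¬ X ≤ D := fun h => hX fun x hx => hDT x (h hx) hx.1
  haveI : Finite ↥(D ⊔ X) := finite_of_le (sup_le hDS hXS)
  obtain ⟨g, hg, hgN, hgD⟩ := exists_normalizer_not_mem (Q := D) (P := D ⊔ X) (hS.to_le (sup_le hDS hXS))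
    (lt_of_le_of_ne le_sup_left fun e => hXD (e ▸ le_sup_right))
  have hg' : g ∈ ((D : Set Ω) * (X : Set Ω)) := by
    rw [← Subgroup.coe_mul_of_left_le_normalizer_right _ _ hDX]
    exact hg
  obtain ⟨a, ha, d, hd, rfl⟩ := hg'
  have hdN : d ∈ Subgroup.normalizer (D : Set Ω) := by
    simpa using mul_mem (inv_mem (Subgroup.le_normalizer ha)) hgN
  have hdD : d ∉ D := fun h => hgD (D.mul_mem ha h)
  have hdS := hXS hd
  haveI := finite_of_le hDS
  set α := conjAut D S ⟨d, hdS, hdN⟩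
  let L : ℕ → Subgroup Ω := fun i => if i = 0 then ⊥ else if i = 1 then R₁ else ⊤
  have hL : Monotone L := monotone_nat_of_le_succ fun i => by
    rcases i with _ | _ | i <;> simp [L]
  have hαc : α ∈ (Cfsg.pCore p (F.autGroup D)).map (F.autGroup D).subtype := by
    refine chainStab_le_pCore (hS.to_le hDS) hL (m := 2) (by simp [L]) (by simp [L]) _ (fun γ hγ i y hy => ?_)
      ⟨stabilizesChain_conj (g := d) (fun _ => rfl) fun i hi y hyD hy => ?_,
        autInducedBy_le_autGroup hDS (range_conjAut (P := D) S ▸ ⟨_, rfl⟩)⟩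
    · rcases i with _ | _ | i
      · simp [L] at hy ⊢
        exact hy
      · exact hDT _ (γ y).2 (stronglyClosed_mapsTo hT ((mem_autGroup hDS).1 hγ) y (hR₁T hy))
      · simp [L]
    · rcases i with _ | _ | i
      · show ⁅y⁻¹, d⁆ ∈ (⊥ : Subgroup Ω)
        rw [Subgroup.mem_bot, commutatorElement_eq_one_iff_mul_comm]
        exact Subgroup.mem_centralizer_iff.1 hd.2 _ (R₁.inv_mem hy)
      · show ⁅y⁻¹, d⁆ ∈ R₁
        rw [commutatorElement_def, inv_inv]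
        refine hDT _ ?_ (T.mul_mem ?_ (T.inv_mem hd.1))
        · rw [show y⁻¹ * d * y * d⁻¹ = y⁻¹ * (d * y * d⁻¹) by group]
          exact D.mul_mem (D.inv_mem hyD) (conj_mem_of_normalizer hdN hyD)
        · exact conj_inv_mem_of_normalizer (hTn (hDS hyD)) hd.1
      · omega
  refine ⟨⟨φ, hφ, d, ⟨hdS, hdN⟩, hdD, α, hαc, fun _ => rfl⟩, fun hr => hdD ?_⟩
  refine mem_self_of_inn (F := F) ?_ hdS (α := α) (fun _ => rfl) (mem_inn_of_conj_radical hr hφ hαc)
  exact ⟨hDS, fun Q hQ => hP.2 Q (IsConj.trans ⟨φ, hφ, rfl⟩ hQ)⟩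

end CfsgLib.Fusion
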