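import Cfsg.Prelude.Def_FusionComponents
import Cfsg.Agent.Fusion.SeriesNormal
import Cfsg.Agent.Fusion.Centric
import Cfsg.Agent.Fusion.Factor
import Cfsg.Agent.PCore.Basic
import Cfsg.Agent.S5145

/-!
Subnormal subsystems of constrained systems are constrained.
-/

set_option autoImplicit false
set_option linter.style.haveILetI false

open Cfsg

namespace CfsgLib.Fusion

open Cfsg.FusionSystem
open scoped commutatorElement Pointwise

variable {Ω : Type*} [Group Ω] {S T : Subgroup Ω} {F : Cfsg.FusionSystem S} {P Q R : Subgroup Ω}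
variable {p : ℕ} [Fact p.Prime]

/-- A normal subgroup lies in every fully normalized centric radical subgroup. -/
lemma le_centricRadical_of_isNormal [Finite S] (hS : IsPGroup p S) (hF : F.IsSaturated p) (hQ : F.IsNormal Q)
    (hn : F.IsFullyNormalized P) (hc : F.IsCentric P) (hr : F.IsRadical p P) : Q ≤ P := by
  haveI := finite_of_le hQ.1
  haveI : Group.IsNilpotent Q := (hS.to_le hQ.1).isNilpotent
  obtain ⟨n, hn'⟩ := (Subgroup.isNilpotent_iff_lowerCentralSeries Q).1 ‹Group.IsNilpotent Q›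
  refine le_trans (le_of_eq ?_) (le_centricRadical hS hF (stronglyClosed_of_isNormal hQ)
    (fun i => Q.lowerCentralSeries (n - i))
    (fun a b hab => Q.lowerCentralSeries_antitone (by omega)) (by simpa using hn')
    (fun i => Q.lowerCentralSeries_antitone (Nat.zero_le _)) (fun i => ?_) (fun i => ?_) hn hc hr n).1
  · simp
  · rcases Nat.lt_or_ge i n with hi | hi
    · rw [show n - i = (n - (i + 1)) + 1 by omega, Subgroup.lowerCentralSeries_succ]
    · rw [show n - (i + 1) = 0 by omega, show n - i = 0 by omega, Subgroup.lowerCentralSeries_zero,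
        Subgroup.commutator_le]
      intro a ha b hb
      rw [commutatorElement_def]
      exact Q.mul_mem (Q.mul_mem (Q.mul_mem ha hb) (Q.inv_mem ha)) (Q.inv_mem hb)
  · have hle : Q.lowerCentralSeries (n - i) ≤ Q := Q.lowerCentralSeries_antitone (Nat.zero_le _)
    refine ⟨hle.trans hQ.1, fun φ hφ => ?_⟩
    haveI := finite_of_le (hle.trans hQ.1)
    obtain ⟨α, -, hα⟩ := exists_aut_of_isNormal hQ hle hφ
    refine Subgroup.eq_of_le_of_card_ge ?_ (le_of_eq ?_)
    · rintro _ ⟨x, rfl⟩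
      rw [hα]
      exact aut_mem_lowerCentralSeries α _ x.2
    · exact Nat.card_congr (MonoidHom.ofInjective (F.injective_of_mem hφ)).toEquiv

/-- The elements of `S` acting on `Q` in `O_p(Aut_F(Q))`. -/
def corePreimage (F : Cfsg.FusionSystem S) (p : ℕ) (Q : Subgroup Ω) : Subgroup Ω where
  carrier := {g | g ∈ S ∧ ∃ α ∈ (Cfsg.pCore p (F.autGroup Q)).map (F.autGroup Q).subtype,
    ∀ y : Q, ((α y : Q) : Ω) = g * (y : Ω) * g⁻¹}
  one_mem' := ⟨S.one_mem, 1, one_mem _, fun y => by simp⟩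
  mul_mem' := by
    rintro a b ⟨ha, α, hα, hx⟩ ⟨hb, β, hβ, hy⟩
    refine ⟨S.mul_mem ha hb, α * β, mul_mem hα hβ, fun y => ?_⟩
    rw [MulAut.mul_apply, hx, hy]; group
  inv_mem' := by
    rintro a ⟨ha, α, hα, hx⟩
    refine ⟨S.inv_mem ha, α⁻¹, inv_mem hα, fun y => ?_⟩
    have h1 := hx (α⁻¹ y)
    rw [MulAut.apply_inv_self] at h1
    rw [h1]; group

lemma conj_mem_map_pCore {A : Subgroup (MulAut Q)} {α β : MulAut Q} (hβ : β ∈ A)
    (hα : α ∈ (Cfsg.pCore p A).map A.subtype) : β * α * β⁻¹ ∈ (Cfsg.pCore p A).map A.subtype := by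
  obtain ⟨a, ha, rfl⟩ := hα
  exact ⟨_, (Cfsg.pCore_normal p A).conj_mem a ha ⟨β, hβ⟩, rfl⟩

/-- For a centric normal `Q`, the preimage of `O_p(Aut_F(Q))` is normal. -/
theorem isNormal_corePreimage [Finite S] (hS : IsPGroup p S) (hF : F.IsSaturated p) (hQ : F.IsNormal Q)
    (hQc : F.IsCentric Q) : F.IsNormal (corePreimage F p Q) := by
  set X := corePreimage F p Q with hX
  have hXS : X ≤ S := fun g hg => hg.1
  have hQn := le_normalizer_of_isNormal hQ
  have hnX : S ≤ Subgroup.normalizer (X : Set Ω) := by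
    have key : ∀ h ∈ S, ∀ x ∈ X, h * x * h⁻¹ ∈ X := by
      rintro h hh x ⟨hxS, α, hα, hx⟩
      have hc : conjAut Q S ⟨h, hh, hQn hh⟩ ∈ F.autGroup Q :=
        autInducedBy_le_autGroup hQ.1 (range_conjAut (P := Q) S ▸ ⟨_, rfl⟩)
      refine ⟨S.mul_mem (S.mul_mem hh hxS) (S.inv_mem hh), _, conj_mem_map_pCore hc hα, fun y => ?_⟩
      show h * ((α ((conjAut Q S ⟨h, hh, hQn hh⟩)⁻¹ y) : Q) : Ω) * h⁻¹ = _
      rw [hx]
      show h * (x * (h⁻¹ * (y : Ω) * h) * x⁻¹) * h⁻¹ = _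
      group
    intro h hh
    refine Subgroup.mem_normalizer_iff.2 fun x => ⟨key h hh x, fun hx => ?_⟩
    have := key h⁻¹ (S.inv_mem hh) _ hx
    simpa [mul_assoc] using this
  refine isNormal_of_centricRadical hS hF hXS hnX fun P hn hc hr => ?_
  have hP := hn.1
  haveI := finite_of_le hP
  haveI := finite_mulAut hP
  haveI := finite_mulAut hQ.1
  have hQP : Q ≤ P := le_centricRadical_of_isNormal hS hF hQ hn hc hr
  have hsc := stronglyClosed_of_isNormal hQ
  set A := F.autGroup P with hA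
  -- restriction to `Q`
  have hres : ∀ γ : A, ∀ y : Q, (((γ : MulAut P) ⟨y, hQP y.2⟩ : P) : Ω) ∈ Q := fun γ y =>
    stronglyClosed_mapsTo hsc ((mem_autGroup hP).1 γ.2) ⟨y, hQP y.2⟩ y.2
  haveI := finite_of_le hQ.1
  have hexi : ∀ γ : A, ∃ δ : F.autGroup Q, ∀ y : Q,
      (((δ : MulAut Q) y : Q) : Ω) = (((γ : MulAut P) ⟨y, hQP y.2⟩ : P) : Ω) := by
    intro γ
    have hφ := restrict ((mem_autGroup hP).1 γ.2) hQP
    have hr : ((P.subtype.comp (γ : MulAut P).toMonoidHom).comp (Subgroup.inclusion hQP)).range = Q := by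
      refine Subgroup.eq_of_le_of_card_ge (by rintro _ ⟨y, rfl⟩; exact hres γ y) (le_of_eq ?_)
      exact Nat.card_congr (MonoidHom.ofInjective (F.injective_of_mem hφ)).toEquiv
    exact ⟨⟨isoOfHom (F.injective_of_mem hφ) hr, mem_autGroup_of_eq hφ fun _ => rfl⟩, fun _ => rfl⟩
  choose res hresy using hexi
  let r : A →* F.autGroup Q := MonoidHom.mk' res fun a b => Subtype.ext (MulEquiv.ext fun y => Subtype.ext (by
    rw [hresy]
    show _ = (((res a : MulAut Q) ((res b : MulAut Q) y) : Q) : Ω)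
    rw [hresy]
    exact congrArg (fun z : P => (((a : MulAut P) z : P) : Ω)) (Subtype.ext (hresy b y).symm)))
  let L : ℕ → Subgroup Ω := fun i => if i = 0 then ⊥ else if i = 1 then Q else ⊤
  have hL : Monotone L := monotone_nat_of_le_succ fun i => by
    rcases i with _ | _ | i <;> simp [L]
  have hkerp : IsPGroup p r.ker := by
    refine (((isPGroup_chainStab (hS.to_le hP) (m := 2) hL (by simp [L]) (by simp [L])).to_le
      (?_ : r.ker.map A.subtype ≤ chainStab L 2 hL))).of_equiv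
      (r.ker.equivMapOfInjective _ A.subtype_injective).symm
    rintro _ ⟨γ, hγ, rfl⟩
    have hfix : ∀ y : Q, (((γ : MulAut P) ⟨y, hQP y.2⟩ : P) : Ω) = y := fun y => by
      rw [← hresy γ y]
      exact congrArg (fun d : F.autGroup Q => (((d : MulAut Q) y : Q) : Ω)) hγ
    intro i hi x hx
    rcases i with _ | _ | i
    · simp [L] at hx ⊢
      have h1 : ((γ : MulAut P) x : P) = x := Subtype.ext (hfix ⟨x, hx⟩)
      simp [h1]
    · have hxn : (x : Ω) ∈ Subgroup.normalizer (Q : Set Ω) := hQn (hP x.2)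
      show ((x⁻¹ * (γ : MulAut P) x : P) : Ω) ∈ Q
      refine hQc.2 Q (IsConj.refl hQ.1) ⟨hP (x⁻¹ * (γ : MulAut P) x).2, Subgroup.mem_centralizer_iff.2 ?_⟩
      intro q hq
      have hmem := conj_mem_of_normalizer hxn hq
      have h1 := hfix ⟨_, hmem⟩
      have h2 : (⟨(x : Ω) * q * (x : Ω)⁻¹, hQP hmem⟩ : P) = x * ⟨q, hQP hq⟩ * x⁻¹ := rfl
      rw [h2, map_mul, map_mul, map_inv, Subgroup.coe_mul, Subgroup.coe_mul, Subgroup.coe_inv,
        hfix ⟨q, hq⟩] at h1
      set z := (((γ : MulAut P) x : P) : Ω)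
      show q * ((x : Ω)⁻¹ * z) = (x : Ω)⁻¹ * z * q
      calc q * ((x : Ω)⁻¹ * z) = (x : Ω)⁻¹ * ((x : Ω) * q * (x : Ω)⁻¹) * z := by group
        _ = (x : Ω)⁻¹ * (z * q * z⁻¹) * z := by rw [h1]
        _ = (x : Ω)⁻¹ * z * q := by group
    · omega
  have hN : (Cfsg.pCore p (F.autGroup Q)).comap r ≤ Cfsg.pCore p A := by
    haveI := Cfsg.pCore_normal p (F.autGroup Q)
    exact CfsgLib.PCore.le_pCore inferInstance
      ((CfsgLib.PCore.isPGroup_pCore p _).comap_of_ker_isPGroup r hkerp)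
  have hNXP : ∀ g ∈ X, g ∈ Subgroup.normalizer (P : Set Ω) → g ∈ P := by
    rintro g ⟨hgS, α, ⟨a, ha, rfl⟩, hg⟩ hgN
    have hc' : conjAut P S ⟨g, hgS, hgN⟩ ∈ A :=
      autInducedBy_le_autGroup hP (range_conjAut (P := P) S ▸ ⟨_, rfl⟩)
    refine mem_self_of_inn hc hgS (α := conjAut P S ⟨g, hgS, hgN⟩) (fun _ => rfl) (hr.2.le ?_)
    refine ⟨⟨_, hc'⟩, hN ?_, rfl⟩
    show r ⟨_, hc'⟩ ∈ Cfsg.pCore p (F.autGroup Q)
    have : r ⟨_, hc'⟩ = a := Subtype.ext (MulEquiv.ext fun y => Subtype.ext ((hresy _ y).trans (hg y).symm))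
    rw [this]; exact ha
  have hXP : X ≤ P := by
    by_contra hle
    haveI : Finite ↥(P ⊔ X) := finite_of_le (sup_le hP hXS)
    obtain ⟨g, hg, hgN, hgP⟩ := exists_normalizer_not_mem (Q := P) (P := P ⊔ X)
      (hS.to_le (sup_le hP hXS)) (lt_of_le_of_ne le_sup_left fun e => hle (e ▸ le_sup_right))
    have hg' : g ∈ ((P : Set Ω) * (X : Set Ω)) := by
      rw [← Subgroup.coe_mul_of_left_le_normalizer_right _ _ (hP.trans hnX)]
      exact hg
    obtain ⟨a, ha, d, hd, rfl⟩ := hg'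
    refine hgP (P.mul_mem ha (hNXP d hd ?_))
    simpa using mul_mem (inv_mem (Subgroup.le_normalizer ha)) hgN
  refine ⟨hXP, fun α hα x hx => ?_⟩
  obtain ⟨hxS, β, hβ, hx'⟩ := hx
  refine ⟨hP (α x).2, _, conj_mem_map_pCore (res ⟨α, hα⟩).2 hβ, fun y => ?_⟩
  set d : MulAut Q := (res ⟨α, hα⟩ : MulAut Q) with hd
  show ((d (β (d⁻¹ y)) : Q) : Ω) = _
  rw [hresy]
  have h1 : (⟨((β (d⁻¹ y) : Q) : Ω), hQP (β (d⁻¹ y)).2⟩ : P) =
      x * ⟨((d⁻¹ y : Q) : Ω), hQP (d⁻¹ y).2⟩ * x⁻¹ := Subtype.ext (hx' _)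
  rw [h1, map_mul, map_mul, map_inv, Subgroup.coe_mul, Subgroup.coe_mul, Subgroup.coe_inv,
    ← hresy ⟨α, hα⟩ (d⁻¹ y), ← hd, MulAut.apply_inv_self]

theorem isConstrained_of_isNormalIn [Finite S] (hS : IsPGroup p S) (hF : F.IsConstrained p)
    {E : Cfsg.FusionSystem T} (hE : E.IsNormalIn F p) : E.IsConstrained p := by
  obtain ⟨⟨hEs, hFs, hEF, hT, -⟩, -⟩ := hE
  obtain ⟨-, Q₀, hQ₀, hQ₀c⟩ := hF
  set Q := F.core
  have hQ : F.IsNormal Q := Cfsg.Agent.S5145.result F
  have hQc : F.IsCentric Q := centric_of_le hQ₀c (le_sSup hQ₀) hQ.1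
  haveI := finite_of_le hT.1
  haveI := finite_of_le hQ.1
  haveI := finite_mulAut hQ.1
  have hQT : Q ⊓ T ≤ T := inf_le_right
  have hsc : E.StronglyClosed (Q ⊓ T) := ⟨hQT, fun R hR φ hφ x =>
    ⟨(stronglyClosed_of_isNormal hQ).2 R (hR.trans inf_le_left) φ (hEF R hφ) x, val_mem hφ x⟩⟩
  haveI : Group.IsNilpotent Q := (hS.to_le hQ.1).isNilpotent
  obtain ⟨n, hn⟩ := (Subgroup.isNilpotent_iff_lowerCentralSeries Q).1 ‹Group.IsNilpotent Q›
  have hnorm : E.IsNormal (Q ⊓ T) := by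
    have hLQ : ∀ i, Q.lowerCentralSeries i ≤ Q := fun i => Q.lowerCentralSeries_antitone (Nat.zero_le _)
    refine isNormal_of_series (hS.to_le hT.1) hEs hsc (fun i => Q.lowerCentralSeries (n - i) ⊓ T)
      (fun a b hab => inf_le_inf_right _ (Q.lowerCentralSeries_antitone (by omega)))
      (by simp [hn]) (fun i => inf_le_inf_right _ (hLQ _)) (fun i => ?_) (fun i => ?_) n (by simp)
    · refine le_inf ?_ ?_
      · refine (Subgroup.commutator_mono inf_le_left inf_le_left).trans ?_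
        rcases Nat.lt_or_ge i n with hi | hi
        · rw [show n - i = (n - (i + 1)) + 1 by omega, Subgroup.lowerCentralSeries_succ]
        · rw [show n - (i + 1) = 0 by omega, show n - i = 0 by omega, Subgroup.lowerCentralSeries_zero,
            Subgroup.commutator_le]
          intro a ha b hb
          rw [commutatorElement_def]
          exact Q.mul_mem (Q.mul_mem (Q.mul_mem ha hb) (Q.inv_mem ha)) (Q.inv_mem hb)
      · refine (Subgroup.commutator_mono inf_le_right inf_le_right).trans ?_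
        rw [Subgroup.commutator_le]
        intro a ha b hb
        rw [commutatorElement_def]
        exact T.mul_mem (T.mul_mem (T.mul_mem ha hb) (T.inv_mem ha)) (T.inv_mem hb)
    · refine ⟨inf_le_right, fun φ hφ => ?_⟩
      haveI : Finite ↥(Q.lowerCentralSeries (n - i) ⊓ T) := finite_of_le (inf_le_right.trans hT.1)
      obtain ⟨α, -, hα⟩ := exists_aut_of_isNormal hQ
        (inf_le_left.trans (hLQ (n - i)) : Q.lowerCentralSeries (n - i) ⊓ T ≤ Q) (hEF _ hφ)
      refine Subgroup.eq_of_le_of_card_ge ?_ (le_of_eq ?_)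
      · rintro _ ⟨x, rfl⟩
        refine ⟨?_, val_mem hφ x⟩
        rw [hα]
        exact aut_mem_lowerCentralSeries α _ x.2.1
      · exact Nat.card_congr (MonoidHom.ofInjective (E.injective_of_mem hφ)).toEquiv
  refine ⟨hEs, Q ⊓ T, hnorm, hQT, fun R hR => ?_⟩
  obtain ⟨φ, hφ, rfl⟩ := hR
  rw [(weaklyClosed_of_stronglyClosed hsc).2 φ hφ]
  rintro x ⟨hxT, hxc⟩
  refine ⟨?_, hxT⟩
  have hxS := hT.1 hxT
  have hQn := le_normalizer_of_isNormal hQ
  have hTn := le_normalizer_of_weaklyClosed_fusion (weaklyClosed_of_stronglyClosed hT)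
  set X := corePreimage F p Q
  have hXQ : X ≤ Q := le_sSup (isNormal_corePreimage hS hFs hQ hQc)
  refine hXQ ⟨hxS, conjAut Q S ⟨x, hxS, hQn hxS⟩, ?_, fun _ => rfl⟩
  let L : ℕ → Subgroup Ω := fun i => if i = 0 then ⊥ else if i = 1 then Q ⊓ T else ⊤
  have hL : Monotone L := monotone_nat_of_le_succ fun i => by
    rcases i with _ | _ | i <;> simp [L]
  refine chainStab_le_pCore (hS.to_le hQ.1) hL (m := 2) (by simp [L]) (by simp [L]) _ (fun γ hγ i y hy => ?_)
    ⟨stabilizesChain_conj (g := x) (fun _ => rfl) fun i hi y hyQ hy => ?_,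
      autInducedBy_le_autGroup hQ.1 (range_conjAut (P := Q) S ▸ ⟨_, rfl⟩)⟩
  · rcases i with _ | _ | i
    · simp [L] at hy ⊢
      exact hy
    · exact ⟨(γ y).2, stronglyClosed_mapsTo hT ((mem_autGroup hQ.1).1 hγ) y (show (y : Ω) ∈ Q ⊓ T from hy).2⟩
    · simp [L]
  · rcases i with _ | _ | i
    · show ⁅y⁻¹, x⁆ ∈ (⊥ : Subgroup Ω)
      rw [Subgroup.mem_bot, commutatorElement_eq_one_iff_mul_comm]
      exact Subgroup.mem_centralizer_iff.1 hxc _ ((Q ⊓ T).inv_mem hy)
    · show ⁅y⁻¹, x⁆ ∈ Q ⊓ T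
      have hyS : y ∈ S := hQ.1 hyQ
      rw [commutatorElement_def, inv_inv]
      refine ⟨?_, T.mul_mem ?_ (T.inv_mem hxT)⟩
      · rw [show y⁻¹ * x * y * x⁻¹ = y⁻¹ * (x * y * x⁻¹) by group]
        exact Q.mul_mem (Q.inv_mem hyQ) (conj_mem_of_normalizer (hQn hxS) hyQ)
      · have := conj_mem_of_normalizer (hTn (S.inv_mem hyS)) hxT
        rwa [inv_inv] at this
    · omega

theorem isConstrained_of_isSubnormalIn {q : ℕ} {E : Cfsg.FusionSystem T} (h : E.IsSubnormalIn F q) :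
    ∀ [Fact q.Prime] [Finite S], IsPGroup q S → F.IsConstrained q → E.IsConstrained q := by
  induction h with
  | refl F q => intro _ _ _ hF; exact hF
  | step _ hD ih =>
    intro hq hfin hS hF
    have hU := hD.1.2.2.2.1.1
    exact @ih hq (finite_of_le hU) (hS.to_le hU) (isConstrained_of_isNormalIn hS hF hD)

end CfsgLib.Fusion
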