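import Cfsg.Agent.Fusion.ChainStab
import Cfsg.Agent.Fusion.SeriesNormal
import Mathlib.FieldTheory.Finite.Basic
import Mathlib.GroupTheory.SchurZassenhaus
import Mathlib.Algebra.Module.ZMod
import Mathlib.GroupTheory.PGroup

/-!
Chains of invariant subgroups with cyclic factors, and groups of automorphisms of order prime to `p`.
-/

set_option autoImplicit false
set_option linter.style.haveILetI false

open Cfsg

namespace CfsgLib.Fusion

open Cfsg.FusionSystem

/-- An automorphism of exponent dividing `p - 1` of a nontrivial invariant subgroup of exponent `p` has an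
eigenvector. -/
theorem exists_eigen {M : Type*} [CommGroup M] {p : ℕ} [Fact p.Prime] (hexp : ∀ y : M, y ^ p = 1)
    (a : MulAut M) (ha : a ^ (p - 1) = 1) (U : Subgroup M) (hU : U ≠ ⊥) (hinv : ∀ y ∈ U, a y ∈ U) :
    ∃ y ∈ U, y ≠ 1 ∧ ∃ k : ℕ, a y = y ^ k := by
  classical
  letI : Module (ZMod p) (Additive M) := AddCommGroup.zmodModule fun x => by
    rw [← ofMul_toMul x, ← ofMul_pow, hexp, ofMul_one]
  obtain ⟨v, hvU, hv⟩ := U.bot_or_exists_ne_one.resolve_left hU
  let f : Additive M →+ Additive M := MonoidHom.toAdditive a.toMonoidHom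
  let g : ℕ → Additive M := fun j => Additive.ofMul ((a ^ j) v)
  have hgU : ∀ j, Additive.toMul (g j) ∈ U := by
    intro j
    induction j with
    | zero => simpa [g] using hvU
    | succ j ih =>
      show (a ^ (j + 1)) v ∈ U
      rw [pow_succ', MulAut.mul_apply]
      exact hinv _ ih
  have hgf : ∀ j, f (g j) = g (j + 1) := fun j => by
    show Additive.ofMul (a ((a ^ j) v)) = Additive.ofMul ((a ^ (j + 1)) v)
    rw [pow_succ', MulAut.mul_apply]
  have hcl : ∀ (c : ZMod p) (w : Additive M), Additive.toMul w ∈ U → Additive.toMul (c • w) ∈ U := by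
    intro c w hw
    rw [← ZMod.natCast_zmod_val c, Nat.cast_smul_eq_nsmul, toMul_nsmul]
    exact pow_mem hw _
  let e : (ZMod p)ˣ → Additive M := fun k => ∑ j ∈ Finset.range (p - 1), ((k⁻¹ : (ZMod p)ˣ) : ZMod p) ^ j • g j
  have heU : ∀ k : (ZMod p)ˣ, Additive.toMul (e k) ∈ U := fun k => by
    simp only [e, toMul_sum]
    exact prod_mem fun j _ => hcl _ _ (hgU j)
  have hfe : ∀ k : (ZMod p)ˣ, f (e k) = (k : ZMod p) • e k := by
    intro k
    simp only [e, map_sum, ZMod.map_smul, hgf, Finset.smul_sum, smul_smul]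
    set G : ℕ → Additive M := fun j => ((k : ZMod p) * ((k⁻¹ : (ZMod p)ˣ) : ZMod p) ^ j) • g j
    have hper : G (p - 1) = G 0 := by
      simp only [G, g, ZMod.pow_card_sub_one_eq_one (Units.ne_zero (k⁻¹ : (ZMod p)ˣ)), ha, pow_zero]
    have h1 : ∀ j ∈ Finset.range (p - 1), ((k⁻¹ : (ZMod p)ˣ) : ZMod p) ^ j • g (j + 1) = G (j + 1) :=
      fun j _ => by
        simp only [G]
        rw [pow_succ', ← mul_assoc, Units.mul_inv, one_mul]
    rw [Finset.sum_congr rfl h1]
    have h2 := Finset.sum_range_succ' G (p - 1)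
    rw [Finset.sum_range_succ G (p - 1), hper, add_right_cancel_iff] at h2
    exact h2.symm
  have hsum : (∑ k : (ZMod p)ˣ, e k) = -g 0 := by
    simp only [e]
    rw [Finset.sum_comm]
    have h1 : ∀ j : ℕ, (∑ k : (ZMod p)ˣ, ((k⁻¹ : (ZMod p)ˣ) : ZMod p) ^ j • g j) =
        (if p - 1 ∣ j then (-1 : ZMod p) else 0) • g j := by
      intro j
      rw [← Finset.sum_smul]
      congr 1
      have h := FiniteField.sum_pow_units (ZMod p) j
      rw [ZMod.card] at h
      rw [← h]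
      exact Fintype.sum_equiv (Equiv.inv _) _ _ fun k => rfl
    rw [Finset.sum_congr rfl fun j _ => h1 j, Finset.sum_eq_single 0]
    · simp
    · intro j hj hj0
      rw [if_neg (Nat.not_dvd_of_pos_of_lt (Nat.pos_of_ne_zero hj0) (Finset.mem_range.1 hj)), zero_smul]
    · intro h
      exact absurd (Finset.mem_range.2 (by have := (Fact.out : p.Prime).two_le; omega)) h
  obtain ⟨k, hk⟩ : ∃ k, e k ≠ 0 := by
    by_contra h
    push Not at h
    rw [Finset.sum_eq_zero fun k _ => h k, eq_comm, neg_eq_zero] at hsum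
    exact hv (by simpa [g] using congrArg Additive.toMul hsum)
  refine ⟨Additive.toMul (e k), heU k, fun h => hk (by rw [← ofMul_toMul (e k), h, ofMul_one]),
    (k : ZMod p).val, ?_⟩
  have h := hfe k
  rw [← ZMod.natCast_zmod_val (k : ZMod p), Nat.cast_smul_eq_nsmul] at h
  exact congrArg Additive.toMul h

/-- Commuting automorphisms of exponent dividing `p - 1` have a common eigenvector. -/
theorem exists_common_eigen {M : Type*} [CommGroup M] [Finite M] [Nontrivial M] {p : ℕ} [Fact p.Prime]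
    (hexp : ∀ y : M, y ^ p = 1) (H : Subgroup (MulAut M)) (hcomm : ∀ a ∈ H, ∀ b ∈ H, Commute a b)
    (hpow : ∀ a ∈ H, a ^ (p - 1) = 1) : ∃ y : M, y ≠ 1 ∧ ∀ a ∈ H, a y ∈ Subgroup.zpowers y := by
  obtain ⟨U, ⟨hU, hinv⟩, hmin⟩ := (Set.toFinite
    {U : Subgroup M | U ≠ ⊥ ∧ ∀ a ∈ H, ∀ y ∈ U, a y ∈ U}).exists_minimal
    ⟨⊤, top_ne_bot, fun _ _ _ _ => Subgroup.mem_top _⟩
  have hscal : ∀ a ∈ H, ∃ k : ℕ, ∀ y ∈ U, a y = y ^ k := by
    intro a ha
    obtain ⟨y, hy, hy1, k, hk⟩ := exists_eigen hexp a (hpow a ha) U hU (hinv a ha)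
    let V : Subgroup M :=
      { carrier := {z | z ∈ U ∧ a z = z ^ k}
        one_mem' := ⟨one_mem _, by simp⟩
        mul_mem' := fun {x w} hx hw => ⟨mul_mem hx.1 hw.1, by rw [map_mul, hx.2, hw.2, mul_pow]⟩
        inv_mem' := fun {x} hx => ⟨inv_mem hx.1, by rw [map_inv, hx.2, inv_pow]⟩ }
    have hV : U ≤ V := by
      refine hmin ⟨fun h => hy1 ?_, fun b hb z hz => ⟨hinv b hb z hz.1, ?_⟩⟩ (fun z hz => hz.1)
      · have : y ∈ V := ⟨hy, hk⟩
        rwa [h, Subgroup.mem_bot] at this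
      · have := DFunLike.congr_fun (hcomm a ha b hb).eq z
        rw [MulAut.mul_apply, MulAut.mul_apply, hz.2, map_pow] at this
        exact this
    exact ⟨k, fun z hz => (hV hz).2⟩
  obtain ⟨y, hy, hy1⟩ := U.bot_or_exists_ne_one.resolve_left hU
  refine ⟨y, hy1, fun a ha => ?_⟩
  obtain ⟨k, hk⟩ := hscal a ha
  rw [hk y hy]
  exact Subgroup.npow_mem_zpowers y k

variable {Ω : Type*} [Group Ω] {S : Subgroup Ω} {p : ℕ} [Fact p.Prime]

/-- On a cyclic factor an automorphism acts as a power map. -/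
theorem exists_power_on_factor {C : Subgroup ↥S} [C.Normal] {D : Subgroup ↥S} {x : ↥S}
    (hD : D = C ⊔ Subgroup.zpowers x) {α : MulAut S} (hαC : ∀ y ∈ C, α y ∈ C) (hαD : ∀ y ∈ D, α y ∈ D) :
    ∃ k : ℤ, ∀ y ∈ D, (QuotientGroup.mk (α y) : ↥S ⧸ C) = (QuotientGroup.mk y : ↥S ⧸ C) ^ k := by
  have hdec : ∀ y ∈ D, ∃ c ∈ C, ∃ j : ℤ, y = c * x ^ j := fun y hy => by
    rw [hD, Subgroup.mem_sup_of_normal_left] at hy
    obtain ⟨c, hc, z, hz, rfl⟩ := hy
    obtain ⟨j, rfl⟩ := Subgroup.mem_zpowers_iff.1 hz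
    exact ⟨c, hc, j, rfl⟩
  obtain ⟨c, hc, k, hk⟩ := hdec _ (hαD x (hD ▸ Subgroup.mem_sup_right (Subgroup.mem_zpowers x)))
  refine ⟨k, fun y hy => ?_⟩
  obtain ⟨d, hd, j, rfl⟩ := hdec y hy
  have h1 : ∀ w ∈ C, (QuotientGroup.mk w : ↥S ⧸ C) = 1 := fun w hw => (QuotientGroup.eq_one_iff w).2 hw
  rw [map_mul, map_zpow, hk]
  simp only [QuotientGroup.mk_mul, QuotientGroup.mk_zpow, h1 _ (hαC d hd), h1 d hd, h1 c hc, one_mul,
    ← zpow_mul, mul_comm j k]

/-- A group of automorphisms of order prime to `p` preserving a chain with cyclic factors is abelian of exponent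
dividing `p - 1`. -/
theorem abelian_of_cyclic_chain [Finite S] (hS : IsPGroup p S) {m : ℕ} (L : ℕ → Subgroup Ω)
    (hL : Monotone L) (h0 : L 0 = ⊥) (hm : S ≤ L m) (hLS : ∀ i, i ≤ m → L i ≤ S)
    (hn : ∀ i, i ≤ m → S ≤ Subgroup.normalizer (L i : Set Ω))
    (hstep : ∀ i < m, ∃ x ∈ S, L (i + 1) = L i ⊔ Subgroup.zpowers x)
    (H : Subgroup (MulAut S)) (hH : (Nat.card H).Coprime p)
    (hinv : ∀ α ∈ H, ∀ i ≤ m, ∀ x : S, (x : Ω) ∈ L i → ((α x : S) : Ω) ∈ L i) :
    IsMulCommutative H ∧ ∀ h ∈ H, h ^ (p - 1) = 1 := by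
  haveI := finite_mulAut (S := S) le_rfl
  have hkey : ∀ α ∈ H, (chainStab (P := S) L m hL : Subgroup (MulAut S)).carrier α → α = 1 := by
    intro α hα hst
    obtain ⟨k, hk⟩ := IsPGroup.iff_orderOf.1 (isPGroup_chainStab hS hL h0 hm) ⟨α, hst⟩
    rw [Subgroup.orderOf_mk] at hk
    refine orderOf_eq_one_iff.1 (Nat.eq_one_of_dvd_coprimes (hH.pow_right k)
      (orderOf_map_dvd H.subtype ⟨α, hα⟩ |>.trans (orderOf_dvd_natCard _)) (dvd_of_eq hk))
  -- the local form of the action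
  have hloc : ∀ i, i < m → ∀ α ∈ H, ∃ k : ℤ, ∀ y : S, (y : Ω) ∈ L (i + 1) →
      ((y ^ k)⁻¹ * α y : S) ∈ (L i).subgroupOf S := by
    intro i hi α hα
    haveI : ((L i).subgroupOf S).Normal := Subgroup.normal_subgroupOf_iff (hLS i hi.le) |>.2
      fun h g hh hg => conj_mem_of_normalizer (hn i hi.le hg) hh
    obtain ⟨x, hx, he⟩ := hstep i hi
    have hD : (L (i + 1)).subgroupOf S = (L i).subgroupOf S ⊔ Subgroup.zpowers (⟨x, hx⟩ : S) := by
      apply Subgroup.map_injective S.subtype_injective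
      rw [Subgroup.map_sup, Subgroup.map_subgroupOf_eq_of_le (hLS (i + 1) hi),
        Subgroup.map_subgroupOf_eq_of_le (hLS i hi.le), MonoidHom.map_zpowers, he]
      rfl
    obtain ⟨k, hk⟩ := exists_power_on_factor hD (α := α) (fun y hy => hinv α hα i hi.le y hy)
      (fun y hy => hinv α hα (i + 1) hi y hy)
    refine ⟨k, fun y hy => ?_⟩
    rw [← QuotientGroup.eq, QuotientGroup.mk_zpow]
    exact (hk y hy).symm
  constructor
  · refine ⟨⟨fun a b => ?_⟩⟩
    apply Subtype.ext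
    show (a : MulAut S) * b = b * a
    rw [← mul_inv_eq_one]
    refine hkey _ (mul_mem (mul_mem a.2 b.2) (inv_mem (mul_mem b.2 a.2))) fun i hi y hy => ?_
    haveI : ((L i).subgroupOf S).Normal := Subgroup.normal_subgroupOf_iff (hLS i hi.le) |>.2
      fun h g hh hg => conj_mem_of_normalizer (hn i hi.le hg) hh
    obtain ⟨k, hk⟩ := hloc i hi a a.2
    obtain ⟨l, hl⟩ := hloc i hi b b.2
    set z := ((b : MulAut S) * a)⁻¹ y with hz
    have hzm : (z : Ω) ∈ L (i + 1) := hinv _ (inv_mem (mul_mem b.2 a.2)) (i + 1) hi y hy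
    have hyz : y = (b : MulAut S) ((a : MulAut S) z) := by
      rw [← MulAut.mul_apply, hz, MulAut.apply_inv_self]
    have ek : ∀ w : S, (w : Ω) ∈ L (i + 1) → (QuotientGroup.mk ((a : MulAut S) w) : S ⧸ (L i).subgroupOf S) =
        (QuotientGroup.mk w : S ⧸ (L i).subgroupOf S) ^ k := fun w hw => by
      rw [← QuotientGroup.mk_zpow]; exact (QuotientGroup.eq.2 (hk w hw)).symm
    have el : ∀ w : S, (w : Ω) ∈ L (i + 1) → (QuotientGroup.mk ((b : MulAut S) w) : S ⧸ (L i).subgroupOf S) =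
        (QuotientGroup.mk w : S ⧸ (L i).subgroupOf S) ^ l := fun w hw => by
      rw [← QuotientGroup.mk_zpow]; exact (QuotientGroup.eq.2 (hl w hw)).symm
    show ((y⁻¹ * ((a : MulAut S) * b * ((b : MulAut S) * a)⁻¹) y : S) : Ω) ∈ L i
    suffices hq : (y⁻¹ * ((a : MulAut S) * b) z : S) ∈ (L i).subgroupOf S by
      rw [MulAut.mul_apply, ← hz]
      exact hq
    rw [← QuotientGroup.eq, MulAut.mul_apply, ek _ (hinv _ b.2 (i + 1) hi z hzm), el z hzm, hyz,
      el _ (hinv _ a.2 (i + 1) hi z hzm), ek z hzm, ← zpow_mul, ← zpow_mul, mul_comm]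
  · intro h hh
    have hpm := isPGroup_chainStab (P := S) hS hL h0 hm
    obtain ⟨n, hn'⟩ := IsPGroup.iff_card.1 hS
    have hstab : StabilizesChain L m ((h ^ (p - 1)) ^ p ^ n) := by
      intro i hi y hy
      haveI : ((L i).subgroupOf S).Normal := Subgroup.normal_subgroupOf_iff (hLS i hi.le) |>.2
        fun u g hu hg => conj_mem_of_normalizer (hn i hi.le hg) hu
      obtain ⟨k, hk⟩ := hloc i hi h hh
      have e1 : ∀ w : S, (w : Ω) ∈ L (i + 1) → (QuotientGroup.mk (h w) : S ⧸ (L i).subgroupOf S) =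
          (QuotientGroup.mk w : S ⧸ (L i).subgroupOf S) ^ k := fun w hw => by
        rw [← QuotientGroup.mk_zpow]; exact (QuotientGroup.eq.2 (hk w hw)).symm
      have epow : ∀ (j : ℕ) (w : S), (w : Ω) ∈ L (i + 1) →
          (QuotientGroup.mk ((h ^ j) w) : S ⧸ (L i).subgroupOf S) =
            (QuotientGroup.mk w : S ⧸ (L i).subgroupOf S) ^ (k ^ j) := by
        intro j
        induction j with
        | zero => simp
        | succ j ih =>
          intro w hw
          rw [pow_succ', MulAut.mul_apply, e1 _ (hinv _ (pow_mem hh j) (i + 1) hi w hw), ih w hw, ← zpow_mul,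
            ← pow_succ]
      set τ : S ⧸ (L i).subgroupOf S := QuotientGroup.mk y with hτ
      show (y⁻¹ * ((h ^ (p - 1)) ^ p ^ n) y : S) ∈ (L i).subgroupOf S
      rw [← QuotientGroup.eq, ← pow_mul, epow _ y hy]
      have hτp : τ ^ ((p : ℤ) ^ n) = 1 := by
        rw [← Nat.cast_pow, zpow_natCast, hτ, ← QuotientGroup.mk_pow, ← hn', pow_card_eq_one', QuotientGroup.mk_one]
      symm
      show τ ^ k ^ ((p - 1) * p ^ n) = τ
      by_cases hpk : (p : ℤ) ∣ k
      · -- then the factor is trivial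
        obtain ⟨w, hw, hyw⟩ : ∃ w : S, (w : Ω) ∈ L (i + 1) ∧ h w = y :=
          ⟨h⁻¹ y, hinv _ (inv_mem hh) (i + 1) hi y hy, MulAut.apply_inv_self _ _ _⟩
        have hall : ∀ (r : ℕ) (w : S), (w : Ω) ∈ L (i + 1) → ∃ w' : S, (w' : Ω) ∈ L (i + 1) ∧
            (QuotientGroup.mk w : S ⧸ (L i).subgroupOf S) =
              (QuotientGroup.mk w' : S ⧸ (L i).subgroupOf S) ^ (k ^ r) := by
          intro r w hw
          refine ⟨((h ^ r)⁻¹) w, hinv _ (inv_mem (pow_mem hh r)) (i + 1) hi w hw, ?_⟩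
          rw [← epow r _ (hinv _ (inv_mem (pow_mem hh r)) (i + 1) hi w hw), MulAut.apply_inv_self]
        obtain ⟨w', -, hw'⟩ := hall n y hy
        have hτ1 : τ = 1 := by
          rw [hτ, hw']
          obtain ⟨c, hc⟩ := pow_dvd_pow_of_dvd hpk n
          rw [hc, zpow_mul, ← Nat.cast_pow, zpow_natCast, ← QuotientGroup.mk_pow, ← hn', pow_card_eq_one',
            QuotientGroup.mk_one, one_zpow]
        rw [hτ1, one_zpow]
      · have h1 : (p : ℤ) ∣ k ^ (p - 1) - 1 := by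
          rw [← ZMod.intCast_zmod_eq_zero_iff_dvd]
          push_cast
          rw [ZMod.pow_card_sub_one_eq_one, sub_self]
          rwa [Ne, ZMod.intCast_zmod_eq_zero_iff_dvd]
        have h2 := dvd_sub_pow_of_dvd_sub (R := ℤ) (p := p) (a := k ^ (p - 1)) (b := 1) h1 n
        rw [one_pow, ← pow_mul] at h2
        obtain ⟨c, hc⟩ := (pow_dvd_pow (p : ℤ) (Nat.le_succ n)).trans h2
        rw [show k ^ ((p - 1) * p ^ n) = 1 + (p : ℤ) ^ n * c by rw [← hc]; ring, zpow_add, zpow_one, zpow_mul, hτp,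
          one_zpow, mul_one]
    have h1 := hkey _ (pow_mem (pow_mem hh _) _) hstab
    refine orderOf_eq_one_iff.1 (Nat.eq_one_of_dvd_coprimes (hH.pow_right n) ?_ (orderOf_dvd_of_pow_eq_one h1))
    exact orderOf_map_dvd H.subtype ⟨h ^ (p - 1), pow_mem hh _⟩ |>.trans (orderOf_dvd_natCard _)

end CfsgLib.Fusion
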