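import Cfsg.Agent.Fusion.EnvelopeStep

/-!
The step through a quotient of order prime to `p`.
-/

set_option autoImplicit false
set_option linter.style.haveILetI false

open Cfsg

namespace CfsgLib.Fusion

open Cfsg.FusionSystem

universe u

variable {Ω : Type u} [Group Ω] {S R₀ T : Subgroup Ω} {F : Cfsg.FusionSystem S} {E : Cfsg.FusionSystem T}
variable {D₀ : Cfsg.FusionSystem R₀} {p : ℕ} [Fact p.Prime]

/-- The generated system is stable under automorphisms from outside. -/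
theorem invBy_pElemSystem_outer [Finite R₀] (hR₀ : IsPGroup p R₀) (hD₀ : D₀.IsSaturated p)
    {ℋ : Set (Subgroup Ω)} (hℋ : PFamily D₀ p ℋ) {A : Subgroup (MulAut R₀)} (hA : InvBy D₀ A) :
    InvBy (pElemSystem D₀ p ℋ) A := by
  set D := pElemSystem D₀ p ℋ
  have hle : ∀ P, D.Hom P ⊆ (invariantCore D A).Hom P := by
    intro P φ hφ
    refine hφ.2 _ ?_
    rintro P _ ⟨hP, γ, ⟨k, hγ⟩, rfl⟩
    have hPR := (hℋ.centric P hP).1
    have hγ₀ := (mem_autGroup hPR).1 γ.2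
    refine ⟨⟨hγ₀, fun G hG => hG P ⟨hP, γ, ⟨k, hγ⟩, rfl⟩⟩, fun a ha R hR hm => ?_⟩
    set σ : P →* Ω := R₀.subtype.comp ((a⁻¹ : MulAut R₀).toMonoidHom.comp (Subgroup.inclusion hPR))
    have hσinj : Function.Injective σ := fun x y e =>
      Subgroup.inclusion_injective hPR ((a⁻¹).injective (Subtype.ext e))
    have hσT : σ.range ≤ R₀ := by rintro _ ⟨x, rfl⟩; exact (a⁻¹ _).2
    have hRσ : R ≤ σ.range := fun r hr => ⟨⟨_, hm ⟨r, hr⟩⟩, by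
      show ((a⁻¹ (a ⟨r, hR hr⟩) : R₀) : Ω) = r
      rw [MulAut.inv_apply_self]⟩
    set e := isoOfHom hσinj (rfl : σ.range = σ.range)
    set γ' := MulAut.congr e (γ : MulAut P)
    have hmσ : ∀ z : σ.range, ((a ⟨z, hσT z.2⟩ : R₀) : Ω) ∈ P := by
      rintro ⟨_, x, rfl⟩
      show ((a (a⁻¹ ⟨x, _⟩) : R₀) : Ω) ∈ P
      rw [MulAut.apply_inv_self]
      exact x.2
    have hes : ∀ z : σ.range, e.symm z = ⟨_, hmσ z⟩ := fun z => by
      rw [MulEquiv.symm_apply_eq]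
      refine Subtype.ext ?_
      show (z : Ω) = ((a⁻¹ (a ⟨(z : Ω), hσT z.2⟩) : R₀) : Ω)
      rw [MulAut.inv_apply_self]
    have hγ'F : γ' ∈ D₀.autGroup σ.range := by
      refine (mem_autGroup hσT).2 (mem_of_eq (hA P _ hγ₀ a ha σ.range hσT hmσ) fun z => ?_)
      show ((e ((γ : MulAut P) (e.symm z)) : σ.range) : Ω) = _
      rw [twist_apply, hes]
      rfl
    have hord : orderOf (⟨γ', hγ'F⟩ : D₀.autGroup σ.range) = p ^ k := by
      rw [← Subgroup.orderOf_coe]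
      show orderOf ((MulAut.congr e).toMonoidHom (γ : MulAut P)) = _
      rw [orderOf_injective (MulAut.congr e).toMonoidHom (MulEquiv.injective _), Subgroup.orderOf_coe, hγ]
    have hγ'D := (mem_autGroup hσT).1
      (pElems_le_pElemSystem_all hR₀ hD₀ hℋ hσT ⟨⟨γ', hγ'F⟩, Subgroup.subset_closure ⟨k, hord⟩, rfl⟩)
    refine restrict_of_eq hγ'D hRσ fun r => ?_
    show _ = ((e ((γ : MulAut P) (e.symm ⟨r, hRσ r.2⟩)) : σ.range) : Ω)
    rw [hes ⟨r, hRσ r.2⟩]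
    rfl
  intro P φ hφ a ha R hR h
  obtain ⟨hφ', h'⟩ := hle P hφ
  exact h' a ha R hR h

/-- The step through a quotient of order prime to `p`. -/
theorem exists_stage_primeToP [Finite S] (hS : IsPGroup p S) (hFT : F.StronglyClosed T)
    {H₀ H₁ : Subgroup (MulAut T)} (h₀ : Stage p F E H₀ D₀) (hH₁ : H₁ ≤ H₀) (hEH : E.autGroup T ≤ H₁)
    (hnorm : ∀ α ∈ F.autGroup T, ∀ h ∈ H₁, α * h * α⁻¹ ∈ H₁) (hidx : (H₁.relIndex H₀).Coprime p) :
    ∃ (R₁ : Subgroup Ω) (D₁ : Cfsg.FusionSystem R₁), Stage p F E H₁ D₁ := by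
  obtain rfl : D₀.autGroup T = H₀ := h₀.aut
  have hR₀S := h₀.normal.1.2.2.2.1.1
  haveI := finite_of_le hR₀S
  have hR₀p := hS.to_le hR₀S
  have hD₀ := h₀.inner.1.2.1
  have hEi := h₀.inner.1.2.2
  have hTR₀ := hEi.2.1.1
  have hTS := hTR₀.trans hR₀S
  haveI := finite_of_le hTS
  haveI := finite_mulAut hTS
  have hEs := h₀.inner.1.1
  have hFaut : ∀ h ∈ D₀.autGroup T, h ∈ F.autGroup T := fun h hh =>
    (mem_autGroup hTS).2 (h₀.normal.1.2.2.1 T ((mem_autGroup hTR₀).1 hh))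
  haveI hnor : (H₁.subgroupOf (D₀.autGroup T)).Normal := ⟨fun c hc g => hnorm g (hFaut g g.2) c hc⟩
  set χ := QuotientGroup.mk' (H₁.subgroupOf (D₀.autGroup T)) with hχdef
  have hΔ : (Nat.card (↥(D₀.autGroup T) ⧸ H₁.subgroupOf (D₀.autGroup T))).Coprime p := hidx
  have hker : (E.autGroup T).subgroupOf (D₀.autGroup T) ≤ χ.ker := fun x hx => by
    rw [hχdef, QuotientGroup.ker_mk']
    exact hEH hx
  have hχ1 : ∀ h : D₀.autGroup T, χ h = 1 ↔ (h : MulAut T) ∈ H₁ := fun h => by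
    rw [hχdef]; exact QuotientGroup.eq_one_iff h
  have hℋ := pFamily_meet hR₀p hD₀ hEi
  have hA := charAut_le hEi χ
  have hbase := baseAut_le_charAut hR₀p hD₀ hEi χ hΔ hker hEs
  obtain ⟨D₁, hD₁def⟩ : ∃ D₁, D₁ = indexSystem hℋ (charAut hEi χ) hA := ⟨_, rfl⟩
  have hD₁ : D₁.IsSaturated p := hD₁def ▸ isSaturated_indexSystem hR₀p hD₀ hℋ hA hbase (meet_star hR₀p hD₀ hEi)
  have hi : D₁.HasPrimeToPIndexIn D₀ p := hD₁def ▸ hasPrimeToPIndexIn_indexSystem hR₀p hD₀ hℋ hA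
  have hED : E.IsSubsystemOf D₁ := hD₁def ▸ le_charSubsystem hR₀p hD₀ hEi χ hΔ hker hEs
  have hR₁ : R₀ = inducing S H₁ := by
    refine le_antisymm (fun x hx => ?_) fun x hx => ?_
    · obtain ⟨-, h, hh, hhx⟩ := h₀.eqR.le hx
      obtain ⟨j, hj⟩ := hR₀p ⟨x, hx⟩
      refine ⟨hR₀S hx, h, (hχ1 ⟨h, hh⟩).1 (char_eq_one_of_pow hΔ (j := j) ?_), hhx⟩
      rw [← map_pow]
      refine (hχ1 _).2 ?_
      have hn : ∀ (n : ℕ) (t : T), (((h ^ n) t : T) : Ω) = x ^ n * (t : Ω) * (x ^ n)⁻¹ := by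
        intro n
        induction n with
        | zero => intro t; simp
        | succ n ih =>
          intro t
          rw [pow_succ', MulAut.mul_apply, hhx, ih, pow_succ']
          group
      have h1 : h ^ p ^ j = 1 := MulEquiv.ext fun t => Subtype.ext (by
        rw [hn, show x ^ p ^ j = 1 from congrArg Subtype.val hj]; simp)
      rw [Subgroup.coe_pow, h1]
      exact H₁.one_mem
    · obtain ⟨hxS, h, hh, hhx⟩ := hx
      exact h₀.eqR.ge ⟨hxS, h, hH₁ hh, hhx⟩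
  have hTsc : D₁.StronglyClosed T := ⟨hTR₀, fun P hP φ hφ => hEi.2.1.2 P hP φ (hi.1 P hφ)⟩
  have hAout := invBy_of_isInvariant h₀.normal.1.2.2
  have hconjA : ∀ a ∈ F.autGroup R₀, ∀ β ∈ charAut hEi χ, a⁻¹ * β * a ∈ charAut hEi χ := by
    intro a ha β hβ
    obtain ⟨hβ₀, hβ1⟩ := (mem_charAut hEi χ).1 hβ
    have h2 : a⁻¹ * β * a ∈ D₀.autGroup R₀ := (mem_autGroup le_rfl).2
      (mem_of_eq (hAout R₀ _ ((mem_autGroup le_rfl).1 hβ₀) a ha R₀ le_rfl fun r => (a _).2) fun r => by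
        rw [twist_apply]; rfl)
    obtain ⟨α, hα, hαa⟩ := exists_restrict_aut hFT hTR₀ hR₀S ha
    refine (mem_charAut hEi χ).2 ⟨h2, (hχ1 _).2 ?_⟩
    have h3 := hnorm α⁻¹ (inv_mem hα) _ ((hχ1 _).1 hβ1)
    rw [inv_inv] at h3
    refine (congrArg (· ∈ H₁) (MulEquiv.ext fun t => Subtype.ext ?_)).mp h3
    obtain ⟨u, hu⟩ : ∃ u, u = ((restrictT hEi ⟨β, hβ₀⟩ : D₀.autGroup T) : MulAut T) (α t) := ⟨_, rfl⟩
    show ((α⁻¹ (((restrictT hEi ⟨β, hβ₀⟩ : D₀.autGroup T) : MulAut T) (α t)) : T) : Ω) =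
      ((a⁻¹ (β (a ⟨t, hTR₀ t.2⟩)) : R₀) : Ω)
    rw [← hu]
    have e1 : β (a ⟨t, hTR₀ t.2⟩) = ⟨u, hTR₀ u.2⟩ := Subtype.ext (by
      rw [hu]
      show ((β (a ⟨t, hTR₀ t.2⟩) : R₀) : Ω) = ((β ⟨(α t : T), _⟩ : R₀) : Ω)
      exact congrArg (fun z : R₀ => ((β z : R₀) : Ω)) (Subtype.ext (hαa t)))
    rw [e1]
    have e2 : a ⟨(α⁻¹ u : T), hTR₀ (α⁻¹ u).2⟩ = ⟨u, hTR₀ u.2⟩ := Subtype.ext (by
      rw [hαa, MulAut.apply_inv_self])
    rw [← e2, MulAut.inv_apply_self]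
  have hinvA : InvBy D₁ (F.autGroup R₀) := by
    subst hD₁def
    rintro P φ hφ a ha R hR hm
    obtain ⟨β, hβ, φ₀, hφ₀, hag⟩ := id hφ
    refine ⟨a⁻¹ * β * a, hconjA a ha β hβ, _,
      invBy_pElemSystem_outer hR₀p hD₀ hℋ hAout P φ₀ hφ₀ a ha R hR hm, fun r hr => ?_⟩
    have e1 : (⟨_, hr⟩ : R₀) = a⁻¹ ⟨φ₀ ⟨_, hm r⟩, val_mem hφ₀ _⟩ := Subtype.ext rfl
    rw [e1, MulAut.mul_apply, MulAut.mul_apply, MulAut.apply_inv_self, twist_apply]
    exact congrArg (fun z : R₀ => ((a⁻¹ z : R₀) : Ω)) (Subtype.ext (hag _ (val_mem hφ₀ _)))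
  have hD₁i : D₁.IsInvariantIn D₀ := by
    refine ⟨hi.1, ⟨le_rfl, fun P _ φ hφ x => val_mem hφ x⟩, fun P hP φ hφ α hα => ?_, fun P hP φ hφ => ?_⟩
    · exact invariance_of_invBy hinvA hP hφ ((mem_autGroup hR₀S).2 (h₀.normal.1.2.2.1 R₀ ((mem_autGroup le_rfl).1 hα)))
    · obtain ⟨α, hα, φ₀, hφ₀, hag⟩ := exists_decomp_pElemSystem hR₀p hD₀ hℋ hφ
      exact ⟨α, hα, φ₀, hD₁def ▸ mem_twistProduct_of_mem hφ₀, hag⟩
  have hinvH : InvBy E H₁ := fun P φ hφ α hα => invBy_of_isInvariant hEi P φ hφ α (hH₁ hα)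
  have hn := le_normalizer_of_weaklyClosed_fusion (weaklyClosed_of_stronglyClosed hTsc)
  have hconj : ∀ g ∈ R₀, ∀ Q : Subgroup Ω, Q ≤ T → conjHom Q g ∈ (twistProduct E H₁ hinvH).Hom Q := by
    intro g hg Q hQ
    obtain ⟨-, h', hh', hh'x⟩ := hR₁.le hg
    exact ⟨h', hh', Q.subtype, subtype_mem hQ, fun x hx => (hh'x ⟨(x : Ω), hx⟩).symm⟩
  have hle : D₁ ≤ belowSystem D₁ (twistProduct E H₁ hinvH) hTsc hconj := by
    refine le_of_centricRadical hR₀p hD₁ _ fun Q hQn hQc hQr γ hγ => ?_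
    have hUc : E.IsCentric (Q ⊓ T) := by
      by_contra hne
      exact (centric_meet_normal hR₀p hD₁ hED hTsc hQc hne).2 hQr
    have hγ₁ := (mem_autGroup hQn.1).1 hγ
    refine (mem_autGroup hQn.1).2 ⟨hγ₁, ?_⟩
    rw [hD₁def] at hγ₁
    obtain ⟨α, hα, φ₀, hφ₀, hag⟩ := hγ₁
    obtain ⟨hα₀, hα1⟩ := (mem_charAut hEi χ).1 hα
    obtain ⟨k, hk, e, he, hek⟩ := (pElemSystem_le_charSystem hR₀p hD₀ hEi χ hΔ hker hEs _ hφ₀).2 hUc
    refine ⟨((restrictT hEi ⟨α, hα₀⟩ : D₀.autGroup T) : MulAut T) * k,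
      H₁.mul_mem ((hχ1 _).1 hα1) ((hχ1 _).1 hk), e, he, fun x hx => ?_⟩
    refine (hag ⟨x, x.2.1⟩ (val_mem hφ₀ _)).trans ?_
    exact congrArg (fun z : R₀ => ((α z : R₀) : Ω)) (Subtype.ext (hek x hx))
  refine ⟨R₀, D₁, stage_of hS hFT h₀ hH₁ hEH hR₁ hD₁ hD₁i hnorm ?_ hED ?_ ?_ ?_⟩
  · intro a ha b hab P φ hφ Q hQ hm
    obtain rfl : b = a := MulEquiv.ext fun x => Subtype.ext (hab x)
    exact hinvA P φ hφ b ha Q hQ hm
  · intro P hP φ hφ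
    exact hom_congr (hle P hφ).2 (inf_eq_left.2 hP) fun _ _ _ => rfl
  · intro β hβ h hh hag
    have hC : centralizerIn S T ≤ R₀ := hR₁ ▸ centralizerIn_le_inducing H₁
    have hVR : T ⊔ centralizerIn S T ≤ R₀ := sup_le hTR₀ hC
    obtain ⟨α, hα, φ₀, hφ₀, hdec⟩ := exists_decomp_pElemSystem hR₀p hD₀ hℋ ((mem_autGroup hVR).1 hβ)
    have hmeet : (T ⊔ centralizerIn S T) ⊓ T = T := inf_eq_right.2 le_sup_left
    obtain ⟨k, hk, e, he, hek⟩ := (pElemSystem_le_charSystem hR₀p hD₀ hEi χ hΔ hker hEs _ hφ₀).2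
      (by rw [hmeet]; exact isCentric_top E)
    set e₀ := e.comp (Subgroup.inclusion hmeet.ge)
    have he₀ : e₀ ∈ E.Hom T := restrict he hmeet.ge
    have hbij : Function.Bijective (e₀.codRestrict T (val_mem he₀)) :=
      Finite.injective_iff_bijective.1 fun x y hxy => E.injective_of_mem he₀ (congrArg Subtype.val hxy :)
    obtain ⟨ε, hε⟩ : ∃ ε : MulAut T, ∀ x, ((ε x : T) : Ω) = e₀ x := ⟨MulEquiv.ofBijective _ hbij, fun _ => rfl⟩
    have hεH : ε ∈ H₁ := hEH ((mem_autGroup le_rfl).2 (mem_of_eq he₀ hε))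
    have h1 : h = ((restrictT hEi ⟨α, hα⟩ : D₀.autGroup T) : MulAut T) * k * ε := by
      refine MulEquiv.ext fun x => Subtype.ext ?_
      rw [← hag x]
      refine (hdec ⟨x, Subgroup.mem_sup_left x.2⟩ (val_mem hφ₀ _)).trans ?_
      refine congrArg (fun z : R₀ => ((α z : R₀) : Ω)) (Subtype.ext ?_)
      show φ₀ ⟨(x : Ω), _⟩ = (((k : MulAut T) (ε x) : T) : Ω)
      rw [show ε x = ⟨e₀ x, val_mem he₀ x⟩ from Subtype.ext (hε x)]
      exact hek ⟨x, hmeet.ge x.2⟩ (val_mem he₀ x)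
    have h2 : χ (restrictT hEi ⟨α, hα⟩) = 1 := (hχ1 _).2 (by
      have h3 := H₁.mul_mem (h1 ▸ hh) (H₁.inv_mem (H₁.mul_mem ((hχ1 _).1 hk) hεH))
      rwa [mul_inv_rev, mul_assoc _ ε, ← mul_assoc ε, mul_inv_cancel, one_mul, mul_assoc, mul_inv_cancel,
        mul_one] at h3)
    refine (mem_autGroup hVR).2 (hD₁def ▸ ?_)
    exact ⟨α, (mem_charAut hEi χ).2 ⟨hα, h2⟩, φ₀, hφ₀, hdec⟩
  · intro U V L L' hL hL' Q
    exact limit_eq_of_primeToP _ hR₀p hD₀ hD₁ hi le_rfl hL hL' Q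

end CfsgLib.Fusion
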