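import Cfsg.Agent.Fusion.FixedElt

/-!
The focal subgroup of the centralizer system of a normal subsystem centralizes it.
-/

set_option autoImplicit false
set_option linter.style.haveILetI false

open Cfsg

namespace CfsgLib.Fusion

open Cfsg.FusionSystem

variable {Ω : Type*} [Group Ω] {S T : Subgroup Ω} {F : Cfsg.FusionSystem S} {E : Cfsg.FusionSystem T}
variable {R : Subgroup Ω} {p : ℕ}

variable [Fact p.Prime] [Finite S]

/-- An automorphism of `p`-power order of a centric subgroup has an extension fixing the displacements of pairs. -/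
lemma pElem_fix (hS : IsPGroup p S) (hE : E.IsWeaklyNormalIn F p) (hR : E.IsCentric R)
    {γ : E.autGroup R} {k : ℕ} (hk : orderOf γ = p ^ k) :
    ∃ ψ ∈ F.Hom (R ⊔ centralizerIn S T), (∀ x : R, ψ ⟨x, Subgroup.mem_sup_left x.2⟩ = ((γ : MulAut R) x : Ω)) ∧
      (∀ x y, FixPair F T x y → ∀ (h : x⁻¹ * y ∈ R ⊔ centralizerIn S T), ψ ⟨x⁻¹ * y, h⟩ = x⁻¹ * y) ∧
      ∀ x, FixedElt F E x → ∀ (h : x ∈ R ⊔ centralizerIn S T), ψ ⟨x, h⟩ = x := by
  obtain ⟨hEs, hF, hEi⟩ := hE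
  have hTS := hEi.2.1.1
  have hRT := hR.1
  have hγF : R.subtype.comp (γ : MulAut R).toMonoidHom ∈ F.Hom R := hEi.1 R ((mem_autGroup hRT).1 γ.2)
  -- into `Aut_T` of a fully automized `E`-conjugate
  obtain ⟨Q, ⟨φ, hφ, hφQ⟩, ha, -⟩ := hEs R hRT
  set e := isoOfHom (E.injective_of_mem hφ) hφQ
  have hγ' : MulAut.congr e (γ : MulAut R) ∈ E.autGroup Q := congr_mem_autGroup hφ hφQ γ.2
  have hXp : IsPGroup p (Subgroup.zpowers (MulAut.congr e (γ : MulAut R))) := by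
    refine IsPGroup.of_card (n := k) ?_
    rw [Nat.card_zpowers]
    show orderOf ((MulAut.congr e).toMonoidHom (γ : MulAut R)) = _
    rw [orderOf_injective (MulAut.congr e).toMonoidHom (MulEquiv.injective _), Subgroup.orderOf_coe, hk]
  haveI := finite_of_le hTS
  obtain ⟨χ, hχ, hχγ⟩ := exists_conj_le_autInducedBy p ha _ hXp (Subgroup.zpowers_le.2 hγ')
  obtain ⟨t, ht, htx⟩ := mem_autInducedBy.1 (hχγ _ (Subgroup.mem_zpowers _))
  have hQS : Q ≤ S := ha.1.trans hTS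
  have hχF : χ ∈ F.autGroup Q := (mem_autGroup hQS).2 (hEi.1 Q ((mem_autGroup ha.1).1 hχ))
  -- onto a fully normalized `F`-conjugate
  obtain ⟨Q₁, hQQ₁, hn₁⟩ := exists_fullyNormalized (F := F) hQS
  have ha₁ := fullyAutomized_of_fullyNormalized hS hF hn₁
  have hr₁ := receptive_of_fullyNormalized hS hF hn₁
  obtain ⟨φ₁, hφ₁, hr⟩ := hQQ₁
  obtain ⟨χ₁, hχ₁, hext⟩ := exists_extTo_normalizer hS ha₁ hr₁ (isoIn_isoOfHom hφ₁ hr)
  obtain ⟨e₁, he₁⟩ : ∃ e₁ : Q ≃* Q₁, e₁ = (isoOfHom (F.injective_of_mem hφ₁) hr).trans χ₁ := ⟨_, rfl⟩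
  rw [← he₁] at hext
  obtain ⟨hQN, ψ₁, hψ₁, -, hag₁⟩ := id hext
  have htN : t ∈ normalizerIn S Q := ⟨hTS ht, mem_normalizer_of_conj htx⟩
  set t₁ := ψ₁ ⟨t, htN⟩ with ht₁
  have ht₁T : t₁ ∈ T := hEi.2.1.2 (normalizerIn S Q ⊓ T) inf_le_right _ (restrict hψ₁ inf_le_left) ⟨t, htN, ht⟩
  obtain ⟨ω, hω⟩ : ∃ ω : R ≃* Q₁, ω = (e.trans χ).trans e₁ := ⟨_, rfl⟩
  have hωF : IsoIn F ω := by
    rw [hω]
    refine IsoIn.trans (IsoIn.trans ?_ (isoIn_aut hQS hχF)) hext.isoIn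
    exact mem_of_eq (hEi.1 R hφ) fun _ => rfl
  have hωγ : ∀ x : R, (ω ((γ : MulAut R) x) : Ω) = t₁ * (ω x : Ω) * t₁⁻¹ := by
    intro x
    have h1 := htx (χ (e x))
    have h2 : MulAut.congr e (γ : MulAut R) (e x) = e ((γ : MulAut R) x) := by
      show e ((γ : MulAut R) (e.symm (e x))) = _
      rw [MulEquiv.symm_apply_apply]
    simp only [MulAut.mul_apply, MulAut.inv_apply_self, h2] at h1
    rw [hω]
    show ((e₁ (χ (e ((γ : MulAut R) x))) : Q₁) : Ω) = t₁ * ((e₁ (χ (e x)) : Q₁) : Ω) * t₁⁻¹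
    rw [← hag₁, ← hag₁, ht₁, ← map_inv, ← map_mul, ← map_mul]
    exact congrArg ψ₁ (Subtype.ext h1)
  obtain ⟨ωc, hωc, hωag⟩ := hr₁.2 R _ hωF (IsoIn.range_eq ω)
  have hRC : R ⊔ centralizerIn S T ≤ extender S R (Q₁.subtype.comp ω.toMonoidHom) := by
    refine sup_le (le_extender hωF) fun c hc => centralizerIn_le_extender ⟨hc.1, ?_⟩
    exact Subgroup.mem_centralizer_iff.2 fun r hr => Subgroup.mem_centralizer_iff.1 hc.2 r (hRT hr)
  obtain ⟨w, hwdef⟩ : ∃ w, w = ωc.comp (Subgroup.inclusion hRC) := ⟨_, rfl⟩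
  have hw : w ∈ F.Hom (R ⊔ centralizerIn S T) := hwdef ▸ restrict hωc hRC
  have hwR : ∀ x : R, w ⟨x, Subgroup.mem_sup_left x.2⟩ = (ω x : Ω) := fun x => by
    rw [hwdef]; exact hωag x x.2 _
  have hQ₁T : Q₁ ≤ T := by
    intro y hy
    obtain ⟨x, hx⟩ := ω.surjective ⟨y, hy⟩
    have := hEi.2.1.2 R hRT _ hωF x
    rwa [show (Q₁.subtype.comp ω.toMonoidHom) x = y from congrArg Subtype.val hx] at this
  have hQ₁c : E.IsCentric Q₁ := by
    have := isCentric_of_fconj hEi hR hωF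
    rwa [IsoIn.range_eq ω] at this
  have ht₁N : t₁ ∈ Subgroup.normalizer (Q₁ : Set Ω) := by
    have := (hext.normalizer fun g hg => hg.2)
    have h2 := map_mem_normalizer (φ := Q₁.subtype.comp e₁.toMonoidHom) hQN (fun x => hag₁ x) htN htN.2
    rwa [IsoIn.range_eq e₁] at h2
  have hTn := le_normalizer_of_weaklyClosed_fusion (weaklyClosed_of_stronglyClosed hEi.2.1)
  have hwC : ∀ (c : Ω) (hc : c ∈ centralizerIn S T), ∀ y ∈ Q₁, y * w ⟨c, Subgroup.mem_sup_right hc⟩ =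
      w ⟨c, Subgroup.mem_sup_right hc⟩ * y := by
    intro c hc y hy
    obtain ⟨x, hx⟩ := ω.surjective ⟨y, hy⟩
    rw [show y = w ⟨x, Subgroup.mem_sup_left x.2⟩ by rw [hwR, hx], ← map_mul, ← map_mul]
    exact congrArg w (Subtype.ext (Subgroup.mem_centralizer_iff.1 hc.2 x (hRT x.2)))
  -- the commutator with `t₁`
  have hcomm : ∀ (c : Ω) (hc : c ∈ centralizerIn S T),
      (w ⟨c, Subgroup.mem_sup_right hc⟩)⁻¹ * (t₁ * w ⟨c, Subgroup.mem_sup_right hc⟩ * t₁⁻¹) ∈ centralizerIn T Q₁ := by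
    intro c hc
    set y := w ⟨c, Subgroup.mem_sup_right hc⟩ with hy
    refine ⟨?_, Subgroup.mem_centralizer_iff.2 fun q hq => ?_⟩
    · have h1 := conj_inv_mem_of_normalizer (hTn (val_mem hw ⟨c, Subgroup.mem_sup_right hc⟩)) ht₁T
      have h2 := T.mul_mem h1 (T.inv_mem ht₁T)
      simpa [mul_assoc] using h2
    · have hyq := hwC c hc
      have hq' : t₁⁻¹ * q * t₁ ∈ Q₁ := conj_inv_mem_of_normalizer ht₁N hq
      have h1 : q * (t₁ * y * t₁⁻¹) = t₁ * y * t₁⁻¹ * q := by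
        have h2 := hyq _ hq'
        calc q * (t₁ * y * t₁⁻¹) = t₁ * ((t₁⁻¹ * q * t₁) * y) * t₁⁻¹ := by group
          _ = t₁ * (y * (t₁⁻¹ * q * t₁)) * t₁⁻¹ := by rw [h2]
          _ = t₁ * y * t₁⁻¹ * q := by group
      have h3 : q * y⁻¹ = y⁻¹ * q := by
        have := hyq q hq
        rw [eq_inv_mul_iff_mul_eq, ← mul_assoc, ← this, mul_inv_cancel_right]
      rw [← mul_assoc, h3, mul_assoc, h1, ← mul_assoc]
  have hwr : ∀ z : ↥(R ⊔ centralizerIn S T), t₁ * w z * t₁⁻¹ ∈ w.range := by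
    intro z
    have hle : R ⊔ centralizerIn S T ≤
        ((w.range.comap (MulAut.conj t₁).toMonoidHom).comap w).map (R ⊔ centralizerIn S T).subtype := by
      refine sup_le (fun x hx => ⟨⟨x, Subgroup.mem_sup_left hx⟩, ?_, rfl⟩)
        (fun c hc => ⟨⟨c, Subgroup.mem_sup_right hc⟩, ?_, rfl⟩)
      · show t₁ * w _ * t₁⁻¹ ∈ w.range
        rw [hwR ⟨x, hx⟩, ← hωγ]
        exact ⟨_, hwR _⟩
      · show t₁ * w ⟨c, Subgroup.mem_sup_right hc⟩ * t₁⁻¹ ∈ w.range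
        have h1 := hQ₁c.2 Q₁ (IsConj.refl hQ₁T) (hcomm c hc)
        obtain ⟨x, hx⟩ := ω.surjective ⟨_, h1⟩
        refine ⟨⟨c, Subgroup.mem_sup_right hc⟩ * ⟨x, Subgroup.mem_sup_left x.2⟩, ?_⟩
        rw [map_mul, hwR, hx]
        exact mul_inv_cancel_left _ _
    obtain ⟨v, hv, e⟩ := hle z.2
    obtain rfl : v = z := Subtype.ext e
    exact hv
  obtain ⟨ι, hι, -, hι1, -⟩ := exists_inv hw (rfl : w.range = w.range)
  have hcj : conjHom w.range t₁ ∈ F.Hom w.range := F.conj_mem (range_le hw) (hTS ht₁T)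
  have hmem1 : ∀ y : w.range, conjHom w.range t₁ y ∈ w.range := by
    rintro ⟨_, z, rfl⟩
    exact hwr z
  refine ⟨_, F.comp_mem hw (F.comp_mem hcj hι hmem1) (fun z => ⟨z, rfl⟩), fun x => ?_,
    fun x y hxy h => ?_, fun x hx h => ?_⟩
  · show ι ⟨t₁ * w ⟨x, _⟩ * t₁⁻¹, _⟩ = ((γ : MulAut R) x : Ω)
    refine Eq.trans (congrArg ι (Subtype.ext ?_)) (hι1 ⟨(γ : MulAut R) x, Subgroup.mem_sup_left ((γ : MulAut R) x).2⟩ ⟨_, rfl⟩)
    show t₁ * w ⟨(x : Ω), _⟩ * t₁⁻¹ = w ⟨(((γ : MulAut R) x : R) : Ω), _⟩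
    rw [hwR, hwR, hωγ]
  rotate_left
  · -- a centralizing element
    have hxC := hx.1
    obtain ⟨ρ, hρ, hρR, hρx⟩ := exists_fixed_lift hS hF hEi hx hRT hωF
    set y₀ := ρ ⟨x, Subgroup.mem_sup_right (Subgroup.mem_zpowers x)⟩
    set x' := w ⟨x, Subgroup.mem_sup_right hxC⟩ with hx'
    have hx'c : x' ∈ centralizerIn S Q₁ := ⟨val_mem hw _, Subgroup.mem_centralizer_iff.2 (hwC x hxC)⟩
    have hy₀c : y₀ ∈ centralizerIn S Q₁ := ⟨hρx.1.1, Subgroup.mem_centralizer_iff.2 fun q hq =>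
      Subgroup.mem_centralizer_iff.1 hρx.1.2 q (hQ₁T hq)⟩
    have hρr : ρ.range = Q₁ ⊔ Subgroup.zpowers y₀ := by
      refine range_sup_zpowers _ (fun r hr => ?_) (fun q hq => ?_) rfl
      · rw [hρR ⟨r, hr⟩]; exact (ω _).2
      · obtain ⟨r, hr⟩ := ω.surjective ⟨q, hq⟩
        exact ⟨r, r.2, (hρR r).trans (congrArg Subtype.val hr :)⟩
    obtain ⟨τ, hτ, hτr, hτ1, -⟩ := exists_inv hρ hρr
    have hv : ∀ u, τ u ∈ R ⊔ centralizerIn S T := fun u =>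
      sup_le_sup_left (Subgroup.zpowers_le.2 hxC) R (hτr ▸ ⟨u, rfl⟩ : τ u ∈ R ⊔ Subgroup.zpowers x)
    have key : t₁ * x' * t₁⁻¹ * x'⁻¹ = t₁ * y₀ * t₁⁻¹ * y₀⁻¹ := by
      refine comm_eq_of_fix hS hF hEi.2.1 hQ₁T (fun R' hR' => ?_) ht₁T ht₁N hy₀c hx'c
        (F.comp_mem hτ hw hv) (fun q => ?_) ?_
      · obtain ⟨φ, hφ, rfl⟩ := hR'
        exact centralizer_range_le hEi hφ hQ₁c
      · obtain ⟨r, hr⟩ := ω.surjective q
        show w ⟨τ ⟨q, _⟩, _⟩ = q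
        have e1 : τ ⟨q, Subgroup.mem_sup_left q.2⟩ = r := by
          refine Eq.trans (congrArg τ (Subtype.ext ?_)) (hτ1 ⟨r, Subgroup.mem_sup_left r.2⟩ (hρr ▸ ⟨_, rfl⟩))
          show (q : Ω) = ρ ⟨r, _⟩
          rw [hρR, ← hr]
          rfl
        refine Eq.trans (congrArg w (Subtype.ext e1 : _ = (⟨(r : Ω), Subgroup.mem_sup_left r.2⟩ :
          ↥(R ⊔ centralizerIn S T)))) ?_
        rw [hwR, hr]
      · show w ⟨τ ⟨y₀, _⟩, _⟩ = x'
        exact congrArg w (Subtype.ext (hτ1 ⟨x, Subgroup.mem_sup_right (Subgroup.mem_zpowers x)⟩ _))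
    have h0 : t₁ * y₀ * t₁⁻¹ * y₀⁻¹ = 1 := by
      rw [Subgroup.mem_centralizer_iff.1 hρx.1.2 t₁ ht₁T]
      group
    rw [h0, mul_inv_eq_one] at key
    refine Eq.trans (congrArg ι (Subtype.ext ?_)) (hι1 ⟨x, h⟩ ⟨_, rfl⟩)
    exact key
  obtain ⟨hxC, hyC, η, hη, hηT, hηx⟩ := hxy
  set x' := w ⟨x, Subgroup.mem_sup_right hxC⟩ with hx'
  set y' := w ⟨y, Subgroup.mem_sup_right hyC⟩ with hy'
  have hx'c : x' ∈ centralizerIn S Q₁ := ⟨val_mem hw _, Subgroup.mem_centralizer_iff.2 (hwC x hxC)⟩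
  have hy'c : y' ∈ centralizerIn S Q₁ := ⟨val_mem hw _, Subgroup.mem_centralizer_iff.2 (hwC y hyC)⟩
  have hQw : ∀ q ∈ Q₁, ∃ r : R, w ⟨r, Subgroup.mem_sup_left r.2⟩ = q := by
    intro q hq
    obtain ⟨r, hr⟩ := ω.surjective ⟨q, hq⟩
    exact ⟨r, by rw [hwR, hr]⟩
  have hD : Q₁ ⊔ Subgroup.zpowers x' ≤ w.range :=
    sup_le (fun q hq => let ⟨r, hr⟩ := hQw q hq; ⟨_, hr⟩) (Subgroup.zpowers_le.2 ⟨_, rfl⟩)
  have hηRx : ∀ (q : Ω) (hq : q ∈ Q₁), ∃ r : R, w ⟨r, Subgroup.mem_sup_left r.2⟩ = q ∧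
      ι ⟨q, hD (Subgroup.mem_sup_left hq)⟩ = r := by
    intro q hq
    obtain ⟨r, hr⟩ := hQw q hq
    refine ⟨r, hr, Eq.trans (congrArg ι (Subtype.ext hr.symm)) (hι1 ⟨r, Subgroup.mem_sup_left r.2⟩ ⟨_, rfl⟩)⟩
  have hιx : ι ⟨x', hD (Subgroup.mem_sup_right (Subgroup.mem_zpowers x'))⟩ = x :=
    hι1 ⟨x, Subgroup.mem_sup_right hxC⟩ _
  have hv1 : ∀ z : ↥(Q₁ ⊔ Subgroup.zpowers x'),
      (ι.comp (Subgroup.inclusion hD)) z ∈ T ⊔ Subgroup.zpowers x := by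
    refine sup_zpowers_map_mem _ (fun q hq => ?_) ?_
    · obtain ⟨r, -, hr⟩ := hηRx q hq
      show ι ⟨q, _⟩ ∈ _
      rw [hr]
      exact Subgroup.mem_sup_left (hRT r.2)
    · show ι ⟨x', _⟩ ∈ _
      rw [hιx]
      exact Subgroup.mem_sup_right (Subgroup.mem_zpowers x)
  have hm1 := F.comp_mem (restrict hι hD) hη hv1
  have hv2 : ∀ z : ↥(Q₁ ⊔ Subgroup.zpowers x'),
      η.comp ((ι.comp (Subgroup.inclusion hD)).codRestrict _ hv1) z ∈ R ⊔ centralizerIn S T := by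
    refine sup_zpowers_map_mem _ (fun q hq => ?_) ?_
    · obtain ⟨r, -, hr⟩ := hηRx q hq
      show η ⟨ι ⟨q, _⟩, _⟩ ∈ _
      rw [show (⟨ι ⟨q, hD (Subgroup.mem_sup_left hq)⟩, hv1 ⟨q, Subgroup.mem_sup_left hq⟩⟩ :
        ↥(T ⊔ Subgroup.zpowers x)) = ⟨r, Subgroup.mem_sup_left (hRT r.2)⟩ from Subtype.ext hr, hηT ⟨r, hRT r.2⟩]
      exact Subgroup.mem_sup_left r.2
    · show η ⟨ι ⟨x', _⟩, _⟩ ∈ _
      rw [show (⟨ι ⟨x', hD (Subgroup.mem_sup_right (Subgroup.mem_zpowers x'))⟩,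
          hv1 ⟨x', Subgroup.mem_sup_right (Subgroup.mem_zpowers x')⟩⟩ : ↥(T ⊔ Subgroup.zpowers x)) =
        ⟨x, Subgroup.mem_sup_right (Subgroup.mem_zpowers x)⟩ from Subtype.ext hιx, hηx]
      exact Subgroup.mem_sup_right hyC
  have hm2 := F.comp_mem hm1 hw hv2
  have key : t₁ * y' * t₁⁻¹ * y'⁻¹ = t₁ * x' * t₁⁻¹ * x'⁻¹ := by
    refine comm_eq_of_fix hS hF hEi.2.1 hQ₁T (fun R' hR' => ?_) ht₁T ht₁N hx'c hy'c hm2 (fun q => ?_) ?_
    · obtain ⟨φ, hφ, rfl⟩ := hR'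
      exact centralizer_range_le hEi hφ hQ₁c
    · obtain ⟨r, hwr', hr⟩ := hηRx q q.2
      show w ⟨η ⟨ι ⟨q, _⟩, _⟩, _⟩ = q
      refine Eq.trans (congrArg w (Subtype.ext ?_)) hwr'
      exact Eq.trans (congrArg η (Subtype.ext hr)) (hηT ⟨r, hRT r.2⟩)
    · show w ⟨η ⟨ι ⟨x', _⟩, _⟩, _⟩ = y'
      refine congrArg w (Subtype.ext ?_)
      exact Eq.trans (congrArg η (Subtype.ext hιx)) hηx
  have hcomm' : ∀ q ∈ Q₁, q * x' = x' * q := hwC x hxC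
  have hfix : t₁ * w ⟨x⁻¹ * y, h⟩ * t₁⁻¹ = w ⟨x⁻¹ * y, h⟩ := by
    have e0 : w ⟨x⁻¹ * y, h⟩ = x'⁻¹ * y' := by
      rw [hx', hy', ← map_inv, ← map_mul]
      exact congrArg w (Subtype.ext rfl)
    rw [e0, show t₁ * (x'⁻¹ * y') * t₁⁻¹ =
      (t₁ * x' * t₁⁻¹ * x'⁻¹ * x')⁻¹ * (t₁ * y' * t₁⁻¹ * y'⁻¹ * y') by group, key]
    group
  refine Eq.trans (congrArg ι (Subtype.ext ?_)) (hι1 ⟨x⁻¹ * y, h⟩ ⟨_, rfl⟩)
  exact hfix

/-- Commutators are unchanged by central displacements. -/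
lemma comm_central {a s u v : Ω} (hua : u * a = a * u) (hus : u * s = s * u) (huv : u * v = v * u)
    (hva : v * a = a * v) : (a * u)⁻¹ * (s * v) * (a * u) * (s * v)⁻¹ = a⁻¹ * s * a * s⁻¹ := by
  have h1 : Commute u (a⁻¹ * s * a * s⁻¹) :=
    (((Commute.inv_right hua).mul_right hus).mul_right hua).mul_right (Commute.inv_right hus)
  calc (a * u)⁻¹ * (s * v) * (a * u) * (s * v)⁻¹ = u⁻¹ * (a⁻¹ * s * (v * a) * u * v⁻¹ * s⁻¹) := by group
    _ = u⁻¹ * (a⁻¹ * s * a * (v * u) * v⁻¹ * s⁻¹) := by rw [hva]; group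
    _ = u⁻¹ * (a⁻¹ * s * a * (u * v) * v⁻¹ * s⁻¹) := by rw [huv]
    _ = u⁻¹ * (a⁻¹ * s * a * (u * s⁻¹)) := by group
    _ = u⁻¹ * (a⁻¹ * s * a * s⁻¹ * u) := by rw [(Commute.inv_right hus : Commute u s⁻¹).eq]; group
    _ = u⁻¹ * (u * (a⁻¹ * s * a * s⁻¹)) := by rw [h1.eq]
    _ = a⁻¹ * s * a * s⁻¹ := by group

omit [Fact p.Prime] [Finite S] in
/-- Conjugates of `Aut_E(T)` under `Aut_F(T)`. -/
lemma conj_mem_autGroup_of_invariantIn (hEi : E.IsInvariantIn F) {α c : MulAut T} (hα : α ∈ F.autGroup T)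
    (hc : c ∈ E.autGroup T) : α * c * α⁻¹ ∈ E.autGroup T := by
  refine (mem_autGroup le_rfl).2 (mem_of_eq (invBy_of_isInvariant hEi T _ ((mem_autGroup le_rfl).1 hc) α⁻¹
    (inv_mem hα) T le_rfl fun r => (α⁻¹ _).2) fun r => ?_)
  rw [twist_apply, inv_inv]
  rfl

/-- An automorphism of `T` of order prime to `p` has an extension fixing the displacements of pairs. -/
lemma aut_fix (hS : IsPGroup p S) (hE : E.IsNormalIn F p) {α : MulAut T} (hα : α ∈ E.autGroup T)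
    (hαp : (orderOf α).Coprime p) :
    ∃ ψ ∈ F.autGroup (T ⊔ centralizerIn S T),
      (∀ x : T, ((ψ ⟨x, Subgroup.mem_sup_left x.2⟩ : ↥(T ⊔ centralizerIn S T)) : Ω) = α x) ∧
      (∀ x y, FixPair F T x y → ∀ (h : x⁻¹ * y ∈ T ⊔ centralizerIn S T),
        ((ψ ⟨x⁻¹ * y, h⟩ : ↥(T ⊔ centralizerIn S T)) : Ω) = x⁻¹ * y) ∧
      ∀ x, FixedElt F E x → ∀ (h : x ∈ T ⊔ centralizerIn S T),
        ((ψ ⟨x, h⟩ : ↥(T ⊔ centralizerIn S T)) : Ω) = x := by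
  obtain ⟨⟨hEs, hF, hEi⟩, hext⟩ := hE
  obtain ⟨β, hβ, hβT, hβC⟩ := hext α hα
  have hTS := hEi.2.1.1
  have hTCS : T ⊔ centralizerIn S T ≤ S := sup_le hTS inf_le_left
  haveI := finite_of_le hTCS
  haveI := finite_mulAut hTCS
  -- powers of the extension
  have hpowT : ∀ (i : ℕ) (x : T),
      (((β ^ i) ⟨x, Subgroup.mem_sup_left x.2⟩ : ↥(T ⊔ centralizerIn S T)) : Ω) = (α ^ i) x := by
    intro i
    induction i with
    | zero => intro x; rfl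
    | succ i ih =>
      intro x
      rw [pow_succ', pow_succ', MulAut.mul_apply, MulAut.mul_apply]
      refine Eq.trans (congrArg (fun z => ((β z : ↥(T ⊔ centralizerIn S T)) : Ω)) (Subtype.ext (ih x) :
        _ = Subgroup.inclusion le_sup_left ((α ^ i) x))) (hβT _)
  have hZ : ∀ (α' : MulAut T) {u : Ω} (hu : u ∈ T ⊓ Subgroup.centralizer (T : Set Ω)),
      ((α' ⟨u, hu.1⟩ : T) : Ω) ∈ T ⊓ Subgroup.centralizer (T : Set Ω) := by
    intro α' u hu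
    refine ⟨(α' _).2, Subgroup.mem_centralizer_iff.2 fun t ht => ?_⟩
    obtain ⟨t', ht'⟩ := α'.surjective ⟨t, ht⟩
    have h1 : (⟨u, hu.1⟩ : T) * t' = t' * ⟨u, hu.1⟩ :=
      Subtype.ext (Subgroup.mem_centralizer_iff.1 hu.2 t' t'.2).symm
    have h2 := congrArg (fun z : T => ((α' z : T) : Ω)) h1
    simp only [map_mul, Subgroup.coe_mul, ht'] at h2
    exact h2.symm
  have hpowC : ∀ (i : ℕ) (c : Ω) (hc : c ∈ centralizerIn S T),
      c⁻¹ * (((β ^ i) ⟨c, Subgroup.mem_sup_right hc⟩ : ↥(T ⊔ centralizerIn S T)) : Ω) ∈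
        T ⊓ Subgroup.centralizer (T : Set Ω) := by
    intro i
    induction i with
    | zero =>
      intro c hc
      rw [pow_zero, MulAut.one_apply, inv_mul_cancel]
      exact one_mem _
    | succ i ih =>
      intro c hc
      have hu := ih c hc
      obtain ⟨u, hudef⟩ : ∃ u, u = c⁻¹ * (((β ^ i) ⟨c, Subgroup.mem_sup_right hc⟩ : ↥(T ⊔ centralizerIn S T)) : Ω) :=
        ⟨_, rfl⟩
      rw [← hudef] at hu
      have e1 : (β ^ i) ⟨c, Subgroup.mem_sup_right hc⟩ =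
          ⟨c, Subgroup.mem_sup_right hc⟩ * ⟨u, Subgroup.mem_sup_left hu.1⟩ := Subtype.ext (by
        show _ = c * u
        rw [hudef, mul_inv_cancel_left])
      rw [pow_succ', MulAut.mul_apply, e1, map_mul, Subgroup.coe_mul, ← mul_assoc]
      refine Subgroup.mul_mem _ (hβC ⟨c, _⟩ hc) ?_
      rw [show ((β ⟨u, Subgroup.mem_sup_left hu.1⟩ : ↥(T ⊔ centralizerIn S T)) : Ω) = α ⟨u, hu.1⟩ from hβT ⟨u, hu.1⟩]
      exact hZ α hu
  -- a power of order prime to `p` restricting to `α`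
  obtain ⟨a, n, hn, hN⟩ := Nat.exists_eq_pow_mul_and_not_dvd (orderOf_pos β).ne' p (Fact.out : p.Prime).ne_one
  obtain ⟨m, hm⟩ := exists_pow_eq_self_of_coprime (x := α) (n := p ^ a) (hαp.symm.pow_left a)
  obtain ⟨ψ, hψdef⟩ : ∃ ψ, ψ = β ^ (p ^ a * m) := ⟨_, rfl⟩
  have hψn : ψ ^ n = 1 := by
    rw [hψdef, ← pow_mul, show p ^ a * m * n = p ^ a * n * m by ring, ← hN, pow_mul, pow_orderOf_eq_one, one_pow]
  have hψT : ∀ x : T, ((ψ ⟨x, Subgroup.mem_sup_left x.2⟩ : ↥(T ⊔ centralizerIn S T)) : Ω) = α x := fun x => by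
    rw [hψdef, hpowT, pow_mul, hm]
  have hψC : ∀ (c : Ω) (hc : c ∈ centralizerIn S T),
      c⁻¹ * ((ψ ⟨c, Subgroup.mem_sup_right hc⟩ : ↥(T ⊔ centralizerIn S T)) : Ω) ∈
        T ⊓ Subgroup.centralizer (T : Set Ω) := hψdef ▸ hpowC _
  have hψF : ψ ∈ F.autGroup (T ⊔ centralizerIn S T) := hψdef ▸ pow_mem hβ _
  suffices hpair : ∀ x y, FixPair F T x y → ∀ (h : x⁻¹ * y ∈ T ⊔ centralizerIn S T),
      ((ψ ⟨x⁻¹ * y, h⟩ : ↥(T ⊔ centralizerIn S T)) : Ω) = x⁻¹ * y by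
    refine ⟨ψ, hψF, hψT, hpair, fun x hx h => ?_⟩
    have hxC := hx.1
    obtain ⟨w, hw⟩ : ∃ w : T, (w : Ω) = x⁻¹ * ((ψ ⟨x, h⟩ : ↥(T ⊔ centralizerIn S T)) : Ω) :=
      ⟨⟨_, (hψC x hxC).1⟩, rfl⟩
    have hψx : ψ ⟨x, h⟩ = ⟨x, h⟩ * ⟨w, Subgroup.mem_sup_left w.2⟩ := Subtype.ext (by
      rw [Subgroup.coe_mul, hw, mul_inv_cancel_left])
    obtain ⟨ψ', hψ', hψ'T, hψ'x⟩ := hx.2 T _ ((mem_autGroup le_rfl).1 hα)
    have hr' : ψ'.range = T ⊔ Subgroup.zpowers x := by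
      refine range_sup_zpowers _ (fun t ht => ?_) (fun t ht => ?_) hψ'x
      · rw [hψ'T ⟨t, ht⟩]; exact (α _).2
      · obtain ⟨u, hu⟩ := α.surjective ⟨t, ht⟩
        exact ⟨u, u.2, (hψ'T u).trans (congrArg Subtype.val hu :)⟩
    obtain ⟨τ, hτ, -, hτ1, -⟩ := exists_inv hψ' hr'
    have hle : T ⊔ Subgroup.zpowers x ≤ T ⊔ centralizerIn S T := sup_le_sup_left (Subgroup.zpowers_le.2 hxC) _
    have hg := restrict ((mem_autGroup hTCS).1 hψF) hle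
    have hv : ∀ u : ↥(T ⊔ Subgroup.zpowers x), (((T ⊔ centralizerIn S T).subtype.comp ψ.toMonoidHom).comp
        (Subgroup.inclusion hle)) u ∈ T ⊔ Subgroup.zpowers x := by
      refine sup_zpowers_map_mem _ (fun t ht => ?_) ?_
      · show ((ψ ⟨t, _⟩ : ↥(T ⊔ centralizerIn S T)) : Ω) ∈ _
        rw [hψT ⟨t, ht⟩]
        exact Subgroup.mem_sup_left (α _).2
      · show ((ψ ⟨x, _⟩ : ↥(T ⊔ centralizerIn S T)) : Ω) ∈ _
        rw [hψx]
        exact Subgroup.mul_mem _ (Subgroup.mem_sup_right (Subgroup.mem_zpowers x)) (Subgroup.mem_sup_left w.2)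
    have hτT : ∀ t : T, τ ⟨α t, Subgroup.mem_sup_left (α t).2⟩ = t := fun t =>
      (congrArg τ (Subtype.ext (hψ'T t).symm)).trans (hτ1 ⟨t, Subgroup.mem_sup_left t.2⟩ (hr'.le ⟨_, rfl⟩))
    obtain ⟨u, hu⟩ : ∃ u : T, α u = w := α.surjective w
    have hτw : τ ⟨w, Subgroup.mem_sup_left w.2⟩ = u := by rw [← hτT u]; simp only [hu]
    have huC : (u : Ω) ∈ centralizerIn S T := by
      refine ⟨hTS u.2, Subgroup.mem_centralizer_iff.2 fun t ht => ?_⟩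
      have h1 : α ⟨t, ht⟩ * w = w * α ⟨t, ht⟩ := by
        have h2 := (hψC x hxC).2
        rw [← hw] at h2
        exact Subtype.ext (Subgroup.mem_centralizer_iff.1 h2 _ (α _).2)
      rw [← hu, ← map_mul, ← map_mul] at h1
      exact congrArg Subtype.val (α.injective h1)
    have hFP : FixPair F T x (x * u) := by
      refine ⟨hxC, Subgroup.mul_mem _ hxC huC, _, F.comp_mem hg hτ hv, fun t => ?_, ?_⟩
      · show τ ⟨((ψ ⟨t, _⟩ : ↥(T ⊔ centralizerIn S T)) : Ω), _⟩ = t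
        exact (congrArg τ (Subtype.ext (hψT t))).trans (hτT t)
      · show τ ⟨((ψ ⟨x, _⟩ : ↥(T ⊔ centralizerIn S T)) : Ω), _⟩ = x * u
        rw [show (⟨((ψ ⟨x, hle (Subgroup.mem_sup_right (Subgroup.mem_zpowers x))⟩ : ↥(T ⊔ centralizerIn S T)) : Ω),
            hv ⟨x, Subgroup.mem_sup_right (Subgroup.mem_zpowers x)⟩⟩ : ↥(T ⊔ Subgroup.zpowers x)) =
          ⟨x, Subgroup.mem_sup_right (Subgroup.mem_zpowers x)⟩ * ⟨w, Subgroup.mem_sup_left w.2⟩ from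
            Subtype.ext (congrArg Subtype.val hψx :), map_mul, hτw]
        congr 1
        exact (congrArg τ (Subtype.ext hψ'x.symm)).trans
          (hτ1 ⟨x, Subgroup.mem_sup_right (Subgroup.mem_zpowers x)⟩ (hr'.le ⟨_, rfl⟩))
    have hαu : α u = u := by
      have hm : x⁻¹ * (x * u) ∈ T ⊔ centralizerIn S T := by
        rw [inv_mul_cancel_left]; exact Subgroup.mem_sup_left u.2
      have h1 := hpair x (x * u) hFP hm
      rw [show (⟨x⁻¹ * (x * u), hm⟩ : ↥(T ⊔ centralizerIn S T)) = ⟨u, Subgroup.mem_sup_left u.2⟩ from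
        Subtype.ext (inv_mul_cancel_left x u), hψT u, inv_mul_cancel_left] at h1
      exact Subtype.ext h1
    obtain rfl : u = w := hαu.symm.trans hu
    have hit : ∀ i : ℕ, (((ψ ^ i) ⟨x, h⟩ : ↥(T ⊔ centralizerIn S T)) : Ω) = x * (u ^ i : T) := by
      intro i
      induction i with
      | zero => simp
      | succ i ih =>
        rw [pow_succ', MulAut.mul_apply, show (ψ ^ i) ⟨x, h⟩ = ⟨x, h⟩ *
          ⟨(u ^ i : T), Subgroup.mem_sup_left (u ^ i : T).2⟩ from Subtype.ext ih, map_mul, Subgroup.coe_mul, hψx,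
          hψT, map_pow, hαu, Subgroup.coe_mul, mul_assoc, pow_succ', Subgroup.coe_mul]
    have h1 : u ^ n = 1 := Subtype.ext (mul_left_cancel (a := x) (by
      rw [← hit n, hψn, MulAut.one_apply, Subgroup.coe_one, mul_one]))
    obtain ⟨j, hj⟩ := (IsPGroup.iff_orderOf.1 (hS.to_le hTS)) u
    have h2 : u = 1 := by
      refine orderOf_eq_one_iff.1 (Nat.Coprime.eq_one_of_dvd ?_ (orderOf_dvd_of_pow_eq_one h1))
      rw [hj]
      exact ((Fact.out : p.Prime).coprime_iff_not_dvd.2 hn).pow_left j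
    rw [hψx, Subgroup.coe_mul, h2]
    exact mul_one x
  intro x y hxy h
  obtain ⟨hxC, hyC, η, hη, hηT, hηx⟩ := hxy
  obtain ⟨wx, hwx⟩ : ∃ w : T, (w : Ω) = x⁻¹ * ((ψ ⟨x, Subgroup.mem_sup_right hxC⟩ : ↥(T ⊔ centralizerIn S T)) : Ω) :=
    ⟨⟨_, (hψC x hxC).1⟩, rfl⟩
  obtain ⟨wy, hwy⟩ : ∃ w : T, (w : Ω) = y⁻¹ * ((ψ ⟨y, Subgroup.mem_sup_right hyC⟩ : ↥(T ⊔ centralizerIn S T)) : Ω) :=
    ⟨⟨_, (hψC y hyC).1⟩, rfl⟩
  have hcen : ∀ {z : Ω} (hz : z ∈ centralizerIn S T) {w : T},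
      (w : Ω) = z⁻¹ * ((ψ ⟨z, Subgroup.mem_sup_right hz⟩ : ↥(T ⊔ centralizerIn S T)) : Ω) → ∀ t : T, t * w = w * t := by
    intro z hz w hw t
    have h1 := (hψC z hz).2
    rw [← hw] at h1
    exact Subtype.ext (Subgroup.mem_centralizer_iff.1 h1 t t.2)
  -- the maps on `T⟨x⟩` and `T⟨y⟩`
  have hUle : ∀ {z : Ω}, z ∈ centralizerIn S T → T ⊔ Subgroup.zpowers z ≤ T ⊔ centralizerIn S T :=
    fun {z} hz => sup_le_sup_left (Subgroup.zpowers_le.2 hz) _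
  have hres : ∀ {z : Ω} (hz : z ∈ centralizerIn S T), ∃ σ ∈ F.autGroup (T ⊔ Subgroup.zpowers z),
      ∀ u : ↥(T ⊔ Subgroup.zpowers z), ((σ u : ↥(T ⊔ Subgroup.zpowers z)) : Ω) =
        (ψ ⟨u, hUle hz u.2⟩ : ↥(T ⊔ centralizerIn S T)) := by
    intro z hz
    set g : ↥(T ⊔ Subgroup.zpowers z) →* Ω :=
      ((T ⊔ centralizerIn S T).subtype.comp ψ.toMonoidHom).comp (Subgroup.inclusion (hUle hz))
    have hg : g ∈ F.Hom (T ⊔ Subgroup.zpowers z) := restrict ((mem_autGroup hTCS).1 hψF) _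
    have hv : ∀ u, g u ∈ T ⊔ Subgroup.zpowers z := by
      refine sup_zpowers_map_mem g (fun t ht => ?_) ?_
      · show ((ψ ⟨t, _⟩ : ↥(T ⊔ centralizerIn S T)) : Ω) ∈ _
        rw [hψT ⟨t, ht⟩]
        exact Subgroup.mem_sup_left (α _).2
      · show ((ψ ⟨z, _⟩ : ↥(T ⊔ centralizerIn S T)) : Ω) ∈ _
        rw [← mul_inv_cancel_left z ((ψ ⟨z, _⟩ : ↥(T ⊔ centralizerIn S T)) : Ω)]
        exact Subgroup.mul_mem _ (Subgroup.mem_sup_right (Subgroup.mem_zpowers z))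
          (Subgroup.mem_sup_left (hψC z hz).1)
    have hzS : T ⊔ Subgroup.zpowers z ≤ S := (hUle hz).trans hTCS
    haveI := finite_of_le hzS
    have hbij : Function.Bijective (g.codRestrict _ hv) :=
      Finite.injective_iff_bijective.1 fun a b hab => F.injective_of_mem hg (congrArg Subtype.val hab :)
    exact ⟨MulEquiv.ofBijective _ hbij, (mem_autGroup hzS).2 (mem_of_eq hg fun _ => rfl), fun u => rfl⟩
  obtain ⟨σx, hσx, hσx'⟩ := hres hxC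
  obtain ⟨σy, hσy, hσy'⟩ := hres hyC
  have hrange : η.range = T ⊔ Subgroup.zpowers y := by
    refine le_antisymm ?_ (sup_le (fun t ht => ⟨_, hηT ⟨t, ht⟩⟩) (Subgroup.zpowers_le.2 ⟨_, hηx⟩))
    rintro _ ⟨u, rfl⟩
    refine sup_zpowers_map_mem η (fun t ht => ?_) ?_ u
    · rw [hηT ⟨t, ht⟩]; exact Subgroup.mem_sup_left ht
    · rw [hηx]; exact Subgroup.mem_sup_right (Subgroup.mem_zpowers y)
  set e := isoOfHom (F.injective_of_mem hη) hrange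
  have heT : ∀ t : T, ((e ⟨t, Subgroup.mem_sup_left t.2⟩ : ↥(T ⊔ Subgroup.zpowers y)) : Ω) = t := fun t => hηT t
  have hyS : T ⊔ Subgroup.zpowers y ≤ S := (hUle hyC).trans hTCS
  obtain ⟨ζ, hζdef⟩ : ∃ ζ, ζ = σy⁻¹ * MulAut.congr e σx := ⟨_, rfl⟩
  have hζ : ζ ∈ F.autGroup (T ⊔ Subgroup.zpowers y) :=
    hζdef ▸ mul_mem (inv_mem hσy) (congr_mem_autGroup hη hrange hσx)
  have hσyT : ∀ t : T, σy ⟨t, Subgroup.mem_sup_left t.2⟩ = ⟨α t, Subgroup.mem_sup_left (α t).2⟩ := fun t =>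
    Subtype.ext ((hσy' _).trans (hψT t))
  have hζT : ∀ t : T, ζ ⟨t, Subgroup.mem_sup_left t.2⟩ = ⟨t, Subgroup.mem_sup_left t.2⟩ := by
    intro t
    rw [hζdef, MulAut.mul_apply]
    have e1 : e.symm ⟨t, Subgroup.mem_sup_left t.2⟩ = ⟨t, Subgroup.mem_sup_left t.2⟩ := by
      rw [MulEquiv.symm_apply_eq]; exact Subtype.ext (heT t).symm
    have e2 : MulAut.congr e σx ⟨t, Subgroup.mem_sup_left t.2⟩ = σy ⟨t, Subgroup.mem_sup_left t.2⟩ := by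
      show e (σx (e.symm _)) = _
      rw [e1, hσyT, show σx ⟨t, Subgroup.mem_sup_left t.2⟩ = ⟨α t, Subgroup.mem_sup_left (α t).2⟩ from
        Subtype.ext ((hσx' _).trans (hψT t))]
      exact Subtype.ext (heT (α t))
    rw [e2, MulAut.inv_apply_self]
  obtain ⟨d, hddef⟩ : ∃ d : T, d = α⁻¹ (wy⁻¹ * wx) := ⟨_, rfl⟩
  have hαd : α d = wy⁻¹ * wx := hddef ▸ MulAut.apply_inv_self _ _ _
  have hζy : ζ ⟨y, Subgroup.mem_sup_right (Subgroup.mem_zpowers y)⟩ =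
      ⟨y, Subgroup.mem_sup_right (Subgroup.mem_zpowers y)⟩ * ⟨d, Subgroup.mem_sup_left d.2⟩ := by
    rw [hζdef, MulAut.mul_apply]
    apply σy.injective
    rw [MulAut.apply_inv_self, map_mul]
    refine Subtype.ext ?_
    have e1 : e.symm ⟨y, Subgroup.mem_sup_right (Subgroup.mem_zpowers y)⟩ =
        ⟨x, Subgroup.mem_sup_right (Subgroup.mem_zpowers x)⟩ := by
      rw [MulEquiv.symm_apply_eq]; exact Subtype.ext hηx.symm
    show ((e (σx (e.symm _)) : ↥(T ⊔ Subgroup.zpowers y)) : Ω) = _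
    rw [e1, Subgroup.coe_mul, hσy' ⟨y, _⟩, hσyT d, hαd]
    show η (σx ⟨x, _⟩) = _
    rw [show σx ⟨x, Subgroup.mem_sup_right (Subgroup.mem_zpowers x)⟩ =
      ⟨x, Subgroup.mem_sup_right (Subgroup.mem_zpowers x)⟩ * ⟨wx, Subgroup.mem_sup_left wx.2⟩ from
      Subtype.ext (by rw [hσx', Subgroup.coe_mul, hwx, mul_inv_cancel_left]), map_mul, hηx, hηT wx]
    show y * (wx : Ω) = _ * ((wy : Ω)⁻¹ * wx)
    rw [hwy]
    group
  have hN' : (1 : Ω) ∈ Subgroup.normalizer (T : Set Ω) := one_mem _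
  have hTn := le_normalizer_of_weaklyClosed_fusion (weaklyClosed_of_stronglyClosed hEi.2.1)
  have hζM : ζ ∈ layerStab (T ⊔ Subgroup.zpowers y) T 1 hN' := by
    refine ⟨⟨0, fun q hq => ?_⟩, fun u => ?_⟩
    · rw [show q = ⟨(q : Ω), Subgroup.mem_sup_left hq⟩ from rfl, hζT ⟨q, hq⟩]
      simp
    · refine disp_mem ((T ⊔ Subgroup.zpowers y).subtype.comp ζ.toMonoidHom) (hyS.trans hTn) (fun t ht => ?_) ?_ u
      · show t⁻¹ * ((ζ ⟨t, _⟩ : ↥(T ⊔ Subgroup.zpowers y)) : Ω) ∈ T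
        rw [hζT ⟨t, ht⟩, inv_mul_cancel]
        exact one_mem _
      · show y⁻¹ * ((ζ ⟨y, _⟩ : ↥(T ⊔ Subgroup.zpowers y)) : Ω) ∈ T
        rw [hζy, Subgroup.coe_mul, inv_mul_cancel_left]
        exact d.2
  have hζp : IsPGroup p (Subgroup.zpowers ζ) :=
    (isPGroup_layerStab hS hTS (one_mem S) hN').to_le (Subgroup.zpowers_le.2 hζM)
  -- move into a fully normalized conjugate
  obtain ⟨U', hconj, hn'⟩ := exists_fullyNormalized (F := F) hyS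
  obtain ⟨φ₁, hφ₁, hr⟩ := hconj
  set e₀ := isoOfHom (F.injective_of_mem hφ₁) hr
  obtain ⟨χ, hχ, hχM⟩ := exists_conj_le_autInducedBy p (fullyAutomized_of_fullyNormalized hS hF hn')
    ((Subgroup.zpowers ζ).map (MulAut.congr e₀).toMonoidHom) (hζp.map _)
    (by rintro _ ⟨σ, hσ, rfl⟩; exact congr_mem_autGroup hφ₁ hr (Subgroup.zpowers_le.2 hζ hσ))
  obtain ⟨s, hs, hsx⟩ := mem_autInducedBy.1 (hχM _ ⟨ζ, Subgroup.mem_zpowers ζ, rfl⟩)
  obtain ⟨e₂, he₂⟩ : ∃ e₂ : ↥(T ⊔ Subgroup.zpowers y) ≃* U', e₂ = e₀.trans χ := ⟨_, rfl⟩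
  have he₂F : IsoIn F e₂ := by
    rw [he₂]; exact IsoIn.trans (isoIn_isoOfHom hφ₁ hr) (isoIn_aut hn'.1 hχ)
  have hs' : ∀ u, ((e₂ (ζ u) : U') : Ω) = s * e₂ u * s⁻¹ := by
    intro u
    have h1 := hsx (χ (e₀ u))
    simp only [MulEquiv.coe_toMonoidHom, MulAut.mul_apply, MulAut.inv_apply_self] at h1
    rw [show MulAut.congr e₀ ζ (e₀ u) = e₀ (ζ u) by
      show e₀ (ζ (e₀.symm (e₀ u))) = _
      rw [MulEquiv.symm_apply_apply]] at h1
    rw [he₂]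
    exact h1
  set ρ : T →* Ω := (U'.subtype.comp e₂.toMonoidHom).comp (Subgroup.inclusion le_sup_left)
  have hρ : ρ ∈ F.Hom T := restrict he₂F le_sup_left
  have hρr : ρ.range = T := (weaklyClosed_of_stronglyClosed hEi.2.1).2 ρ hρ
  haveI := finite_of_le hTS
  obtain ⟨β₀, hβ₀def⟩ : ∃ β₀ : MulAut T, β₀ = isoOfHom (F.injective_of_mem hρ) hρr := ⟨_, rfl⟩
  have hβ₀ : ∀ t : T, ((β₀ t : T) : Ω) = e₂ ⟨t, Subgroup.mem_sup_left t.2⟩ := fun t => by rw [hβ₀def]; rfl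
  have hβ₀F : β₀ ∈ F.autGroup T := (mem_autGroup hTS).2 (mem_of_eq hρ fun t => hβ₀ t)
  have hsT : s ∈ centralizerIn S T := by
    refine ⟨hs, Subgroup.mem_centralizer_iff.2 fun t ht => ?_⟩
    obtain ⟨u, hu⟩ := β₀.surjective ⟨t, ht⟩
    have h1 := hs' ⟨u, Subgroup.mem_sup_left u.2⟩
    rw [hζT u, ← hβ₀ u, hu] at h1
    calc t * s = s * t * s⁻¹ * s := by rw [← h1]
      _ = s * t := by group
  obtain ⟨y₂, hy₂def⟩ : ∃ y₂, y₂ = ((e₂ ⟨y, Subgroup.mem_sup_right (Subgroup.mem_zpowers y)⟩ : U') : Ω) := ⟨_, rfl⟩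
  have hy₂ : y₂ ∈ centralizerIn S T := by
    refine ⟨hy₂def ▸ hn'.1 (e₂ _).2, Subgroup.mem_centralizer_iff.2 fun t ht => ?_⟩
    obtain ⟨u, hu⟩ := β₀.surjective ⟨t, ht⟩
    have h1 := hβ₀ u
    rw [hu] at h1
    rw [show t = _ from h1, hy₂def, ← Subgroup.coe_mul, ← Subgroup.coe_mul, ← map_mul, ← map_mul]
    exact congrArg (fun z => ((e₂ z : U') : Ω)) (Subtype.ext (Subgroup.mem_centralizer_iff.1 hyC.2 u u.2))
  have hd2 : ((β₀ d : T) : Ω) = y₂⁻¹ * s * y₂ * s⁻¹ := by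
    have h1 := hs' ⟨y, Subgroup.mem_sup_right (Subgroup.mem_zpowers y)⟩
    rw [hζy, map_mul, Subgroup.coe_mul, ← hy₂def, ← hβ₀ d] at h1
    calc ((β₀ d : T) : Ω) = y₂⁻¹ * (y₂ * β₀ d) := by group
      _ = y₂⁻¹ * s * y₂ * s⁻¹ := by rw [h1]; group
  obtain ⟨β', -, hβ'T, hβ'C⟩ := hext _ (conj_mem_autGroup_of_invariantIn hEi hβ₀F hα)
  have hfix : α d = d := by
    apply β₀.injective
    have h1 := hβ'T (β₀ d)
    rw [MulAut.mul_apply, MulAut.mul_apply, MulAut.inv_apply_self] at h1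
    refine Subtype.ext (h1.symm.trans ?_)
    have e1 : Subgroup.inclusion le_sup_left (β₀ d) =
        (⟨y₂, Subgroup.mem_sup_right hy₂⟩⁻¹ * ⟨s, Subgroup.mem_sup_right hsT⟩ * ⟨y₂, Subgroup.mem_sup_right hy₂⟩ *
          ⟨s, Subgroup.mem_sup_right hsT⟩⁻¹ : ↥(T ⊔ centralizerIn S T)) := Subtype.ext hd2
    rw [e1, map_mul, map_mul, map_mul, map_inv, map_inv]
    simp only [Subgroup.coe_mul, Subgroup.coe_inv]
    have hu := hβ'C ⟨y₂, Subgroup.mem_sup_right hy₂⟩ hy₂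
    have hv := hβ'C ⟨s, Subgroup.mem_sup_right hsT⟩ hsT
    obtain ⟨A, hA⟩ : ∃ A, A = ((β' ⟨y₂, Subgroup.mem_sup_right hy₂⟩ : ↥(T ⊔ centralizerIn S T)) : Ω) := ⟨_, rfl⟩
    obtain ⟨B, hB⟩ : ∃ B, B = ((β' ⟨s, Subgroup.mem_sup_right hsT⟩ : ↥(T ⊔ centralizerIn S T)) : Ω) := ⟨_, rfl⟩
    rw [← hA] at hu
    rw [← hB] at hv
    rw [← hA, ← hB, ← mul_inv_cancel_left y₂ A, ← mul_inv_cancel_left s B, hd2]
    exact comm_central (Subgroup.mem_centralizer_iff.1 hy₂.2 _ hu.1) (Subgroup.mem_centralizer_iff.1 hsT.2 _ hu.1)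
      (Subgroup.mem_centralizer_iff.1 hu.2 _ hv.1).symm (Subgroup.mem_centralizer_iff.1 hy₂.2 _ hv.1)
  -- iterate
  have hwxy : wx = wy * d := by
    rw [← hfix, hαd, mul_inv_cancel_left]
  have hdc : ∀ t : T, t * d = d * t := by
    intro t
    have h1 := hcen hxC hwx t
    rw [hwxy, ← mul_assoc, hcen hyC hwy t, mul_assoc, mul_assoc] at h1
    exact mul_left_cancel h1
  have hit : ∀ i : ℕ, ∃ u : T,
      (((ψ ^ i) ⟨y, Subgroup.mem_sup_right hyC⟩ : ↥(T ⊔ centralizerIn S T)) : Ω) = y * u ∧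
      (((ψ ^ i) ⟨x, Subgroup.mem_sup_right hxC⟩ : ↥(T ⊔ centralizerIn S T)) : Ω) = x * (u * d ^ i : T) := by
    intro i
    induction i with
    | zero => exact ⟨1, by simp, by simp⟩
    | succ i ih =>
      obtain ⟨u, hu1, hu2⟩ := ih
      refine ⟨wy * α u, ?_, ?_⟩
      · rw [pow_succ', MulAut.mul_apply, show (ψ ^ i) ⟨y, Subgroup.mem_sup_right hyC⟩ =
          ⟨y, Subgroup.mem_sup_right hyC⟩ * ⟨u, Subgroup.mem_sup_left u.2⟩ from Subtype.ext hu1, map_mul,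
          Subgroup.coe_mul, hψT, Subgroup.coe_mul, hwy]
        group
      · rw [pow_succ', MulAut.mul_apply, show (ψ ^ i) ⟨x, Subgroup.mem_sup_right hxC⟩ =
          ⟨x, Subgroup.mem_sup_right hxC⟩ * ⟨(u * d ^ i : T), Subgroup.mem_sup_left (u * d ^ i : T).2⟩ from
          Subtype.ext hu2, map_mul, Subgroup.coe_mul, hψT, map_mul, map_pow, hfix]
        have e1 : wy * α u * d ^ (i + 1) = wx * (α u * d ^ i) := by
          rw [hwxy, pow_succ']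
          calc wy * α u * (d * d ^ i) = wy * (α u * d) * d ^ i := by group
            _ = wy * (d * α u) * d ^ i := by rw [hdc]
            _ = wy * d * (α u * d ^ i) := by group
        rw [e1, Subgroup.coe_mul, Subgroup.coe_mul, hwx, Subgroup.coe_mul, Subgroup.coe_pow]
        group
  have hd1 : d = 1 := by
    obtain ⟨u, hu1, hu2⟩ := hit n
    rw [hψn, MulAut.one_apply] at hu1 hu2
    have hu : u = 1 := Subtype.ext (mul_left_cancel (a := y) (hu1.symm.trans (mul_one y).symm))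
    rw [hu, one_mul] at hu2
    have h1 : d ^ n = 1 := Subtype.ext (mul_left_cancel (a := x) (hu2.symm.trans (mul_one x).symm))
    obtain ⟨j, hj⟩ := (IsPGroup.iff_orderOf.1 (hS.to_le hTS)) d
    refine orderOf_eq_one_iff.1 (Nat.Coprime.eq_one_of_dvd ?_ (orderOf_dvd_of_pow_eq_one h1))
    rw [hj]
    exact ((Fact.out : p.Prime).coprime_iff_not_dvd.2 hn).pow_left j
  have hw : (wx : Ω) = wy := by rw [hwxy, hd1, mul_one]
  rw [show (⟨x⁻¹ * y, h⟩ : ↥(T ⊔ centralizerIn S T)) =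
    (⟨x, Subgroup.mem_sup_right hxC⟩)⁻¹ * ⟨y, Subgroup.mem_sup_right hyC⟩ from Subtype.ext rfl, map_mul, map_inv,
    Subgroup.coe_mul, Subgroup.coe_inv, show ((ψ ⟨x, Subgroup.mem_sup_right hxC⟩ : ↥(T ⊔ centralizerIn S T)) : Ω) =
      x * wx by rw [hwx, mul_inv_cancel_left], show ((ψ ⟨y, Subgroup.mem_sup_right hyC⟩ : ↥(T ⊔ centralizerIn S T)) : Ω) =
      y * wy by rw [hwy, mul_inv_cancel_left], hw]
  have h2 : Commute ((wy : T) : Ω) (x⁻¹ * y) :=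
    (Commute.inv_right (Subgroup.mem_centralizer_iff.1 hxC.2 _ wy.2)).mul_right
      (Subgroup.mem_centralizer_iff.1 hyC.2 _ wy.2)
  calc (x * (wy : Ω))⁻¹ * (y * wy) = (wy : Ω)⁻¹ * ((x⁻¹ * y) * wy) := by group
    _ = (wy : Ω)⁻¹ * (wy * (x⁻¹ * y)) := by rw [h2.eq]
    _ = x⁻¹ * y := by group

/-- The subgroup generated by the displacements of pairs and the centralizing elements. -/
def centralizingSubgroup (F : Cfsg.FusionSystem S) (E : Cfsg.FusionSystem T) : Subgroup Ω :=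
  Subgroup.closure ({z | ∃ x y, FixPair F T x y ∧ z = x⁻¹ * y} ∪ {x | FixedElt F E x})

omit [Fact p.Prime] [Finite S] in
lemma centralizingSubgroup_le : centralizingSubgroup F E ≤ centralizerIn S T := by
  rw [centralizingSubgroup, Subgroup.closure_le]
  rintro _ (⟨x, y, hxy, rfl⟩ | hx)
  · exact Subgroup.mul_mem _ (Subgroup.inv_mem _ hxy.1) hxy.2.1
  · exact hx.1

omit [Fact p.Prime] [Finite S] in
lemma fix_centralizingSubgroup (ψ : ↥(R ⊔ centralizerIn S T) →* Ω)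
    (h : ∀ x y, FixPair F T x y → ∀ (hm : x⁻¹ * y ∈ R ⊔ centralizerIn S T), ψ ⟨x⁻¹ * y, hm⟩ = x⁻¹ * y)
    (h' : ∀ x, FixedElt F E x → ∀ (hm : x ∈ R ⊔ centralizerIn S T), ψ ⟨x, hm⟩ = x)
    {z : Ω} (hz : z ∈ centralizingSubgroup F E) : ψ ⟨z, Subgroup.mem_sup_right (centralizingSubgroup_le hz)⟩ = z := by
  have hle : centralizingSubgroup F E ≤
      (ψ.eqLocus (R ⊔ centralizerIn S T).subtype).map (R ⊔ centralizerIn S T).subtype := by
    rw [centralizingSubgroup, Subgroup.closure_le]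
    rintro _ (⟨x, y, hxy, rfl⟩ | hx)
    · have hm : x⁻¹ * y ∈ R ⊔ centralizerIn S T :=
        Subgroup.mem_sup_right (Subgroup.mul_mem _ (Subgroup.inv_mem _ hxy.1) hxy.2.1)
      exact ⟨⟨_, hm⟩, h x y hxy hm, rfl⟩
    · exact ⟨⟨_, Subgroup.mem_sup_right hx.1⟩, h' _ hx (Subgroup.mem_sup_right hx.1), rfl⟩
  obtain ⟨u, hu, e⟩ := hle hz
  have e' : u = ⟨z, Subgroup.mem_sup_right (centralizingSubgroup_le hz)⟩ := Subtype.ext e
  rw [e'] at hu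
  exact hu

/-- The maps between subgroups of `T` extending to a map fixing `X`. -/
def fixSystem (F : Cfsg.FusionSystem S) (T X : Subgroup Ω) (hT : F.StronglyClosed T) (hX : X ≤ centralizerIn S T) :
    Cfsg.FusionSystem T where
  Hom P := {φ | φ ∈ F.Hom P ∧ P ≤ T ∧ ∃ ψ ∈ F.Hom (P ⊔ X),
    (∀ x : P, ψ ⟨x, Subgroup.mem_sup_left x.2⟩ = φ x) ∧ ∀ z : X, ψ ⟨z, Subgroup.mem_sup_right z.2⟩ = z}
  le_of_mem := fun {P φ} h => ⟨h.2.1, fun x => hT.2 P h.2.1 φ h.1 x⟩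
  injective_of_mem h := F.injective_of_mem h.1
  conj_mem := by
    intro P g hP hg
    refine ⟨F.conj_mem (hP.trans hT.1) (hT.1 hg), hP, _,
      F.conj_mem (sup_le (hP.trans hT.1) (hX.trans inf_le_left)) (hT.1 hg), fun x => rfl, fun z => ?_⟩
    show g * (z : Ω) * g⁻¹ = z
    rw [Subgroup.mem_centralizer_iff.1 (hX z.2).2 g hg, mul_inv_cancel_right]
  comp_mem := by
    rintro P Q φ ψ ⟨hφ, hP, φ₁, hφ₁, hφP, hφX⟩ ⟨hψ, -, ψ₁, hψ₁, hψQ, hψX⟩ h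
    have hv : ∀ u : ↥(P ⊔ X), φ₁ u ∈ Q ⊔ X := sup_map_mem φ₁
      (fun a ha => by rw [hφP ⟨a, ha⟩]; exact Subgroup.mem_sup_left (h _))
      (fun b hb => by rw [hφX ⟨b, hb⟩]; exact Subgroup.mem_sup_right hb)
    refine ⟨F.comp_mem hφ hψ h, hP, _, F.comp_mem hφ₁ hψ₁ hv, fun x => ?_, fun z => ?_⟩
    · exact Eq.trans (congrArg ψ₁ (Subtype.ext (hφP x) : _ = (⟨φ x, Subgroup.mem_sup_left (h x)⟩ : ↥(Q ⊔ X)))) (hψQ ⟨φ x, h x⟩)
    · exact Eq.trans (congrArg ψ₁ (Subtype.ext (hφX z) : _ = (⟨z, Subgroup.mem_sup_right z.2⟩ : ↥(Q ⊔ X)))) (hψX z)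
  inv_mem := by
    rintro P φ ⟨hφ, hP, φ₁, hφ₁, hφP, hφX⟩
    obtain ⟨χ, hχ, -, hχ1, -⟩ := exists_inv hφ (rfl : φ.range = φ.range)
    obtain ⟨χ₁, hχ₁, -, hχ₁1, -⟩ := exists_inv hφ₁ (rfl : φ₁.range = φ₁.range)
    have hle : φ.range ⊔ X ≤ φ₁.range :=
      sup_le (by rintro _ ⟨x, rfl⟩; exact ⟨_, hφP x⟩) (fun z hz => ⟨_, hφX ⟨z, hz⟩⟩)
    refine ⟨χ, ⟨hχ, by rintro _ ⟨x, rfl⟩; exact hT.2 P hP φ hφ x, _, restrict hχ₁ hle, ?_, fun z => ?_⟩,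
      fun x => hχ1 x _⟩
    · rintro ⟨_, x, rfl⟩
      refine Eq.trans ?_ (hχ1 x _).symm
      exact Eq.trans (congrArg χ₁ (Subtype.ext (hφP x).symm : _ = (⟨_, ⟨⟨(x : Ω), Subgroup.mem_sup_left x.2⟩, rfl⟩⟩ : φ₁.range))) (hχ₁1 _ _)
    · exact Eq.trans (congrArg χ₁ (Subtype.ext (hφX z).symm : _ = (⟨_, ⟨⟨(z : Ω), Subgroup.mem_sup_right z.2⟩, rfl⟩⟩ : φ₁.range))) (hχ₁1 _ _)

/-- Every map of a normal subsystem extends to one fixing the centralizing subgroup. -/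
theorem le_fixSystem (hS : IsPGroup p S) (hE : E.IsNormalIn F p) :
    ∀ P, E.Hom P ⊆ (fixSystem F T (centralizingSubgroup F E) hE.1.2.2.2.1 centralizingSubgroup_le).Hom P := by
  obtain ⟨hEs, hF, hEi⟩ := id hE.1
  have hTS := hEi.2.1.1
  haveI := finite_of_le hTS
  haveI := finite_mulAut (le_refl T)
  have hT : IsPGroup p T := hS.to_le hTS
  set W := fixSystem F T (centralizingSubgroup F E) hE.1.2.2.2.1 centralizingSubgroup_le
  have hp : ∀ {R : Subgroup Ω}, E.IsCentric R → ∀ γ : E.autGroup R, ∀ k, orderOf γ = p ^ k →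
      R.subtype.comp (γ : MulAut R).toMonoidHom ∈ W.Hom R := by
    intro R hR γ k hk
    obtain ⟨ψ, hψ, hag, hfix, hfix'⟩ := pElem_fix hS hE.1 hR hk
    exact ⟨hEi.1 R ((mem_autGroup hR.1).1 γ.2), hR.1, _, restrict hψ (sup_le_sup_left centralizingSubgroup_le R),
      fun x => hag x, fun z => fix_centralizingSubgroup ψ hfix hfix' z.2⟩
  have hD : ∀ P, (pElemSystem E p {P | E.IsCentric P}).Hom P ⊆ W.Hom P := by
    intro P φ hφ
    refine hφ.2 _ ?_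
    rintro R _ ⟨hR, γ, ⟨k, hk⟩, rfl⟩
    exact hp hR γ k hk
  have hbase : ∀ α ∈ E.autGroup T, α ∈ W.autGroup T := by
    intro α hα
    obtain ⟨a, n, hn, hN⟩ := Nat.exists_eq_pow_mul_and_not_dvd (orderOf_pos α).ne' p (Fact.out : p.Prime).ne_one
    have hpos := orderOf_pos α
    rw [hN] at hpos
    have ha : α ^ n ∈ W.autGroup T := by
      have h1 : orderOf (⟨α ^ n, pow_mem hα n⟩ : E.autGroup T) = p ^ a := by
        rw [← Subgroup.orderOf_coe]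
        show orderOf (α ^ n) = _
        rw [orderOf_pow_of_dvd (Nat.pos_of_mul_pos_left hpos).ne' ⟨p ^ a, by rw [hN, mul_comm]⟩, hN,
          Nat.mul_div_cancel _ (Nat.pos_of_mul_pos_left hpos)]
      exact (mem_autGroup le_rfl).2 (hp (isCentric_self E) _ a h1)
    have hb : α ^ p ^ a ∈ W.autGroup T := by
      have h1 : orderOf (α ^ p ^ a) = n := by
        rw [orderOf_pow_of_dvd (pow_ne_zero _ (Fact.out : p.Prime).ne_zero) ⟨n, hN⟩, hN,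
          Nat.mul_div_cancel_left _ (pow_pos (Fact.out : p.Prime).pos a)]
      obtain ⟨ψ, hψ, hag, hfix, hfix'⟩ := aut_fix hS hE (pow_mem hα (p ^ a)) (by
        rw [h1]; exact ((Fact.out : p.Prime).coprime_iff_not_dvd.2 hn).symm)
      refine (mem_autGroup le_rfl).2 ⟨hEi.1 T ((mem_autGroup le_rfl).1 (pow_mem hα _)), le_rfl, _,
        restrict ((mem_autGroup (sup_le hTS inf_le_left)).1 hψ) (sup_le_sup_left centralizingSubgroup_le T),
        fun x => hag x, fun z => ?_⟩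
      exact fix_centralizingSubgroup ((T ⊔ centralizerIn S T).subtype.comp ψ.toMonoidHom) hfix hfix' z.2
    have hcop : ((p ^ a : ℕ) : ℤ).gcd (n : ℤ) = 1 := by
      rw [Int.gcd_natCast_natCast]
      exact ((Fact.out : p.Prime).coprime_iff_not_dvd.2 hn).pow_left a
    have := Int.gcd_eq_gcd_ab ((p ^ a : ℕ) : ℤ) (n : ℤ)
    rw [hcop] at this
    have e1 : α = (α ^ p ^ a) ^ Int.gcdA ((p ^ a : ℕ) : ℤ) (n : ℤ) * (α ^ n) ^ Int.gcdB ((p ^ a : ℕ) : ℤ) (n : ℤ) := by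
      rw [← zpow_natCast α (p ^ a), ← zpow_natCast α n, ← zpow_mul, ← zpow_mul, ← zpow_add, ← this]
      exact (zpow_one α).symm
    rw [e1]
    exact mul_mem (zpow_mem hb _) (zpow_mem ha _)
  intro P φ hφ
  obtain ⟨α, hα, φ₀, hφ₀, hag⟩ := exists_decomp_pElemSystem hT hEs (pFamily_centric (p := p) E) hφ
  exact comp_of_eq (hD P hφ₀) ((mem_autGroup le_rfl).1 (hbase α hα)) (val_mem hφ₀)
    fun x => hag x (val_mem hφ₀ x)

/-- The focal subgroup of `C_F(T)` lies in the centralizer of a normal subsystem over `T`. -/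
theorem focal_le_centralizer (hS : IsPGroup p S) (hE : E.IsNormalIn F p)
    {D : Cfsg.FusionSystem (centralizerIn S T)} (hD : F.IsCentralizerSystem T D) :
    D.focalSubgroup ≤ sSup {X : Subgroup Ω | X ≤ centralizerIn S T ∧ ∀ P : Subgroup Ω, E.Hom P ⊆ F.centralizerHom X P} := by
  refine le_trans ?_ (le_sSup (a := centralizingSubgroup F E) ⟨centralizingSubgroup_le, fun P φ hφ => ?_⟩)
  · rw [Cfsg.FusionSystem.focalSubgroup, Subgroup.closure_le]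
    rintro _ ⟨P, φ, x, hφ, rfl⟩
    rw [hD P] at hφ
    obtain ⟨-, hP, hPv, ψ, hψ, hag, hfix⟩ := hφ
    have hle : T ⊔ Subgroup.zpowers (x : Ω) ≤ P ⊔ T :=
      sup_le le_sup_right ((Subgroup.zpowers_le.2 x.2).trans le_sup_left)
    refine Subgroup.subset_closure (Or.inl ⟨x, φ x, ⟨hP x.2, hPv x, _, restrict hψ hle, fun t => hfix t, ?_⟩, rfl⟩)
    exact hag x
  · obtain ⟨hφF, hPT, ψ, hψ, hag, hfix⟩ := le_fixSystem hS hE P hφ
    have hTc : T ≤ centralizerIn S (centralizingSubgroup F E) := fun t ht =>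
      ⟨hE.1.2.2.2.1.1 ht, Subgroup.mem_centralizer_iff.2 fun z hz =>
        (Subgroup.mem_centralizer_iff.1 (centralizingSubgroup_le hz).2 t ht).symm⟩
    exact ⟨hφF, hPT.trans hTc, fun x => hTc (hE.1.2.2.2.1.2 P hPT φ hφF x), ψ, hψ, fun x => hag x,
      fun z => hfix z⟩

end CfsgLib.Fusion
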