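import Cfsg.Agent.Fusion.EnvelopePStep
import Cfsg.Agent.Fusion.EnvelopePrimeStep
import Cfsg.Agent.Fusion.FocalCentralizes
import Cfsg.Agent.Fusion.Abelian
import Cfsg.Agent.Fusion.FactorSat
import Cfsg.Agent.Fusion.Normalizer

/-!
The envelope of a normal subsystem with `p`-solvable outer automizer.
-/

set_option autoImplicit false
set_option linter.style.haveILetI false

open Cfsg

namespace CfsgLib.Fusion

open Cfsg.FusionSystem

universe u

variable {Ω : Type u} [Group Ω] {S T : Subgroup Ω} {F : Cfsg.FusionSystem S} {E : Cfsg.FusionSystem T}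
variable {p : ℕ} [Fact p.Prime] [Finite S]

/-- The stage reached at the bottom of the series. -/
theorem exists_stage_bottom (hS : IsPGroup p S) (hE : E.IsNormalIn F p)
    [((E.autGroup T).subgroupOf (F.autGroup T)).Normal]
    (hsolv : Cfsg.IsPSolvable p (↥(F.autGroup T) ⧸ (E.autGroup T).subgroupOf (F.autGroup T))) :
    ∃ (R : Subgroup Ω) (D : Cfsg.FusionSystem R), Stage p F E (E.autGroup T) D := by
  have hTS := hE.1.2.2.2.1.1
  have hFT := hE.1.2.2.2.1
  have hF := hE.1.2.1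
  haveI := finite_of_le hTS
  haveI := finite_mulAut hTS
  have hEF : E.autGroup T ≤ F.autGroup T := fun α hα =>
    (mem_autGroup hTS).2 (hE.1.2.2.1 T ((mem_autGroup le_rfl).1 hα))
  obtain ⟨n, H, h0, hlast, hmono, hnorm, hidx⟩ := hsolv
  let K : Fin (n + 1) → Subgroup (MulAut T) := fun i =>
    ((H i).comap (QuotientGroup.mk' ((E.autGroup T).subgroupOf (F.autGroup T)))).map (F.autGroup T).subtype
  have hK0 : K 0 = E.autGroup T := by
    show Subgroup.map _ (Subgroup.comap _ (H 0)) = _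
    rw [h0, MonoidHom.comap_bot, QuotientGroup.ker_mk', Subgroup.subgroupOf_map_subtype, inf_eq_left.2 hEF]
  have hKlast : K (Fin.last n) = F.autGroup T := by
    show Subgroup.map _ (Subgroup.comap _ (H (Fin.last n))) = _
    rw [hlast, Subgroup.comap_top, ← MonoidHom.range_eq_map, Subgroup.range_subtype]
  have hKE : ∀ i, E.autGroup T ≤ K i := fun i => by
    rw [← hK0]
    exact Subgroup.map_mono (Subgroup.comap_mono (hmono (Fin.zero_le i)))
  have hKn : ∀ i, ∀ α ∈ F.autGroup T, ∀ h ∈ K i, α * h * α⁻¹ ∈ K i := by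
    rintro i α hα _ ⟨h, hh, rfl⟩
    obtain ⟨a, ha⟩ : ∃ a : F.autGroup T, a = ⟨α, hα⟩ := ⟨_, rfl⟩
    haveI := hnorm i
    refine ⟨a * h * a⁻¹, Subgroup.Normal.conj_mem inferInstance h hh a, ?_⟩
    rw [ha]
    simp only [Subgroup.coe_subtype, Subgroup.coe_mul, Subgroup.coe_inv]
  suffices key : ∀ i, ∃ (R : Subgroup Ω) (D : Cfsg.FusionSystem R), Stage p F E (K i) D by
    have h1 := key 0
    rwa [hK0] at h1
  intro i
  induction i using Fin.reverseInduction with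
  | last =>
    rw [hKlast]
    refine ⟨S, F, le_antisymm (fun x hx => ?_) (fun x hx => hx.1), isNormalIn_self hF, hE, rfl,
      fun {U V L L'} hL hL' => limit_unique hL hS hF L' hL'⟩
    have hn := le_normalizer_of_weaklyClosed_fusion (weaklyClosed_of_stronglyClosed hFT)
    exact ⟨hx, conjAut T S ⟨x, hx, hn hx⟩,
      autInducedBy_le_autGroup hTS (range_conjAut (P := T) S ▸ ⟨⟨x, hx, hn hx⟩, rfl⟩), fun t => rfl⟩
  | cast i ih =>
    obtain ⟨R, D, hD⟩ := ih
    have hle : K i.castSucc ≤ K i.succ :=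
      Subgroup.map_mono (Subgroup.comap_mono (hmono (Fin.castSucc_le_succ i)))
    have hrel : (K i.castSucc).relIndex (K i.succ) = (H i.castSucc).relIndex (H i.succ) := by
      show (Subgroup.map _ _).relIndex (Subgroup.map _ _) = _
      rw [Subgroup.relIndex_map_map_of_injective _ _ (Subgroup.subtype_injective _), Subgroup.relIndex_comap,
        Subgroup.map_comap_eq_self_of_surjective (QuotientGroup.mk'_surjective _)]
    rcases hidx i with ⟨m, hm⟩ | hco
    · exact exists_stage_pPower hS hFT hD hle (hKE _) (hKn _) (hrel.trans hm)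
    · exact exists_stage_primeToP hS hFT hD hle (hKE _) (hKn _) (hrel ▸ hco)

/-- The bottom of the series lives over `T C_S(T)`. -/
lemma inducing_autGroup (hS : IsPGroup p S) (hE : E.IsNormalIn F p) :
    inducing S (E.autGroup T) = T ⊔ centralizerIn S T := by
  have hTS := hE.1.2.2.2.1.1
  haveI := finite_of_le hTS
  haveI := finite_mulAut hTS
  have hT := hS.to_le hTS
  refine le_antisymm (fun x hx => ?_) (sup_le (fun t ht => ⟨hTS ht, MulAut.conj ⟨t, ht⟩,
    inn_le_autGroup (F := E) le_rfl ⟨⟨t, ht⟩, rfl⟩, fun s => rfl⟩) (centralizerIn_le_inducing _))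
  obtain ⟨hxS, h, hh, hhx⟩ := hx
  obtain ⟨-, W, hW⟩ := fullyAutomized_of_fullyNormalized hT hE.1.1 (isFullyNormalized_self E)
  rw [autInducedBy_self] at hW
  have hhW : (⟨h, hh⟩ : E.autGroup T) ∈ (W : Subgroup (E.autGroup T)) := by
    have hX : IsPGroup p ((autInducedBy S T).subgroupOf (E.autGroup T)) :=
      (isPGroup_autInducedBy p hS T).of_injective
        ((E.autGroup T).subtype.subgroupComap (autInducedBy S T)) fun a b e =>
          Subtype.ext (Subtype.ext (congrArg Subtype.val e :))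
    have hWX : (W : Subgroup (E.autGroup T)) ≤ (autInducedBy S T).subgroupOf (E.autGroup T) :=
      hW.le.trans (Subgroup.comap_mono (inn_le_autInducedBy hTS))
    rw [← W.3 hX hWX]
    exact mem_autInducedBy.2 ⟨x, hxS, hhx⟩
  obtain ⟨t, ht⟩ := Subgroup.mem_subgroupOf.1 (hW.le hhW)
  have hc : (t : Ω)⁻¹ * x ∈ centralizerIn S T := ⟨S.mul_mem (S.inv_mem (hTS t.2)) hxS,
    Subgroup.mem_centralizer_iff.2 fun s hs => by
      have h1 : (t : Ω) * s * (t : Ω)⁻¹ = x * s * x⁻¹ :=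
        (congrArg (fun a : MulAut T => ((a ⟨s, hs⟩ : T) : Ω)) ht).trans (hhx ⟨s, hs⟩)
      calc s * ((t : Ω)⁻¹ * x) = (t : Ω)⁻¹ * ((t : Ω) * s * (t : Ω)⁻¹) * x := by group
        _ = (t : Ω)⁻¹ * (x * s * x⁻¹) * x := by rw [h1]
        _ = (t : Ω)⁻¹ * x * s := by group⟩
  have h2 := Subgroup.mul_mem_sup t.2 hc
  rwa [mul_inv_cancel_left] at h2

/-- The envelope. -/
theorem exists_envelope (hS : IsPGroup p S) (hE : E.IsNormalIn F p)
    [((E.autGroup T).subgroupOf (F.autGroup T)).Normal]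
    (hsolv : Cfsg.IsPSolvable p (↥(F.autGroup T) ⧸ (E.autGroup T).subgroupOf (F.autGroup T))) :
    ∃ D : Cfsg.FusionSystem (T ⊔ centralizerIn S T), Stage p F E (E.autGroup T) D := by
  obtain ⟨R, D, hD⟩ := exists_stage_bottom hS hE hsolv
  obtain rfl : R = T ⊔ centralizerIn S T := hD.eqR.trans (inducing_autGroup hS hE)
  exact ⟨D, hD⟩

/-- With small centralizer, the envelope has hyperfocal subgroup inside `T`. -/
theorem hyperfocal_envelope_le (hS : IsPGroup p S) (hE : E.IsNormalIn F p)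
    (hCE : ∀ Y : Subgroup Ω, Y ≤ centralizerIn S T →
      (∀ C : Cfsg.FusionSystem (centralizerIn S Y), F.IsCentralizerSystem Y C → E.IsSubsystemOf C) → Y ≤ T)
    {D : Cfsg.FusionSystem (T ⊔ centralizerIn S T)} (hD : Stage p F E (E.autGroup T) D) :
    D.hyperfocalSubgroup p ≤ T := by
  have hTS := hE.1.2.2.2.1.1
  haveI := finite_of_le hTS
  obtain ⟨R, hRdef⟩ : ∃ R, R = T ⊔ centralizerIn S T := ⟨_, rfl⟩
  revert D
  rw [← hRdef]
  intro D hD
  have hTR : T ≤ R := hRdef ▸ le_sup_left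
  have hCR : centralizerIn S T ≤ R := hRdef ▸ le_sup_right
  have hRS : R ≤ S := hRdef ▸ sup_le hTS inf_le_left
  haveI := finite_of_le hRS
  have hRp := hS.to_le hRS
  have hDsat := hD.inner.1.2.1
  have hTsc := hD.inner.1.2.2.2.1
  have hDF := hD.normal.1.2.2.1
  have hC := isCentralizerSystem_centralizerSystem F hTS
  have hfoc : (centralizerSystem F hTS).focalSubgroup ≤ T := by
    refine (focal_le_centralizer hS hE hC).trans (sSup_le ?_)
    rintro X ⟨hX, hXE⟩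
    exact hCE X hX fun C hC' P φ hφ => by rw [hC' P]; exact hXE P hφ
  have hn := le_normalizer_of_weaklyClosed_fusion (weaklyClosed_of_stronglyClosed hE.1.2.2.2.1)
  have hmove : ∀ β ∈ D.autGroup R, ∀ x : R, (x : Ω)⁻¹ * ((β x : R) : Ω) ∈ T := by
    intro β hβ
    obtain ⟨α, hα, hαβ⟩ := exists_restrict_aut hTsc hTR le_rfl hβ
    rw [hD.aut] at hα
    have key : ∀ c (hc : c ∈ centralizerIn S T), (c : Ω)⁻¹ * ((β ⟨c, hCR hc⟩ : R) : Ω) ∈ T := by
      obtain ⟨β', hβ', hag, hcc⟩ := hE.2 α hα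
      have hle : T ⊔ centralizerIn S T ≤ R := hRdef.ge
      haveI := finite_of_le (sup_le hTS inf_le_left : T ⊔ centralizerIn S T ≤ S)
      let γ₀ : MulAut ↥(T ⊔ centralizerIn S T) :=
        { toFun := fun x => ⟨(β ⟨x, hle x.2⟩ : R), hRdef.le (β _).2⟩
          invFun := fun x => ⟨(β⁻¹ ⟨x, hle x.2⟩ : R), hRdef.le (β⁻¹ _).2⟩
          left_inv := fun x => Subtype.ext (by simp)
          right_inv := fun x => Subtype.ext (by simp)
          map_mul' := fun x y => Subtype.ext (by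
            show ((β ⟨((x * y : ↥(T ⊔ centralizerIn S T)) : Ω), _⟩ : R) : Ω) = _
            rw [show (⟨((x * y : ↥(T ⊔ centralizerIn S T)) : Ω), hle (x * y).2⟩ : R) =
              ⟨x, hle x.2⟩ * ⟨y, hle y.2⟩ from rfl, map_mul]
            rfl) }
      have hV : T ⊔ centralizerIn S T ≤ S := sup_le hTS inf_le_left
      have hγ₀ : γ₀ ∈ F.autGroup (T ⊔ centralizerIn S T) :=
        (mem_autGroup hV).2 (restrict_of_eq (hDF R ((mem_autGroup le_rfl).1 hβ)) hle fun _ => rfl)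
      obtain ⟨γ, hγ⟩ : ∃ γ, γ = β'⁻¹ * γ₀ := ⟨_, rfl⟩
      have hγF : γ ∈ F.autGroup (T ⊔ centralizerIn S T) := hγ ▸ mul_mem (inv_mem hβ') hγ₀
      have hγT : ∀ t : T, ((γ ⟨t, Subgroup.mem_sup_left t.2⟩ : ↥(T ⊔ centralizerIn S T)) : Ω) = t := fun t => by
        have e1 : β' ⟨t, Subgroup.mem_sup_left t.2⟩ = γ₀ ⟨t, Subgroup.mem_sup_left t.2⟩ :=
          Subtype.ext ((hag t).trans (hαβ t).symm)
        rw [hγ, MulAut.mul_apply, ← e1, MulAut.inv_apply_self]
      intro c hc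
      obtain ⟨d, hd⟩ : ∃ d, d = γ ⟨c, Subgroup.mem_sup_right hc⟩ := ⟨_, rfl⟩
      have hγC : ∀ x : centralizerIn S T,
          ((γ ⟨x, Subgroup.mem_sup_right x.2⟩ : ↥(T ⊔ centralizerIn S T)) : Ω) ∈ centralizerIn S T := fun x =>
        ⟨hV (γ _).2, Subgroup.mem_centralizer_iff.2 fun t ht => by
          show ((⟨t, ht⟩ : T) : Ω) * _ = _ * ((⟨t, ht⟩ : T) : Ω)
          rw [← hγT ⟨t, ht⟩, ← Subgroup.coe_mul, ← Subgroup.coe_mul, ← map_mul, ← map_mul]
          exact congrArg Subtype.val (congrArg γ (Subtype.ext (Subgroup.mem_centralizer_iff.1 x.2.2 t ht)))⟩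
      have hd' : c⁻¹ * (d : Ω) ∈ (centralizerSystem F hTS).focalSubgroup := by
        refine Subgroup.subset_closure ⟨centralizerIn S T,
          ((T ⊔ centralizerIn S T).subtype.comp γ.toMonoidHom).comp (Subgroup.inclusion le_sup_right), ⟨c, hc⟩,
          ?_, hd ▸ rfl⟩
        rw [hC]
        have h1 := (mem_autGroup hV).1 hγF
        exact ⟨restrict h1 le_sup_right, le_rfl, hγC, _,
          restrict h1 (sup_le le_sup_right le_sup_left : centralizerIn S T ⊔ T ≤ T ⊔ centralizerIn S T),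
          fun x => rfl, fun t => hγT t⟩
      have hdC : (d : Ω) ∈ centralizerIn S T := hd ▸ hγC ⟨c, hc⟩
      have e1 : β' d = γ₀ ⟨c, Subgroup.mem_sup_right hc⟩ := by
        rw [hd, hγ, MulAut.mul_apply, MulAut.apply_inv_self]
      have h2 := T.mul_mem (hfoc hd') (hcc d hdC).1
      rw [e1] at h2
      have h3 : c⁻¹ * (d : Ω) * ((d : Ω)⁻¹ * ((γ₀ ⟨c, Subgroup.mem_sup_right hc⟩ : ↥(T ⊔ centralizerIn S T)) : Ω)) =
          c⁻¹ * ((γ₀ ⟨c, Subgroup.mem_sup_right hc⟩ : ↥(T ⊔ centralizerIn S T)) : Ω) := by group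
      rw [h3] at h2
      exact h2
    have hle2 : R ≤ ({
        carrier := {y | ∃ hy : y ∈ R, y⁻¹ * ((β ⟨y, hy⟩ : R) : Ω) ∈ T}
        one_mem' := ⟨R.one_mem, by
          rw [show (⟨1, R.one_mem⟩ : R) = 1 from rfl, map_one]; simp⟩
        mul_mem' := by
          rintro a b ⟨ha, ha'⟩ ⟨hb, hb'⟩
          refine ⟨R.mul_mem ha hb, ?_⟩
          rw [show (⟨a * b, R.mul_mem ha hb⟩ : R) = ⟨a, ha⟩ * ⟨b, hb⟩ from rfl, map_mul, Subgroup.coe_mul]
          have hbN : b ∈ Subgroup.normalizer (T : Set Ω) := hn (hRS hb)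
          have h1 := T.mul_mem (conj_inv_mem_of_normalizer hbN ha') hb'
          rw [show (a * b)⁻¹ * ((β ⟨a, ha⟩ : R) * (β ⟨b, hb⟩ : R) : Ω) =
            b⁻¹ * (a⁻¹ * (β ⟨a, ha⟩ : R)) * b * (b⁻¹ * (β ⟨b, hb⟩ : R)) by group]
          exact h1
        inv_mem' := by
          rintro a ⟨ha, ha'⟩
          refine ⟨R.inv_mem ha, ?_⟩
          rw [show (⟨a⁻¹, R.inv_mem ha⟩ : R) = ⟨a, ha⟩⁻¹ from rfl, map_inv, Subgroup.coe_inv]
          have h1 := T.inv_mem (conj_mem_of_normalizer (hn (hRS ha)) ha')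
          rw [show a⁻¹⁻¹ * ((β ⟨a, ha⟩ : R) : Ω)⁻¹ = (a * (a⁻¹ * (β ⟨a, ha⟩ : R)) * a⁻¹)⁻¹ by group]
          exact h1 } : Subgroup Ω) := by
      refine hRdef.le.trans (sup_le (fun t ht => ⟨hTR ht, T.mul_mem (T.inv_mem ht) ?_⟩) fun c hc => ⟨hCR hc, key c hc⟩)
      rw [hαβ ⟨t, ht⟩]
      exact (α _).2
    intro x
    obtain ⟨hy, h⟩ := hle2 x.2
    exact h
  obtain ⟨θ, hθdef⟩ : ∃ θ : R →* R ⧸ (T.subgroupOf R).normalCore, θ = QuotientGroup.mk' _ := ⟨_, rfl⟩
  have hker : ∀ s : R, θ s = 1 ↔ (s : Ω) ∈ T := fun s => by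
    haveI : (T.subgroupOf R).Normal := (Subgroup.normal_subgroupOf_iff_le_normalizer hTR).2 (hRS.trans hn)
    rw [hθdef, QuotientGroup.mk'_apply, QuotientGroup.eq_one_iff, Subgroup.normalCore_eq_self,
      Subgroup.mem_subgroupOf]
  obtain ⟨Q, hQdef⟩ : ∃ Q, Q = factorSystem D θ hker hTsc := ⟨_, rfl⟩
  have hQf : D.IsFactorSystem T θ Q := hQdef ▸ isFactorSystem_factorSystem hker hTsc
  have hQs := isSaturated_factor hRp hDsat hTsc hQf
  have hQp : IsPGroup p θ.range := hRp.of_surjective θ.rangeRestrict θ.rangeRestrict_surjective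
  haveI : Finite θ.range := Finite.of_surjective θ.rangeRestrict θ.rangeRestrict_surjective
  have hab : ∀ x ∈ θ.range, ∀ y ∈ θ.range, x * y = y * x := by
    rintro _ ⟨a, rfl⟩ _ ⟨b, rfl⟩
    rw [← map_mul, ← map_mul]
    have h1 := hmove (conjAut R R ⟨a, a.2, Subgroup.le_normalizer a.2⟩)
      (autInducedBy_le_autGroup le_rfl (range_conjAut (P := R) R ▸ ⟨_, rfl⟩)) b
    rw [conjAut_apply] at h1
    have h2 : θ (b⁻¹ * (a * b * a⁻¹)) = 1 := (hker _).2 h1
    rw [map_mul, map_mul, map_mul, map_inv, map_inv, inv_mul_eq_one] at h2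
    rw [map_mul, map_mul]
    exact (mul_inv_eq_iff_eq_mul.1 h2.symm)
  have hQid : ∀ a ∈ Q.autGroup θ.range, ∀ z, a z = z := by
    intro a ha z
    obtain ⟨ψ, hψ, hind⟩ := (isSurjectiveMorphism_factor hRp hDsat hTsc hQf).2.2 θ.range le_rfl _
      ((mem_autGroup le_rfl).1 ha)
    obtain ⟨s, hs⟩ := z.2
    have hpre : R ≤ preimageAlong θ θ.range := fun x hx => mem_preimageAlong.2 ⟨hx, ⟨_, rfl⟩⟩
    obtain ⟨τ, hτ⟩ : ∃ τ : R →* Ω, τ = ψ.comp (Subgroup.inclusion hpre) := ⟨_, rfl⟩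
    have hτm : τ ∈ D.Hom R := hτ ▸ restrict hψ hpre
    obtain ⟨β, hβ, hβτ⟩ := exists_mulAut_of_hom_self hτm
    have h1 : (s : Ω)⁻¹ * ψ ⟨s, hpre s.2⟩ ∈ T := by
      have := hmove β hβ s
      rwa [hβτ, hτ] at this
    refine Subtype.ext ?_
    rw [← hs]
    have h3 := induced_apply hind (hpre s.2) (val_mem hψ _) (x := z) hs
    refine (h3.trans ?_)
    have h4 := (hker (s⁻¹ * ⟨_, val_mem hψ ⟨s, hpre s.2⟩⟩)).2 h1
    rw [map_mul, map_inv, inv_mul_eq_one] at h4
    exact h4.symm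
  rw [FusionSystem.hyperfocalSubgroup, Subgroup.closure_le]
  rintro _ ⟨P, α, x, hP, -, rfl⟩
  have hφ := (mem_autGroup hP).1 α.2
  obtain ⟨φ', hφ', hind⟩ := (isSurjectiveMorphism_factor hRp hDsat hTsc hQf).1.2 P _ hφ
  obtain ⟨a, ha, hag⟩ := exists_aut_of_hom hQp hQs hab hφ'
  obtain ⟨hP', hv, hm, he⟩ := hind
  have h5 := (he x).symm.trans (hag ⟨_, hm x⟩).symm
  rw [hQid a ha] at h5
  have h6 : θ (⟨x, hP' x.2⟩⁻¹ * ⟨_, hv x⟩) = 1 := by
    rw [map_mul, map_inv, inv_mul_eq_one]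
    exact h5.symm
  exact (hker _).1 h6

/-- Residual limits of `E` and `F` agree. -/
theorem limit_eq_of_small_centralizer (hS : IsPGroup p S) (hE : E.IsNormalIn F p)
    (hCE : ∀ Y : Subgroup Ω, Y ≤ centralizerIn S T →
      (∀ C : Cfsg.FusionSystem (centralizerIn S Y), F.IsCentralizerSystem Y C → E.IsSubsystemOf C) → Y ≤ T)
    [((E.autGroup T).subgroupOf (F.autGroup T)).Normal]
    (hsolv : Cfsg.IsPSolvable p (↥(F.autGroup T) ⧸ (E.autGroup T).subgroupOf (F.autGroup T)))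
    {U V : Subgroup Ω} {Finf : Cfsg.FusionSystem U} (hFinf : Finf.IsResidualLimitOf F p)
    {Einf : Cfsg.FusionSystem V} (hEinf : Einf.IsResidualLimitOf E p) : ∀ P, Finf.Hom P = Einf.Hom P := by
  obtain ⟨D, hD⟩ := exists_envelope hS hE hsolv
  have hhyp := hyperfocal_envelope_le hS hE hCE hD
  have hTS := hE.1.2.2.2.1.1
  have hRS : T ⊔ centralizerIn S T ≤ S := sup_le hTS inf_le_left
  haveI := finite_of_le hRS
  haveI := finite_of_le hTS
  have hRp := hS.to_le hRS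
  obtain ⟨_, L, hL⟩ := exists_limit (p := p) _ D hRp hD.inner.1.2.1 le_rfl
  have hinv := hD.inner.1.2.2
  have hi : E.HasPPowerIndexIn D p := by
    refine ⟨hinv.1, hhyp, fun P hP => ?_⟩
    refine (Subgroup.map_subtype_le _).trans fun γ hγ => ?_
    obtain ⟨k, hk, e, he, hag⟩ := hinv.2.2.2 P hP _ ((mem_autGroup (hP.trans le_sup_left)).1 hγ)
    rw [hD.aut] at hk
    exact (mem_autGroup hP).2 (comp_of_eq he ((mem_autGroup le_rfl).1 hk) (val_mem he) fun x => hag x (val_mem he x))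
  intro P
  rw [hD.limit hFinf hL, limit_eq_of_pPowerIndex hRp hD.inner.1.2.1 le_sup_left hE.1.1 hi hL hEinf]

end CfsgLib.Fusion
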