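import Cfsg.Agent.Fusion.EnvelopeStep

/-!
The step through a quotient of `p`-power order.
-/

set_option autoImplicit false
set_option linter.style.haveILetI false

open Cfsg

namespace CfsgLib.Fusion

open Cfsg.FusionSystem

universe u

variable {Ω : Type u} [Group Ω] {S R R₀ R₁ T P : Subgroup Ω} {F : Cfsg.FusionSystem S} {E : Cfsg.FusionSystem T}
variable {p : ℕ} [Fact p.Prime]

/-- Stability of a `p`-power index subsystem under automorphisms from outside. -/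
theorem invariantCore_of_pPower_outer [Finite R₀] (hR₀ : IsPGroup p R₀) {D₀ : Cfsg.FusionSystem R₀} (hle : R₁ ≤ R₀)
    {D₁ : Cfsg.FusionSystem R₁} (hD₁ : D₁.IsSaturated p) (hi : D₁.HasPPowerIndexIn D₀ p)
    {A : Subgroup (MulAut R₀)} (hA : InvBy D₀ A) (B : Subgroup (MulAut R₁))
    (hB : ∀ b ∈ B, ∃ a ∈ A, ∀ x : R₁, ((b x : R₁) : Ω) = ((a ⟨x, hle x.2⟩ : R₀) : Ω)) :
    D₁ ≤ invariantCore D₁ B := by
  refine le_of_residual (F := D₀) hR₀ hle D₁ _ hD₁ hi.1 fun P hP => ?_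
  rw [Subgroup.map_le_iff_le_comap, Cfsg.pResidual, Subgroup.closure_le]
  intro γ hγ
  have hγE := (mem_autGroup hP).1 (hi.2.2 P hP ⟨γ, Subgroup.subset_closure hγ, rfl⟩)
  refine (mem_autGroup hP).2 ⟨hγE, fun b hb R hR hm => ?_⟩
  obtain ⟨a, ha, hab⟩ := hB b hb
  set σ : P →* Ω := R₁.subtype.comp ((b⁻¹ : MulAut R₁).toMonoidHom.comp (Subgroup.inclusion hP))
  have hσinj : Function.Injective σ := fun x y e =>
    Subgroup.inclusion_injective hP ((b⁻¹).injective (Subtype.ext e))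
  have hσT : σ.range ≤ R₁ := by rintro _ ⟨x, rfl⟩; exact (b⁻¹ _).2
  have hRσ : R ≤ σ.range := fun r hr => ⟨⟨_, hm ⟨r, hr⟩⟩, by
    show ((b⁻¹ (b ⟨r, hR hr⟩) : R₁) : Ω) = r
    rw [MulAut.inv_apply_self]⟩
  set e := isoOfHom hσinj (rfl : σ.range = σ.range)
  set γ' := MulAut.congr e (γ : MulAut P)
  have hmσ : ∀ z : σ.range, ((a ⟨z, hle (hσT z.2)⟩ : R₀) : Ω) ∈ P := by
    rintro ⟨_, x, rfl⟩
    rw [← hab ⟨σ x, hσT ⟨x, rfl⟩⟩]
    show ((b (b⁻¹ ⟨x, _⟩) : R₁) : Ω) ∈ P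
    rw [MulAut.apply_inv_self]
    exact x.2
  have hes : ∀ z : σ.range, e.symm z = ⟨_, hmσ z⟩ := fun z => by
    rw [MulEquiv.symm_apply_eq]
    refine Subtype.ext ?_
    show (z : Ω) = ((b⁻¹ ⟨((a ⟨z, hle (hσT z.2)⟩ : R₀) : Ω), _⟩ : R₁) : Ω)
    have e1 : (⟨((a ⟨z, hle (hσT z.2)⟩ : R₀) : Ω), hP (hmσ z)⟩ : R₁) = b ⟨z, hσT z.2⟩ :=
      Subtype.ext (hab ⟨z, hσT z.2⟩).symm
    exact ((congrArg (fun w : R₁ => ((b⁻¹ w : R₁) : Ω)) e1).trans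
      (congrArg Subtype.val (MulAut.inv_apply_self _ b ⟨(z : Ω), hσT z.2⟩))).symm
  have hγD₀ : P.subtype.comp (γ : MulAut P).toMonoidHom ∈ D₀.Hom P := (mem_autGroup (hP.trans hle)).1 γ.2
  have hγ'F : γ' ∈ D₀.autGroup σ.range := by
    refine (mem_autGroup (hσT.trans hle)).2
      (mem_of_eq (hA P _ hγD₀ a ha σ.range (hσT.trans hle) hmσ) fun z => ?_)
    show ((e ((γ : MulAut P) (e.symm z)) : σ.range) : Ω) = _
    rw [twist_apply, hes]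
    obtain ⟨w, hw⟩ : ∃ w : P, w = (γ : MulAut P) ⟨_, hmσ z⟩ := ⟨_, rfl⟩
    rw [← hw]
    have hbw : a ⟨((b⁻¹ ⟨w, hP w.2⟩ : R₁) : Ω), hle (b⁻¹ _).2⟩ = ⟨w, hle (hP w.2)⟩ := Subtype.ext (by
      rw [← hab, MulAut.apply_inv_self])
    have e2 : (⟨(P.subtype.comp (γ : MulAut P).toMonoidHom) ⟨_, hmσ z⟩, val_mem hγD₀ _⟩ : R₀) = ⟨w, hle (hP w.2)⟩ :=
      Subtype.ext (by rw [hw]; rfl)
    rw [e2, ← hbw, MulAut.inv_apply_self]
    rfl
  have hord : orderOf (⟨γ', hγ'F⟩ : D₀.autGroup σ.range) = orderOf γ := by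
    rw [← Subgroup.orderOf_coe]
    show orderOf ((MulAut.congr e).toMonoidHom (γ : MulAut P)) = _
    rw [orderOf_injective (MulAut.congr e).toMonoidHom (MulEquiv.injective _), Subgroup.orderOf_coe]
  have hγ'E := (mem_autGroup hσT).1 (hi.2.2 σ.range hσT
    ⟨⟨γ', hγ'F⟩, Subgroup.subset_closure (show Nat.Coprime _ p from hord ▸ hγ), rfl⟩)
  refine restrict_of_eq hγ'E hRσ fun r => ?_
  show _ = ((e ((γ : MulAut P) (e.symm ⟨r, hRσ r.2⟩)) : σ.range) : Ω)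
  rw [hes ⟨r, hRσ r.2⟩]
  rw [twist_apply]
  have e3 : (⟨((a ⟨(r : Ω), hle (hσT (hRσ r.2))⟩ : R₀) : Ω), hmσ ⟨r, hRσ r.2⟩⟩ : P) = ⟨_, hm r⟩ :=
    Subtype.ext (hab ⟨r, hR r.2⟩).symm
  rw [e3]
  rfl

/-- An element of order prime to `p` lies in a subgroup of `p`-power index. -/
lemma mem_of_relIndex_pow {M : Type*} [Group M] [Finite M] {H₀ H₁ : Subgroup M} [(H₁.subgroupOf H₀).Normal]
    {m : ℕ} (hidx : H₁.relIndex H₀ = p ^ m) {h : M} (hh : h ∈ H₀) (hco : (orderOf h).Coprime p) : h ∈ H₁ := by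
  have h1 : orderOf (QuotientGroup.mk' (H₁.subgroupOf H₀) ⟨h, hh⟩) ∣ Nat.gcd (orderOf h) (p ^ m) := by
    refine Nat.dvd_gcd ?_ ?_
    · rw [show orderOf h = orderOf (⟨h, hh⟩ : H₀) from (Subgroup.orderOf_mk h hh).symm]
      exact orderOf_map_dvd _ _
    · rw [← hidx]
      exact orderOf_dvd_natCard _
  rw [hco.pow_right m, Nat.dvd_one, orderOf_eq_one_iff] at h1
  exact Subgroup.mem_subgroupOf.1 ((QuotientGroup.eq_one_iff _).1 h1)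

/-- The step through a quotient of `p`-power order. -/
theorem exists_stage_pPower [Finite S] (hS : IsPGroup p S) (hFT : F.StronglyClosed T) {H₀ H₁ : Subgroup (MulAut T)}
    {D₀ : Cfsg.FusionSystem R₀} (h₀ : Stage p F E H₀ D₀) (hH₁ : H₁ ≤ H₀) (hEH : E.autGroup T ≤ H₁)
    (hnorm : ∀ α ∈ F.autGroup T, ∀ h ∈ H₁, α * h * α⁻¹ ∈ H₁) {m : ℕ} (hidx : H₁.relIndex H₀ = p ^ m) :
    ∃ (R₁ : Subgroup Ω) (D₁ : Cfsg.FusionSystem R₁), Stage p F E H₁ D₁ := by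
  have hR₀S := h₀.normal.1.2.2.2.1.1
  haveI := finite_of_le hR₀S
  have hR₀p := hS.to_le hR₀S
  have hD₀ := h₀.inner.1.2.1
  have hEinv := h₀.inner.1.2.2
  have hTsc₀ := hEinv.2.1
  have hTR₀ := hTsc₀.1
  have hTS := hTR₀.trans hR₀S
  haveI := finite_of_le hTS
  haveI := finite_mulAut hTS
  have hTp := hS.to_le hTS
  have hEs := h₀.inner.1.1
  have hFaut : ∀ h ∈ H₀, h ∈ F.autGroup T := fun h hh =>
    (mem_autGroup hTS).2 (h₀.normal.1.2.2.1 T ((mem_autGroup hTR₀).1 (h₀.aut.symm ▸ hh)))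
  haveI hnor : (H₁.subgroupOf H₀).Normal := ⟨fun c hc g => hnorm g (hFaut g g.2) c hc⟩
  have hres : (Cfsg.pResidual p (D₀.autGroup T)).map (D₀.autGroup T).subtype ≤ H₁ := by
    rw [Subgroup.map_le_iff_le_comap, Cfsg.pResidual, Subgroup.closure_le]
    intro c hc
    refine mem_of_relIndex_pow hidx (h := (c : MulAut T)) (h₀.aut ▸ c.2) ?_
    rw [Subgroup.orderOf_coe]; exact hc
  have hInn : Cfsg.Inn T ≤ H₁ := (inn_le_autGroup (F := E) le_rfl).trans hEH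
  obtain ⟨R₁, hR₁⟩ : ∃ R₁, R₁ = inducing S H₁ := ⟨_, rfl⟩
  have hR₁R₀ : R₁ ≤ R₀ := by
    intro x hx
    obtain ⟨hxS, h, hh, hhx⟩ := hR₁.le hx
    exact h₀.eqR.ge ⟨hxS, h, hH₁ hh, hhx⟩
  have hTR₁ : T ≤ R₁ := fun x hx => hR₁.ge ⟨hTS hx, MulAut.conj ⟨x, hx⟩, hInn ⟨⟨x, hx⟩, rfl⟩, fun t => rfl⟩
  have hcH : ∀ g (hg : g ∈ R₁), ∀ h : MulAut T, (∀ t : T, ((h t : T) : Ω) = g * (t : Ω) * g⁻¹) → h ∈ H₁ := by
    intro g hg h hh
    obtain ⟨-, h', hh', hh'x⟩ := hR₁.le hg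
    rwa [show h = h' from MulEquiv.ext fun t => Subtype.ext ((hh t).trans (hh'x t).symm)]
  have hhyp : D₀.hyperfocalSubgroup p ≤ R₁ := by
    intro x hx
    obtain ⟨α, hα, hax⟩ := hyperfocal_induces hR₀p hD₀ hTsc₀ x hx
    exact hR₁.ge ⟨hR₀S (hyperfocal_le_self D₀ hx), α, (sup_le hres hInn) hα, hax⟩
  have hn₀ := le_normalizer_of_weaklyClosed_fusion (weaklyClosed_of_stronglyClosed hTsc₀)
  have hR₁n : (R₁.subgroupOf R₀).Normal := by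
    refine ⟨fun x hx g => ?_⟩
    obtain ⟨-, h, hh, hhx⟩ := hR₁.le hx
    have hgF : conjAut T S ⟨g, hR₀S g.2, hn₀ g.2⟩ ∈ F.autGroup T :=
      autInducedBy_le_autGroup hTS (range_conjAut (P := T) S ▸ ⟨_, rfl⟩)
    refine hR₁.ge ⟨hR₀S (g * x * g⁻¹).2, _, hnorm _ hgF h hh, fun t => ?_⟩
    rw [MulAut.mul_apply, MulAut.mul_apply, ← map_inv, conjAut_apply, hhx, conjAut_apply]
    show (g : Ω) * ((x : Ω) * ((g : Ω)⁻¹ * t * ((g : Ω)⁻¹)⁻¹) * (x : Ω)⁻¹) * (g : Ω)⁻¹ =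
      ((g : Ω) * x * (g : Ω)⁻¹) * t * ((g : Ω) * x * (g : Ω)⁻¹)⁻¹
    group
  haveI := finite_of_le (hR₁R₀.trans hR₀S)
  obtain ⟨D₁, hD₁, hi⟩ := exists_pPowerIndex (p := p) (Nat.card R₀) hR₀p hD₀ hR₁R₀ hhyp le_rfl
  have hD₁n := isNormalIn_of_pPowerIndex hR₀p hD₀ hR₁R₀ hR₁n hhyp hD₁ hi
  have hED : E.IsSubsystemOf D₁ := normal_le_pPowerIndex hR₀p hEs hEinv.1 hTR₁ hTR₀ hi
  have hTsc₁ : D₁.StronglyClosed T := ⟨hTR₁, fun P hP φ hφ => hTsc₀.2 P hP φ (hi.1 P hφ)⟩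
  have hinvH : InvBy E H₁ := fun P φ hφ α hα => invBy_of_isInvariant hEinv P φ hφ α (h₀.aut.symm ▸ hH₁ hα)
  obtain ⟨G, hGdef⟩ : ∃ G, G = twistProduct E H₁ hinvH := ⟨_, rfl⟩
  have hGmem : ∀ (Q : Subgroup Ω) (ψ : Q →* Ω) (k : MulAut T), k ∈ H₁ → ∀ e ∈ E.Hom Q,
      (∀ (x : Q) (hx : e x ∈ T), ψ x = ((k ⟨e x, hx⟩ : T) : Ω)) → ψ ∈ G.Hom Q := fun Q ψ k hk e he h =>
    hGdef ▸ ⟨k, hk, e, he, h⟩
  have hn₁ := le_normalizer_of_weaklyClosed_fusion (weaklyClosed_of_stronglyClosed hTsc₁)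
  have hconj : ∀ g ∈ R₁, ∀ Q : Subgroup Ω, Q ≤ T → conjHom Q g ∈ G.Hom Q := fun g hg Q hQ =>
    hGmem Q _ (conjAut T R₁ ⟨g, hg, hn₁ hg⟩) (hcH g hg _ fun t => rfl) Q.subtype (subtype_mem hQ) fun x hx => rfl
  have hle : D₁ ≤ belowSystem D₁ G hTsc₁ hconj := by
    refine le_of_centricRadical (hS.to_le (hR₁R₀.trans hR₀S)) hD₁ _ fun Q hQn hQc hQr => ?_
    refine autGroup_le_of_residual (fullyAutomized_of_fullyNormalized (hS.to_le (hR₁R₀.trans hR₀S)) hD₁ hQn) ?_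
      (autInducedBy_le_autGroup hQn.1)
    rw [Subgroup.map_le_iff_le_comap, Cfsg.pResidual, Subgroup.closure_le]
    intro γ hγ
    have hQR₁ := hQn.1
    haveI := finite_of_le hQR₁
    haveI := finite_mulAut hQR₁
    have hUc : E.IsCentric (Q ⊓ T) := by
      by_contra hne
      exact (centric_meet_normal (hS.to_le (hR₁R₀.trans hR₀S)) hD₁ hED hTsc₁ hQc hne).2 hQr
    have hγ₁ := (mem_autGroup hQR₁).1 γ.2
    refine (mem_autGroup hQR₁).2 ⟨hγ₁, ?_⟩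
    have hγ₀ := hi.1 Q hγ₁
    have hUT : Q ⊓ T ≤ T := inf_le_right
    have hγT : ∀ x : ↥(Q ⊓ T), (((γ : MulAut Q) ⟨x, x.2.1⟩ : Q) : Ω) ∈ Q ⊓ T := fun x =>
      ⟨((γ : MulAut Q) _).2, hTsc₀.2 _ inf_le_right _ (restrict hγ₀ inf_le_left) x⟩
    obtain ⟨k, hk, e, he, hag⟩ := hEinv.2.2.2 _ hUT _ (restrict hγ₀ (inf_le_left : Q ⊓ T ≤ Q))
    have hrep : ∀ n : ℕ, ∃ f ∈ E.Hom (Q ⊓ T), ∀ (x : ↥(Q ⊓ T)) (hf : f x ∈ T),
        ((((γ : MulAut Q) ^ n) ⟨x, x.2.1⟩ : Q) : Ω) = (((k ^ n) ⟨f x, hf⟩ : T) : Ω) := by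
      intro n
      induction n with
      | zero => exact ⟨(Q ⊓ T).subtype, subtype_mem hUT, fun x hf => by simp⟩
      | succ n ihn =>
        obtain ⟨f, hf, hfv⟩ := ihn
        set α := k ^ n with hα
        have hr : f.range ≤ T := range_le hf
        have hpow : ∀ x : ↥(Q ⊓ T), ((((γ : MulAut Q) ^ n) ⟨x, x.2.1⟩ : Q) : Ω) ∈ Q ⊓ T := fun x =>
          ⟨(((γ : MulAut Q) ^ n) _).2, by rw [hfv x (val_mem hf x)]; exact ((k ^ n) _).2⟩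
        have hm : ∀ r : f.range, ((α ⟨r, hr r.2⟩ : T) : Ω) ∈ Q ⊓ T := by
          rintro ⟨_, x, rfl⟩
          rw [← hfv x (val_mem hf x)]
          exact hpow x
        refine ⟨_, E.comp_mem hf (invBy_of_isInvariant hEinv _ e he α (pow_mem hk n) f.range hr hm)
          (fun g => ⟨g, rfl⟩), fun x hx => ?_⟩
        rw [pow_succ' (γ : MulAut Q), MulAut.mul_apply, pow_succ', MulAut.mul_apply, ← hα]
        have h3 : (⟨_, hx⟩ : T) = α⁻¹ ⟨e ⟨_, hm ⟨f x, x, rfl⟩⟩, val_mem he _⟩ := Subtype.ext rfl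
        rw [h3, MulAut.apply_inv_self]
        refine Eq.trans ?_ (hag ⟨_, hm ⟨f x, x, rfl⟩⟩ (val_mem he _))
        exact congrArg (fun z : Q => (((γ : MulAut Q) z : Q) : Ω)) (Subtype.ext (hfv x (val_mem hf x)))
    have hk₀ : k ∈ H₀ := h₀.aut ▸ hk
    obtain ⟨kb, hkb⟩ : ∃ kb, kb = QuotientGroup.mk' (H₁.subgroupOf H₀) ⟨k, hk₀⟩ := ⟨_, rfl⟩
    obtain ⟨j, hj⟩ := exists_pow_eq_self_of_coprime (x := kb) (n := orderOf γ) (by
      obtain ⟨i, -, hi'⟩ := (Nat.dvd_prime_pow Fact.out).1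
        (show orderOf kb ∣ p ^ m by rw [← hidx]; exact orderOf_dvd_natCard kb)
      rw [hi']; exact (show Nat.Coprime (orderOf γ) p from hγ).pow_right i)
    obtain ⟨c, hc⟩ : ∃ c, c = orderOf γ * j := ⟨_, rfl⟩
    have hh : (k ^ c)⁻¹ * k ∈ H₁ := by
      have h1 : ((⟨k, hk₀⟩ : H₀) ^ c)⁻¹ * ⟨k, hk₀⟩ ∈ H₁.subgroupOf H₀ := by
        rw [← QuotientGroup.eq_one_iff, QuotientGroup.mk_mul, QuotientGroup.mk_inv, QuotientGroup.mk_pow,
          inv_mul_eq_one]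
        have h2 : kb ^ c = kb := by rw [hc, pow_mul]; exact hj
        rw [hkb] at h2
        exact h2
      exact h1
    obtain ⟨f, hf, hfv⟩ := hrep c
    have hγc : ∀ x : Q, ((γ : MulAut Q) ^ c) x = x := fun x => by
      rw [hc, pow_mul, ← Subgroup.coe_pow, pow_orderOf_eq_one, Subgroup.coe_one, one_pow]
      rfl
    obtain ⟨τ, hτ, -, hτ1, -⟩ := exists_inv hf (rfl : f.range = f.range)
    obtain ⟨χ, hχ⟩ : ∃ χ : ↥(Q ⊓ T) →* Ω, χ = T.subtype.comp (((k ^ c)⁻¹ * k).toMonoidHom.comp (e.codRestrict T (val_mem he))) :=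
      ⟨_, rfl⟩
    have hχG : χ ∈ G.Hom (Q ⊓ T) := hGmem _ χ _ hh e he fun x hx => by rw [hχ]; rfl
    have hχf : ∀ x : ↥(Q ⊓ T), χ x = f ⟨_, hγT x⟩ := fun x => by
      rw [hχ]
      show ((((k ^ c)⁻¹ * k) ⟨e x, val_mem he x⟩ : T) : Ω) = _
      rw [MulAut.mul_apply]
      have e1 : k ⟨e x, val_mem he x⟩ = (k ^ c) ⟨f ⟨_, hγT x⟩, val_mem hf _⟩ := Subtype.ext (by
        rw [← hag x (val_mem he x), ← hfv ⟨_, hγT x⟩ (val_mem hf _), hγc]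
        rfl)
      rw [e1, MulAut.inv_apply_self]
    refine comp_of_eq hχG (show τ ∈ G.Hom f.range from hGdef ▸ mem_twistProduct_of_mem hτ)
      (fun x => ⟨_, (hχf x).symm⟩) fun x => ?_
    exact ((congrArg τ (Subtype.ext (hχf x) : (⟨χ x, _⟩ : f.range) = ⟨f ⟨_, hγT x⟩, _, rfl⟩)).trans
      (hτ1 ⟨_, hγT x⟩ _)).symm
  refine ⟨R₁, D₁, stage_of hS hFT h₀ hH₁ hEH hR₁ hD₁ hD₁n.1.2.2 hnorm ?_ hED ?_ ?_ ?_⟩
  · intro a ha b hab P φ hφ Q hQ hm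
    obtain ⟨hφ', h⟩ := invariantCore_of_pPower_outer hR₀p hR₁R₀ hD₁ hi
      (invBy_of_isInvariant h₀.normal.1.2.2) (Subgroup.zpowers b) (fun b' hb' => by
        obtain ⟨i, rfl⟩ := Subgroup.mem_zpowers_iff.1 hb'
        refine ⟨a ^ i, zpow_mem ha i, ?_⟩
        have hnat : ∀ (i : ℕ) (x : R₁), (((b ^ i) x : R₁) : Ω) = (((a ^ i) ⟨x, hR₁R₀ x.2⟩ : R₀) : Ω) := by
          intro i
          induction i with
          | zero => exact fun x => rfl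
          | succ i ih =>
            intro x
            rw [pow_succ', MulAut.mul_apply, hab, pow_succ', MulAut.mul_apply]
            exact congrArg (fun z : R₀ => ((a z : R₀) : Ω)) (Subtype.ext (ih x))
        rcases i with i | i
        · intro x
          rw [Int.ofNat_eq_natCast, zpow_natCast, zpow_natCast]
          exact hnat i x
        · intro x
          rw [zpow_negSucc, zpow_negSucc]
          have h1 : (a ^ (i + 1)) ⟨(((b ^ (i + 1))⁻¹ x : R₁) : Ω), hR₁R₀ ((b ^ (i + 1))⁻¹ x).2⟩ = ⟨x, hR₁R₀ x.2⟩ :=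
            Subtype.ext (by rw [← hnat, MulAut.apply_inv_self])
          rw [← h1, MulAut.inv_apply_self]) P hφ
    exact h b (Subgroup.mem_zpowers b) Q hQ hm
  · intro P hP φ hφ
    have h1 : φ ∈ G.Hom P := hom_congr (hle P hφ).2 (inf_eq_left.2 hP) fun _ _ _ => rfl
    rw [hGdef] at h1
    exact h1
  · intro β hβ h hh hag
    have hC₁ : centralizerIn S T ≤ R₁ := hR₁ ▸ centralizerIn_le_inducing H₁
    have hc₀ := centralizerIn_eq_of_le hR₀S (hC₁.trans hR₁R₀)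
    have hVR₁ : (T ⊔ centralizerIn S T) ≤ R₁ := sup_le hTR₁ hC₁
    have hTV : T ≤ (T ⊔ centralizerIn S T) := le_sup_left
    have hVn : R₀ ≤ Subgroup.normalizer (((T ⊔ centralizerIn S T : Subgroup Ω)) : Set Ω) := by
      rw [← hc₀]; exact le_normalizer_sup_centralizer hTsc₀
    haveI := finite_of_le hVR₁
    have hVfn : D₀.IsFullyNormalized (T ⊔ centralizerIn S T) := ⟨hVR₁.trans hR₁R₀, fun Q hQ => by
      haveI := finite_normalizerIn (S := R₀) (T ⊔ centralizerIn S T)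
      exact Subgroup.card_le_of_le (le_inf inf_le_left (inf_le_left.trans hVn))⟩
    obtain ⟨-, W, hW⟩ := fullyAutomized_of_fullyNormalized hR₀p hD₀ hVfn
    haveI := finite_mulAut (hVR₁.trans hR₁R₀)
    haveI : (Cfsg.pResidual p (D₀.autGroup (T ⊔ centralizerIn S T))).Normal := CfsgLib.Transfer.pResidual_normal
    obtain ⟨c, hc, w, hw, hcw⟩ := Subgroup.mem_sup_of_normal_left.mp
      (show (⟨β, hβ⟩ : D₀.autGroup (T ⊔ centralizerIn S T)) ∈ Cfsg.pResidual p (D₀.autGroup (T ⊔ centralizerIn S T)) ⊔ (W : Subgroup (D₀.autGroup (T ⊔ centralizerIn S T))) by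
        rw [CfsgLib.Transfer.pResidual_sup_sylow W]; trivial)
    obtain ⟨s, hs, hsx⟩ := mem_autInducedBy.1 (Subgroup.mem_subgroupOf.1 (hW.le hw))
    have hcD₁ : (c : MulAut ↥(T ⊔ centralizerIn S T)) ∈ D₁.autGroup (T ⊔ centralizerIn S T) := hi.2.2 (T ⊔ centralizerIn S T) hVR₁ ⟨c, hc, rfl⟩
    obtain ⟨h', hh', hh'c⟩ := exists_restrict_aut hTsc₁ hTV hVR₁ hcD₁
    have hh'H : h' ∈ H₁ := by
      obtain ⟨k, hk, e, he, hke⟩ : ∃ k ∈ H₁, ∃ e ∈ E.Hom T, ∀ (x : T) (hx : e x ∈ T),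
          ((h' x : T) : Ω) = ((k ⟨e x, hx⟩ : T) : Ω) := by
        have h1 : T.subtype.comp h'.toMonoidHom ∈ G.Hom T :=
          hom_congr (hle T ((mem_autGroup hTR₁).1 hh')).2 (inf_eq_left.2 le_rfl) fun _ _ _ => rfl
        rw [hGdef] at h1
        exact h1
      have hbij : Function.Bijective (e.codRestrict T (val_mem he)) :=
        Finite.injective_iff_bijective.1 fun x y h => E.injective_of_mem he (congrArg Subtype.val h :)
      obtain ⟨ε, hε⟩ : ∃ ε : MulAut T, ∀ x, ((ε x : T) : Ω) = e x := ⟨MulEquiv.ofBijective _ hbij, fun _ => rfl⟩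
      rw [show h' = k * ε from MulEquiv.ext fun x => Subtype.ext ((hke x (val_mem he x)).trans
        (congrArg (fun z : T => ((k z : T) : Ω)) (Subtype.ext (hε x).symm)))]
      exact H₁.mul_mem hk (hEH ((mem_autGroup le_rfl).2 (mem_of_eq he hε)))
    have hβw : ∀ x : ↥(T ⊔ centralizerIn S T), β x = (c : MulAut ↥(T ⊔ centralizerIn S T)) ((w : MulAut ↥(T ⊔ centralizerIn S T)) x) := fun x => by
      rw [← show (c : MulAut ↥(T ⊔ centralizerIn S T)) * w = β from congrArg Subtype.val hcw]; rfl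
    have hsR₁ : s ∈ R₁ := hR₁.ge ⟨hR₀S hs, h'⁻¹ * h, H₁.mul_mem (H₁.inv_mem hh'H) hh, fun t => by
      obtain ⟨u, hu⟩ : ∃ u : T, u = h'⁻¹ (h t) := ⟨_, rfl⟩
      rw [MulAut.mul_apply, ← hu, ← hsx ⟨t, hTV t.2⟩]
      have h3 : h' u = h t := by rw [hu, MulAut.apply_inv_self]
      have h4 : (c : MulAut ↥(T ⊔ centralizerIn S T)) ⟨u, hTV u.2⟩ = (c : MulAut ↥(T ⊔ centralizerIn S T)) ((w : MulAut ↥(T ⊔ centralizerIn S T)) ⟨t, hTV t.2⟩) := Subtype.ext (by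
        rw [hh'c, h3, ← hag, hβw])
      exact congrArg Subtype.val ((c : MulAut ↥(T ⊔ centralizerIn S T)).injective h4)⟩
    have hwD₁ : (w : MulAut ↥(T ⊔ centralizerIn S T)) ∈ D₁.autGroup (T ⊔ centralizerIn S T) := autInducedBy_le_autGroup hVR₁ (mem_autInducedBy.2 ⟨s, hsR₁, hsx⟩)
    rw [show β = (c : MulAut ↥(T ⊔ centralizerIn S T)) * w from (congrArg Subtype.val hcw).symm]
    exact mul_mem hcD₁ hwD₁
  · intro U V L L' hL hL' Q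
    exact limit_eq_of_pPowerIndex hR₀p hD₀ hR₁R₀ hD₁ hi hL hL' Q

end CfsgLib.Fusion
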