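import Cfsg.Agent.Fusion.ResidualNormal

/-!
Pairs of elements of `C_S(T)` joined by a map fixing `T`, and how elements of `T` act on them.
-/

set_option autoImplicit false
set_option linter.style.haveILetI false

open Cfsg

namespace CfsgLib.Fusion

open Cfsg.FusionSystem

variable {Ω : Type*} [Group Ω] {S T : Subgroup Ω} {F : Cfsg.FusionSystem S}
variable {P Q R U : Subgroup Ω}

lemma sup_map_mem {A B K : Subgroup Ω} (ψ : ↥(A ⊔ B) →* Ω)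
    (hA : ∀ a (ha : a ∈ A), ψ ⟨a, Subgroup.mem_sup_left ha⟩ ∈ K)
    (hB : ∀ b (hb : b ∈ B), ψ ⟨b, Subgroup.mem_sup_right hb⟩ ∈ K) (x : ↥(A ⊔ B)) : ψ x ∈ K := by
  have hle : A ⊔ B ≤ (K.comap ψ).map (A ⊔ B).subtype :=
    sup_le (fun a ha => ⟨⟨a, Subgroup.mem_sup_left ha⟩, hA a ha, rfl⟩)
      (fun b hb => ⟨⟨b, Subgroup.mem_sup_right hb⟩, hB b hb, rfl⟩)
  obtain ⟨y, hy, e⟩ := hle x.2
  obtain rfl : y = x := Subtype.ext e
  exact hy

lemma sup_zpowers_map_mem {A K : Subgroup Ω} {x : Ω} (ψ : ↥(A ⊔ Subgroup.zpowers x) →* Ω)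
    (hA : ∀ a (ha : a ∈ A), ψ ⟨a, Subgroup.mem_sup_left ha⟩ ∈ K)
    (hx : ψ ⟨x, Subgroup.mem_sup_right (Subgroup.mem_zpowers x)⟩ ∈ K)
    (z : ↥(A ⊔ Subgroup.zpowers x)) : ψ z ∈ K := by
  refine sup_map_mem ψ hA ?_ z
  rintro b ⟨k, rfl⟩
  have := K.zpow_mem hx k
  rw [← map_zpow] at this
  exact this

/-- Displacements by a homomorphism lie in a normalized subgroup as soon as they do on generators. -/
lemma disp_mem {A : Subgroup Ω} {x : Ω} (σ : ↥(A ⊔ Subgroup.zpowers x) →* Ω)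
    (hN : A ⊔ Subgroup.zpowers x ≤ Subgroup.normalizer (R : Set Ω))
    (hA : ∀ a (ha : a ∈ A), a⁻¹ * σ ⟨a, Subgroup.mem_sup_left ha⟩ ∈ R)
    (hx : x⁻¹ * σ ⟨x, Subgroup.mem_sup_right (Subgroup.mem_zpowers x)⟩ ∈ R)
    (z : ↥(A ⊔ Subgroup.zpowers x)) : (z : Ω)⁻¹ * σ z ∈ R := by
  let K : Subgroup ↥(A ⊔ Subgroup.zpowers x) :=
    { carrier := {u | (u : Ω)⁻¹ * σ u ∈ R}
      one_mem' := by simp
      mul_mem' := by
        intro u v hu hv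
        show ((u : Ω) * v)⁻¹ * σ (u * v) ∈ R
        rw [map_mul, show ((u : Ω) * v)⁻¹ * (σ u * σ v) =
          ((v : Ω)⁻¹ * ((u : Ω)⁻¹ * σ u) * v) * ((v : Ω)⁻¹ * σ v) by group]
        exact R.mul_mem (conj_inv_mem_of_normalizer (hN v.2) hu) hv
      inv_mem' := by
        intro u hu
        show ((u : Ω)⁻¹)⁻¹ * σ u⁻¹ ∈ R
        rw [map_inv, show ((u : Ω)⁻¹)⁻¹ * (σ u)⁻¹ = (u : Ω) * ((u : Ω)⁻¹ * σ u)⁻¹ * (u : Ω)⁻¹ by group]
        exact conj_mem_of_normalizer (hN u.2) (R.inv_mem hu) }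
  have hle : A ⊔ Subgroup.zpowers x ≤ K.map (A ⊔ Subgroup.zpowers x).subtype := by
    refine sup_le (fun a ha => ⟨⟨a, Subgroup.mem_sup_left ha⟩, hA a ha, rfl⟩) ?_
    rw [Subgroup.zpowers_le]
    exact ⟨⟨x, Subgroup.mem_sup_right (Subgroup.mem_zpowers x)⟩, hx, rfl⟩
  obtain ⟨y, hy, e⟩ := hle z.2
  obtain rfl : y = z := Subtype.ext e
  exact hy

/-- `x` and `y` lie in `C_S(T)` and some map fixing `T` sends `x` to `y`. -/
def FixPair (F : Cfsg.FusionSystem S) (T : Subgroup Ω) (x y : Ω) : Prop :=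
  x ∈ centralizerIn S T ∧ y ∈ centralizerIn S T ∧ ∃ η ∈ F.Hom (T ⊔ Subgroup.zpowers x),
    (∀ t : T, η ⟨t, Subgroup.mem_sup_left t.2⟩ = t) ∧
      η ⟨x, Subgroup.mem_sup_right (Subgroup.mem_zpowers x)⟩ = y

/-- The automorphisms of `U` acting on `R` as a power of `t` and trivially modulo `R`. -/
def layerStab (U R : Subgroup Ω) (t : Ω) (ht : t ∈ Subgroup.normalizer (R : Set Ω)) :
    Subgroup (MulAut U) where
  carrier := {σ | (∃ k : ℤ, ∀ q : U, (q : Ω) ∈ R → ((σ q : U) : Ω) = t ^ k * q * (t ^ k)⁻¹) ∧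
    ∀ u : U, (u : Ω)⁻¹ * ((σ u : U) : Ω) ∈ R}
  one_mem' := ⟨⟨0, fun q _ => by simp⟩, fun u => by simp⟩
  mul_mem' := by
    rintro σ τ ⟨⟨k, hk⟩, hσ⟩ ⟨⟨l, hl⟩, hτ⟩
    refine ⟨⟨k + l, fun q hq => ?_⟩, fun u => ?_⟩
    · have h1 : ((τ q : U) : Ω) ∈ R := by
        rw [hl q hq]
        exact conj_mem_of_normalizer (Subgroup.zpow_mem _ ht l) hq
      rw [MulAut.mul_apply, hk _ h1, hl q hq, zpow_add]
      group
    · rw [MulAut.mul_apply, show (u : Ω)⁻¹ * ((σ (τ u) : U) : Ω) =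
        ((u : Ω)⁻¹ * ((τ u : U) : Ω)) * (((τ u : U) : Ω)⁻¹ * ((σ (τ u) : U) : Ω)) by group]
      exact R.mul_mem (hτ u) (hσ _)
  inv_mem' := by
    rintro σ ⟨⟨k, hk⟩, hσ⟩
    have hR : ∀ q : U, (q : Ω) ∈ R → ((σ⁻¹ q : U) : Ω) ∈ R := by
      intro q hq
      have h1 := hσ (σ⁻¹ q)
      rw [MulAut.apply_inv_self] at h1
      have h2 := R.mul_mem hq (R.inv_mem h1)
      simpa using h2
    refine ⟨⟨-k, fun q hq => ?_⟩, fun u => ?_⟩
    · have h1 := hk _ (hR q hq)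
      rw [MulAut.apply_inv_self] at h1
      rw [h1, zpow_neg]
      group
    · have h1 := hσ (σ⁻¹ u)
      rw [MulAut.apply_inv_self] at h1
      have h2 := R.inv_mem h1
      rwa [mul_inv_rev, inv_inv] at h2

variable {p : ℕ}

lemma isPGroup_layerStab [Finite S] [Fact p.Prime] (hS : IsPGroup p S) (hR : R ≤ S) {t : Ω}
    (htS : t ∈ S) (ht : t ∈ Subgroup.normalizer (R : Set Ω)) : IsPGroup p (layerStab U R t ht) := by
  rintro ⟨σ, ⟨k, hk⟩, hσ⟩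
  obtain ⟨a, ha⟩ := hS ⟨t, htS⟩
  obtain ⟨b, hb⟩ := hS.exists_card_eq
  refine ⟨a + b, Subtype.ext ?_⟩
  show σ ^ p ^ (a + b) = 1
  have hpow : ∀ (n : ℕ) (q : U), (q : Ω) ∈ R → (((σ ^ n) q : U) : Ω) = (t ^ k) ^ n * q * ((t ^ k) ^ n)⁻¹ := by
    intro n
    induction n with
    | zero => intro q _; simp
    | succ n ih =>
      intro q hq
      have h1 : (((σ ^ n) q : U) : Ω) ∈ R := by
        rw [ih q hq]
        exact conj_mem_of_normalizer (Subgroup.pow_mem _ (Subgroup.zpow_mem _ ht k) n) hq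
      rw [pow_succ', MulAut.mul_apply, hk _ h1, ih q hq, pow_succ']
      group
  have hfix : ∀ q : U, (q : Ω) ∈ R → (σ ^ p ^ a) q = q := by
    intro q hq
    have h0 : t ^ p ^ a = 1 := congrArg Subtype.val ha
    have h1 : (t ^ k) ^ p ^ a = 1 := by
      rw [← zpow_natCast (t ^ k), ← zpow_mul, mul_comm, zpow_mul, zpow_natCast, h0, one_zpow]
    refine Subtype.ext ?_
    rw [hpow _ q hq, h1]
    simp
  have hdisp : ∀ (n : ℕ) (u : U), (u : Ω)⁻¹ * (((σ ^ n) u : U) : Ω) ∈ R := by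
    intro n
    induction n with
    | zero => intro u; simp
    | succ n ih =>
      intro u
      rw [pow_succ', MulAut.mul_apply, show (u : Ω)⁻¹ * ((σ ((σ ^ n) u) : U) : Ω) =
        ((u : Ω)⁻¹ * (((σ ^ n) u : U) : Ω)) * ((((σ ^ n) u : U) : Ω)⁻¹ * ((σ ((σ ^ n) u) : U) : Ω)) by group]
      exact R.mul_mem (ih u) (hσ _)
  obtain ⟨τ, hτdef⟩ : ∃ τ, τ = σ ^ p ^ a := ⟨_, rfl⟩
  rw [pow_add, pow_mul, ← hτdef]
  refine MulEquiv.ext fun u => ?_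
  obtain ⟨d, hd⟩ : ∃ d : U, d = u⁻¹ * τ u := ⟨_, rfl⟩
  have hdR : (d : Ω) ∈ R := by
    rw [hd, hτdef]
    exact hdisp _ u
  have hit : ∀ n, (τ ^ n) u = u * d ^ n := by
    intro n
    induction n with
    | zero => simp
    | succ n ih =>
      rw [pow_succ', MulAut.mul_apply, ih, map_mul, map_pow, hτdef, hfix d hdR, ← hτdef, pow_succ' d, ← mul_assoc,
        hd, mul_inv_cancel_left]
  rw [hit, MulAut.one_apply]
  have hd1 : (d : Ω) ^ p ^ b = 1 := by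
    have h1 := pow_card_eq_one' (x := (⟨d, hR hdR⟩ : S))
    rw [hb] at h1
    exact congrArg Subtype.val h1
  rw [show d ^ p ^ b = 1 from Subtype.ext (by simpa using hd1), mul_one]

/-- An element of a strongly closed subgroup is carried into it by extensions. -/
lemma exists_conj_in_closed {U' : Subgroup Ω} (hT : F.StronglyClosed T) {e : U ≃* U'} (he : IsoIn F e)
    (hr : F.IsReceptive U') {t : Ω} (ht : t ∈ T) (htU : t ∈ Subgroup.normalizer (U : Set Ω)) {s : Ω}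
    (hs : s ∈ S) (hst : ∀ u : U, ((e ⟨t * u * t⁻¹, conj_mem_of_normalizer htU u.2⟩ : U') : Ω) = s * e u * s⁻¹) :
    ∃ t' ∈ T, ∀ u : U, ((e ⟨t * u * t⁻¹, conj_mem_of_normalizer htU u.2⟩ : U') : Ω) = t' * e u * t'⁻¹ := by
  obtain ⟨ψ, hψ, hag⟩ := hr.2 U _ he (IsoIn.range_eq e)
  have htx : t ∈ extender S U (U'.subtype.comp e.toMonoidHom) :=
    Subgroup.subset_closure ⟨hT.1 ht, htU, s, hs, fun x _ => hst x⟩
  refine ⟨ψ ⟨t, htx⟩, ?_, fun u => ?_⟩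
  · have h1 := restrict hψ ((Subgroup.zpowers_le (g := t)).2 htx)
    exact hT.2 _ ((Subgroup.zpowers_le (g := t)).2 ht) _ h1 ⟨t, Subgroup.mem_zpowers t⟩
  · have hUx : U ≤ extender S U (U'.subtype.comp e.toMonoidHom) := le_extender he
    have h1 := hag u u.2 (hUx u.2)
    have h2 := hag (t * u * t⁻¹) (conj_mem_of_normalizer htU u.2) (hUx (conj_mem_of_normalizer htU u.2))
    rw [show ((e u : U') : Ω) = ψ ⟨u, hUx u.2⟩ from h1.symm, ← map_inv, ← map_mul, ← map_mul]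
    exact h2.symm

variable [Finite S] [Fact p.Prime]

/-- Elements of `T` normalizing a subgroup `R` with `C_T(R) ≤ R` act alike on conjugates under `C_F(R)`. -/
theorem comm_eq_of_fix (hS : IsPGroup p S) (hF : F.IsSaturated p) (hT : F.StronglyClosed T) (hRT : R ≤ T)
    (hc : ∀ R', F.IsConj R R' → centralizerIn T R' ≤ R') {t : Ω} (ht : t ∈ T)
    (htR : t ∈ Subgroup.normalizer (R : Set Ω)) {x y : Ω} (hx : x ∈ centralizerIn S R)
    (hy : y ∈ centralizerIn S R) {η : ↥(R ⊔ Subgroup.zpowers x) →* Ω}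
    (hη : η ∈ F.Hom (R ⊔ Subgroup.zpowers x)) (hηR : ∀ r : R, η ⟨r, Subgroup.mem_sup_left r.2⟩ = r)
    (hηx : η ⟨x, Subgroup.mem_sup_right (Subgroup.mem_zpowers x)⟩ = y) :
    t * y * t⁻¹ * y⁻¹ = t * x * t⁻¹ * x⁻¹ := by
  have hTS := hT.1
  have hRS := hRT.trans hTS
  have hTn := le_normalizer_of_weaklyClosed_fusion (weaklyClosed_of_stronglyClosed hT)
  have hcR : centralizerIn T R ≤ R := hc R (IsConj.refl hRS)
  have hN : ∀ {z : Ω}, z ∈ centralizerIn S R → R ⊔ Subgroup.zpowers z ≤ Subgroup.normalizer (R : Set Ω) :=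
    fun {z} hz => sup_le Subgroup.le_normalizer
      (Subgroup.zpowers_le.2 (centralizerIn_le_normalizerIn S R hz).2)
  have hcm : ∀ {s : Ω}, s ∈ T → s ∈ Subgroup.normalizer (R : Set Ω) → ∀ {z : Ω}, z ∈ centralizerIn S R →
      s * z * s⁻¹ * z⁻¹ ∈ R := by
    intro s hs hsR z hz
    refine hcR ⟨?_, Subgroup.mem_centralizer_iff.2 fun r hr => ?_⟩
    · have h1 := T.mul_mem hs (conj_mem_of_normalizer (hTn hz.1) (T.inv_mem hs))
      simpa [mul_assoc] using h1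
    · have hz1 := Subgroup.mem_centralizer_iff.1 hz.2
      have h3 : s⁻¹ * r * s ∈ R := conj_inv_mem_of_normalizer hsR hr
      calc r * (s * z * s⁻¹ * z⁻¹) = s * ((s⁻¹ * r * s) * z) * s⁻¹ * z⁻¹ := by group
        _ = s * (z * (s⁻¹ * r * s)) * s⁻¹ * z⁻¹ := by rw [hz1 _ h3]
        _ = s * z * s⁻¹ * (z⁻¹ * (z * r)) * z⁻¹ := by group
        _ = s * z * s⁻¹ * (z⁻¹ * (r * z)) * z⁻¹ := by rw [hz1 r hr]
        _ = s * z * s⁻¹ * z⁻¹ * r := by group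
  have hstab : ∀ {s : Ω}, s ∈ T → s ∈ Subgroup.normalizer (R : Set Ω) → ∀ {z : Ω}, z ∈ centralizerIn S R →
      ∀ u ∈ R ⊔ Subgroup.zpowers z, s * u * s⁻¹ ∈ R ⊔ Subgroup.zpowers z := by
    intro s hs hsR z hz u hu
    refine sup_zpowers_map_mem (conjHom (R ⊔ Subgroup.zpowers z) s) (fun a ha => ?_) ?_ ⟨u, hu⟩
    · exact Subgroup.mem_sup_left (conj_mem_of_normalizer hsR ha)
    · show s * z * s⁻¹ ∈ _
      rw [← inv_mul_cancel_right (s * z * s⁻¹) z]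
      exact Subgroup.mul_mem _ (Subgroup.mem_sup_left (hcm hs hsR hz)) (Subgroup.mem_sup_right (Subgroup.mem_zpowers z))
  have htn : ∀ {z : Ω}, z ∈ centralizerIn S R →
      t ∈ Subgroup.normalizer ((R ⊔ Subgroup.zpowers z : Subgroup Ω) : Set Ω) := by
    intro z hz
    refine Subgroup.mem_normalizer_iff.2 fun u => ⟨hstab ht htR hz u, fun h => ?_⟩
    have h1 := hstab (T.inv_mem ht) (inv_mem htR) hz _ h
    simpa [mul_assoc] using h1
  have hdisp : ∀ {z : Ω}, z ∈ centralizerIn S R → ∀ u : ↥(R ⊔ Subgroup.zpowers z),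
      (u : Ω)⁻¹ * (t * u * t⁻¹) ∈ R := by
    intro z hz u
    refine disp_mem (conjHom (R ⊔ Subgroup.zpowers z) t) (hN hz) (fun a ha => ?_) ?_ u
    · exact R.mul_mem (R.inv_mem ha) (conj_mem_of_normalizer htR ha)
    · show z⁻¹ * (t * z * t⁻¹) ∈ R
      have h1 := conj_inv_mem_of_normalizer (centralizerIn_le_normalizerIn S R hz).2 (hcm ht htR hz)
      simpa [mul_assoc] using h1
  obtain ⟨U₁, hU₁⟩ : ∃ U₁, U₁ = R ⊔ Subgroup.zpowers x := ⟨_, rfl⟩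
  obtain ⟨U₂, hU₂⟩ : ∃ U₂, U₂ = R ⊔ Subgroup.zpowers y := ⟨_, rfl⟩
  have hrange : η.range = U₂ := by
    rw [hU₂]
    refine le_antisymm ?_ (sup_le (fun r hr => ⟨_, hηR ⟨r, hr⟩⟩) (Subgroup.zpowers_le.2 ⟨_, hηx⟩))
    rintro _ ⟨u, rfl⟩
    refine sup_zpowers_map_mem η (fun a ha => ?_) ?_ u
    · rw [hηR ⟨a, ha⟩]; exact Subgroup.mem_sup_left ha
    · rw [hηx]; exact Subgroup.mem_sup_right (Subgroup.mem_zpowers y)
  subst hU₁
  have hyS : R ⊔ Subgroup.zpowers y ≤ S := sup_le hRS (Subgroup.zpowers_le.2 hy.1)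
  have hxS : R ⊔ Subgroup.zpowers x ≤ S := sup_le hRS (Subgroup.zpowers_le.2 hx.1)
  subst hU₂
  set e := isoOfHom (F.injective_of_mem hη) hrange with hedef
  have heR : ∀ r : R, ((e ⟨r, Subgroup.mem_sup_left r.2⟩ : ↥(R ⊔ Subgroup.zpowers y)) : Ω) = r := fun r => hηR r
  set b : MulAut ↥(R ⊔ Subgroup.zpowers y) :=
    conjAut (R ⊔ Subgroup.zpowers y) S ⟨t, hTS ht, htn hy⟩ with hb
  set a : MulAut ↥(R ⊔ Subgroup.zpowers y) :=
    MulAut.congr e (conjAut (R ⊔ Subgroup.zpowers x) S ⟨t, hTS ht, htn hx⟩) with ha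
  have hbF : b ∈ F.autGroup (R ⊔ Subgroup.zpowers y) := autInducedBy_le_autGroup hyS (by
    rw [← range_conjAut]; exact ⟨_, rfl⟩)
  have haF : a ∈ F.autGroup (R ⊔ Subgroup.zpowers y) := congr_mem_autGroup hη hrange
    (autInducedBy_le_autGroup hxS (by rw [← range_conjAut]; exact ⟨_, rfl⟩))
  have hbM : b ∈ layerStab (R ⊔ Subgroup.zpowers y) R t htR :=
    ⟨⟨1, fun q _ => by rw [zpow_one]; rfl⟩, fun u => hdisp hy u⟩
  have haM : a ∈ layerStab (R ⊔ Subgroup.zpowers y) R t htR := by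
    refine ⟨⟨1, fun q hq => ?_⟩, fun u => ?_⟩
    · have e1 : e.symm q = ⟨q, Subgroup.mem_sup_left hq⟩ := by
        rw [MulEquiv.symm_apply_eq]
        exact Subtype.ext (heR ⟨q, hq⟩).symm
      show ((e (conjAut (R ⊔ Subgroup.zpowers x) S ⟨t, _⟩ (e.symm q)) : ↥(R ⊔ Subgroup.zpowers y)) : Ω) = _
      rw [e1, zpow_one]
      exact heR ⟨t * q * t⁻¹, conj_mem_of_normalizer htR hq⟩
    · obtain ⟨v, rfl⟩ := e.surjective u
      show ((e v : ↥(R ⊔ Subgroup.zpowers y)) : Ω)⁻¹ *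
        ((e (conjAut (R ⊔ Subgroup.zpowers x) S ⟨t, _⟩ (e.symm (e v))) : ↥(R ⊔ Subgroup.zpowers y)) : Ω) ∈ R
      rw [MulEquiv.symm_apply_apply, ← Subgroup.coe_inv, ← map_inv, ← Subgroup.coe_mul, ← map_mul]
      have h1 : (v : Ω)⁻¹ * (t * v * t⁻¹) ∈ R := hdisp hx v
      rw [show v⁻¹ * conjAut (R ⊔ Subgroup.zpowers x) S ⟨t, hTS ht, htn hx⟩ v =
        ⟨(v : Ω)⁻¹ * (t * v * t⁻¹), Subgroup.mem_sup_left h1⟩ from Subtype.ext rfl, heR ⟨_, h1⟩]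
      exact h1
  -- move into a fully normalized conjugate
  obtain ⟨U', hconj, hn⟩ := exists_fullyNormalized (F := F) hyS
  obtain ⟨φ₁, hφ₁, hr⟩ := hconj
  set e₀ := isoOfHom (F.injective_of_mem hφ₁) hr
  have hfa := fullyAutomized_of_fullyNormalized hS hF hn
  have hrec := receptive_of_fullyNormalized hS hF hn
  set M := layerStab (R ⊔ Subgroup.zpowers y) R t htR ⊓ F.autGroup (R ⊔ Subgroup.zpowers y)
  have hMp : IsPGroup p M := (isPGroup_layerStab hS hRS (hTS ht) htR).to_le inf_le_left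
  obtain ⟨χ, hχ, hχM⟩ := exists_conj_le_autInducedBy p hfa (M.map (MulAut.congr e₀).toMonoidHom) (hMp.map _)
    (by rintro _ ⟨σ, hσ, rfl⟩; exact congr_mem_autGroup hφ₁ hr hσ.2)
  obtain ⟨e₂, he₂⟩ : ∃ e₂ : ↥(R ⊔ Subgroup.zpowers y) ≃* U', e₂ = e₀.trans χ := ⟨_, rfl⟩
  have he₂F : IsoIn F e₂ := by
    rw [he₂]; exact IsoIn.trans (isoIn_isoOfHom hφ₁ hr) (isoIn_aut hn.1 hχ)
  have hkey : ∀ σ ∈ M, ∃ s ∈ S, ∀ u, ((e₂ (σ u) : U') : Ω) = s * e₂ u * s⁻¹ := by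
    intro σ hσ
    obtain ⟨s, hs, hsx⟩ := mem_autInducedBy.1 (hχM _ ⟨σ, hσ, rfl⟩)
    refine ⟨s, hs, fun u => ?_⟩
    have h1 := hsx (χ (e₀ u))
    simp only [MulEquiv.coe_toMonoidHom, MulAut.mul_apply, MulAut.inv_apply_self] at h1
    rw [show MulAut.congr e₀ σ (e₀ u) = e₀ (σ u) by
      show e₀ (σ (e₀.symm (e₀ u))) = _
      rw [MulEquiv.symm_apply_apply]] at h1
    rw [he₂]
    exact h1
  obtain ⟨s, hs, hsb⟩ := hkey b ⟨hbM, hbF⟩
  obtain ⟨t₂, ht₂, hb'⟩ := exists_conj_in_closed hT he₂F hrec ht (htn hy) hs fun u => hsb u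
  obtain ⟨s', hs', hsa⟩ := hkey a ⟨haM, haF⟩
  obtain ⟨t₁, ht₁, ha'⟩ := exists_conj_in_closed hT (IsoIn.trans (isoIn_isoOfHom hη hrange) he₂F) hrec ht
    (htn hx) hs' fun u => by
      have h1 := hsa (e u)
      rw [show a (e u) = e (conjAut (R ⊔ Subgroup.zpowers x) S ⟨t, hTS ht, htn hx⟩ (e.symm (e u))) from rfl,
        MulEquiv.symm_apply_apply] at h1
      exact h1
  -- compare the two images of `t`
  set ρ : R →* Ω := (U'.subtype.comp e₂.toMonoidHom).comp (Subgroup.inclusion le_sup_left) with hρ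
  have hρF : ρ ∈ F.Hom R := restrict he₂F le_sup_left
  have hagree : ∀ r : R, t₁ * ρ r * t₁⁻¹ = t₂ * ρ r * t₂⁻¹ := by
    intro r
    have h1 := ha' ⟨r, Subgroup.mem_sup_left r.2⟩
    have h2 := hb' ⟨r, Subgroup.mem_sup_left r.2⟩
    simp only [MulEquiv.trans_apply] at h1
    have e1 : e ⟨r, Subgroup.mem_sup_left r.2⟩ = ⟨r, Subgroup.mem_sup_left r.2⟩ := Subtype.ext (heR r)
    have e2 : e ⟨t * r * t⁻¹, conj_mem_of_normalizer (htn hx) (Subgroup.mem_sup_left r.2)⟩ =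
        ⟨t * r * t⁻¹, conj_mem_of_normalizer (htn hy) (Subgroup.mem_sup_left r.2)⟩ :=
      Subtype.ext (heR ⟨t * r * t⁻¹, conj_mem_of_normalizer htR r.2⟩)
    rw [e1, e2] at h1
    exact h1.symm.trans h2
  have hd : t₂⁻¹ * t₁ ∈ ρ.range := by
    refine hc ρ.range ⟨ρ, hρF, rfl⟩ ⟨T.mul_mem (T.inv_mem ht₂) ht₁, Subgroup.mem_centralizer_iff.2 ?_⟩
    rintro _ ⟨r, rfl⟩
    have h1 := hagree r
    calc ρ r * (t₂⁻¹ * t₁) = t₂⁻¹ * (t₂ * ρ r * t₂⁻¹) * t₁ := by group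
      _ = t₂⁻¹ * (t₁ * ρ r * t₁⁻¹) * t₁ := by rw [h1]
      _ = t₂⁻¹ * t₁ * ρ r := by group
  obtain ⟨r₀, hr₀⟩ := hd
  obtain ⟨yy, hyy⟩ : ∃ yy : ↥(R ⊔ Subgroup.zpowers y), yy = ⟨y, Subgroup.mem_sup_right (Subgroup.mem_zpowers y)⟩ :=
    ⟨_, rfl⟩
  have hex : e ⟨x, Subgroup.mem_sup_right (Subgroup.mem_zpowers x)⟩ = yy := hyy ▸ Subtype.ext hηx
  have hcomm : ρ r₀ * ((e₂ yy : U') : Ω) = ((e₂ yy : U') : Ω) * ρ r₀ := by
    show ((e₂ _ : U') : Ω) * _ = _ * ((e₂ _ : U') : Ω)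
    rw [← Subgroup.coe_mul, ← Subgroup.coe_mul, ← map_mul, ← map_mul]
    refine congrArg (fun z => ((e₂ z : U') : Ω)) (Subtype.ext ?_)
    subst hyy
    exact Subgroup.mem_centralizer_iff.1 hy.2 _ r₀.2
  have h1 := ha' ⟨x, Subgroup.mem_sup_right (Subgroup.mem_zpowers x)⟩
  have h2 := hb' yy
  simp only [MulEquiv.trans_apply] at h1
  rw [hex] at h1
  have h3 : t₁ * ((e₂ yy : U') : Ω) * t₁⁻¹ = t₂ * ((e₂ yy : U') : Ω) * t₂⁻¹ := by
    rw [show t₁ = t₂ * ρ r₀ by rw [hr₀, mul_inv_cancel_left],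
      show t₂ * ρ r₀ * ((e₂ yy : U') : Ω) * (t₂ * ρ r₀)⁻¹ = t₂ * (ρ r₀ * ((e₂ yy : U') : Ω)) * (ρ r₀)⁻¹ * t₂⁻¹ by group,
      hcomm]
    group
  rw [h3, ← h2] at h1
  have h4 := congrArg Subtype.val (e₂.injective (Subtype.ext h1))
  subst hyy
  have hd' := hcm ht htR hx
  have h5 : η ⟨t * x * t⁻¹, conj_mem_of_normalizer (htn hx) (Subgroup.mem_sup_right (Subgroup.mem_zpowers x))⟩ =
      t * x * t⁻¹ * x⁻¹ * y := by
    rw [show (⟨t * x * t⁻¹, conj_mem_of_normalizer (htn hx) (Subgroup.mem_sup_right (Subgroup.mem_zpowers x))⟩ :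
        ↥(R ⊔ Subgroup.zpowers x)) =
      ⟨t * x * t⁻¹ * x⁻¹, Subgroup.mem_sup_left hd'⟩ * ⟨x, Subgroup.mem_sup_right (Subgroup.mem_zpowers x)⟩ from
        Subtype.ext (inv_mul_cancel_right _ _).symm, map_mul, hηx, hηR ⟨_, hd'⟩]
  have h6 : t * x * t⁻¹ * x⁻¹ * y = t * y * t⁻¹ := h5.symm.trans h4
  rw [← h6, mul_inv_cancel_right]

end CfsgLib.Fusion
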