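import Cfsg.Agent.Fusion.TwistProduct
import Cfsg.Agent.Fusion.SubsystemCentric

/-!
Invariant subsystems: twisting by `Aut_F(T)` and centric subgroups.
-/

set_option autoImplicit false
set_option linter.style.haveILetI false

open Cfsg

namespace CfsgLib.Fusion

open Cfsg.FusionSystem

variable {Ω : Type*} [Group Ω] {S T : Subgroup Ω} {F : Cfsg.FusionSystem S} {E : Cfsg.FusionSystem T}
variable {P R U : Subgroup Ω}

lemma invBy_of_isInvariant (hE : E.IsInvariantIn F) : InvBy E (F.autGroup T) := by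
  intro P φ hφ α hα R hR h
  obtain ⟨χ, hχ, hag⟩ := hE.2.2.1 P (le_of_hom hφ) φ hφ α⁻¹ (inv_mem hα)
  have hle : R ≤ (P.subgroupOf T).map (T.subtype.comp (α⁻¹ : MulAut T).toMonoidHom) := fun r hr =>
    ⟨α ⟨r, hR hr⟩, h ⟨r, hr⟩, by
      show ((α⁻¹ (α ⟨r, hR hr⟩) : T) : Ω) = r
      rw [MulAut.inv_apply_self]⟩
  refine restrict_of_eq hχ hle fun r => ?_
  rw [twist_apply]
  have e1 : (α⁻¹ ⟨((α ⟨(r : Ω), hR r.2⟩ : T) : Ω), le_of_hom hφ (h r)⟩ : T) = ⟨r, hR r.2⟩ := by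
    rw [show (⟨((α ⟨(r : Ω), hR r.2⟩ : T) : Ω), le_of_hom hφ (h r)⟩ : T) = α ⟨r, hR r.2⟩ from Subtype.ext rfl,
      MulAut.inv_apply_self]
  have h1 := hag ⟨_, h r⟩ (val_mem hφ _) (by rw [e1]; exact hle r.2)
  refine Eq.trans h1.symm (congrArg χ (Subtype.ext ?_))
  exact (congrArg Subtype.val e1 :)

/-- Maps of `F` carry centric subgroups of an invariant subsystem to centric subgroups. -/
lemma isCentric_of_fconj (hE : E.IsInvariantIn F) (hU : E.IsCentric U) {φ : U →* Ω} (hφ : φ ∈ F.Hom U) :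
    E.IsCentric φ.range := by
  obtain ⟨α, hα, φ₀, hφ₀, hag⟩ := hE.2.2.2 U hU.1 φ hφ
  have hU₀ : E.IsCentric φ₀.range := isCentric_of_conj hU ⟨φ₀, hφ₀, rfl⟩
  have hle : φ.range ≤ T := by
    rintro _ ⟨x, rfl⟩
    rw [hag x (val_mem hφ₀ x)]
    exact (α _).2
  refine ⟨hle, ?_⟩
  rintro _ ⟨ψ, hψ, rfl⟩
  have hm : ∀ r : φ₀.range, ((α ⟨r, hU₀.1 r.2⟩ : T) : Ω) ∈ φ.range := by
    rintro ⟨_, x, rfl⟩
    exact ⟨x, hag x _⟩
  have hθ := invBy_of_isInvariant hE φ.range ψ hψ α hα φ₀.range hU₀.1 hm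
  rintro y ⟨hyT, hy⟩
  have h1 : ((α⁻¹ ⟨y, hyT⟩ : T) : Ω) ∈ (twist hψ α hU₀.1 hm).range := by
    refine hU₀.2 _ ⟨_, hθ, rfl⟩ ⟨(α⁻¹ _).2, Subgroup.mem_centralizer_iff.2 ?_⟩
    rintro _ ⟨r, rfl⟩
    have h2 := Subgroup.mem_centralizer_iff.1 hy (ψ ⟨_, hm r⟩) ⟨_, rfl⟩
    have h3 : (⟨ψ ⟨_, hm r⟩, val_mem hψ _⟩ : T) * ⟨y, hyT⟩ = ⟨y, hyT⟩ * ⟨ψ ⟨_, hm r⟩, val_mem hψ _⟩ :=
      Subtype.ext h2
    have h4 := congrArg (fun z : T => ((α⁻¹ z : T) : Ω)) h3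
    simp only [map_mul, Subgroup.coe_mul] at h4
    exact h4
  obtain ⟨r, hr⟩ := h1
  rw [twist_apply] at hr
  have h5 := α⁻¹.injective (Subtype.ext hr : α⁻¹ ⟨ψ ⟨_, hm r⟩, val_mem hψ _⟩ = α⁻¹ ⟨y, hyT⟩)
  exact ⟨_, congrArg Subtype.val h5⟩

/-- An overgroup of a centric subgroup is centric. -/
lemma isCentric_of_le {D : Cfsg.FusionSystem T} (hR : D.IsCentric R) (hRP : R ≤ P) (hP : P ≤ T) :
    D.IsCentric P := by
  refine ⟨hP, ?_⟩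
  rintro _ ⟨φ, hφ, rfl⟩ y hy
  have h1 : y ∈ (φ.comp (Subgroup.inclusion hRP)).range := hR.2 _ ⟨_, restrict hφ hRP, rfl⟩
    ⟨hy.1, Subgroup.mem_centralizer_iff.2 (by
      rintro _ ⟨x, rfl⟩
      exact Subgroup.mem_centralizer_iff.1 hy.2 _ ⟨_, rfl⟩)⟩
  obtain ⟨x, hx⟩ := h1
  exact ⟨_, hx⟩

end CfsgLib.Fusion
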