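import Cfsg.Agent.Fusion.PrimeToPResidual
import Cfsg.Agent.Fusion.CentricClimb
import Cfsg.Agent.Fusion.InvariantTwist

/-!
The least subsystem of index prime to `p` of an invariant saturated subsystem lies in every invariant saturated
subsystem over the same subgroup.
-/

set_option autoImplicit false
set_option linter.style.haveILetI false

open Cfsg

namespace CfsgLib.Fusion

open Cfsg.FusionSystem

variable {Ω : Type*} [Group Ω] {S T : Subgroup Ω} {F : Cfsg.FusionSystem S} {E D' : Cfsg.FusionSystem T}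
variable {R : Subgroup Ω} {p : ℕ} [Fact p.Prime]

/-- A subgroup of `Aut_E(T)` containing `Inn(T)` has index prime to `p`. -/
lemma coprime_index_of_inn_le [Finite T] (hT : IsPGroup p T) (hE : E.IsSaturated p)
    (N : Subgroup (E.autGroup T)) (hN : (Cfsg.Inn T).subgroupOf (E.autGroup T) ≤ N) : N.index.Coprime p := by
  haveI := finite_mulAut (le_refl T)
  obtain ⟨-, V, hV⟩ := fullyAutomized_of_fullyNormalized hT hE (isFullyNormalized_self E)
  rw [autInducedBy_self] at hV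
  rw [Nat.coprime_comm]
  exact ((Fact.out : p.Prime).coprime_iff_not_dvd).2 fun h =>
    V.not_dvd_index (h.trans (Subgroup.index_dvd_of_le (hV ▸ hN)))

variable [Finite S] (hS : IsPGroup p S) (hE : E.IsWeaklyNormalIn F p) (hD' : D'.IsWeaklyNormalIn F p)

include hS hE hD'

lemma pElems_le_of_invariant (hR : R ≤ T) : pElems E p R ≤ D'.autGroup R := by
  have hTS : T ≤ S := hE.2.2.2.1.1
  haveI := finite_of_le hTS
  have hT : IsPGroup p T := hS.to_le hTS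
  rw [Subgroup.map_le_iff_le_comap, Subgroup.closure_le]
  rintro γ ⟨k, hk⟩
  show (γ : MulAut R) ∈ D'.autGroup R
  obtain ⟨Q, ⟨φ, hφ, hφQ⟩, ha, -⟩ := hE.1 R hR
  set e := isoOfHom (E.injective_of_mem hφ) hφQ
  have hγ' : MulAut.congr e (γ : MulAut R) ∈ E.autGroup Q := congr_mem_autGroup hφ hφQ γ.2
  have hXp : IsPGroup p (Subgroup.zpowers (MulAut.congr e (γ : MulAut R))) := by
    refine IsPGroup.of_card (n := k) ?_
    rw [Nat.card_zpowers]
    show orderOf ((MulAut.congr e).toMonoidHom (γ : MulAut R)) = _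
    rw [orderOf_injective (MulAut.congr e).toMonoidHom (MulEquiv.injective _), Subgroup.orderOf_coe, hk]
  obtain ⟨χ, hχ, hχγ⟩ := exists_conj_le_autInducedBy p ha _ hXp (Subgroup.zpowers_le.2 hγ')
  obtain ⟨g, hg, hgx⟩ := mem_autInducedBy.1 (hχγ _ (Subgroup.mem_zpowers _))
  let φ' : R →* Ω := Q.subtype.comp ((χ : Q ≃* Q).toMonoidHom.comp e.toMonoidHom)
  have hφ' : φ' ∈ E.Hom R :=
    comp_of_eq hφ ((mem_autGroup ha.1).1 hχ) (mem_of_range_eq hφQ) fun _ => rfl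
  have hφ'γ : ∀ x : R, φ' ((γ : MulAut R) x) = g * φ' x * g⁻¹ := by
    intro x
    have h1 := hgx (χ (e x))
    have h2 : MulAut.congr e (γ : MulAut R) (e x) = e ((γ : MulAut R) x) := by
      show e ((γ : MulAut R) (e.symm (e x))) = _
      rw [MulEquiv.symm_apply_apply]
    simp only [MulAut.mul_apply, MulAut.inv_apply_self, h2] at h1
    exact h1
  obtain ⟨α, hα, φ₀, hφ₀, hag⟩ := hD'.2.2.2.2.2 R hR φ' (hE.2.2.1 R hφ')
  obtain ⟨ψ₀, hψ₀, -, h1, -⟩ := exists_inv hφ₀ (rfl : φ₀.range = φ₀.range)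
  have key : ∀ x : R,
      φ₀ ((γ : MulAut R) x) = ((α⁻¹ ⟨g, hg⟩ : T) : Ω) * φ₀ x * ((α⁻¹ ⟨g, hg⟩ : T) : Ω)⁻¹ := by
    intro x
    have h2 : α ⟨φ₀ ((γ : MulAut R) x), val_mem hφ₀ _⟩ =
        ⟨g, hg⟩ * α ⟨φ₀ x, val_mem hφ₀ x⟩ * ⟨g, hg⟩⁻¹ := by
      refine Subtype.ext ?_
      rw [← hag, hφ'γ, hag x (val_mem hφ₀ x)]
      rfl
    have h3 := congrArg (fun z : T => ((α⁻¹ z : T) : Ω)) h2
    simp only [map_mul, map_inv, MulAut.inv_apply_self, Subgroup.coe_mul, Subgroup.coe_inv] at h3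
    exact h3
  have hc : conjHom φ₀.range ((α⁻¹ ⟨g, hg⟩ : T) : Ω) ∈ D'.Hom φ₀.range :=
    D'.conj_mem (range_le hφ₀) (α⁻¹ _).2
  have hm : ∀ x : R, φ₀ x ∈ φ₀.range := fun x => ⟨x, rfl⟩
  have hm2 : ∀ y : φ₀.range, conjHom φ₀.range ((α⁻¹ ⟨g, hg⟩ : T) : Ω) y ∈ φ₀.range := by
    rintro ⟨_, x, rfl⟩
    exact ⟨_, key x⟩
  refine (mem_autGroup hR).2 (comp_of_eq hφ₀ (D'.comp_mem hc hψ₀ hm2) hm fun x => ?_)
  show (((γ : MulAut R) x : R) : Ω) = ψ₀ ⟨_, hm2 ⟨φ₀ x, hm x⟩⟩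
  refine (h1 ((γ : MulAut R) x) (hm _)).symm.trans (congrArg ψ₀ (Subtype.ext ?_))
  exact key x

theorem residual_le_of_invariant {D : Cfsg.FusionSystem T} (hD : E.IsPPrimeResidual p D) :
    D.IsSubsystemOf D' := by
  have hTS : T ≤ S := hE.2.2.2.1.1
  haveI := finite_of_le hTS
  haveI := finite_mulAut (le_refl T)
  have hT : IsPGroup p T := hS.to_le hTS
  have hgen : ∀ P, (pElemSystem E p {P | E.IsCentric P}).Hom P ⊆ D'.Hom P := by
    intro P φ hφ
    refine hφ.2 D' ?_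
    rintro R _ ⟨hR, γ, hγ, rfl⟩
    exact (mem_autGroup hR.1).1 (pElems_le_of_invariant hS hE hD' hR.1 ⟨γ, Subgroup.subset_closure hγ, rfl⟩)
  have hBF : E.autGroup T ≤ F.autGroup T := fun a ha =>
    (mem_autGroup hTS).2 (hE.2.2.1 T ((mem_autGroup le_rfl).1 ha))
  have hinv' := invBy_of_isInvariant hD'.2.2
  set N := (D'.autGroup T).subgroupOf (E.autGroup T)
  haveI : N.Normal := ⟨fun c hc b => by
    show (b : MulAut T) * (c : MulAut T) * (b : MulAut T)⁻¹ ∈ D'.autGroup T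
    have h := hinv' T _ ((mem_autGroup le_rfl).1 hc) ((b : MulAut T))⁻¹ (inv_mem (hBF b.2)) T le_rfl fun r =>
      (((b : MulAut T)⁻¹) _).2
    refine (mem_autGroup le_rfl).2 (mem_of_eq h fun r => ?_)
    rw [twist_apply, inv_inv]
    rfl⟩
  have hInn : (Cfsg.Inn T).subgroupOf (E.autGroup T) ≤ N := fun c hc => inn_le_autGroup (F := D') le_rfl hc
  have hbase : baseAut E p {P | E.IsCentric P} ≤ D'.autGroup T := by
    refine (Subgroup.closure_le _).2 fun α hα => ?_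
    obtain ⟨hαE, R, hR, hRT, hRD⟩ := hα
    have hR' : D'.IsCentric R := ⟨hRT, by
      rintro _ ⟨φ, hφ, rfl⟩
      exact (isCentric_of_fconj hE.2.2 hR (hD'.2.2.1 R hφ)).2 _ (IsConj.refl (range_le hφ))⟩
    have h := eq_one_of_restrict_mem hT hD'.1 (B := E.autGroup T) (fun P φ hφ a ha => hinv' P φ hφ a (hBF ha))
      (show (Nat.card (E.autGroup T ⧸ N)).Coprime p from coprime_index_of_inn_le hT hE.1 N hInn)
      (QuotientGroup.mk' N) (fun b hb => (QuotientGroup.eq_one_iff b).2 hb) hR' ⟨α, hαE⟩ (hgen R hRD)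
    exact (QuotientGroup.eq_one_iff (⟨α, hαE⟩ : E.autGroup T)).1 h
  intro P φ hφ
  rw [residual_hom_eq hT E hE.1 hD] at hφ
  obtain ⟨α, hα, φ₀, hφ₀, hag⟩ := hφ
  exact comp_of_eq (hgen P hφ₀) ((mem_autGroup le_rfl).1 (hbase hα)) (val_mem hφ₀) fun x => hag x _

end CfsgLib.Fusion
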