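import Cfsg.Agent.Fusion.GoodClimb
import Cfsg.Agent.Fusion.ResidualLeast

/-!
The least subsystem of index prime to `p` of a weakly normal subsystem is normal.
-/

set_option autoImplicit false
set_option linter.style.haveILetI false

open Cfsg

namespace CfsgLib.Fusion

open Cfsg.FusionSystem

variable {Ω : Type*} [Group Ω] {S T : Subgroup Ω} {F : Cfsg.FusionSystem S} {E : Cfsg.FusionSystem T}
variable {R : Subgroup Ω} {p : ℕ}

/-- The generated system of an invariant subsystem is stable under `Aut_F(T)`. -/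
lemma invBy_pElemSystem_invariant (hE : E.IsInvariantIn F) :
    InvBy (pElemSystem E p {P | E.IsCentric P}) (F.autGroup T) := by
  have hTS := hE.2.1.1
  set D := pElemSystem E p {P | E.IsCentric P}
  have hle : ∀ P, D.Hom P ⊆ (invariantCore D (F.autGroup T)).Hom P := by
    intro P φ hφ
    refine hφ.2 _ ?_
    rintro P _ ⟨hP, γ, ⟨k, hγ⟩, rfl⟩
    have hPT : P ≤ T := hP.1
    have hγE := (mem_autGroup hPT).1 γ.2
    have hγD : P.subtype.comp (γ : MulAut P).toMonoidHom ∈ D.Hom P :=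
      ⟨hγE, fun G hG => hG P ⟨hP, γ, ⟨k, hγ⟩, rfl⟩⟩
    refine ⟨hγD, fun α hα R hR hm => ?_⟩
    set σ : P →* Ω := T.subtype.comp ((α⁻¹ : MulAut T).toMonoidHom.comp (Subgroup.inclusion hPT))
    have hσ : σ ∈ F.Hom P := restrict_of_eq ((mem_autGroup hTS).1 (inv_mem hα)) hPT fun _ => rfl
    have hσT : σ.range ≤ T := by rintro _ ⟨x, rfl⟩; exact (α⁻¹ _).2
    have hRσ : R ≤ σ.range := fun r hr => ⟨⟨_, hm ⟨r, hr⟩⟩, by
      show ((α⁻¹ (α ⟨r, hR hr⟩) : T) : Ω) = r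
      rw [MulAut.inv_apply_self]⟩
    set e := isoOfHom (F.injective_of_mem hσ) (rfl : σ.range = σ.range)
    set γ' := MulAut.congr e (γ : MulAut P)
    have hmσ : ∀ z : σ.range, ((α ⟨z, hσT z.2⟩ : T) : Ω) ∈ P := by
      rintro ⟨_, x, rfl⟩
      show ((α (α⁻¹ ⟨x, _⟩) : T) : Ω) ∈ P
      rw [MulAut.apply_inv_self]
      exact x.2
    have hγ'E : γ' ∈ E.autGroup σ.range := by
      refine (mem_autGroup hσT).2 (mem_of_eq (invBy_of_isInvariant hE P _ hγE α hα σ.range hσT hmσ) fun z => ?_)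
      show ((e ((γ : MulAut P) (e.symm z)) : σ.range) : Ω) = _
      rw [twist_apply]
      have e1 : e.symm z = ⟨_, hmσ z⟩ := by
        rw [MulEquiv.symm_apply_eq]
        refine Subtype.ext ?_
        show (z : Ω) = ((α⁻¹ (α ⟨(z : Ω), hσT z.2⟩) : T) : Ω)
        rw [MulAut.inv_apply_self]
      rw [e1]
      rfl
    have hord : orderOf (⟨γ', hγ'E⟩ : E.autGroup σ.range) = p ^ k := by
      rw [← Subgroup.orderOf_coe]
      show orderOf ((MulAut.congr e).toMonoidHom (γ : MulAut P)) = _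
      rw [orderOf_injective (MulAut.congr e).toMonoidHom (MulEquiv.injective _), Subgroup.orderOf_coe, hγ]
    have hσc : E.IsCentric σ.range := isCentric_of_fconj hE hP hσ
    have hmem : σ.range.subtype.comp γ'.toMonoidHom ∈ D.Hom σ.range :=
      ⟨(mem_autGroup hσT).1 hγ'E, fun G hG => hG σ.range ⟨hσc, ⟨γ', hγ'E⟩, ⟨k, hord⟩, rfl⟩⟩
    refine restrict_of_eq hmem hRσ fun r => ?_
    show _ = ((e ((γ : MulAut P) (e.symm ⟨r, hRσ r.2⟩)) : σ.range) : Ω)
    have e1 : e.symm ⟨r, hRσ r.2⟩ = ⟨_, hm r⟩ := by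
      rw [MulEquiv.symm_apply_eq]
      refine Subtype.ext ?_
      show (r : Ω) = ((α⁻¹ (α ⟨(r : Ω), hR r.2⟩) : T) : Ω)
      rw [MulAut.inv_apply_self]
    rw [e1]
    rfl
  intro P φ hφ α hα R hR h
  obtain ⟨hφ', h'⟩ := hle P hφ
  exact h' α hα R hR h

lemma conj_mem_baseAut (hE : E.IsInvariantIn F) {α c : MulAut T} (hα : α ∈ F.autGroup T)
    (hc : c ∈ baseAut E p {P | E.IsCentric P}) : α * c * α⁻¹ ∈ baseAut E p {P | E.IsCentric P} := by
  have hTS := hE.2.1.1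
  have hle : baseAut E p {P | E.IsCentric P} ≤
      (baseAut E p {P | E.IsCentric P}).comap (MulAut.conj α).toMonoidHom := by
    refine (Subgroup.closure_le _).2 fun β hβ => ?_
    obtain ⟨hβE, R, hR, hRT, hRD⟩ := hβ
    show α * β * α⁻¹ ∈ baseAut E p {P | E.IsCentric P}
    set σ : R →* Ω := T.subtype.comp (α.toMonoidHom.comp (Subgroup.inclusion hRT))
    have hσ : σ ∈ F.Hom R := restrict_of_eq ((mem_autGroup hTS).1 hα) hRT fun _ => rfl
    have hσT : σ.range ≤ T := by rintro _ ⟨x, rfl⟩; exact (α _).2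
    have hm : ∀ z : σ.range, ((α⁻¹ ⟨z, hσT z.2⟩ : T) : Ω) ∈ R := by
      rintro ⟨_, x, rfl⟩
      show ((α⁻¹ (α ⟨x, _⟩) : T) : Ω) ∈ R
      rw [MulAut.inv_apply_self]
      exact x.2
    refine Subgroup.subset_closure ⟨?_, σ.range, isCentric_of_fconj hE hR hσ, hσT, ?_⟩
    · refine (mem_autGroup le_rfl).2 (mem_of_eq (invBy_of_isInvariant hE T _ ((mem_autGroup le_rfl).1 hβE) α⁻¹
        (inv_mem hα) T le_rfl fun r => (α⁻¹ _).2) fun r => ?_)
      rw [twist_apply, inv_inv]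
      rfl
    · refine mem_of_eq (invBy_pElemSystem_invariant hE R _ hRD α⁻¹ (inv_mem hα) σ.range hσT hm) fun r => ?_
      rw [twist_apply, inv_inv]
      rfl
  exact hle hc

variable [Fact p.Prime] [Finite S]

/-- Elements of `p`-power order on centric subgroups are good. -/
lemma pElem_good (hS : IsPGroup p S) (hE : E.IsWeaklyNormalIn F p) (hR : E.IsCentric R)
    {γ : E.autGroup R} {k : ℕ} (hk : orderOf γ = p ^ k) :
    R.subtype.comp (γ : MulAut R).toMonoidHom ∈ (goodSystem hE.2.2).Hom R := by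
  obtain ⟨hEs, hF, hEi⟩ := hE
  have hTS := hEi.2.1.1
  have hRT := hR.1
  have hγF : R.subtype.comp (γ : MulAut R).toMonoidHom ∈ F.Hom R := hEi.1 R ((mem_autGroup hRT).1 γ.2)
  refine ⟨hγF, hRT, fun _ => ?_⟩
  -- into `Aut_T` of a fully automized `E`-conjugate
  obtain ⟨Q, ⟨φ, hφ, hφQ⟩, ha, -⟩ := hEs R hRT
  set e := isoOfHom (E.injective_of_mem hφ) hφQ
  have hγ' : MulAut.congr e (γ : MulAut R) ∈ E.autGroup Q := congr_mem_autGroup hφ hφQ γ.2
  have hXp : IsPGroup p (Subgroup.zpowers (MulAut.congr e (γ : MulAut R))) := by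
    refine IsPGroup.of_card (n := k) ?_
    rw [Nat.card_zpowers]
    show orderOf ((MulAut.congr e).toMonoidHom (γ : MulAut R)) = _
    rw [orderOf_injective (MulAut.congr e).toMonoidHom (MulEquiv.injective _), Subgroup.orderOf_coe, hk]
  haveI := finite_of_le hTS
  obtain ⟨χ, hχ, hχγ⟩ := exists_conj_le_autInducedBy p ha _ hXp (Subgroup.zpowers_le.2 hγ')
  obtain ⟨t, ht, htx⟩ := mem_autInducedBy.1 (hχγ _ (Subgroup.mem_zpowers _))
  have hQS : Q ≤ S := ha.1.trans hTS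
  have hχF : χ ∈ F.autGroup Q := (mem_autGroup hQS).2 (hEi.1 Q ((mem_autGroup ha.1).1 hχ))
  -- onto a fully normalized `F`-conjugate
  obtain ⟨Q₁, hQQ₁, hn₁⟩ := exists_fullyNormalized (F := F) hQS
  have ha₁ := fullyAutomized_of_fullyNormalized hS hF hn₁
  have hr₁ := receptive_of_fullyNormalized hS hF hn₁
  obtain ⟨φ₁, hφ₁, hr⟩ := hQQ₁
  obtain ⟨χ₁, hχ₁, hext⟩ := exists_extTo_normalizer hS ha₁ hr₁ (isoIn_isoOfHom hφ₁ hr)
  obtain ⟨e₁, he₁⟩ : ∃ e₁ : Q ≃* Q₁, e₁ = (isoOfHom (F.injective_of_mem hφ₁) hr).trans χ₁ := ⟨_, rfl⟩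
  rw [← he₁] at hext
  obtain ⟨hQN, ψ₁, hψ₁, -, hag₁⟩ := id hext
  have htN : t ∈ normalizerIn S Q := ⟨hTS ht, mem_normalizer_of_conj htx⟩
  set t₁ := ψ₁ ⟨t, htN⟩ with ht₁
  have ht₁T : t₁ ∈ T := hEi.2.1.2 (normalizerIn S Q ⊓ T) inf_le_right _ (restrict hψ₁ inf_le_left) ⟨t, htN, ht⟩
  obtain ⟨ω, hω⟩ : ∃ ω : R ≃* Q₁, ω = (e.trans χ).trans e₁ := ⟨_, rfl⟩
  have hωF : IsoIn F ω := by
    rw [hω]
    refine IsoIn.trans (IsoIn.trans ?_ (isoIn_aut hQS hχF)) hext.isoIn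
    exact mem_of_eq (hEi.1 R hφ) fun _ => rfl
  have hωγ : ∀ x : R, (ω ((γ : MulAut R) x) : Ω) = t₁ * (ω x : Ω) * t₁⁻¹ := by
    intro x
    have h1 := htx (χ (e x))
    have h2 : MulAut.congr e (γ : MulAut R) (e x) = e ((γ : MulAut R) x) := by
      show e ((γ : MulAut R) (e.symm (e x))) = _
      rw [MulEquiv.symm_apply_apply]
    simp only [MulAut.mul_apply, MulAut.inv_apply_self, h2] at h1
    rw [hω]
    show ((e₁ (χ (e ((γ : MulAut R) x))) : Q₁) : Ω) = t₁ * ((e₁ (χ (e x)) : Q₁) : Ω) * t₁⁻¹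
    rw [← hag₁, ← hag₁, ht₁, ← map_inv, ← map_mul, ← map_mul]
    exact congrArg ψ₁ (Subtype.ext h1)
  obtain ⟨ωc, hωc, hωag⟩ := hr₁.2 R _ hωF (IsoIn.range_eq ω)
  have hRC : R ⊔ centralizerIn S T ≤ extender S R (Q₁.subtype.comp ω.toMonoidHom) := by
    refine sup_le (le_extender hωF) fun c hc => centralizerIn_le_extender ⟨hc.1, ?_⟩
    exact Subgroup.mem_centralizer_iff.2 fun r hr => Subgroup.mem_centralizer_iff.1 hc.2 r (hRT hr)
  obtain ⟨w, hwdef⟩ : ∃ w, w = ωc.comp (Subgroup.inclusion hRC) := ⟨_, rfl⟩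
  have hw : w ∈ F.Hom (R ⊔ centralizerIn S T) := hwdef ▸ restrict hωc hRC
  have hwR : ∀ x : R, w ⟨x, Subgroup.mem_sup_left x.2⟩ = (ω x : Ω) := fun x => by
    rw [hwdef]; exact hωag x x.2 _
  have hQ₁T : Q₁ ≤ T := by
    intro y hy
    obtain ⟨x, hx⟩ := ω.surjective ⟨y, hy⟩
    have := hEi.2.1.2 R hRT _ hωF x
    rwa [show (Q₁.subtype.comp ω.toMonoidHom) x = y from congrArg Subtype.val hx] at this
  have hQ₁c : E.IsCentric Q₁ := by
    have := isCentric_of_fconj hEi hR hωF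
    rwa [IsoIn.range_eq ω] at this
  have ht₁N : t₁ ∈ Subgroup.normalizer (Q₁ : Set Ω) := by
    have := (hext.normalizer fun g hg => hg.2)
    have h2 := map_mem_normalizer (φ := Q₁.subtype.comp e₁.toMonoidHom) hQN (fun x => hag₁ x) htN htN.2
    rwa [IsoIn.range_eq e₁] at h2
  have hTn := le_normalizer_of_weaklyClosed_fusion (weaklyClosed_of_stronglyClosed hEi.2.1)
  have hwC : ∀ (c : Ω) (hc : c ∈ centralizerIn S T), ∀ y ∈ Q₁, y * w ⟨c, Subgroup.mem_sup_right hc⟩ =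
      w ⟨c, Subgroup.mem_sup_right hc⟩ * y := by
    intro c hc y hy
    obtain ⟨x, hx⟩ := ω.surjective ⟨y, hy⟩
    rw [show y = w ⟨x, Subgroup.mem_sup_left x.2⟩ by rw [hwR, hx], ← map_mul, ← map_mul]
    exact congrArg w (Subtype.ext (Subgroup.mem_centralizer_iff.1 hc.2 x (hRT x.2)))
  -- the commutator with `t₁`
  have hcomm : ∀ (c : Ω) (hc : c ∈ centralizerIn S T),
      (w ⟨c, Subgroup.mem_sup_right hc⟩)⁻¹ * (t₁ * w ⟨c, Subgroup.mem_sup_right hc⟩ * t₁⁻¹) ∈ centralizerIn T Q₁ := by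
    intro c hc
    set y := w ⟨c, Subgroup.mem_sup_right hc⟩ with hy
    refine ⟨?_, Subgroup.mem_centralizer_iff.2 fun q hq => ?_⟩
    · have h1 := conj_inv_mem_of_normalizer (hTn (val_mem hw ⟨c, Subgroup.mem_sup_right hc⟩)) ht₁T
      have h2 := T.mul_mem h1 (T.inv_mem ht₁T)
      simpa [mul_assoc] using h2
    · have hyq := hwC c hc
      have hq' : t₁⁻¹ * q * t₁ ∈ Q₁ := conj_inv_mem_of_normalizer ht₁N hq
      have h1 : q * (t₁ * y * t₁⁻¹) = t₁ * y * t₁⁻¹ * q := by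
        have h2 := hyq _ hq'
        calc q * (t₁ * y * t₁⁻¹) = t₁ * ((t₁⁻¹ * q * t₁) * y) * t₁⁻¹ := by group
          _ = t₁ * (y * (t₁⁻¹ * q * t₁)) * t₁⁻¹ := by rw [h2]
          _ = t₁ * y * t₁⁻¹ * q := by group
      have h3 : q * y⁻¹ = y⁻¹ * q := by
        have := hyq q hq
        rw [eq_inv_mul_iff_mul_eq, ← mul_assoc, ← this, mul_inv_cancel_right]
      rw [← mul_assoc, h3, mul_assoc, h1, ← mul_assoc]
  have hwr : ∀ z : ↥(R ⊔ centralizerIn S T), t₁ * w z * t₁⁻¹ ∈ w.range := by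
    intro z
    have hle : R ⊔ centralizerIn S T ≤
        ((w.range.comap (MulAut.conj t₁).toMonoidHom).comap w).map (R ⊔ centralizerIn S T).subtype := by
      refine sup_le (fun x hx => ⟨⟨x, Subgroup.mem_sup_left hx⟩, ?_, rfl⟩)
        (fun c hc => ⟨⟨c, Subgroup.mem_sup_right hc⟩, ?_, rfl⟩)
      · show t₁ * w _ * t₁⁻¹ ∈ w.range
        rw [hwR ⟨x, hx⟩, ← hωγ]
        exact ⟨_, hwR _⟩
      · show t₁ * w ⟨c, Subgroup.mem_sup_right hc⟩ * t₁⁻¹ ∈ w.range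
        have h1 := hQ₁c.2 Q₁ (IsConj.refl hQ₁T) (hcomm c hc)
        obtain ⟨x, hx⟩ := ω.surjective ⟨_, h1⟩
        refine ⟨⟨c, Subgroup.mem_sup_right hc⟩ * ⟨x, Subgroup.mem_sup_left x.2⟩, ?_⟩
        rw [map_mul, hwR, hx]
        exact mul_inv_cancel_left _ _
    obtain ⟨v, hv, e⟩ := hle z.2
    obtain rfl : v = z := Subtype.ext e
    exact hv
  obtain ⟨ι, hι, -, hι1, -⟩ := exists_inv hw (rfl : w.range = w.range)
  have hcj : conjHom w.range t₁ ∈ F.Hom w.range := F.conj_mem (range_le hw) (hTS ht₁T)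
  have hmem1 : ∀ y : w.range, conjHom w.range t₁ y ∈ w.range := by
    rintro ⟨_, z, rfl⟩
    exact hwr z
  refine ⟨_, F.comp_mem hw (F.comp_mem hcj hι hmem1) (fun z => ⟨z, rfl⟩), fun x => ?_, fun c hc => ?_⟩
  · show ι ⟨t₁ * w ⟨x, _⟩ * t₁⁻¹, _⟩ = ((γ : MulAut R) x : Ω)
    refine Eq.trans (congrArg ι (Subtype.ext ?_)) (hι1 ⟨(γ : MulAut R) x, Subgroup.mem_sup_left ((γ : MulAut R) x).2⟩ ⟨_, rfl⟩)
    show t₁ * w ⟨(x : Ω), _⟩ * t₁⁻¹ = w ⟨(((γ : MulAut R) x : R) : Ω), _⟩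
    rw [hwR, hwR, hωγ]
  · obtain ⟨x, hx⟩ := ω.surjective ⟨_, hQ₁c.2 Q₁ (IsConj.refl hQ₁T) (hcomm c hc)⟩
    show c⁻¹ * ι ⟨t₁ * w ⟨c, _⟩ * t₁⁻¹, _⟩ ∈ _
    have h1 : ι ⟨t₁ * w ⟨c, Subgroup.mem_sup_right hc⟩ * t₁⁻¹, hwr _⟩ = c * x := by
      refine Eq.trans (congrArg ι (Subtype.ext ?_))
        (hι1 (⟨c, Subgroup.mem_sup_right hc⟩ * ⟨x, Subgroup.mem_sup_left x.2⟩) ⟨_, rfl⟩)
      show t₁ * w ⟨c, _⟩ * t₁⁻¹ = w _
      rw [map_mul, hwR, hx, mul_inv_cancel_left]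
    rw [h1, inv_mul_cancel_left]
    refine ⟨hRT x.2, Subgroup.mem_centralizer_iff.2 ?_⟩
    rintro _ ⟨r, rfl⟩
    have h2 := Subgroup.mem_centralizer_iff.1 (hcomm c hc).2 (ω ((γ : MulAut R) r)) (ω _).2
    have h3 : ω ((γ : MulAut R) r) * ω x = ω x * ω ((γ : MulAut R) r) := by
      rw [hx]
      exact Subtype.ext h2
    rw [← map_mul, ← map_mul] at h3
    exact congrArg Subtype.val (ω.injective h3)

/-- The least subsystem of index prime to `p` of a weakly normal subsystem is normal. -/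
theorem residual_isNormalIn (hS : IsPGroup p S) (hE : E.IsWeaklyNormalIn F p) {D : Cfsg.FusionSystem T}
    (hD : E.IsPPrimeResidual p D) : D.IsNormalIn F p := by
  obtain ⟨hEs, hF, hEi⟩ := id hE
  have hTS := hEi.2.1.1
  haveI := finite_of_le hTS
  haveI := finite_mulAut (le_refl T)
  have hT : IsPGroup p T := hS.to_le hTS
  obtain rfl : D = pPrimeResidualSystem (p := p) E := ext_hom fun P => residual_hom_eq hT E hEs hD P
  have hres := isPPrimeResidual_pPrimeResidualSystem hT E hEs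
  have hℋ := pFamily_centric (p := p) E
  have hinvE := invBy_of_isInvariant hEi
  have hEF : E.autGroup T ≤ F.autGroup T := fun a ha =>
    (mem_autGroup hTS).2 (hEi.1 T ((mem_autGroup le_rfl).1 ha))
  -- every automorphism in the residual is good
  have hgen : ∀ P, (pElemSystem E p {P | E.IsCentric P}).Hom P ⊆ (goodSystem hEi).Hom P := by
    intro P φ hφ
    refine hφ.2 _ ?_
    rintro R _ ⟨hR, γ, ⟨k, hk⟩, rfl⟩
    exact pElem_good hS hE hR hk
  have hinvW := invBy_goodSystem hS hF hEi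
  set N := ((goodSystem hEi).autGroup T).subgroupOf (E.autGroup T) with hNdef
  haveI : N.Normal := ⟨fun c hc b => by
    show (b : MulAut T) * (c : MulAut T) * (b : MulAut T)⁻¹ ∈ (goodSystem hEi).autGroup T
    have h := hinvW T _ ((mem_autGroup le_rfl).1 hc) ((b : MulAut T))⁻¹ (inv_mem (hEF b.2)) T le_rfl fun r =>
      (((b : MulAut T)⁻¹) _).2
    refine (mem_autGroup le_rfl).2 (mem_of_eq h fun r => ?_)
    rw [twist_apply, inv_inv]
    rfl⟩
  have hInn : (Cfsg.Inn T).subgroupOf (E.autGroup T) ≤ N := fun c hc => inn_le_autGroup (F := goodSystem hEi) le_rfl hc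
  have hA0 : baseAut E p {P | E.IsCentric P} ≤ (goodSystem hEi).autGroup T := by
    refine (Subgroup.closure_le _).2 fun α hα => ?_
    obtain ⟨hαE, R, hR, hRT, hRD⟩ := hα
    have hWc : ∀ {R : Subgroup Ω}, E.IsCentric R → (goodSystem hEi).IsCentric R := fun {R} hR => ⟨hR.1, by
      rintro _ ⟨φ, hφ, rfl⟩
      exact (isCentric_of_fconj hEi hR hφ.1).2 _ (IsConj.refl (isCentric_of_fconj hEi hR hφ.1).1)⟩
    have hcE : ∀ {R : Subgroup Ω}, (goodSystem hEi).IsCentric R → E.IsCentric R := fun {R} hR => by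
      by_contra hne
      refine hne ⟨hR.1, ?_⟩
      rintro _ ⟨φ, hφ, rfl⟩
      exact hR.2 _ ⟨φ, ⟨hEi.1 R hφ, hR.1, fun h => absurd h hne⟩, rfl⟩
    have h := eq_one_of_restrict_mem' hT (E := goodSystem hEi) (B := E.autGroup T)
      (fun P φ hφ a ha => hinvW P φ hφ a (hEF ha))
      (fun R hR b hb => exists_good_extension hS hF hEi (hcE hR) hb)
      (show (Nat.card (E.autGroup T ⧸ N)).Coprime p from coprime_index_of_inn_le hT hEs N hInn)
      (QuotientGroup.mk' N) (fun b hb => (QuotientGroup.eq_one_iff b).2 hb) (hWc hR) ⟨α, hαE⟩ (hgen R hRD)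
    exact (QuotientGroup.eq_one_iff (⟨α, hαE⟩ : E.autGroup T)).1 h
  have hbaseE : baseAut E p {P | E.IsCentric P} ≤ E.autGroup T := baseAut_le
  refine ⟨⟨hres.1, hF, fun P φ hφ => hEi.1 P (hres.2.1.1 P hφ), hEi.2.1, ?_, ?_⟩, fun α hα => ?_⟩
  · rintro P hPT φ ⟨β, hβ, φ₀, hφ₀, hag⟩ α hα
    set R := (P.subgroupOf T).map (T.subtype.comp α.toMonoidHom)
    have hR : R ≤ T := by rintro _ ⟨x, -, rfl⟩; exact (α x).2
    have hm : ∀ r : R, ((α⁻¹ ⟨r, hR r.2⟩ : T) : Ω) ∈ P := by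
      rintro ⟨_, x, hx, rfl⟩
      show ((α⁻¹ (α x) : T) : Ω) ∈ P
      rw [MulAut.inv_apply_self]
      exact hx
    have hθ := invBy_pElemSystem_invariant hEi P φ₀ hφ₀ α⁻¹ (inv_mem hα) R hR hm
    let χ' : R →* Ω := T.subtype.comp ((α * β * α⁻¹ : MulAut T).toMonoidHom.comp
      ((twist hφ₀ α⁻¹ hR hm).codRestrict T (val_mem hθ)))
    refine ⟨χ', ⟨α * β * α⁻¹, conj_mem_baseAut hEi hα hβ, _, hθ, fun x hx => rfl⟩, fun x hφx hαx => ?_⟩
    show (((α * β * α⁻¹) ⟨((α⁻¹⁻¹ ⟨φ₀ ⟨_, hm ⟨_, hαx⟩⟩, _⟩ : T) : Ω), _⟩ : T) : Ω) = _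
    simp only [inv_inv, Subtype.coe_eta, MulAut.mul_apply, MulAut.inv_apply_self]
    refine congrArg (fun z : T => ((α z : T) : Ω)) (Subtype.ext ?_)
    refine Eq.trans ?_ (hag x (val_mem hφ₀ x)).symm
    rfl
  · intro P hPT φ hφ
    obtain ⟨α, hα, φ₀, hφ₀, hag⟩ := hEi.2.2.2 P hPT φ hφ
    obtain ⟨β, hβ, φ₁, hφ₁, hag'⟩ := exists_decomp_pElemSystem hT hEs hℋ hφ₀
    refine ⟨α * β, mul_mem hα (hEF hβ), φ₁, mem_twistProduct_of_mem (hinv := invBy_pElemSystem_of_le hℋ baseAut_le) hφ₁, fun x hx => ?_⟩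
    rw [hag x (val_mem hφ₀ x), MulAut.mul_apply]
    exact congrArg (fun z : T => ((α z : T) : Ω)) (Subtype.ext (hag' x hx))
  · have hαB : α ∈ baseAut E p {P | E.IsCentric P} := by
      have h := autGroup_indexSystem hT hEs hℋ (A := baseAut E p {P | E.IsCentric P}) baseAut_le le_rfl
      exact h.le hα
    obtain ⟨ψF, -, hgood⟩ := (mem_autGroup le_rfl).1 (hA0 hαB)
    obtain ⟨ψ, hψ, hag, hC⟩ := hgood (isCentric_self E)
    have hTC : T ⊔ centralizerIn S T ≤ S := sup_le hTS inf_le_left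
    haveI := finite_of_le hTC
    have hv := goodExt_values hEi ψF (isCentric_self E) hag hC (Q := T) (fun x => (α x).2)
    have hbij : Function.Bijective (ψ.codRestrict _ hv) :=
      Finite.injective_iff_bijective.1 fun a b hab => F.injective_of_mem hψ (congrArg Subtype.val hab :)
    refine ⟨MulEquiv.ofBijective _ hbij, (mem_autGroup hTC).2 (mem_of_eq hψ fun _ => rfl), fun x => hag x,
      fun c hc => ?_⟩
    have hrange : (T.subtype.comp α.toMonoidHom).range = T := range_aut α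
    have h1 := hC c hc
    rw [hrange] at h1
    exact ⟨h1.1, h1.2⟩

end CfsgLib.Fusion
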