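import Cfsg.Agent.Fusion.ResidualLimit
import Cfsg.Agent.Fusion.ResidualNormal
import Cfsg.Agent.Fusion.NormalTransitive

/-!
Residual limits exist, and are unchanged by passing to subsystems of index prime to `p`.
-/

set_option autoImplicit false
set_option linter.style.haveILetI false

open Cfsg

namespace CfsgLib.Fusion

open Cfsg.FusionSystem

universe u

variable {Ω : Type u} [Group Ω] {S T U : Subgroup Ω} {p : ℕ} [Fact p.Prime]

omit [Fact p.Prime] in
/-- `p'`-index composes. -/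
lemma hasPrimeToPIndexIn_trans {F G D : Cfsg.FusionSystem S} (hG : G.HasPrimeToPIndexIn F p)
    (hD : D.HasPrimeToPIndexIn G p) : D.HasPrimeToPIndexIn F p := by
  refine ⟨fun P φ h => hG.1 P (hD.1 P h), fun P hP => ?_⟩
  rw [Subgroup.map_le_iff_le_comap, Subgroup.closure_le]
  rintro γ ⟨k, hk⟩
  have h1 : (γ : MulAut P) ∈ G.autGroup P := hG.2 P hP ⟨γ, Subgroup.subset_closure ⟨k, hk⟩, rfl⟩
  refine hD.2 P hP ⟨⟨γ, h1⟩, Subgroup.subset_closure ⟨k, ?_⟩, rfl⟩
  rw [← Subgroup.orderOf_coe] at hk ⊢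
  exact hk

/-- The residual of a residual is itself. -/
lemma isPPrimeResidual_self {F R : Cfsg.FusionSystem S} (hR : F.IsPPrimeResidual p R) : R.IsPPrimeResidual p R :=
  ⟨hR.1, ⟨fun _ _ h => h, fun P _ => Subgroup.map_subtype_le _⟩,
    fun D hD hDi => hR.2.2 D hD (hasPrimeToPIndexIn_trans hR.2.1 hDi)⟩

omit [Fact p.Prime] in
/-- A residual limit is a subsystem. -/
lemma limit_le {V : Subgroup Ω} {L : Cfsg.FusionSystem V} {F : Cfsg.FusionSystem S}
    (h : L.IsResidualLimitOf F p) : L.IsSubsystemOf F := by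
  induction h with
  | stable F p _ _ => exact fun _ _ h => h
  | step F p D D' hD hD' _ ih => exact fun P φ h => hD.2.1 P (hD'.2.1.1 P (ih P h))

/-- Residual limits exist. -/
theorem exists_limit : ∀ (N : ℕ) {S : Subgroup Ω} [Finite S] (F : Cfsg.FusionSystem S), IsPGroup p S →
    F.IsSaturated p → Nat.card S ≤ N → ∃ (V : Subgroup Ω) (L : Cfsg.FusionSystem V), L.IsResidualLimitOf F p := by
  intro N
  induction N with
  | zero => intro S _ F _ _ h; exact absurd (Nat.card_pos (α := S)) (by omega)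
  | succ N ih =>
    intro S _ F hS hF hcard
    have small : ∀ (G : Cfsg.FusionSystem S), G.IsSaturated p → G.hyperfocalSubgroup p ≠ S →
        ∃ (V : Subgroup Ω) (L : Cfsg.FusionSystem V), L.IsResidualLimitOf G p := by
      intro G hG hne
      have hle := hyperfocal_le_self (p := p) G
      haveI := finite_of_le hle
      have hH := hS.to_le hle
      obtain ⟨D, hD, hDi⟩ := exists_pPowerIndex (Nat.card S) hS hG hle le_rfl le_rfl
      have hres := isPPrimeResidual_pPrimeResidualSystem hH D hD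
      obtain ⟨V, L, hL⟩ := ih (pPrimeResidualSystem (p := p) D) hH hres.1 (by
        have h1 : Nat.card (G.hyperfocalSubgroup p) < Nat.card S := lt_of_le_of_ne (Subgroup.card_le_of_le hle)
          fun e => hne (Subgroup.eq_of_le_of_card_ge hle e.ge)
        omega)
      exact ⟨V, L, IsResidualLimitOf.step G p D _ ⟨hD, hDi⟩ hres hL⟩
    by_cases hh : F.hyperfocalSubgroup p = S
    swap
    · exact small F hF hh
    have key : ∀ (X : Subgroup Ω), X = S → ∀ (D : Cfsg.FusionSystem X), D.IsSaturated p →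
        D.HasPPowerIndexIn F p →
        ∃ D' : Cfsg.FusionSystem X, D.IsPPrimeResidual p D' ∧
          ∃ (V : Subgroup Ω) (L : Cfsg.FusionSystem V), L.IsResidualLimitOf D' p := by
      intro X e D hD hDi
      subst e
      have hres := isPPrimeResidual_pPrimeResidualSystem hS D hD
      refine ⟨_, hres, ?_⟩
      by_cases h2 : (pPrimeResidualSystem (p := p) D).hyperfocalSubgroup p = X
      · exact ⟨_, _, IsResidualLimitOf.stable _ p h2 (isPPrimeResidual_self hres)⟩
      · exact small _ hres.1 h2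
    obtain ⟨D, hD, hDi⟩ := exists_pPowerIndex (p := p) (Nat.card S) hS hF (hyperfocal_le_self F) le_rfl le_rfl
    obtain ⟨D', hD', V, L, hL⟩ := key _ hh D hD hDi
    exact ⟨V, L, IsResidualLimitOf.step F p D D' ⟨hD, hDi⟩ hD' hL⟩

variable [Finite S] {F : Cfsg.FusionSystem S}

/-- Inside the `p`-residual, the trace of a normal subsystem of index prime to `p` has index prime to `p`. -/
theorem primeToP_of_pPower (hS : IsPGroup p S) {R : Cfsg.FusionSystem S} (hR : R.IsNormalIn F p)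
    (hRi : R.HasPrimeToPIndexIn F p) {H : Subgroup Ω} (hH : F.StronglyClosed H)
    {D RH : Cfsg.FusionSystem H} (hD : D.IsSaturated p) (hDi : D.HasPPowerIndexIn F p)
    (hRH : RH.IsSaturated p) (hRHi : RH.HasPPowerIndexIn R p) : RH.HasPrimeToPIndexIn D p := by
  have hF := hR.1.2.1
  have hRF := hR.1.2.2.1
  have hHS := hH.1
  haveI := finite_of_le hHS
  have hHp := hS.to_le hHS
  have hn := le_normalizer_of_weaklyClosed_fusion (weaklyClosed_of_stronglyClosed hH)
  have hRHn := isNormalIn_of_pPowerIndex hS hR.1.1 hHS ((Subgroup.normal_subgroupOf_iff_le_normalizer hHS).2 hn)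
    hRHi.2.1 hRH hRHi
  refine ⟨normal_le_pPowerIndex hS hRH (fun P φ h => hRF P (hRHi.1 P h)) le_rfl hHS hDi, fun P hP => ?_⟩
  rw [Subgroup.map_le_iff_le_comap, Subgroup.closure_le]
  rintro u ⟨k, hk⟩
  haveI := finite_of_le hP
  haveI := finite_mulAut hP
  show (u : MulAut P) ∈ RH.autGroup P
  obtain ⟨P', hconj, hn'⟩ := exists_fullyNormalized (F := D) hP
  obtain ⟨ψ, hψ, hψr⟩ := hconj
  have hP' := hn'.1
  haveI := finite_of_le hP'
  haveI := finite_mulAut hP'
  have hu' : MulAut.congr (isoOfHom (D.injective_of_mem hψ) hψr) (u : MulAut P) ∈ D.autGroup P' :=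
    congr_mem_autGroup hψ hψr u.2
  obtain ⟨u', hu'def⟩ : ∃ u' : D.autGroup P', u' = ⟨_, hu'⟩ := ⟨_, rfl⟩
  have hord : orderOf u' = p ^ k := by
    rw [← Subgroup.orderOf_coe, hu'def]
    show orderOf ((MulAut.congr (isoOfHom (D.injective_of_mem hψ) hψr)).toMonoidHom (u : MulAut P)) = _
    rw [orderOf_injective (MulAut.congr _).toMonoidHom (MulEquiv.injective _), Subgroup.orderOf_coe, hk]
  obtain ⟨-, W, hW⟩ := fullyAutomized_of_fullyNormalized hHp hD hn'
  obtain ⟨V, hV⟩ := (IsPGroup.of_card (n := k) (show Nat.card (Subgroup.zpowers u') = p ^ k by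
    rw [Nat.card_zpowers, hord])).exists_le_sylow
  obtain ⟨δ, hδ⟩ := MulAction.exists_smul_eq (D.autGroup P') V W
  have hmem : δ * u' * δ⁻¹ ∈ (W : Subgroup (D.autGroup P')) := by
    rw [← hδ, Sylow.coe_subgroup_smul]
    exact Subgroup.smul_mem_pointwise_smul u' (MulAut.conj δ) V (hV (Subgroup.mem_zpowers u'))
  obtain ⟨h, hh, hhx⟩ := mem_autInducedBy.1 (Subgroup.mem_subgroupOf.1 (hW.le hmem))
  obtain ⟨ψ', hψ'def⟩ : ∃ ψ' : P →* Ω,
      ψ' = (P'.subtype.comp (δ : MulAut P').toMonoidHom).comp (isoOfHom (D.injective_of_mem hψ) hψr).toMonoidHom :=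
    ⟨_, rfl⟩
  have hψ'D : ψ' ∈ D.Hom P := comp_of_eq hψ ((mem_autGroup hP').1 δ.2) (mem_of_range_eq hψr) fun x => by
    rw [hψ'def]; rfl
  have hψ'u : ∀ x : P, ψ' ((u : MulAut P) x) = h * ψ' x * h⁻¹ := fun x => by
    have h1 := hhx ((δ : MulAut P') (isoOfHom (D.injective_of_mem hψ) hψr x))
    rw [Subgroup.coe_mul, Subgroup.coe_mul, MulAut.mul_apply, MulAut.mul_apply, Subgroup.coe_inv,
      MulAut.inv_apply_self, hu'def] at h1
    rw [hψ'def]
    refine Eq.trans ?_ h1
    show ((_ : P') : Ω) = ((δ : MulAut P') ((isoOfHom (D.injective_of_mem hψ) hψr) ((u : MulAut P)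
      ((isoOfHom (D.injective_of_mem hψ) hψr).symm (isoOfHom (D.injective_of_mem hψ) hψr x)))) : P')
    rw [MulEquiv.symm_apply_apply]
    rfl
  obtain ⟨β, hβ, r, hr, hag⟩ := hR.1.2.2.2.2.2 P (hP.trans hHS) ψ' (hDi.1 P hψ'D)
  obtain ⟨β', hβ', r₀, hr₀, hag'⟩ := hRHn.1.2.2.2.2.2 P hP r hr
  have hrH : ∀ x : P, r x ∈ H := fun x => by
    rw [hag' x (val_mem hr₀ x)]
    exact (β' _).2
  have hβH : ∀ y : Ω, ∀ hy : y ∈ H, ((β ⟨y, hHS hy⟩ : S) : Ω) ∈ H := fun y hy =>
    stronglyClosed_mapsTo hH ((mem_autGroup le_rfl).1 hβ) ⟨y, hHS hy⟩ hy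
  let f : H →* H :=
    ((S.subtype.comp β.toMonoidHom).comp ((Subgroup.inclusion hHS).comp β'.toMonoidHom)).codRestrict H
      fun y => hβH _ (β' y).2
  have hf : Function.Bijective f := Finite.injective_iff_bijective.1 fun y z e => by
    have e1 := congrArg Subtype.val e
    exact β'.injective (Subgroup.inclusion_injective hHS (β.injective (Subtype.ext e1)))
  obtain ⟨a, hadef⟩ : ∃ a : MulAut H, a = MulEquiv.ofBijective f hf := ⟨_, rfl⟩
  have hax : ∀ x : P, ψ' x = ((a ⟨r₀ x, val_mem hr₀ x⟩ : H) : Ω) := fun x => by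
    rw [hag x (val_mem hr x), hadef]
    exact congrArg (fun z : S => ((β z : S) : Ω)) (Subtype.ext (hag' x (val_mem hr₀ x)))
  obtain ⟨h', hh'⟩ : ∃ h' : H, h' = a⁻¹ ⟨h, hh⟩ := ⟨_, rfl⟩
  have hr₀u : ∀ x : P, r₀ ((u : MulAut P) x) = (h' : Ω) * r₀ x * (h' : Ω)⁻¹ := fun x => by
    have h1 := hψ'u x
    rw [hax, hax] at h1
    have h2 : a ⟨r₀ ((u : MulAut P) x), val_mem hr₀ _⟩ = a (h' * ⟨r₀ x, val_mem hr₀ x⟩ * h'⁻¹) := by
      refine Subtype.ext (h1.trans ?_)
      rw [map_mul, map_mul, map_inv, hh', MulAut.apply_inv_self]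
      rfl
    exact congrArg Subtype.val (a.injective h2)
  obtain ⟨τ, hτ, -, hτ1, -⟩ := exists_inv hr₀ (rfl : r₀.range = r₀.range)
  have hc : conjHom r₀.range (h' : Ω) ∈ RH.Hom r₀.range := RH.conj_mem (range_le hr₀) h'.2
  have hv : ∀ y : r₀.range, conjHom r₀.range (h' : Ω) y ∈ r₀.range := by
    rintro ⟨_, x, rfl⟩
    exact ⟨(u : MulAut P) x, hr₀u x⟩
  have h5 := comp_of_eq hc hτ hv (χ := τ.comp ((conjHom r₀.range (h' : Ω)).codRestrict r₀.range hv)) fun _ => rfl
  refine (mem_autGroup hP).2 (comp_of_eq hr₀ h5 (fun x => ⟨x, rfl⟩) fun x => ?_)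
  refine ((congrArg τ (Subtype.ext (hr₀u x).symm : _ = (⟨r₀ ((u : MulAut P) x), _, rfl⟩ : r₀.range))).trans
    (hτ1 ((u : MulAut P) x) _)).symm

/-- Subsystems of index prime to `p` have the same residual limits. -/
theorem limit_eq_of_primeToP : ∀ (N : ℕ) {S : Subgroup Ω} [Finite S] {F G : Cfsg.FusionSystem S}, IsPGroup p S →
    F.IsSaturated p → G.IsSaturated p → G.HasPrimeToPIndexIn F p → Nat.card S ≤ N →
    ∀ {U V : Subgroup Ω} {L : Cfsg.FusionSystem U}, L.IsResidualLimitOf F p →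
      ∀ {L' : Cfsg.FusionSystem V}, L'.IsResidualLimitOf G p → ∀ P, L.Hom P = L'.Hom P := by
  intro N
  induction N with
  | zero => intro S _ F G _ _ _ _ h; exact absurd (Nat.card_pos (α := S)) (by omega)
  | succ N ih =>
    intro S _ F₀ G₀ hS hF₀ hG₀ hGi hcard U V L₀ hL₀ L₀' hL₀'
    have main : ∀ (F R : Cfsg.FusionSystem S), F.IsSaturated p → F.IsPPrimeResidual p R →
        ∀ {U V : Subgroup Ω} {L : Cfsg.FusionSystem U} {L' : Cfsg.FusionSystem V}, L.IsResidualLimitOf F p →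
          L'.IsResidualLimitOf R p → ∀ P, L.Hom P = L'.Hom P := by
      intro F R hF hR U V L L' hL hL'
      by_cases hh : F.hyperfocalSubgroup p = S
      · cases hL with
        | stable _ _ h1 h2 =>
          obtain rfl : R = F := ext_hom fun P => by rw [residual_hom_eq hS F hF hR, residual_hom_eq hS F hF h2]
          exact limit_unique (IsResidualLimitOf.stable R p h1 h2) hS hR.1 L' hL'
        | step _ _ D D' hD hD' hL =>
          have key : ∀ (X : Subgroup Ω), X = S → ∀ (D₁ D₁' : Cfsg.FusionSystem X), D₁.IsSaturated p →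
              D₁.HasPPowerIndexIn F p → D₁.IsPPrimeResidual p D₁' → L.IsResidualLimitOf D₁' p →
              L.IsResidualLimitOf R p := by
            intro X e D₁ D₁' h1 h2 h3 h4
            subst e
            obtain rfl : D₁ = F := ext_hom (pResidual_eq_self hS hF rfl hh h1 h2)
            obtain rfl : D₁' = R := ext_hom fun P => by rw [residual_hom_eq hS D₁ hF h3, residual_hom_eq hS D₁ hF hR]
            exact h4
          exact limit_unique (key _ hh D D' hD.1 hD.2 hD' hL) hS hR.1 L' hL'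
      · have hH := Cfsg.Agent.S5124.result p hS F hF
        have hHS := hH.1
        haveI := finite_of_le hHS
        have hRn := residual_isNormalIn hS (isNormalIn_self hF).1 hR
        obtain ⟨D, hD, hDi⟩ := exists_pPowerIndex (p := p) (Nat.card S) hS hF hHS le_rfl le_rfl
        obtain ⟨RH, hRH, hRHi⟩ := exists_pPowerIndex (p := p) (Nat.card S) hS hR.1 hHS
          (hyperfocal_le_of_subsystem hR.2.1.1 le_rfl) le_rfl
        have hlt : Nat.card (F.hyperfocalSubgroup p) < Nat.card S := lt_of_le_of_ne (Subgroup.card_le_of_le hHS)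
          fun e => hh (Subgroup.eq_of_le_of_card_ge hHS e.ge)
        obtain ⟨_, LD, hLD⟩ := exists_limit (p := p) _ D (hS.to_le hHS) hD le_rfl
        obtain ⟨_, LR, hLR⟩ := exists_limit (p := p) _ RH (hS.to_le hHS) hRH le_rfl
        intro P
        rw [limit_eq_of_pPowerIndex hS hF hHS hD hDi hL hLD,
          ih (hS.to_le hHS) hD hRH (primeToP_of_pPower hS hRn hR.2.1 hH hD hDi hRH hRHi) (by omega) hLD hLR,
          ← limit_eq_of_pPowerIndex hS hR.1 hHS hRH hRHi hL' hLR]
    intro P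
    have hresF := isPPrimeResidual_pPrimeResidualSystem hS F₀ hF₀
    have hresG := isPPrimeResidual_pPrimeResidualSystem hS G₀ hG₀
    have hFG : F₀.IsPPrimeResidual p (pPrimeResidualSystem (p := p) G₀) := by
      refine ⟨hresG.1, hasPrimeToPIndexIn_trans hGi hresG.2.1, fun D hD hDi P φ hφ => ?_⟩
      have h1 : (pPrimeResidualSystem (p := p) F₀).IsSubsystemOf G₀ := hresF.2.2 G₀ hG₀ hGi
      have h2 : (pPrimeResidualSystem (p := p) F₀).HasPrimeToPIndexIn G₀ p := by
        refine ⟨h1, fun P hP => ?_⟩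
        rw [Subgroup.map_le_iff_le_comap, Subgroup.closure_le]
        rintro γ ⟨k, hk⟩
        have hγF : (γ : MulAut P) ∈ F₀.autGroup P := (mem_autGroup hP).2 (hGi.1 P ((mem_autGroup hP).1 γ.2))
        refine hresF.2.1.2 P hP ⟨⟨γ, hγF⟩, Subgroup.subset_closure ⟨k, ?_⟩, rfl⟩
        rw [← Subgroup.orderOf_coe] at hk ⊢
        exact hk
      exact hresF.2.2 D hD hDi P (hresG.2.2 _ hresF.1 h2 P hφ)
    obtain ⟨_, LR, hLR⟩ := exists_limit (p := p) _ (pPrimeResidualSystem (p := p) G₀) hS hresG.1 le_rfl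
    rw [main F₀ _ hF₀ hFG hL₀ hLR, main G₀ _ hG₀ hresG hL₀' hLR]

end CfsgLib.Fusion
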