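import Cfsg.Agent.Fusion.CharacterSubsystem
import Cfsg.Agent.Fusion.NormalTransitive
import Cfsg.Agent.Fusion.ResidualLimitPrime
import Cfsg.Agent.Fusion.FixPair

/-!
One step down a `p`-solvable series in the automizer of a normal subsystem.
-/

set_option autoImplicit false
set_option linter.style.haveILetI false

open Cfsg

namespace CfsgLib.Fusion

open Cfsg.FusionSystem

universe u

variable {Ω : Type u} [Group Ω] {S R R₀ R₁ T P : Subgroup Ω} {F : Cfsg.FusionSystem S} {E : Cfsg.FusionSystem T}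
variable {p : ℕ} [Fact p.Prime]

/-- The elements of `S` inducing a member of `H` on `T`. -/
def inducing (S : Subgroup Ω) (H : Subgroup (MulAut T)) : Subgroup Ω where
  carrier := {x | x ∈ S ∧ ∃ h ∈ H, ∀ t : T, ((h t : T) : Ω) = x * (t : Ω) * x⁻¹}
  one_mem' := ⟨S.one_mem, 1, H.one_mem, fun t => by simp⟩
  mul_mem' := by
    rintro x y ⟨hx, a, ha, hax⟩ ⟨hy, b, hb, hby⟩
    refine ⟨S.mul_mem hx hy, a * b, H.mul_mem ha hb, fun t => ?_⟩
    rw [MulAut.mul_apply, hax, hby]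
    group
  inv_mem' := by
    rintro x ⟨hx, a, ha, hax⟩
    refine ⟨S.inv_mem hx, a⁻¹, H.inv_mem ha, fun t => ?_⟩
    have h1 := hax (a⁻¹ t)
    rw [MulAut.apply_inv_self] at h1
    rw [h1]
    group

/-- Residual limits correspond. -/
def SameLimit (p : ℕ) (F : Cfsg.FusionSystem S) (D : Cfsg.FusionSystem R) : Prop :=
  ∀ {U V : Subgroup Ω} {L : Cfsg.FusionSystem U} {L' : Cfsg.FusionSystem V},
    L.IsResidualLimitOf F p → L'.IsResidualLimitOf D p → ∀ P, L.Hom P = L'.Hom P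

/-- The state reached after descending to `H`. -/
structure Stage (p : ℕ) (F : Cfsg.FusionSystem S) (E : Cfsg.FusionSystem T) (H : Subgroup (MulAut T))
    (D : Cfsg.FusionSystem R) : Prop where
  eqR : R = inducing S H
  normal : D.IsNormalIn F p
  inner : E.IsNormalIn D p
  aut : D.autGroup T = H
  limit : SameLimit p F D

omit [Fact p.Prime] in
lemma centralizerIn_le_inducing (H : Subgroup (MulAut T)) : centralizerIn S T ≤ inducing S H := fun x hx =>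
  ⟨hx.1, 1, H.one_mem, fun t => by
    show (t : Ω) = _
    rw [← Subgroup.mem_centralizer_iff.1 hx.2 t t.2, mul_inv_cancel_right]⟩

omit [Fact p.Prime] in
lemma centralizerIn_eq_of_le (hRS : R ≤ S) (hC : centralizerIn S T ≤ R) : centralizerIn R T = centralizerIn S T :=
  le_antisymm (fun _ hx => ⟨hRS hx.1, hx.2⟩) fun _ hx => ⟨hC hx, hx.2⟩

omit [Fact p.Prime] in
/-- An automorphism of an overgroup restricts to a strongly closed subgroup. -/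
lemma exists_restrict_aut [Finite T] {D : Cfsg.FusionSystem R} (hT : D.StronglyClosed T) (hTP : T ≤ P)
    {β : MulAut P} (hPR : P ≤ R) (hβ : β ∈ D.autGroup P) :
    ∃ h ∈ D.autGroup T, ∀ t : T, ((β ⟨t, hTP t.2⟩ : P) : Ω) = ((h t : T) : Ω) := by
  have hθ := restrict ((mem_autGroup hPR).1 hβ) hTP
  have hv : ∀ t, ((P.subtype.comp β.toMonoidHom).comp (Subgroup.inclusion hTP)) t ∈ T := hT.2 T le_rfl _ hθ
  have hbij : Function.Bijective (((P.subtype.comp β.toMonoidHom).comp (Subgroup.inclusion hTP)).codRestrict T hv) :=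
    Finite.injective_iff_bijective.1 fun x y e => D.injective_of_mem hθ (congrArg Subtype.val e :)
  exact ⟨MulEquiv.ofBijective _ hbij, (mem_autGroup hT.1).2 (mem_of_eq hθ fun _ => rfl), fun t => rfl⟩

omit [Fact p.Prime] in
/-- The product with the centralizer is normalized. -/
lemma le_normalizer_sup_centralizer [Finite R] {D : Cfsg.FusionSystem R} (hT : D.StronglyClosed T) :
    R ≤ Subgroup.normalizer ((T ⊔ centralizerIn R T : Subgroup Ω) : Set Ω) := by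
  have hn := le_normalizer_of_weaklyClosed_fusion (weaklyClosed_of_stronglyClosed hT)
  have key : ∀ g ∈ R, ∀ x ∈ T ⊔ centralizerIn R T, g * x * g⁻¹ ∈ T ⊔ centralizerIn R T := by
    intro g hg x hx
    have hle : T ⊔ centralizerIn R T ≤ (T ⊔ centralizerIn R T).comap (MulAut.conj g).toMonoidHom := by
      refine sup_le (fun y hy => Subgroup.mem_sup_left (conj_mem_of_normalizer (hn hg) hy)) fun y hy =>
        Subgroup.mem_sup_right ⟨R.mul_mem (R.mul_mem hg hy.1) (R.inv_mem hg), Subgroup.mem_centralizer_iff.2 fun t ht => ?_⟩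
      show t * (g * y * g⁻¹) = g * y * g⁻¹ * t
      have h1 := Subgroup.mem_centralizer_iff.1 hy.2 _ (conj_inv_mem_of_normalizer (hn hg) ht)
      calc t * (g * y * g⁻¹) = g * ((g⁻¹ * t * g) * y) * g⁻¹ := by group
        _ = g * (y * (g⁻¹ * t * g)) * g⁻¹ := by rw [h1]
        _ = g * y * g⁻¹ * t := by group
    exact hle hx
  intro g hg
  refine Subgroup.mem_normalizer_iff.2 fun x => ⟨key g hg x, fun hx => ?_⟩
  simpa [mul_assoc] using key g⁻¹ (R.inv_mem hg) _ hx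

/-- Automorphisms of `T` extend to `T C(T)`. -/
lemma exists_extend_sup_centralizer [Finite R] (hR : IsPGroup p R) {D : Cfsg.FusionSystem R}
    (hD : D.IsSaturated p) (hT : D.StronglyClosed T) {h : MulAut T} (hh : h ∈ D.autGroup T) :
    ∃ β ∈ D.autGroup (T ⊔ centralizerIn R T),
      ∀ t : T, ((β ⟨t, Subgroup.mem_sup_left t.2⟩ : ↥(T ⊔ centralizerIn R T)) : Ω) = ((h t : T) : Ω) := by
  have hTR := hT.1
  haveI := finite_of_le hTR
  have hn : D.IsFullyNormalized T := by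
    refine ⟨hTR, fun Q hQ => ?_⟩
    obtain ⟨φ, hφ, rfl⟩ := hQ
    rw [(weaklyClosed_of_stronglyClosed hT).2 φ hφ]
  obtain ⟨ψ, hψ, hag⟩ := (receptive_of_fullyNormalized hR hD hn).2 T _ ((mem_autGroup hTR).1 hh) (range_aut h)
  have hle : T ⊔ centralizerIn R T ≤ extender R T (T.subtype.comp h.toMonoidHom) :=
    sup_le (le_extender ((mem_autGroup hTR).1 hh)) centralizerIn_le_extender
  obtain ⟨θ, hθdef⟩ : ∃ θ : ↥(T ⊔ centralizerIn R T) →* Ω, θ = ψ.comp (Subgroup.inclusion hle) := ⟨_, rfl⟩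
  have hθ : θ ∈ D.Hom (T ⊔ centralizerIn R T) := hθdef ▸ restrict hψ hle
  have hθT : ∀ (a : Ω) (ha : a ∈ T), θ ⟨a, Subgroup.mem_sup_left ha⟩ = ((h ⟨a, ha⟩ : T) : Ω) := fun a ha => by
    rw [hθdef]; exact hag a ha _
  have hv : ∀ x, θ x ∈ T ⊔ centralizerIn R T := by
    refine sup_map_mem θ (fun a ha => by rw [hθT a ha]; exact Subgroup.mem_sup_left (h _).2) fun c hc => ?_
    refine Subgroup.mem_sup_right ⟨val_mem hθ _, Subgroup.mem_centralizer_iff.2 fun t ht => ?_⟩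
    obtain ⟨t₀, ht₀⟩ := h.surjective ⟨t, ht⟩
    have e1 : t = θ ⟨t₀, Subgroup.mem_sup_left t₀.2⟩ := by rw [hθT t₀ t₀.2, Subtype.coe_eta, ht₀]
    rw [e1, ← map_mul, ← map_mul]
    exact congrArg θ (Subtype.ext (Subgroup.mem_centralizer_iff.1 hc.2 t₀ t₀.2))
  haveI := finite_of_le (le_of_hom hθ)
  have hbij : Function.Bijective (θ.codRestrict _ hv) :=
    Finite.injective_iff_bijective.1 fun x y e => D.injective_of_mem hθ (congrArg Subtype.val e :)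
  exact ⟨MulEquiv.ofBijective _ hbij, (mem_autGroup (le_of_hom hθ)).2 (mem_of_eq hθ fun _ => rfl),
    fun t => hθT t t.2⟩

/-- Assembling a stage. -/
theorem stage_of [Finite S] (hS : IsPGroup p S) (hFT : F.StronglyClosed T) {H₀ H₁ : Subgroup (MulAut T)} {D₀ : Cfsg.FusionSystem R₀}
    (h₀ : Stage p F E H₀ D₀) (hH₁ : H₁ ≤ H₀) (hEH : E.autGroup T ≤ H₁) (hR₁ : R₁ = inducing S H₁)
    {D₁ : Cfsg.FusionSystem R₁} (hD₁ : D₁.IsSaturated p) (hDi : D₁.IsInvariantIn D₀)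
    (hnorm : ∀ α ∈ F.autGroup T, ∀ h ∈ H₁, α * h * α⁻¹ ∈ H₁)
    (hout : ∀ a ∈ F.autGroup R₀, ∀ b : MulAut R₁,
      (∀ x : R₁, ((b x : R₁) : Ω) = ((a ⟨x, hDi.2.1.1 x.2⟩ : R₀) : Ω)) →
      ∀ (P : Subgroup Ω) (φ : P →* Ω) (hφ : φ ∈ D₁.Hom P) (Q : Subgroup Ω) (hQ : Q ≤ R₁)
        (h : ∀ r : Q, ((b ⟨r, hQ r.2⟩ : R₁) : Ω) ∈ P), twist hφ b hQ h ∈ D₁.Hom Q)
    (hED : E.IsSubsystemOf D₁)
    (hfr : ∀ (P : Subgroup Ω), P ≤ T → ∀ φ ∈ D₁.Hom P,
      ∃ k ∈ H₁, ∃ e ∈ E.Hom P, ∀ (x : P) (hx : e x ∈ T), φ x = ((k ⟨e x, hx⟩ : T) : Ω))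
    (hV : ∀ β ∈ D₀.autGroup (T ⊔ centralizerIn S T), ∀ h ∈ H₁,
      (∀ t : T, ((β ⟨t, Subgroup.mem_sup_left t.2⟩ : ↥(T ⊔ centralizerIn S T)) : Ω) = ((h t : T) : Ω)) →
      β ∈ D₁.autGroup (T ⊔ centralizerIn S T))
    (hlim : SameLimit p D₀ D₁) : Stage p F E H₁ D₁ := by
  have hR₁R₀ := hDi.2.1.1
  have hR₀S := h₀.normal.1.2.2.2.1.1
  have hR₁S := hR₁R₀.trans hR₀S
  have hC₁ : centralizerIn S T ≤ R₁ := hR₁ ▸ centralizerIn_le_inducing H₁
  have hC₀ : centralizerIn S T ≤ R₀ := hC₁.trans hR₁R₀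
  have hc₀ := centralizerIn_eq_of_le hR₀S hC₀
  have hc₁ := centralizerIn_eq_of_le hR₁S hC₁
  have hTsc₀ := h₀.inner.1.2.2.2.1
  haveI := finite_of_le hR₁S
  haveI := finite_of_le hR₀S
  have hTR₀ := hTsc₀.1
  have hTS : T ≤ S := hTR₀.trans hR₀S
  haveI := finite_of_le hTS
  have hTR₁ : T ≤ R₁ := fun x hx => by
    have h1 := hED T (subtype_mem le_rfl)
    exact le_of_hom h1 hx
  have hVR₁ : T ⊔ centralizerIn S T ≤ R₁ := sup_le hTR₁ hC₁
  have hTsc₁ : D₁.StronglyClosed T := ⟨hTR₁, fun P hP φ hφ => hTsc₀.2 P hP φ (hDi.1 P hφ)⟩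
  have haut : D₁.autGroup T = H₁ := by
    refine le_antisymm (fun α hα => ?_) fun h hh => ?_
    · obtain ⟨k, hk, e, he, hag⟩ := hfr T le_rfl _ ((mem_autGroup hTR₁).1 hα)
      have hbij : Function.Bijective (e.codRestrict T (val_mem he)) :=
        Finite.injective_iff_bijective.1 fun x y h => E.injective_of_mem he (congrArg Subtype.val h :)
      obtain ⟨ε, hε⟩ : ∃ ε : MulAut T, ∀ x, ((ε x : T) : Ω) = e x := ⟨MulEquiv.ofBijective _ hbij, fun _ => rfl⟩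
      have hεE : ε ∈ E.autGroup T := (mem_autGroup le_rfl).2 (mem_of_eq he hε)
      rw [show α = k * ε from MulEquiv.ext fun x => Subtype.ext ((hag x (val_mem he x)).trans
        (congrArg (fun z : T => ((k z : T) : Ω)) (Subtype.ext (hε x).symm)))]
      exact H₁.mul_mem hk (hEH hεE)
    · obtain ⟨β, hβ, hag⟩ := exists_extend_sup_centralizer (p := p) (hS.to_le hR₀S) h₀.inner.1.2.1 hTsc₀
        (h := h) (h₀.aut.symm ▸ hH₁ hh)
      revert β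
      rw [hc₀]
      intro β hβ hag
      exact (mem_autGroup hTR₁).2 (restrict_of_eq ((mem_autGroup hVR₁).1 (hV β hβ h hh hag)) le_sup_left
        fun t => (hag t).symm)
  have hpres : ∀ a ∈ F.autGroup R₀, ∀ x : R₁, ((a ⟨x, hR₁R₀ x.2⟩ : R₀) : Ω) ∈ R₁ := by
    intro a ha x
    obtain ⟨y, hy⟩ : ∃ y : R₀, y = a ⟨x, hR₁R₀ x.2⟩ := ⟨_, rfl⟩
    obtain ⟨-, h, hh, hhx⟩ := hR₁.le x.2
    obtain ⟨α, hα, hαa⟩ := exists_restrict_aut hFT hTR₀ hR₀S ha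
    have h2 : (y : Ω) ∈ inducing S H₁ := ⟨hR₀S y.2, α * h * α⁻¹, hnorm α hα h hh, fun t => by
      obtain ⟨t₀, rfl⟩ := α.surjective t
      rw [MulAut.mul_apply, MulAut.mul_apply, MulAut.inv_apply_self]
      have e1 : (⟨((h t₀ : T) : Ω), hTR₀ (h t₀).2⟩ : R₀) = ⟨x, hR₁R₀ x.2⟩ * ⟨t₀, hTR₀ t₀.2⟩ * ⟨x, hR₁R₀ x.2⟩⁻¹ :=
        Subtype.ext (hhx t₀)
      rw [← hαa, ← hαa, e1, map_mul, map_mul, map_inv, ← hy]
      rfl⟩
    rw [← hy]
    exact hR₁ ▸ h2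
  let B : Subgroup (MulAut R₁) :=
    { carrier := {b | ∃ a ∈ F.autGroup R₀, ∀ x : R₁, ((b x : R₁) : Ω) = ((a ⟨x, hR₁R₀ x.2⟩ : R₀) : Ω)}
      one_mem' := ⟨1, one_mem _, fun x => rfl⟩
      mul_mem' := by
        rintro b b' ⟨a, ha, hax⟩ ⟨a', ha', hax'⟩
        refine ⟨a * a', mul_mem ha ha', fun x => ?_⟩
        rw [MulAut.mul_apply, hax, MulAut.mul_apply]
        exact congrArg (fun z : R₀ => ((a z : R₀) : Ω)) (Subtype.ext (hax' x))
      inv_mem' := by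
        rintro b ⟨a, ha, hax⟩
        refine ⟨a⁻¹, inv_mem ha, fun x => ?_⟩
        have h1 : a ⟨(b⁻¹ x : R₁), hR₁R₀ (b⁻¹ x).2⟩ = ⟨x, hR₁R₀ x.2⟩ := Subtype.ext (by
          rw [← hax, MulAut.apply_inv_self])
        rw [← h1, MulAut.inv_apply_self] }
  have hcenR : centralizerIn S R₁ ≤ R₁ := fun x hx => hC₁ ⟨hx.1, Subgroup.mem_centralizer_iff.2 fun t ht =>
    Subgroup.mem_centralizer_iff.1 hx.2 t (hTR₁ ht)⟩
  refine ⟨hR₁, isNormalIn_of_outer h₀.normal hD₁ hDi hcenR B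
    (fun P φ hφ b hb Q hQ hm => by
      obtain ⟨a, ha, hax⟩ := hb
      exact hout a ha b hax P φ hφ Q hQ hm) (fun a ha => ?_), ⟨⟨h₀.inner.1.1, hD₁, hED, hTsc₁, ?_, ?_⟩, ?_⟩,
    haut, fun {U V L L'} hL hL' P => ?_⟩
  · obtain ⟨b, hb⟩ : ∃ b : MulAut R₁, ∀ x : R₁, ((b x : R₁) : Ω) = ((a ⟨x, hR₁R₀ x.2⟩ : R₀) : Ω) := by
      have hbij : Function.Bijective
          (((R₀.subtype.comp a.toMonoidHom).comp (Subgroup.inclusion hR₁R₀)).codRestrict R₁ (hpres a ha)) :=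
        Finite.injective_iff_bijective.1 fun x y e => Subgroup.inclusion_injective hR₁R₀
          (a.injective (Subtype.ext (congrArg Subtype.val e :)))
      exact ⟨MulEquiv.ofBijective _ hbij, fun x => rfl⟩
    exact ⟨b, ⟨a, ha, hb⟩, hb⟩
  · intro P hP φ hφ α hα
    refine h₀.inner.1.2.2.2.2.1 P hP φ hφ α ((mem_autGroup hTR₀).2 (hDi.1 T ((mem_autGroup hTR₁).1 hα)))
  · intro P hP φ hφ
    obtain ⟨k, hk, e, he, hag⟩ := hfr P hP φ hφ
    exact ⟨k, haut.symm ▸ hk, e, he, hag⟩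
  · intro α hα
    obtain ⟨β, hβ, hag, hcc⟩ := h₀.inner.2 α hα
    have tr : ∀ {U : Subgroup Ω} (G : Cfsg.FusionSystem U) {X Y : Subgroup Ω}, X = Y →
        (∃ β ∈ G.autGroup (T ⊔ X), (∀ t : T, ((β ⟨t, Subgroup.mem_sup_left t.2⟩ : ↥(T ⊔ X)) : Ω) = ((α t : T) : Ω)) ∧
          ∀ c : ↥(T ⊔ X), (c : Ω) ∈ X → (c : Ω)⁻¹ * ((β c : ↥(T ⊔ X)) : Ω) ∈ T ⊓ Subgroup.centralizer (T : Set Ω)) →
        ∃ β ∈ G.autGroup (T ⊔ Y), (∀ t : T, ((β ⟨t, Subgroup.mem_sup_left t.2⟩ : ↥(T ⊔ Y)) : Ω) = ((α t : T) : Ω)) ∧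
          ∀ c : ↥(T ⊔ Y), (c : Ω) ∈ Y → (c : Ω)⁻¹ * ((β c : ↥(T ⊔ Y)) : Ω) ∈ T ⊓ Subgroup.centralizer (T : Set Ω) := by
      intro U G X Y e h; subst e; exact h
    obtain ⟨γ, hγ, hγag, hγc⟩ := tr D₀ hc₀ ⟨β, hβ, hag, hcc⟩
    exact tr D₁ hc₁.symm ⟨γ, hV γ hγ α (hEH hα) hγag, hγag, hγc⟩
  · obtain ⟨_, L₀, hL₀⟩ := exists_limit (p := p) _ D₀ (hS.to_le hR₀S) h₀.inner.1.2.1 le_rfl
    rw [h₀.limit hL hL₀, hlim hL₀ hL']

end CfsgLib.Fusion
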