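import Cfsg.Agent.Fusion.Alperin
import Cfsg.Agent.PLocalBasics.TransvectionPair

/-!
An automorphism group of a group of order `p²` with a non-normal Sylow `p`-subgroup contains `SL₂(p)`;
application to essential subgroups of order `p²`.
-/

set_option autoImplicit false
set_option linter.style.haveILetI false

open Cfsg
open scoped commutatorElement
open Matrix (SpecialLinearGroup)

namespace CfsgLib.Fusion

universe u

variable {H : Type u} [Group H] [Finite H] {p : ℕ} [hp : Fact p.Prime]

/-- Two automorphisms of a cyclic group commute. -/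
lemma mulAut_comm_of_cyclic [IsCyclic H] (α β : MulAut H) : α * β = β * α := by
  obtain ⟨c, hc⟩ := IsCyclic.exists_generator (α := H)
  obtain ⟨k, hk⟩ := Subgroup.mem_zpowers_iff.1 (hc (α c))
  obtain ⟨l, hl⟩ := Subgroup.mem_zpowers_iff.1 (hc (β c))
  ext x
  obtain ⟨i, rfl⟩ := Subgroup.mem_zpowers_iff.1 (hc x)
  simp only [MulAut.mul_apply, map_zpow, ← hk, ← hl, ← zpow_mul, mul_comm k l]

/-- A `p`-group of automorphisms of an elementary abelian group of order `p²` fixes a line pointwise and
centralizes the quotient by it; in particular it has order at most `p`. -/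
lemma pGroup_aut_square (hcard : Nat.card H = p ^ 2) (hexp : ∀ x : H, x ^ p = 1) (X : Subgroup (MulAut H))
    (hX : IsPGroup p X) :
    ∃ u : H, u ≠ 1 ∧ (∀ α ∈ X, α u = u) ∧ (∀ α ∈ X, ∀ x, x⁻¹ * α x ∈ Subgroup.zpowers u) ∧ Nat.card X ≤ p := by
  have hpp : p.Prime := hp.out
  haveI : Finite (MulAut H) := Finite.of_injective (fun α : MulAut H => (α : H → H)) DFunLike.coe_injective
  letI : MulAction X H :=
    { smul := fun α x => (α : MulAut H) x, one_smul := fun _ => rfl, mul_smul := fun _ _ _ => rfl }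
  obtain ⟨u, hu, hu1⟩ : ∃ u ∈ MulAction.fixedPoints X H, (1 : H) ≠ u :=
    hX.exists_fixed_point_of_prime_dvd_card_of_fixed_point H (hcard ▸ dvd_pow_self p two_ne_zero)
      (fun α => map_one (α : MulAut H))
  have hfix : ∀ α ∈ X, α u = u := fun α hα => hu ⟨α, hα⟩
  set U := Subgroup.zpowers u
  have hUcard : Nat.card U = p := by rw [Nat.card_zpowers, orderOf_eq_prime (hexp u) (Ne.symm hu1)]
  have hcomm : ∀ x y : H, x * y = y * x := fun x y =>
    (IsPGroup.commutative_of_card_eq_prime_sq hcard) x y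
  haveI : U.Normal := ⟨fun n hn g => by rwa [hcomm g n, mul_inv_cancel_right]⟩
  have hQ : Nat.card (H ⧸ U) = p := by
    have h := Subgroup.card_eq_card_quotient_mul_card_subgroup U
    rw [hcard, hUcard, pow_two] at h
    exact (Nat.eq_of_mul_eq_mul_right hpp.pos h).symm
  haveI hQc : IsCyclic (H ⧸ U) := isCyclic_of_prime_card hQ
  have hUinv : ∀ α ∈ X, ∀ y ∈ U, α y = y := by
    rintro α hα _ ⟨i, rfl⟩
    simp only [map_zpow, hfix α hα]
  have hline : ∀ α ∈ X, ∀ x, x⁻¹ * α x ∈ U := by
    intro α hα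
    let f : H ⧸ U →* H ⧸ U := QuotientGroup.map U U α.toMonoidHom fun y hy => by
      show α y ∈ U
      rw [hUinv α hα y hy]; exact hy
    obtain ⟨k, hk⟩ := hX ⟨α, hα⟩
    have hk' : α ^ p ^ k = 1 := congrArg Subtype.val hk
    obtain ⟨c, hc⟩ := hQc.exists_generator
    obtain ⟨i, hi⟩ := Subgroup.mem_zpowers_iff.1 (hc (f c))
    have hfn : ∀ (n : ℕ) (x : H), (QuotientGroup.mk ((α ^ n) x) : H ⧸ U) = (f^[n]) (QuotientGroup.mk x) := by
      intro n
      induction n with
      | zero => intro x; rfl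
      | succ n ih => intro x; rw [pow_succ', MulAut.mul_apply, Function.iterate_succ_apply', ← ih]; rfl
    have hiter : ∀ n : ℕ, (f^[n]) c = c ^ (i ^ n) := by
      intro n
      induction n with
      | zero => simp
      | succ n ih => rw [Function.iterate_succ_apply', ih, map_zpow, ← hi, ← zpow_mul, ← pow_succ']
    obtain ⟨c₀, rfl⟩ := QuotientGroup.mk_surjective c
    have h1 := hiter (p ^ k)
    rw [← hfn, hk', MulAut.one_apply] at h1
    have hord : orderOf (QuotientGroup.mk c₀ : H ⧸ U) = p := by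
      rw [orderOf_eq_card_of_forall_mem_zpowers hc, hQ]
    have h2 : (i : ZMod p) = 1 := by
      have h3 : ((i ^ p ^ k : ℤ) : ZMod p) = ((1 : ℤ) : ZMod p) := by
        rw [ZMod.intCast_eq_intCast_iff]
        have := (zpow_eq_zpow_iff_modEq (x := (QuotientGroup.mk c₀ : H ⧸ U))).1
          (h1.symm.trans (zpow_one _).symm)
        rwa [hord] at this
      push_cast at h3
      rwa [ZMod.pow_card_pow] at h3
    have h4 : f (QuotientGroup.mk c₀) = QuotientGroup.mk c₀ := by
      rw [← hi]
      conv_rhs => rw [← zpow_one (QuotientGroup.mk c₀ : H ⧸ U)]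
      rw [zpow_eq_zpow_iff_modEq, hord, ← ZMod.intCast_eq_intCast_iff]
      simpa using h2
    intro x
    obtain ⟨j, hj⟩ := Subgroup.mem_zpowers_iff.1 (hc (QuotientGroup.mk x))
    refine QuotientGroup.eq.1 ?_
    have h5 : (QuotientGroup.mk (α x) : H ⧸ U) = f (QuotientGroup.mk x) := rfl
    rw [h5, ← hj, map_zpow, h4]
  refine ⟨u, Ne.symm hu1, hfix, hline, ?_⟩
  obtain ⟨v, hv⟩ : ∃ v, v ∉ U := by
    by_contra h
    push_neg at h
    have : Nat.card U = Nat.card H := by rw [(Subgroup.eq_top_iff' U).2 h, Subgroup.card_top]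
    rw [hUcard, hcard] at this
    nlinarith [hpp.two_le]
  refine (Nat.card_le_card_of_injective (fun α : X => (⟨v⁻¹ * (α : MulAut H) v, hline _ α.2 v⟩ : U))
    fun α β h => Subtype.ext (MulEquiv.ext fun x => ?_)).trans hUcard.le
  have hv' : (α : MulAut H) v = (β : MulAut H) v := mul_left_cancel (congrArg Subtype.val h)
  have hgen : U ⊔ Subgroup.zpowers v = ⊤ := by
    have h1 : U < U ⊔ Subgroup.zpowers v :=
      lt_of_le_of_ne le_sup_left fun e => hv (e.symm ▸ Subgroup.mem_sup_right (Subgroup.mem_zpowers v))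
    refine Subgroup.eq_top_of_card_eq _ ?_
    have h2 := Subgroup.card_subgroup_dvd_card (U ⊔ Subgroup.zpowers v)
    rw [hcard] at h2 ⊢
    obtain ⟨j, hj, he⟩ := (Nat.dvd_prime_pow hpp).1 h2
    have h3 : Nat.card U < Nat.card ↥(U ⊔ Subgroup.zpowers v) := by
      refine lt_of_le_of_ne (Subgroup.card_le_of_le le_sup_left) fun e => h1.ne ?_
      exact Subgroup.eq_of_le_of_card_ge le_sup_left e.ge
    rw [hUcard, he] at h3
    interval_cases j <;> simp_all
  have hle : (⊤ : Subgroup H) ≤ (α : MulAut H).toMonoidHom.eqLocus (β : MulAut H).toMonoidHom := by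
    rw [← hgen]
    exact sup_le (fun y hy => (hUinv _ α.2 y hy).trans (hUinv _ β.2 y hy).symm) (Subgroup.zpowers_le.2 hv')
  exact hle (Subgroup.mem_top x)

theorem exists_sl2_of_aut (hcard : Nat.card H = p ^ 2) (hexp : ∀ x : H, x ^ p = 1)
    (A : Subgroup (MulAut H)) (hp' : p ∣ Nat.card A) (T : Sylow p A) (hT : ¬ (T : Subgroup A).Normal) :
    ∃ K : Subgroup A, Nonempty (K ≃* SpecialLinearGroup (Fin 2) (ZMod p)) := by
  have hpp : p.Prime := hp.out
  haveI : Finite (MulAut H) := Finite.of_injective (fun α : MulAut H => (α : H → H)) DFunLike.coe_injective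
  have hgen : ∀ T : Sylow p A, ∃ a : A, orderOf a = p ∧ (T : Subgroup A) = Subgroup.zpowers a := by
    intro T
    have h1 : Nat.card (T : Subgroup A) ≤ p := by
      obtain ⟨u, -, -, -, h⟩ := pGroup_aut_square hcard hexp _ (T.2.map A.subtype)
      rwa [Subgroup.card_map_of_injective A.subtype_injective] at h
    have h2 : p ∣ Nat.card (T : Subgroup A) := T.dvd_card_of_dvd_card hp'
    have h3 : Nat.card (T : Subgroup A) = p := le_antisymm h1 (Nat.le_of_dvd Nat.card_pos h2)
    obtain ⟨a, ha⟩ := exists_prime_orderOf_dvd_card' p h2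
    refine ⟨a, by rwa [Subgroup.orderOf_coe], (Subgroup.eq_of_le_of_card_ge (Subgroup.zpowers_le.2 a.2) ?_).symm⟩
    rw [Nat.card_zpowers, Subgroup.orderOf_coe, ha, h3]
  obtain ⟨T₂, hT₂⟩ : ∃ T₂ : Sylow p A, T₂ ≠ T := by
    by_contra h
    push_neg at h
    haveI : Subsingleton (Sylow p A) := ⟨fun a b => (h a).trans (h b).symm⟩
    exact hT T.normal_of_subsingleton
  obtain ⟨a, hao, haT⟩ := hgen T
  obtain ⟨b, hbo, hbT⟩ := hgen T₂
  let φ : MulAut H →* MulAut H := MonoidHom.id _
  let G := SemidirectProduct H (MulAut H) φ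
  haveI : Finite G := Finite.of_equiv _ SemidirectProduct.equivProd.symm
  set V : Subgroup G := (SemidirectProduct.inl : H →* G).range
  have hinl : Function.Injective (SemidirectProduct.inl : H →* G) := SemidirectProduct.inl_injective
  have hinr : Function.Injective (SemidirectProduct.inr : MulAut H →* G) := SemidirectProduct.inr_injective
  have hV : Cfsg.IsElementaryAbelian p V := by
    refine ⟨⟨⟨fun x y => Subtype.ext ?_⟩⟩, ?_⟩
    · obtain ⟨x', hx⟩ := x.2
      obtain ⟨y', hy⟩ := y.2
      show (x : G) * y = y * x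
      rw [← hx, ← hy, ← map_mul, ← map_mul, (IsPGroup.commutative_of_card_eq_prime_sq hcard) x' y']
    · rintro _ ⟨x, rfl⟩
      rw [← map_pow, hexp, map_one]
  have hconj : ∀ (γ : MulAut H) (x : H), (SemidirectProduct.inl (γ x) : G) =
      SemidirectProduct.inr γ * SemidirectProduct.inl x * (SemidirectProduct.inr γ)⁻¹ := fun γ x => by
    rw [← map_inv]; exact SemidirectProduct.inl_aut γ x
  have htr : ∀ c : A, orderOf c = p → ∃ u : G,
      CfsgLib.PLocalBasics.Transv p V (SemidirectProduct.inr (c : MulAut H) : G) u := by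
    intro c hc
    have hX : IsPGroup p (Subgroup.zpowers (c : MulAut H)) :=
      IsPGroup.of_card (n := 1) (by rw [Nat.card_zpowers, Subgroup.orderOf_coe, hc, pow_one])
    obtain ⟨u, hu1, hfix, hline, -⟩ := pGroup_aut_square hcard hexp _ hX
    have hcz := Subgroup.mem_zpowers (c : MulAut H)
    have hc1 : (c : MulAut H) ≠ 1 := fun h => hpp.ne_one (by rw [← hc, ← Subgroup.orderOf_coe, h, orderOf_one])
    have hfix' : ∀ y, y ∈ Subgroup.zpowers u → (c : MulAut H) y = y := by
      rintro _ ⟨i, rfl⟩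
      simp only [map_zpow, hfix _ hcz]
    refine ⟨SemidirectProduct.inl u, ⟨?_, ?_, ?_, ⟨u, rfl⟩, ?_, ?_, ?_, ?_⟩⟩
    · refine Subgroup.mem_normalizer_iff.2 fun z => ⟨?_, ?_⟩
      · rintro ⟨x, rfl⟩; exact ⟨_, hconj _ x⟩
      · rintro ⟨x, hx⟩
        refine ⟨((c : MulAut H)⁻¹) x, ?_⟩
        rw [hconj, map_inv, inv_inv, hx]
        group
    · rw [← map_pow, show (c : MulAut H) ^ p = 1 by rw [← hc, ← Subgroup.orderOf_coe]; exact pow_orderOf_eq_one _,
        map_one]
    · exact fun h => hc1 (hinr (h.trans (map_one _).symm))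
    · exact fun h => hu1 (hinl (h.trans (map_one _).symm))
    · rintro _ ⟨x, rfl⟩
      rw [← MonoidHom.map_zpowers]
      refine ⟨x * ((c : MulAut H) x)⁻¹, ?_, ?_⟩
      · have h := hline _ hcz x⁻¹
        rw [map_inv, inv_inv] at h
        exact h
      · rw [map_mul, map_inv, hconj, commutatorElement_def]
        group
    · have h := hconj (c : MulAut H) u
      rw [hfix _ hcz] at h
      exact (eq_mul_inv_iff_mul_eq.1 h).symm
    · have hC : V ⊓ Subgroup.centralizer (Subgroup.zpowers (SemidirectProduct.inr (c : MulAut H) : G) : Set G) =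
          (Subgroup.zpowers u).map SemidirectProduct.inl := by
        refine le_antisymm ?_ ?_
        · rintro _ ⟨⟨x, rfl⟩, hx⟩
          have h := Subgroup.mem_centralizer_iff.1 hx _ (Subgroup.mem_zpowers _)
          have h2 : (c : MulAut H) x = x := hinl (by rw [hconj, h, mul_inv_cancel_right])
          by_contra hxu
          refine hc1 (MulEquiv.ext fun y => ?_)
          have hxU : x ∉ Subgroup.zpowers u := fun h => hxu ⟨x, h, rfl⟩
          have htop : Subgroup.zpowers u ⊔ Subgroup.zpowers x = ⊤ := by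
            refine Subgroup.eq_top_of_le_card _ ?_
            have hlt : Subgroup.zpowers u < Subgroup.zpowers u ⊔ Subgroup.zpowers x :=
              lt_of_le_of_ne le_sup_left fun e => hxU (e.symm ▸ Subgroup.mem_sup_right (Subgroup.mem_zpowers x))
            obtain ⟨j, hj, he⟩ := (Nat.dvd_prime_pow hpp).1
              (hcard ▸ Subgroup.card_subgroup_dvd_card (Subgroup.zpowers u ⊔ Subgroup.zpowers x))
            have h3 : Nat.card (Subgroup.zpowers u) < Nat.card ↥(Subgroup.zpowers u ⊔ Subgroup.zpowers x) := by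
              refine lt_of_le_of_ne (Subgroup.card_le_of_le le_sup_left) fun e => hlt.ne ?_
              exact Subgroup.eq_of_le_of_card_ge le_sup_left e.ge
            rw [Nat.card_zpowers, orderOf_eq_prime (hexp u) hu1, he] at h3
            rw [hcard, he]
            interval_cases j <;> simp_all
          have hle : (⊤ : Subgroup H) ≤ (c : MulAut H).toMonoidHom.eqLocus (MonoidHom.id H) := by
            rw [← htop]
            exact sup_le hfix' (Subgroup.zpowers_le.2 h2)
          exact hle (Subgroup.mem_top y)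
        · rintro _ ⟨x, hx, rfl⟩
          refine ⟨⟨x, rfl⟩, ?_⟩
          show _ ∈ Subgroup.centralizer _
          rw [Subgroup.zpowers_eq_closure, Subgroup.centralizer_closure, Subgroup.mem_centralizer_singleton_iff]
          have h := hconj (c : MulAut H) x
          rw [hfix' x hx] at h
          exact eq_mul_inv_iff_mul_eq.1 h
      rw [hC]
      have hVe : V = (⊤ : Subgroup H).map SemidirectProduct.inl := MonoidHom.range_eq_map _
      rw [hVe, Subgroup.relIndex_map_map_of_injective _ _ hinl, Subgroup.relIndex_top_right]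
      have h := Subgroup.index_mul_card (Subgroup.zpowers u)
      rw [Nat.card_zpowers, orderOf_eq_prime (hexp u) hu1, hcard, pow_two] at h
      exact Nat.eq_of_mul_eq_mul_right hpp.pos h
  obtain ⟨ua, hua⟩ := htr a hao
  obtain ⟨ub, hub⟩ := htr b hbo
  set L := Subgroup.closure ({SemidirectProduct.inr (a : MulAut H), SemidirectProduct.inr (b : MulAut H)} : Set G)
  set K := Subgroup.closure ({a, b} : Set A)
  let f : A →* G := SemidirectProduct.inr.comp A.subtype
  have hf : Function.Injective f := hinr.comp A.subtype_injective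
  have hLK : L = K.map f := by
    rw [MonoidHom.map_closure, Set.image_pair]
    rfl
  have hfaith : ∀ g ∈ L, g ∈ Subgroup.centralizer (V : Set G) → g = 1 := by
    intro g hg hgc
    rw [hLK] at hg
    obtain ⟨c, -, rfl⟩ := hg
    have : (c : MulAut H) = 1 := MulEquiv.ext fun x => hinl (by
      have h := Subgroup.mem_centralizer_iff.1 hgc _ ⟨x, rfl⟩
      rw [MulAut.one_apply, hconj]
      show f c * _ * (f c)⁻¹ = _
      rw [← h, mul_inv_cancel_right])
    show SemidirectProduct.inr (c : MulAut H) = 1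
    rw [this, map_one]
  have hnp : ¬ IsPGroup p L := by
    intro hL
    rw [hLK] at hL
    have hK : IsPGroup p K := hL.of_equiv (K.equivMapOfInjective f hf).symm
    obtain ⟨u, -, -, -, hle⟩ := pGroup_aut_square hcard hexp _ (hK.map A.subtype)
    rw [Subgroup.card_map_of_injective A.subtype_injective] at hle
    have hKeq : ∀ c : A, orderOf c = p → c ∈ K → Subgroup.zpowers c = K := fun c hc hcK =>
      Subgroup.eq_of_le_of_card_ge (Subgroup.zpowers_le.2 hcK) (by rw [Nat.card_zpowers, hc]; exact hle)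
    refine hT₂ (Sylow.ext ?_)
    rw [haT, hbT, hKeq a hao (Subgroup.subset_closure (Set.mem_insert _ _)),
      hKeq b hbo (Subgroup.subset_closure (Set.mem_insert_of_mem _ rfl))]
  obtain ⟨e⟩ := (CfsgLib.PLocalBasics.pair_data hV hua hub hfaith hnp).iso
  exact ⟨K, ⟨((K.equivMapOfInjective f hf).trans (MulEquiv.subgroupCongr hLK.symm)).trans e⟩⟩

open Cfsg.FusionSystem in
theorem essential_square {Ω : Type u} [Group Ω] {S : Subgroup Ω} [Finite S] {F : Cfsg.FusionSystem S}
    (H : Subgroup Ω) (hH : F.IsEssential p H) (hcard : Nat.card H = p ^ 2) :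
    Cfsg.IsElementaryAbelian p H ∧
      ∃ K : Subgroup ↥(F.autGroup H), Nonempty (↥K ≃* SpecialLinearGroup (Fin 2) (ZMod p)) := by
  have hpp : p.Prime := hp.out
  obtain ⟨hc, -, hIn, Y, hdvd, hYne, P, hPY⟩ := hH
  haveI := hIn
  haveI := finite_of_le hc.1
  haveI := finite_mulAut hc.1
  have hcm : ∀ x y : H, x * y = y * x := fun x y =>
    (IsPGroup.commutative_of_card_eq_prime_sq hcard) x y
  set A := F.autGroup H
  have hI : (Cfsg.Inn H).subgroupOf A = ⊥ := by
    rw [eq_bot_iff]
    rintro ⟨c, hcA⟩ hc'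
    obtain ⟨g, hg⟩ : c ∈ Cfsg.Inn H := hc'
    refine Subgroup.mem_bot.2 (Subtype.ext (MulEquiv.ext fun x => ?_))
    show c x = x
    rw [← hg]
    show g * x * g⁻¹ = x
    rw [hcm g x, mul_inv_cancel_right]
  set X := A ⧸ (Cfsg.Inn H).subgroupOf A
  let π : A →* X := QuotientGroup.mk' _
  have hπ : Function.Surjective π := QuotientGroup.mk'_surjective _
  have hdA : p ∣ Nat.card A := hdvd.trans (Subgroup.card_dvd_of_surjective π hπ)
  obtain ⟨T⟩ : Nonempty (Sylow p A) := inferInstance
  have hTn : ¬ (T : Subgroup A).Normal := by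
    intro hT
    haveI : Subsingleton (Sylow p A) := @Sylow.unique_of_normal _ _ _ _ _ T hT |>.instSubsingleton
    haveI : (P : Subgroup X).Normal := by
      obtain ⟨T', hT'⟩ := Sylow.mapSurjective_surjective hπ p P
      rw [← hT', Sylow.coe_mapSurjective, Subsingleton.elim T' T]
      exact hT.map π hπ
    refine hYne (top_le_iff.1 (le_trans ?_ hPY))
    have hrank : ¬ Cfsg.PRankLE p (1 - 1) (P : Subgroup X) := by
      intro hr
      have h2 : p ∣ Nat.card (P : Subgroup X) := P.dvd_card_of_dvd_card hdvd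
      obtain ⟨z, hz⟩ := exists_prime_orderOf_dvd_card' p h2
      have h3 := hr (Subgroup.zpowers z) inferInstance (by
        rintro _ ⟨i, rfl⟩
        show (z ^ i) ^ p = 1
        exact orderOf_dvd_iff_pow_eq_one.1 ((orderOf_dvd_of_mem_zpowers ⟨i, rfl⟩).trans hz.dvd))
      rw [Nat.card_zpowers, hz] at h3
      simp at h3
      exact absurd h3 (by have := hpp.two_le; omega)
    refine le_trans ?_ (le_iSup (fun Q : {Q : Subgroup X // Q ≤ (P : Subgroup X) ∧ ¬ Cfsg.PRankLE p (1 - 1) Q} =>
      Subgroup.normalizer ((Q : Subgroup X) : Set X)) ⟨(P : Subgroup X), le_rfl, hrank⟩)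
    rw [Subgroup.normalizer_eq_top_iff.2 inferInstance]
  have hexp : ∀ x : H, x ^ p = 1 := by
    intro x
    by_contra hx
    haveI : IsCyclic H := by
      obtain ⟨j, hj, he⟩ := (Nat.dvd_prime_pow hpp).1 (hcard ▸ orderOf_dvd_natCard x)
      refine isCyclic_of_orderOf_eq_card x ?_
      rcases Nat.lt_or_ge j 2 with h | h
      · exact absurd (orderOf_dvd_iff_pow_eq_one.1 (he ▸ (pow_dvd_pow p (Nat.lt_succ_iff.1 h)).trans (pow_one p).dvd)) hx
      · rw [he, hcard, le_antisymm hj h]
    refine hTn ⟨fun n hn g => ?_⟩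
    have : g * n = n * g := Subtype.ext (mulAut_comm_of_cyclic _ _)
    rwa [this, mul_inv_cancel_right]
  exact ⟨⟨⟨⟨hcm⟩⟩, fun a ha => congrArg Subtype.val (hexp ⟨a, ha⟩)⟩, exists_sl2_of_aut hcard hexp A hdA T hTn⟩

end CfsgLib.Fusion
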