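import Cfsg.Agent.Fusion.NormalSub
import Cfsg.Agent.Fusion.AlperinCor
import Cfsg.Agent.Fusion.SeriesNormal
import Cfsg.Agent.Fusion.Alperin
import Cfsg.Agent.Fusion.Saturated
import Cfsg.Agent.PCore.Basic
import Cfsg.Prelude.Def_Transfer

/-!
Saturated fusion systems on a `p`-group with an extraspecial subgroup of index `p`: the centre.
-/

set_option autoImplicit false
set_option linter.style.haveILetI false

open Cfsg
open scoped commutatorElement

namespace CfsgLib.Fusion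

open Cfsg.FusionSystem

universe u

section Abstract

variable {R : Type u} [Group R]

/-- The automorphisms fixing `Z` pointwise and moving every element within its `Z`-coset. -/
def lineStab (Z : Subgroup R) : Subgroup (MulAut R) where
  carrier := {x | (∀ e ∈ Z, x e = e) ∧ ∀ e : R, e⁻¹ * x e ∈ Z}
  one_mem' := ⟨fun _ _ => rfl, fun e => by simp⟩
  mul_mem' := by
    rintro x y ⟨hx1, hx2⟩ ⟨hy1, hy2⟩
    refine ⟨fun e he => by rw [MulAut.mul_apply, hy1 e he, hx1 e he], fun e => ?_⟩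
    have h : (x * y) e = x e * (e⁻¹ * y e) := by
      conv_rhs => rw [← hx1 _ (hy2 e), ← map_mul, mul_inv_cancel_left]
      rfl
    rw [h, ← mul_assoc]
    exact Z.mul_mem (hx2 e) (hy2 e)
  inv_mem' := by
    rintro x ⟨hx1, hx2⟩
    have h1 : ∀ e ∈ Z, x⁻¹ e = e := fun e he => by
      conv_lhs => rw [← hx1 e he]
      exact MulAut.inv_apply_self _ x e
    refine ⟨h1, fun e => ?_⟩
    have h2 := Z.inv_mem (hx2 (x⁻¹ e))
    rwa [MulAut.apply_inv_self, mul_inv_rev, inv_inv] at h2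

lemma lineStab_pow {Z : Subgroup R} {x : MulAut R} (hx : x ∈ lineStab Z) (e : R) :
    ∀ n : ℕ, (x ^ n) e = e * (e⁻¹ * x e) ^ n := by
  intro n
  induction n with
  | zero => simp
  | succ n ih =>
    rw [pow_succ', MulAut.mul_apply, ih, map_mul, hx.1 _ (Z.pow_mem (hx.2 e) n), pow_succ' (e⁻¹ * x e),
      ← mul_assoc, mul_inv_cancel_left]

lemma conj_mem_lineStab {Z : Subgroup R} {h x : MulAut R} (hx : x ∈ lineStab Z) :
    h * x * h⁻¹ ∈ lineStab (Z.map h.toMonoidHom) := by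
  refine ⟨?_, fun e => ?_⟩
  · rintro _ ⟨e, he, rfl⟩
    show h (x (h⁻¹ (h e))) = h e
    rw [MulAut.inv_apply_self, hx.1 e he]
  · refine ⟨(h⁻¹ e)⁻¹ * x (h⁻¹ e), hx.2 _, ?_⟩
    show h ((h⁻¹ e)⁻¹ * x (h⁻¹ e)) = e⁻¹ * h (x (h⁻¹ e))
    rw [map_mul, map_inv h, MulAut.apply_inv_self]

lemma map_map_mulAut (Z : Subgroup R) (a b : MulAut R) :
    (Z.map b.toMonoidHom).map a.toMonoidHom = Z.map (a * b).toMonoidHom := by
  rw [Subgroup.map_map]
  rfl

variable {p : ℕ} [hp : Fact p.Prime]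

lemma pow_prime_eq_one {Z : Subgroup R} (hZ : Nat.card Z = p) {a : R} (ha : a ∈ Z) : a ^ p = 1 := by
  have h := pow_card_eq_one' (x := (⟨a, ha⟩ : Z))
  rw [hZ] at h
  exact congrArg Subtype.val h

lemma exists_pow_eq {Z : Subgroup R} (hZ : Nat.card Z = p) {a b : R} (ha : a ∈ Z) (ha1 : a ≠ 1) (hb : b ∈ Z) :
    ∃ k : ℕ, a ^ k = b := by
  have h := mem_powers_of_prime_card (g := (⟨a, ha⟩ : Z)) (g' := ⟨b, hb⟩) hZ
    (fun h => ha1 (congrArg Subtype.val h))
  obtain ⟨k, hk⟩ := h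
  exact ⟨k, congrArg Subtype.val hk⟩

lemma eq_of_common {Z Z' : Subgroup R} (hZ : Nat.card Z = p) (hZ' : Nat.card Z' = p) {a : R} (ha : a ∈ Z)
    (ha' : a ∈ Z') (ha1 : a ≠ 1) : Z = Z' := by
  ext b
  constructor
  · intro hb
    obtain ⟨k, rfl⟩ := exists_pow_eq hZ ha ha1 hb
    exact Z'.pow_mem ha' k
  · intro hb
    obtain ⟨k, rfl⟩ := exists_pow_eq hZ' ha' ha1 hb
    exact Z.pow_mem ha k

lemma card_map_mulAut (Z : Subgroup R) (x : MulAut R) : Nat.card (Z.map x.toMonoidHom) = Nat.card Z :=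
  Subgroup.card_map_of_injective x.injective

/-- A group of automorphisms with a Sylow subgroup stabilizing a central line that is not invariant: the
fixed subgroup contains an invariant complement of the line, and some automorphism inverts the line. -/
theorem exists_fixed_inversion [Finite R] (X : Subgroup (MulAut R)) (V : Sylow p X) (Z A : Subgroup R)
    (hZp : Nat.card Z = p) (hZc : Z ≤ Subgroup.center R)
    (hA : ∀ e, e ∈ A ↔ ∀ w ∈ (V : Subgroup X), (w : MulAut R) e = e)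
    (hVZ : ∀ w ∈ (V : Subgroup X), (w : MulAut R) ∈ lineStab Z)
    (hV1 : ∃ w ∈ (V : Subgroup X), ∃ e : R, (w : MulAut R) e ≠ e)
    (hg : ∃ g : X, Z.map (g : MulAut R).toMonoidHom ≠ Z)
    (ha : ∃ a ∈ A, a ∉ Z) (hdec : ∀ a ∈ A, a ∉ Z → ∀ u ∈ A, ∃ i : ℤ, ∃ w ∈ Z, u = a ^ i * w) :
    ∃ y ∈ A, y ∉ Z ∧ (∀ x : X, (x : MulAut R) y ∈ Subgroup.zpowers y) ∧
      ∃ t : X, (t : MulAut R) y = y ∧ ∀ z ∈ Z, (t : MulAut R) z = z⁻¹ := by
  classical
  haveI : Finite (MulAut R) := Finite.of_injective (fun α : MulAut R => (α : R → R)) DFunLike.coe_injective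
  let J : Subgroup R → Subgroup X := fun Y => (lineStab Y).subgroupOf X
  have hJp : ∀ Y : Subgroup R, Nat.card Y = p → IsPGroup p (J Y) := by
    intro Y hY w
    refine ⟨1, Subtype.ext (Subtype.ext (MulEquiv.ext fun e => ?_))⟩
    show (((w : X) : MulAut R) ^ p ^ 1) e = e
    rw [pow_one, lineStab_pow (Subgroup.mem_subgroupOf.1 w.2), pow_prime_eq_one hY ((Subgroup.mem_subgroupOf.1 w.2).2 e),
      mul_one]
  have hmapp : ∀ x : MulAut R, Nat.card (Z.map x.toMonoidHom) = p := fun x => (card_map_mulAut Z x).trans hZp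
  have hcen : ∀ (x : MulAut R) (e : R), e ∈ Z.map x.toMonoidHom → ∀ f : R, e * f = f * e := by
    rintro x _ ⟨e, he, rfl⟩ f
    have h1 : x⁻¹ f * e = e * x⁻¹ f := Subgroup.mem_center_iff.1 (hZc he) _
    have h2 := congrArg x h1
    rw [map_mul, map_mul, MulAut.apply_inv_self] at h2
    exact h2.symm
  -- the conjugates of `V`
  have hJV : ∀ (x w : X), w ∈ J (Z.map (x : MulAut R).toMonoidHom) ↔ x⁻¹ * w * x ∈ (V : Subgroup X) := by
    intro x w
    constructor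
    · intro hw
      have hle : (V : Subgroup X) ≤ J Z := fun u hu => Subgroup.mem_subgroupOf.2 (hVZ u hu)
      have h1 : x⁻¹ * w * x ∈ J Z := by
        refine Subgroup.mem_subgroupOf.2 ?_
        have h2 := conj_mem_lineStab (h := (x : MulAut R)⁻¹) (Subgroup.mem_subgroupOf.1 hw)
        rw [map_map_mulAut, inv_mul_cancel, inv_inv] at h2
        have e : Z.map (1 : MulAut R).toMonoidHom = Z := Subgroup.map_id Z
        rwa [e] at h2
      rwa [V.is_maximal' (hJp Z hZp) hle] at h1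
    · intro hw
      refine Subgroup.mem_subgroupOf.2 ?_
      have h2 := conj_mem_lineStab (h := (x : MulAut R)) (hVZ _ hw)
      have e : (x : MulAut R) * ((x⁻¹ * w * x : X) : MulAut R) * (x : MulAut R)⁻¹ = (w : MulAut R) := by
        simp [mul_assoc]
      rwa [e] at h2
  -- fixed points of the conjugates
  have hfix : ∀ (x : X) (e : R),
      ((x : MulAut R)⁻¹ e ∈ A) ↔ ∀ w ∈ J (Z.map (x : MulAut R).toMonoidHom), (w : MulAut R) e = e := by
    intro x e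
    rw [hA]
    constructor
    · intro h w hw
      have h1 := h _ ((hJV x w).1 hw)
      have h2 : ((x : MulAut R)⁻¹ * (w : MulAut R) * (x : MulAut R)) ((x : MulAut R)⁻¹ e) = (x : MulAut R)⁻¹ e := h1
      rw [MulAut.mul_apply, MulAut.mul_apply, MulAut.apply_inv_self] at h2
      exact (x : MulAut R)⁻¹.injective h2
    · intro h u hu
      have h1 : x * u * x⁻¹ ∈ J (Z.map (x : MulAut R).toMonoidHom) := (hJV x _).2 (by
        rwa [show x⁻¹ * (x * u * x⁻¹) * x = u by group])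
      have h2 : ((x : MulAut R) * (u : MulAut R) * (x : MulAut R)⁻¹) e = e := h _ h1
      rw [MulAut.mul_apply, MulAut.mul_apply] at h2
      conv_rhs => rw [← h2, MulAut.inv_apply_self]
  -- a subgroup fixing a line pointwise lies in its stabilizer
  have hnorm : ∀ (x : X) (P : Subgroup X), IsPGroup p P →
      (∀ w ∈ P, ∀ e ∈ Z.map (x : MulAut R).toMonoidHom, (w : MulAut R) e = e) →
      P ≤ J (Z.map (x : MulAut R).toMonoidHom) := by
    intro x P hP hfixP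
    have hQ : ((x • V : Sylow p X) : Subgroup X) = J (Z.map (x : MulAut R).toMonoidHom) := by
      ext w
      rw [Sylow.smul_def, Sylow.pointwise_smul_def, hJV]
      constructor
      · rintro ⟨u, hu, rfl⟩
        show x⁻¹ * (x * u * x⁻¹) * x ∈ (V : Subgroup X)
        rwa [show x⁻¹ * (x * u * x⁻¹) * x = u by group]
      · intro hw
        exact ⟨_, hw, show x * (x⁻¹ * w * x) * x⁻¹ = w by group⟩
    have hn : P ≤ Subgroup.normalizer (((x • V : Sylow p X) : Subgroup X) : Set X) := by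
      intro w hw
      rw [hQ]
      have key : ∀ u ∈ P, ∀ j ∈ J (Z.map (x : MulAut R).toMonoidHom), u * j * u⁻¹ ∈ J (Z.map (x : MulAut R).toMonoidHom) := by
        intro u hu j hj
        refine Subgroup.mem_subgroupOf.2 ?_
        have h2 := conj_mem_lineStab (h := (u : MulAut R)) (Subgroup.mem_subgroupOf.1 hj)
        have e : (Z.map (x : MulAut R).toMonoidHom).map (u : MulAut R).toMonoidHom = Z.map (x : MulAut R).toMonoidHom := by
          ext f
          constructor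
          · rintro ⟨f, hf, rfl⟩
            show (u : MulAut R) f ∈ _
            rwa [hfixP u hu f hf]
          · intro hf
            exact ⟨f, hf, hfixP u hu f hf⟩
        rwa [e] at h2
      refine Subgroup.mem_normalizer_iff.2 fun j => ⟨fun hj => key w hw j hj, fun hj => ?_⟩
      have h3 := key w⁻¹ (P.inv_mem hw) _ hj
      rwa [show w⁻¹ * (w * j * w⁻¹) * w⁻¹⁻¹ = j by group] at h3
    intro w hw
    exact hQ.le ((hP.inf_normalizer_sylow (x • V)).le ⟨hw, hn hw⟩).2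
  -- a line fixed by `V` is `Z`
  have huniq : ∀ x : X, (∀ w ∈ (V : Subgroup X), ∀ e ∈ Z.map (x : MulAut R).toMonoidHom, (w : MulAut R) e = e) →
      Z.map (x : MulAut R).toMonoidHom = Z := by
    intro x hx
    obtain ⟨w, hw, e, he⟩ := hV1
    have h1 := (Subgroup.mem_subgroupOf.1 (hnorm x V V.isPGroup' hx hw)).2 e
    exact eq_of_common (hmapp _) hZp h1 ((hVZ w hw).2 e) fun h => he (inv_mul_eq_one.1 h).symm
  have huniq' : ∀ (x : X) (e : R), e ∈ Z → e ≠ 1 → (x : MulAut R) e ∈ A →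
      Z.map (x : MulAut R).toMonoidHom = Z := by
    intro x e he he1 hxe
    refine huniq x fun w hw f hf => ?_
    obtain ⟨k, rfl⟩ := exists_pow_eq (hmapp (x : MulAut R)) (a := (x : MulAut R) e) ⟨e, he, rfl⟩
      (fun h => he1 ((x : MulAut R).injective (h.trans (map_one _).symm))) hf
    rw [map_pow, (hA _).1 hxe w hw]
  obtain ⟨g, hg⟩ := hg
  obtain ⟨z₀, hz₀, hz₀1⟩ : ∃ z ∈ Z, z ≠ (1 : R) := by
    by_contra hcon
    push Not at hcon
    have : Z = ⊥ := (Subgroup.eq_bot_iff_forall _).2 hcon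
    rw [this, Subgroup.card_bot] at hZp
    exact hp.out.one_lt.ne hZp
  set v := (g : MulAut R) z₀ with hv
  have hvA : v ∉ A := fun h => hg (huniq' g z₀ hz₀ hz₀1 h)
  have hvg : v ∈ Z.map (g : MulAut R).toMonoidHom := ⟨z₀, hz₀, rfl⟩
  have hv1 : v ≠ 1 := fun h => hvA (h ▸ A.one_mem)
  obtain ⟨s, hs, hsv⟩ : ∃ s ∈ (V : Subgroup X), (s : MulAut R) v ≠ v := by
    by_contra hcon
    push Not at hcon
    exact hvA ((hA v).2 hcon)
  set z := v⁻¹ * (s : MulAut R) v with hz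
  have hzZ : z ∈ Z := (hVZ s hs).2 v
  have hz1 : z ≠ 1 := fun h => hsv (inv_mul_eq_one.1 h).symm
  have hsv' : (s : MulAut R) v = v * z := by rw [hz, mul_inv_cancel_left]
  clear_value z
  have hvnZ : v ∉ Z := fun h => hg (eq_of_common (hmapp _) hZp hvg h hv1)
  -- `V` is generated by `s`
  have hgen : ∀ w ∈ (V : Subgroup X), ∃ k : ℕ, w = s ^ k := by
    intro w hw
    obtain ⟨k, hk⟩ := exists_pow_eq hZp hzZ hz1 ((hVZ w hw).2 v)
    refine ⟨k, ?_⟩
    set u := (s ^ k)⁻¹ * w with hu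
    have huV : u ∈ (V : Subgroup X) := (V : Subgroup X).mul_mem ((V : Subgroup X).inv_mem ((V : Subgroup X).pow_mem hs k)) hw
    have huv : (u : MulAut R) v = v := by
      show (((s : X) : MulAut R) ^ k)⁻¹ ((w : MulAut R) v) = v
      have h1 : (w : MulAut R) v = ((s : MulAut R) ^ k) v := by
        rw [lineStab_pow (hVZ s hs), ← hz, hk, mul_inv_cancel_left]
      rw [h1, MulAut.inv_apply_self]
    have huJ : u ∈ J (Z.map (g : MulAut R).toMonoidHom) := by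
      refine hnorm g (Subgroup.zpowers u) (V.isPGroup'.to_le (Subgroup.zpowers_le.2 huV)) ?_ (Subgroup.mem_zpowers u)
      intro w' hw' f hf
      obtain ⟨j, rfl⟩ := exists_pow_eq (hmapp _) hvg hv1 hf
      rw [map_pow]
      congr 1
      obtain ⟨i, rfl⟩ := hw'
      induction i using Int.induction_on with
      | zero => simp
      | succ i ih =>
        show ((u ^ ((i : ℤ) + 1) : X) : MulAut R) v = v
        rw [zpow_add_one, Subgroup.coe_mul, MulAut.mul_apply, huv, ih]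
      | pred i ih =>
        show ((u ^ (-(i : ℤ) - 1) : X) : MulAut R) v = v
        rw [zpow_sub_one, Subgroup.coe_mul, MulAut.mul_apply]
        conv_rhs => rw [← ih]
        congr 1
        show (u : MulAut R)⁻¹ v = v
        conv_lhs => rw [← huv]
        exact MulAut.inv_apply_self _ _ _
    have hu1 : u = 1 := by
      refine Subtype.ext (MulEquiv.ext fun e => ?_)
      by_contra he
      exact hg (eq_of_common (hmapp _) hZp ((Subgroup.mem_subgroupOf.1 huJ).2 e) ((hVZ u huV).2 e)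
        fun h => he (inv_mul_eq_one.1 h).symm)
    exact (inv_mul_eq_one.1 hu1).symm
  have hAs : ∀ e : R, (s : MulAut R) e = e → e ∈ A := by
    intro e he
    refine (hA e).2 fun w hw => ?_
    obtain ⟨k, rfl⟩ := hgen w hw
    show ((s : MulAut R) ^ k) e = e
    rw [lineStab_pow (hVZ s hs), he, inv_mul_cancel, one_pow, mul_one]
  have hZA : Z ≤ A := fun e he => (hA e).2 fun w hw => (hVZ w hw).1 e he
  -- the generator of the stabilizer of the line of `g`
  set sg := g * s * g⁻¹ with hsg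
  have hsgJ : sg ∈ J (Z.map (g : MulAut R).toMonoidHom) := (hJV g sg).2 (by
    rwa [hsg, show g⁻¹ * (g * s * g⁻¹) * g = s by group])
  have hsgS := Subgroup.mem_subgroupOf.1 hsgJ
  have hgA : ∀ e : R, (sg : MulAut R) e = e → (g : MulAut R)⁻¹ e ∈ A := by
    intro e he
    refine hAs _ ?_
    have h1 : ((g : MulAut R) * (s : MulAut R) * (g : MulAut R)⁻¹) e = e := he
    rw [MulAut.mul_apply, MulAut.mul_apply] at h1
    conv_rhs => rw [← h1, MulAut.inv_apply_self]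
  have hzg : (sg : MulAut R) z ≠ z := by
    intro h
    have h2 := huniq' g⁻¹ z hzZ hz1 (hgA z h)
    refine hg ?_
    conv_lhs => rw [← h2]
    rw [map_map_mulAut]
    show Z.map ((g : MulAut R) * (g : MulAut R)⁻¹).toMonoidHom = Z
    rw [mul_inv_cancel]
    exact Subgroup.map_id Z
  have hzgZ : z⁻¹ * (sg : MulAut R) z ≠ 1 := fun h => hzg (inv_mul_eq_one.1 h).symm
  -- the complement `y`
  obtain ⟨a, haA, haZ⟩ := ha
  obtain ⟨k, hk⟩ := exists_pow_eq (hmapp _) (hsgS.2 z) hzgZ (hsgS.2 a)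
  set y := a * (z ^ k)⁻¹ with hy
  have hyA : y ∈ A := A.mul_mem haA (A.inv_mem (A.pow_mem (hZA hzZ) k))
  have hyZ : y ∉ Z := fun h => haZ (by
    have := Z.mul_mem h (Z.pow_mem hzZ k)
    rwa [hy, inv_mul_cancel_right] at this)
  have hygA : (g : MulAut R)⁻¹ y ∈ A := by
    refine hgA y ?_
    rw [hy, map_mul, map_inv, map_pow]
    have e1 : (sg : MulAut R) a = a * (z⁻¹ * (sg : MulAut R) z) ^ k := by rw [hk, mul_inv_cancel_left]
    have e2 : ((sg : MulAut R) z) ^ k = z ^ k * (z⁻¹ * (sg : MulAut R) z) ^ k := by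
      rw [← Commute.mul_pow, mul_inv_cancel_left]
      exact (hcen _ _ (hsgS.2 z) z).symm
    rw [e1, e2, mul_inv_rev, mul_assoc, mul_inv_cancel_left]
  clear_value y
  -- every conjugate of the fixed subgroup contains `y`
  have hall : ∀ x : X, (x : MulAut R)⁻¹ y ∈ A := by
    intro x
    have hxS : x * s * x⁻¹ ∈ J (Z.map (x : MulAut R).toMonoidHom) := (hJV x _).2 (by
      rwa [show x⁻¹ * (x * s * x⁻¹) * x = s by group])
    have hxS' := Subgroup.mem_subgroupOf.1 hxS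
    set sx := x * s * x⁻¹ with hsx
    have hxA : ∀ e : R, (sx : MulAut R) e = e → (x : MulAut R)⁻¹ e ∈ A := by
      intro e he
      refine hAs _ ?_
      have h1 : ((x : MulAut R) * (s : MulAut R) * (x : MulAut R)⁻¹) e = e := he
      rw [MulAut.mul_apply, MulAut.mul_apply] at h1
      conv_rhs => rw [← h1, MulAut.inv_apply_self]
    -- reduction to a line whose stabilizer fixes `y`
    have hred : ∀ q : X, (q : MulAut R)⁻¹ y ∈ A → ∀ e ∈ Z, e ≠ 1 → (sx : MulAut R) ((q : MulAut R) e) = (q : MulAut R) e →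
        (x : MulAut R)⁻¹ y ∈ A := by
      intro q hq e he he1 hfe
      have h2 := huniq' (x⁻¹ * q) e he he1 (hxA _ hfe)
      have h3 : Z.map (x : MulAut R).toMonoidHom = Z.map (q : MulAut R).toMonoidHom := by
        conv_lhs => rw [← h2]
        rw [map_map_mulAut]
        congr 2
        show (x : MulAut R) * ((x : MulAut R)⁻¹ * (q : MulAut R)) = q
        rw [mul_inv_cancel_left]
      rw [hfix, h3, ← hfix]
      exact hq
    by_cases hxz : (sx : MulAut R) z = z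
    · exact hred 1 (by simpa using hyA) z hzZ hz1 hxz
    · obtain ⟨k, hk⟩ := exists_pow_eq (hmapp _) (hxS'.2 z) (fun h => hxz (inv_mul_eq_one.1 h).symm) (hxS'.2 v)
      have hsk : (((s ^ k : X)⁻¹ * g : X) : MulAut R) z₀ = v * (z ^ k)⁻¹ := by
        show ((s : MulAut R) ^ k)⁻¹ v = _
        apply ((s : MulAut R) ^ k).injective
        rw [MulAut.apply_inv_self, map_mul, lineStab_pow (hVZ s hs), ← hz, map_inv, map_pow,
          lineStab_pow (hVZ s hs) z, (hVZ s hs).1 z hzZ, inv_mul_cancel, one_pow, mul_one, mul_inv_cancel_right]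
      refine hred ((s ^ k)⁻¹ * g) ?_ z₀ hz₀ hz₀1 ?_
      · show ((((s : MulAut R) ^ k)⁻¹) * (g : MulAut R))⁻¹ y ∈ A
        rw [mul_inv_rev, inv_inv, MulAut.mul_apply, lineStab_pow (hVZ s hs), (hA y).1 hyA s hs, inv_mul_cancel,
          one_pow, mul_one]
        exact hygA
      · rw [hsk, map_mul, map_inv, map_pow]
        have e1 : (sx : MulAut R) v = v * (z⁻¹ * (sx : MulAut R) z) ^ k := by rw [hk, mul_inv_cancel_left]
        have e2 : ((sx : MulAut R) z) ^ k = z ^ k * (z⁻¹ * (sx : MulAut R) z) ^ k := by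
          rw [← Commute.mul_pow, mul_inv_cancel_left]
          exact (hcen _ _ (hxS'.2 z) z).symm
        rw [e1, e2, mul_inv_rev, mul_assoc, mul_inv_cancel_left]
  -- the inverting element
  obtain ⟨j, hj⟩ := exists_pow_eq (hmapp _) (hsgS.2 z) hzgZ ((Z.map (g : MulAut R).toMonoidHom).inv_mem hvg)
  set r := sg ^ j with hr
  have hrS : (r : MulAut R) ∈ lineStab (Z.map (g : MulAut R).toMonoidHom) := by
    show (sg : MulAut R) ^ j ∈ _
    exact Subgroup.pow_mem _ hsgS j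
  have hrz : (r : MulAut R) z = z * v⁻¹ := by
    show ((sg : MulAut R) ^ j) z = _
    rw [lineStab_pow hsgS, hj]
  set ω := s * r * s with hω
  have hωv : (ω : MulAut R) v = z := by
    show (s : MulAut R) ((r : MulAut R) ((s : MulAut R) v)) = z
    rw [hsv', map_mul, hrS.1 v hvg, hrz, map_mul, map_mul, hsv', (hVZ s hs).1 z hzZ, map_inv, hsv', mul_inv_rev]
    rw [show z * (z⁻¹ * v⁻¹) = v⁻¹ by group]
    rw [mul_assoc, (hcen _ z ⟨z, hzZ, MulAut.one_apply R z⟩ v⁻¹)]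
    group
  have hωz : (ω : MulAut R) z = v⁻¹ := by
    show (s : MulAut R) ((r : MulAut R) ((s : MulAut R) z)) = v⁻¹
    rw [(hVZ s hs).1 z hzZ, hrz, map_mul, (hVZ s hs).1 z hzZ, map_inv, hsv', mul_inv_rev, mul_inv_cancel_left]
  refine ⟨y, hyA, hyZ, ?_, ω * ω, ?_, ?_⟩
  · intro x
    have h1 : (x : MulAut R) y ∈ A := by simpa using hall x⁻¹
    have h2 : (g : MulAut R)⁻¹ ((x : MulAut R) y) ∈ A := by
      have := hall (x⁻¹ * g)
      simpa using this
    obtain ⟨i, w, hw, hu⟩ := hdec y hyA hyZ _ h1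
    rcases eq_or_ne w 1 with rfl | hw1
    · exact ⟨i, by simp [hu]⟩
    · exfalso
      have h3 : (g : MulAut R)⁻¹ w ∈ A := by
        have h4 := A.mul_mem (A.inv_mem (A.zpow_mem hygA i)) h2
        rwa [hu, map_mul, map_zpow, inv_mul_cancel_left] at h4
      have h5 := huniq' g⁻¹ w hw hw1 h3
      refine hg ?_
      conv_lhs => rw [← h5]
      rw [map_map_mulAut]
      show Z.map ((g : MulAut R) * (g : MulAut R)⁻¹).toMonoidHom = Z
      rw [mul_inv_cancel]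
      exact Subgroup.map_id Z
  · have hsy : (s : MulAut R) y = y := (hA y).1 hyA s hs
    have hry : (r : MulAut R) y = y := (hfix g y).1 hygA r (Subgroup.mem_subgroupOf.2 hrS)
    have hωy : (ω : MulAut R) y = y := by
      show (s : MulAut R) ((r : MulAut R) ((s : MulAut R) y)) = y
      rw [hsy, hry, hsy]
    show (ω : MulAut R) ((ω : MulAut R) y) = y
    rw [hωy, hωy]
  · intro e he
    obtain ⟨n, rfl⟩ := exists_pow_eq hZp hzZ hz1 he
    show (ω : MulAut R) ((ω : MulAut R) (z ^ n)) = _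
    rw [map_pow, map_pow, hωz, map_inv, hωv, inv_pow]

end Abstract

section System

variable {Ω : Type u} [Group Ω] {S : Subgroup Ω} {F : Cfsg.FusionSystem S} {p : ℕ} [Fact p.Prime]
variable {Z : Subgroup Ω}

/-- An essential subgroup gives a complement of `Z` in the centre and an automorphism of `S` inverting `Z`. -/
theorem exists_inverting [Finite S] (hS : IsPGroup p S) (hF : F.IsSaturated p) (hZp : Nat.card Z = p)
    (hZA : Z ≤ centralizerIn S S) (hcomm : ∀ x ∈ S, ∀ y ∈ S, x * y * x⁻¹ * y⁻¹ ∈ Z)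
    (hdecA : ∀ a ∈ centralizerIn S S, a ∉ Z → ∀ u ∈ centralizerIn S S, ∃ i : ℤ, ∃ w ∈ Z, u = a ^ i * w)
    (ha : ∃ a ∈ centralizerIn S S, a ∉ Z) {R : Subgroup Ω} (hRn : F.IsFullyNormalized R) (hRc : F.IsCentric R)
    (hRr : F.IsRadical p R) (hne : R ≠ S) :
    ∃ y ∈ centralizerIn S S, y ∉ Z ∧
      (∀ x ∈ F.autGroup R, ∀ h : y ∈ R, ((x ⟨y, h⟩ : R) : Ω) ∈ Subgroup.zpowers y) ∧
      ∃ α ∈ F.autGroup S, (∀ h : y ∈ S, ((α ⟨y, h⟩ : S) : Ω) = y) ∧
        ∀ z ∈ Z, ∀ h : z ∈ S, ((α ⟨z, h⟩ : S) : Ω) = z⁻¹ := by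
  classical
  have hRS := hRn.1
  haveI := finite_of_le hRS
  haveI := finite_mulAut hRS
  have hAR : centralizerIn S S ≤ R := fun x hx =>
    hRc.2 R (IsConj.refl hRS) ⟨hx.1, Subgroup.mem_centralizer_iff.2 fun r hr =>
      Subgroup.mem_centralizer_iff.1 hx.2 r (hRS hr)⟩
  have hZR : Z ≤ R := hZA.trans hAR
  have hn : S ≤ Subgroup.normalizer (R : Set Ω) := by
    have key : ∀ s ∈ S, ∀ r ∈ R, s * r * s⁻¹ ∈ R := fun s hs r hr => by
      have h := R.mul_mem (hZR (hcomm s hs r (hRS hr))) hr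
      rwa [inv_mul_cancel_right] at h
    intro s hs
    refine Subgroup.mem_normalizer_iff.2 fun r => ⟨key s hs r, fun h => ?_⟩
    have h2 := key s⁻¹ (S.inv_mem hs) _ h
    rwa [show s⁻¹ * (s * r * s⁻¹) * s⁻¹⁻¹ = r by group] at h2
  set X := F.autGroup R
  obtain ⟨-, V, hV⟩ := fullyAutomized_of_fullyNormalized hS hF hRn
  set Z' := Z.subgroupOf R with hZ'
  set A' := (centralizerIn S S).subgroupOf R with hA'
  have hZ'p : Nat.card Z' = p := (Nat.card_congr (Subgroup.subgroupOfEquivOfLe hZR).toEquiv).trans hZp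
  have hZ'c : Z' ≤ Subgroup.center R := fun e he => Subgroup.mem_center_iff.2 fun f => Subtype.ext
    (Subgroup.mem_centralizer_iff.1 (hZA (Subgroup.mem_subgroupOf.1 he)).2 f (hRS f.2))
  have hc : ∀ s (hs : s ∈ S), conjAut R S ⟨s, hs, hn hs⟩ ∈ autInducedBy S R := fun s hs =>
    range_conjAut (P := R) S ▸ ⟨_, rfl⟩
  have hVmem : ∀ w : X, w ∈ (V : Subgroup X) ↔ ∃ s ∈ S, ∀ x : R, (((w : MulAut R) x : R) : Ω) = s * x * s⁻¹ := by
    intro w
    rw [hV, Subgroup.mem_subgroupOf, mem_autInducedBy]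
  have hVZ : ∀ w ∈ (V : Subgroup X), (w : MulAut R) ∈ lineStab Z' := by
    intro w hw
    obtain ⟨s, hs, hsx⟩ := (hVmem w).1 hw
    refine ⟨fun e he => Subtype.ext ?_, fun e => Subgroup.mem_subgroupOf.2 ?_⟩
    · rw [hsx, Subgroup.mem_centralizer_iff.1 (hZA (Subgroup.mem_subgroupOf.1 he)).2 s hs, mul_inv_cancel_right]
    · show (e : Ω)⁻¹ * (((w : MulAut R) e : R) : Ω) ∈ Z
      rw [hsx]
      have h := hcomm (e : Ω)⁻¹ (S.inv_mem (hRS e.2)) s hs
      simpa [mul_assoc] using h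
  obtain ⟨s₀, hs₀, hs₀R⟩ : ∃ s ∈ S, s ∉ R := by
    by_contra hcon
    push Not at hcon
    exact hne (le_antisymm hRS hcon)
  have hV1 : ∃ w ∈ (V : Subgroup X), ∃ e : R, (w : MulAut R) e ≠ e := by
    refine ⟨⟨_, autInducedBy_le_autGroup hRS (hc s₀ hs₀)⟩, (hVmem _).2 ⟨s₀, hs₀, fun _ => rfl⟩, ?_⟩
    by_contra hcon
    push Not at hcon
    refine hs₀R (hRc.2 R (IsConj.refl hRS) ⟨hs₀, Subgroup.mem_centralizer_iff.2 fun r hr => ?_⟩)
    have h : s₀ * r * s₀⁻¹ = r := congrArg Subtype.val (hcon ⟨r, hr⟩)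
    exact (mul_inv_eq_iff_eq_mul.1 h).symm
  have hA : ∀ e : R, e ∈ A' ↔ ∀ w ∈ (V : Subgroup X), (w : MulAut R) e = e := by
    intro e
    constructor
    · intro he w hw
      obtain ⟨s, hs, hsx⟩ := (hVmem w).1 hw
      refine Subtype.ext ?_
      rw [hsx, Subgroup.mem_centralizer_iff.1 (Subgroup.mem_subgroupOf.1 he).2 s hs, mul_inv_cancel_right]
    · intro h
      refine Subgroup.mem_subgroupOf.2 ⟨hRS e.2, Subgroup.mem_centralizer_iff.2 fun s hs => ?_⟩
      have h1 : s * (e : Ω) * s⁻¹ = e :=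
        congrArg Subtype.val (h ⟨_, autInducedBy_le_autGroup hRS (hc s hs)⟩ ((hVmem _).2 ⟨s, hs, fun _ => rfl⟩))
      exact mul_inv_eq_iff_eq_mul.1 h1
  have hg : ∃ g : X, Z'.map (g : MulAut R).toMonoidHom ≠ Z' := by
    by_contra hcon
    push Not at hcon
    set J := (lineStab Z').subgroupOf X with hJ
    have hJn : J.Normal := ⟨fun w hw x => by
      refine Subgroup.mem_subgroupOf.2 ?_
      have h := conj_mem_lineStab (h := (x : MulAut R)) (Subgroup.mem_subgroupOf.1 hw)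
      rwa [hcon x] at h⟩
    have hJp : IsPGroup p J := fun w => ⟨1, Subtype.ext (Subtype.ext (MulEquiv.ext fun e => by
      show (((w : X) : MulAut R) ^ p ^ 1) e = e
      rw [pow_one, lineStab_pow (Subgroup.mem_subgroupOf.1 w.2),
        pow_prime_eq_one hZ'p ((Subgroup.mem_subgroupOf.1 w.2).2 e), mul_one]))⟩
    have hle := CfsgLib.PCore.le_pCore hJn hJp
    refine hs₀R (mem_self_of_inn hRc hs₀ (α := conjAut R S ⟨s₀, hs₀, hn hs₀⟩) (fun _ => rfl) ?_)
    rw [← hRr.2]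
    exact ⟨⟨_, autInducedBy_le_autGroup hRS (hc s₀ hs₀)⟩,
      hle (Subgroup.mem_subgroupOf.2 (hVZ _ ((hVmem _).2 ⟨s₀, hs₀, fun _ => rfl⟩))), rfl⟩
  obtain ⟨a₀, ha₀, ha₀Z⟩ := ha
  have hdec : ∀ a ∈ A', a ∉ Z' → ∀ u ∈ A', ∃ i : ℤ, ∃ w ∈ Z', u = a ^ i * w := by
    intro a ha haZ u hu
    obtain ⟨i, w, hw, e⟩ := hdecA a (Subgroup.mem_subgroupOf.1 ha) (fun h => haZ (Subgroup.mem_subgroupOf.2 h)) u
      (Subgroup.mem_subgroupOf.1 hu)
    exact ⟨i, ⟨w, hZR hw⟩, Subgroup.mem_subgroupOf.2 hw, Subtype.ext (by simp [e])⟩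
  obtain ⟨y, hyA, hyZ, hyinv, t, hty, htz⟩ := exists_fixed_inversion X V Z' A' hZ'p hZ'c hA hVZ hV1 hg
    ⟨⟨a₀, hAR ha₀⟩, Subgroup.mem_subgroupOf.2 ha₀, fun h => ha₀Z (Subgroup.mem_subgroupOf.1 h)⟩ hdec
  refine ⟨y, Subgroup.mem_subgroupOf.1 hyA, fun h => hyZ (Subgroup.mem_subgroupOf.2 h), fun x hx h => ?_, ?_⟩
  · obtain ⟨i, hi⟩ := hyinv ⟨x, hx⟩
    exact ⟨i, (Subgroup.coe_zpow R y i).symm.trans (congrArg Subtype.val hi)⟩
  -- the extension of `t` to `S`
  have htZ : Z'.map (t : MulAut R).toMonoidHom = Z' := by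
    ext e
    constructor
    · rintro ⟨f, hf, rfl⟩
      show (t : MulAut R) f ∈ Z'
      rw [htz f hf]
      exact Z'.inv_mem hf
    · intro he
      refine ⟨e⁻¹, Z'.inv_mem he, ?_⟩
      show (t : MulAut R) e⁻¹ = e
      rw [htz _ (Z'.inv_mem he), inv_inv]
  obtain ⟨hRrec, hrec⟩ := receptive_of_fullyNormalized hS hF hRn
  set χ : R →* Ω := R.subtype.comp (t : MulAut R).toMonoidHom
  obtain ⟨ψ, hψ, hψχ⟩ := hrec R χ ((mem_autGroup hRS).1 t.2) (by
    ext e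
    exact ⟨fun ⟨x, hx⟩ => hx ▸ ((t : MulAut R) x).2,
      fun he => ⟨(t : MulAut R)⁻¹ ⟨e, he⟩, congrArg Subtype.val (MulAut.apply_inv_self _ (t : MulAut R) _)⟩⟩)
  have hSN : S ≤ extender S R χ := by
    intro s hs
    set w : X := ⟨_, autInducedBy_le_autGroup hRS (hc s hs)⟩
    have hwV : w ∈ (V : Subgroup X) := (hVmem _).2 ⟨s, hs, fun _ => rfl⟩
    have hJ : (t * w * t⁻¹ : X) ∈ (lineStab Z').subgroupOf X := by
      refine Subgroup.mem_subgroupOf.2 ?_
      have h := conj_mem_lineStab (h := (t : MulAut R)) (hVZ w hwV)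
      rwa [htZ] at h
    have hJp : IsPGroup p ((lineStab Z').subgroupOf X) := fun w => ⟨1, Subtype.ext (Subtype.ext (MulEquiv.ext fun e => by
      show (((w : X) : MulAut R) ^ p ^ 1) e = e
      rw [pow_one, lineStab_pow (Subgroup.mem_subgroupOf.1 w.2),
        pow_prime_eq_one hZ'p ((Subgroup.mem_subgroupOf.1 w.2).2 e), mul_one]))⟩
    rw [V.is_maximal' hJp fun u hu => Subgroup.mem_subgroupOf.2 (hVZ u hu)] at hJ
    obtain ⟨h, hh, hhx⟩ := (hVmem _).1 hJ
    refine mem_extender.2 ⟨hs, hn hs, h, hh, fun x hx => ?_⟩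
    show (((t : MulAut R) ⟨s * x * s⁻¹, hx⟩ : R) : Ω) = h * (((t : MulAut R) x : R) : Ω) * h⁻¹
    rw [← hhx]
    show _ = (((t : MulAut R) ((w : MulAut R) ((t : MulAut R)⁻¹ ((t : MulAut R) x))) : R) : Ω)
    rw [MulAut.inv_apply_self]
    rfl
  set ψS : S →* Ω := ψ.comp (Subgroup.inclusion hSN)
  have hψS : ψS ∈ F.Hom S := restrict hψ hSN
  have hr : ψS.range = S := Subgroup.eq_of_le_of_card_ge (range_le hψS)
    (le_of_eq (Nat.card_congr (MonoidHom.ofInjective (F.injective_of_mem hψS)).toEquiv))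
  refine ⟨isoOfHom (F.injective_of_mem hψS) hr, mem_autGroup_of_eq hψS fun _ => rfl, fun h => ?_, fun z hz h => ?_⟩
  · show ψ ⟨y, hSN h⟩ = y
    rw [hψχ y y.2 (hSN h)]
    exact congrArg Subtype.val hty
  · show ψ ⟨z, hSN h⟩ = z⁻¹
    rw [hψχ z (hZR hz) (hSN h)]
    exact congrArg Subtype.val (htz ⟨z, hZR hz⟩ (Subgroup.mem_subgroupOf.2 hz))

/-- With an extraspecial subgroup of index `p` and trivial core, `Z(S) = Z(Q)` (`p` odd). -/
theorem center_eq_of_extraspecial_index [Finite S] (hp : Odd p) (hS : IsPGroup p S) {Q : Subgroup Ω} (hQS : Q ≤ S)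
    (hQ : Cfsg.IsExtraspecial p ↥Q) (hQi : (Q.subgroupOf S).index = p) (hF : F.IsSaturated p) (hO : F.core = ⊥) :
    S ⊓ Subgroup.centralizer (S : Set Ω) = Q ⊓ Subgroup.centralizer (Q : Set Ω) := by
  classical
  have hpp : p.Prime := Fact.out
  obtain ⟨⟨-, -, hQd⟩, hQz⟩ := hQ
  haveI := finite_of_le hQS
  set Z := Q ⊓ Subgroup.centralizer (Q : Set Ω) with hZdef
  have hZeq : Z = (Subgroup.center Q).map Q.subtype := by
    ext x
    constructor
    · rintro ⟨hxQ, hx⟩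
      exact ⟨⟨x, hxQ⟩, Subgroup.mem_center_iff.2 fun q =>
        Subtype.ext (Subgroup.mem_centralizer_iff.1 hx q q.2), rfl⟩
    · rintro ⟨q, hq, rfl⟩
      exact ⟨q.2, Subgroup.mem_centralizer_iff.2 fun r hr =>
        congrArg Subtype.val (Subgroup.mem_center_iff.1 hq ⟨r, hr⟩)⟩
  have hZp : Nat.card Z = p := by
    rw [hZeq, Subgroup.card_map_of_injective Q.subtype_injective, hQz]
  have hQn : (Q.subgroupOf S).Normal := by
    refine Subgroup.normal_of_index_eq_minFac_card ?_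
    obtain ⟨n, hn⟩ := IsPGroup.iff_card.1 hS
    rcases Nat.eq_zero_or_pos n with rfl | hn0
    · exfalso
      have h := Subgroup.index_dvd_card (Q.subgroupOf S)
      rw [hQi, hn, pow_zero] at h
      exact hpp.one_lt.ne' (Nat.dvd_one.1 h)
    · rw [hQi, hn, hpp.pow_minFac hn0.ne']
  have hQnorm := (Subgroup.normal_subgroupOf_iff_le_normalizer hQS).1 hQn
  -- `Z` is central in `S`
  have hZc : ∀ s ∈ S, ∀ z ∈ Z, s * z * s⁻¹ = z := by
    intro s hs z hz
    by_cases hz1 : z = 1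
    · simp [hz1]
    have hmem : ∀ t ∈ S, ∀ x ∈ Z, t * x * t⁻¹ ∈ Z := fun t ht x hx =>
      ⟨conj_mem_of_normalizer (hQnorm ht) hx.1, Subgroup.mem_centralizer_iff.2 fun q hq => by
        have h1 := Subgroup.mem_centralizer_iff.1 hx.2 _ (conj_inv_mem_of_normalizer (hQnorm ht) hq)
        calc q * (t * x * t⁻¹) = t * (t⁻¹ * q * t * x) * t⁻¹ := by group
          _ = t * (x * (t⁻¹ * q * t)) * t⁻¹ := by rw [h1]
          _ = t * x * t⁻¹ * q := by group⟩
    obtain ⟨k, hk⟩ := exists_pow_eq hZp hz hz1 (hmem s hs z hz)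
    obtain ⟨n, hn⟩ := IsPGroup.iff_card.1 hS
    have hit : ∀ j : ℕ, s ^ j * z * (s ^ j)⁻¹ = z ^ k ^ j := by
      intro j
      induction j with
      | zero => simp
      | succ j ih =>
        rw [show s ^ (j + 1) * z * (s ^ (j + 1))⁻¹ = s ^ j * (s * z * s⁻¹) * (s ^ j)⁻¹ by rw [pow_succ]; group,
          ← hk, ← conj_pow, ih, ← pow_mul, pow_succ]
    have hs1 : s ^ p ^ n = 1 := by
      rw [← hn]
      exact congrArg Subtype.val (pow_card_eq_one' (x := (⟨s, hs⟩ : S)))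
    have h2 := hit (p ^ n)
    rw [hs1, one_mul, inv_one, mul_one] at h2
    have hzo : orderOf z = p := orderOf_eq_prime (pow_prime_eq_one hZp hz) hz1
    have h3 : k ^ p ^ n ≡ 1 [MOD p] := by
      rw [← hzo, ← pow_eq_pow_iff_modEq, pow_one, hzo]
      exact h2.symm
    have h4 : k ^ p ^ n ≡ k [MOD p] := by
      have : ((k : ZMod p)) ^ p ^ n = k := ZMod.pow_card_pow _
      exact (ZMod.natCast_eq_natCast_iff _ _ _).1 (by simpa using this)
    rw [← hk]
    conv_rhs => rw [← pow_one z]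
    rw [pow_eq_pow_iff_modEq, hzo]
    exact h4.symm.trans h3
  have hZA : Z ≤ centralizerIn S S := fun z hz =>
    ⟨hQS hz.1, Subgroup.mem_centralizer_iff.2 fun s hs => mul_inv_eq_iff_eq_mul.1 (hZc s hs z hz)⟩
  by_cases hAQ : centralizerIn S S ≤ Q
  · exact le_antisymm (fun x hx => ⟨hAQ hx, Subgroup.mem_centralizer_iff.2 fun q hq =>
      Subgroup.mem_centralizer_iff.1 hx.2 q (hQS hq)⟩) hZA
  exfalso
  obtain ⟨a₀, ha₀, ha₀Q⟩ := SetLike.not_le_iff_exists.1 hAQ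
  set θ := QuotientGroup.mk' (Q.subgroupOf S)
  have hcardq : Nat.card (S ⧸ Q.subgroupOf S) = p := (Subgroup.index_eq_card _).symm.trans hQi
  have hsplit : ∀ a ∈ S, a ∉ Q → ∀ u ∈ S, ∃ i : ℤ, a ^ (-i) * u ∈ Q := by
    intro a ha haQ u hu
    have h1 : θ ⟨u, hu⟩ ∈ Subgroup.zpowers (θ ⟨a, ha⟩) := mem_zpowers_of_prime_card hcardq fun h =>
      haQ (Subgroup.mem_subgroupOf.1 ((QuotientGroup.eq_one_iff _).1 h))
    obtain ⟨i, hi⟩ := h1
    refine ⟨i, ?_⟩
    have h2 : θ ((⟨a, ha⟩ : S) ^ (-i) * ⟨u, hu⟩) = 1 := by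
      rw [map_mul, map_zpow, ← show θ ⟨a, ha⟩ ^ i = θ ⟨u, hu⟩ from hi, ← zpow_add, neg_add_cancel, zpow_zero]
    simpa using Subgroup.mem_subgroupOf.1 ((QuotientGroup.eq_one_iff _).1 h2)
  have hcomm : ∀ x ∈ S, ∀ y ∈ S, x * y * x⁻¹ * y⁻¹ ∈ Z := by
    intro x hx y hy
    obtain ⟨i, hi⟩ := hsplit a₀ ha₀.1 ha₀Q x hx
    obtain ⟨j, hj⟩ := hsplit a₀ ha₀.1 ha₀Q y hy
    have hcom : ∀ (m : ℤ) (w : Ω), w ∈ S → a₀ ^ m * w = w * a₀ ^ m := fun m w hw =>
      ((Commute.zpow_right (show Commute w a₀ from Subgroup.mem_centralizer_iff.1 ha₀.2 w hw) m).eq).symm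
    have hstrip : ∀ c d a b : Ω, c ∈ S → d ∈ S → a ∈ S → b ∈ S → (∀ w ∈ S, c * w = w * c) →
        (∀ w ∈ S, d * w = w * d) → c * a * (d * b) * (c * a)⁻¹ * (d * b)⁻¹ = a * b * a⁻¹ * b⁻¹ := by
      intro c d a b _ hdS haS hbS hc hd
      have hX : a * (d * b) * a⁻¹ ∈ S := S.mul_mem (S.mul_mem haS (S.mul_mem hdS hbS)) (S.inv_mem haS)
      have hY : a * b * a⁻¹ * b⁻¹ ∈ S := S.mul_mem (S.mul_mem (S.mul_mem haS hbS) (S.inv_mem haS)) (S.inv_mem hbS)
      calc c * a * (d * b) * (c * a)⁻¹ * (d * b)⁻¹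
          = c * (a * (d * b) * a⁻¹) * c⁻¹ * (d * b)⁻¹ := by group
        _ = a * (d * b) * a⁻¹ * (d * b)⁻¹ := by rw [hc _ hX, mul_inv_cancel_right]
        _ = a * d * (b * a⁻¹ * b⁻¹) * d⁻¹ := by group
        _ = d * a * (b * a⁻¹ * b⁻¹) * d⁻¹ := by rw [hd a haS]
        _ = d * (a * b * a⁻¹ * b⁻¹) * d⁻¹ := by group
        _ = a * b * a⁻¹ * b⁻¹ := by rw [hd _ hY, mul_inv_cancel_right]
    have hq : x * y * x⁻¹ * y⁻¹ = a₀ ^ (-i) * x * (a₀ ^ (-j) * y) * (a₀ ^ (-i) * x)⁻¹ * (a₀ ^ (-j) * y)⁻¹ :=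
      (hstrip _ _ _ _ (S.zpow_mem ha₀.1 _) (S.zpow_mem ha₀.1 _) hx hy (hcom _) (hcom _)).symm
    set q₁ := a₀ ^ (-i) * x
    set q₂ := a₀ ^ (-j) * y
    rw [hq, hZeq]
    refine ⟨⁅(⟨q₁, hi⟩ : Q), ⟨q₂, hj⟩⁆, ?_, by simp [commutatorElement_def]⟩
    rw [← hQd, commutator_def]
    exact Subgroup.commutator_mem_commutator (Subgroup.mem_top _) (Subgroup.mem_top _)
  obtain ⟨c₁, hc₁, c₂, hc₂, hc12⟩ : ∃ c ∈ Q, ∃ d ∈ Q, c * d * c⁻¹ * d⁻¹ ≠ 1 := by
    by_contra hcon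
    push Not at hcon
    have h : commutator Q = ⊥ := by
      rw [commutator_def, eq_bot_iff, Subgroup.commutator_le]
      intro a _ b _
      rw [Subgroup.mem_bot, commutatorElement_def]
      exact Subtype.ext (hcon a a.2 b b.2)
    rw [h] at hQd
    rw [← hQd, Subgroup.card_bot] at hQz
    exact hpp.one_lt.ne hQz
  have hZS : ∀ z, z ∈ Z → z ∈ S := fun z hz => hQS hz.1
  have hZinv : ∀ α : MulAut S, ∀ z (hz : z ∈ Z), ((α ⟨z, hZS z hz⟩ : S) : Ω) ∈ Z := by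
    intro α z hz
    set w : S := ⟨c₁, hQS hc₁⟩ * ⟨c₂, hQS hc₂⟩ * (⟨c₁, hQS hc₁⟩)⁻¹ * (⟨c₂, hQS hc₂⟩)⁻¹ with hw
    have hwZ : (w : Ω) ∈ Z := hcomm c₁ (hQS hc₁) c₂ (hQS hc₂)
    obtain ⟨k, hk⟩ := exists_pow_eq hZp hwZ hc12 hz
    have e : (⟨z, hZS z hz⟩ : S) = w ^ k := Subtype.ext hk.symm
    rw [e, map_pow, Subgroup.coe_pow]
    refine Z.pow_mem ?_ k
    rw [hw, map_mul, map_mul, map_mul, map_inv, map_inv]
    exact hcomm _ (α _).2 _ (α _).2
  have hAZ : ∀ a ∈ centralizerIn S S, a ∈ Q → a ∈ Z := fun a ha haQ =>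
    ⟨haQ, Subgroup.mem_centralizer_iff.2 fun q hq => Subgroup.mem_centralizer_iff.1 ha.2 q (hQS hq)⟩
  have hdecA : ∀ a ∈ centralizerIn S S, a ∉ Z → ∀ u ∈ centralizerIn S S, ∃ i : ℤ, ∃ w ∈ Z, u = a ^ i * w := by
    intro a ha haZ u hu
    obtain ⟨i, hi⟩ := hsplit a ha.1 (fun h => haZ (hAZ a ha h)) u hu.1
    exact ⟨i, _, hAZ _ (mul_mem (zpow_mem ha _) hu) hi, by group⟩
  have hkill : ∀ Y : Subgroup Ω, Y ≠ ⊥ → ¬ F.IsNormal Y := fun Y hY hYn =>
    hY (le_bot_iff.1 (hO ▸ le_sSup hYn))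
  have hAn : ∀ Y : Subgroup Ω, Y ≤ centralizerIn S S → S ≤ Subgroup.normalizer (Y : Set Ω) := fun Y hY s hs =>
    Subgroup.mem_normalizer_iff.2 fun x => by
      constructor
      · intro hx
        rw [Subgroup.mem_centralizer_iff.1 (hY hx).2 s hs, mul_inv_cancel_right]
        exact hx
      · intro hx
        have h := Subgroup.mem_centralizer_iff.1 (hY hx).2 s hs
        have e : x = s * x * s⁻¹ := by
          calc x = s⁻¹ * (s * x * s⁻¹ * s) := by group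
            _ = s⁻¹ * (s * (s * x * s⁻¹)) := by rw [h]
            _ = s * x * s⁻¹ := by group
        rw [e]; exact hx
  have hAle : ∀ R : Subgroup Ω, F.IsCentric R → centralizerIn S S ≤ R := fun R hR x hx =>
    hR.2 R (IsConj.refl hR.1) ⟨hx.1, Subgroup.mem_centralizer_iff.2 fun r hr =>
      Subgroup.mem_centralizer_iff.1 hx.2 r (hR.1 hr)⟩
  obtain ⟨R₀, hR₀n, hR₀c, hR₀r, hR₀⟩ : ∃ R, F.IsFullyNormalized R ∧ F.IsCentric R ∧ F.IsRadical p R ∧ R ≠ S := by
    by_contra hcon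
    push Not at hcon
    refine hkill Z (fun h => ?_) (isNormal_of_centricRadical hS hF (fun z hz => hZS z hz) (hAn Z hZA)
      fun R hRn hRc hRr => ?_)
    · rw [h, Subgroup.card_bot] at hZp
      exact hpp.one_lt.ne hZp
    · have := hcon R hRn hRc hRr
      subst this
      exact ⟨fun z hz => hZS z hz, fun α _ q hq => hZinv α q hq⟩
  have hex := fun R hn hc hr hne => exists_inverting (R := R) hS hF hZp hZA hcomm hdecA
    ⟨a₀, ha₀, fun h => ha₀Q h.1⟩ hn hc hr hne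
  obtain ⟨y₀, hy₀A, hy₀Z, -, τ, hτ, hτy, hτz⟩ := hex R₀ hR₀n hR₀c hR₀r hR₀
  have hsq : ∀ z ∈ Z, z * z = 1 → z = 1 := by
    intro z hz h
    by_contra h1
    have h2 : orderOf z ∣ 2 := orderOf_dvd_of_pow_eq_one (by rw [pow_two]; exact h)
    rw [orderOf_eq_prime (pow_prime_eq_one hZp hz) h1] at h2
    exact absurd ((Nat.prime_dvd_prime_iff_eq hpp Nat.prime_two).1 h2) (fun h3 => by
      rw [h3] at hp; exact absurd hp (by decide))
  have hτpow : ∀ i : ℤ, ((τ ((⟨y₀, hy₀A.1⟩ : S) ^ i) : S) : Ω) = y₀ ^ i := fun i => by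
    rw [map_zpow, Subgroup.coe_zpow, hτy]
  -- every automorphism of `S` fixes the line of `y₀`
  have hβ : ∀ β ∈ F.autGroup S, ((β ⟨y₀, hy₀A.1⟩ : S) : Ω) ∈ Subgroup.zpowers y₀ := by
    intro β hβ
    set x₀ : S := ⟨y₀, hy₀A.1⟩
    have hβA : ((β x₀ : S) : Ω) ∈ centralizerIn S S := ⟨(β x₀).2, Subgroup.mem_centralizer_iff.2 fun s hs => by
      have h := congrArg (fun e : S => (((β e : S)) : Ω)) (show β⁻¹ ⟨s, hs⟩ * x₀ = x₀ * β⁻¹ ⟨s, hs⟩ from
        Subtype.ext (Subgroup.mem_centralizer_iff.1 hy₀A.2 _ (β⁻¹ ⟨s, hs⟩).2))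
      simpa [map_mul] using h⟩
    obtain ⟨i, w, hw, e⟩ := hdecA y₀ hy₀A hy₀Z _ hβA
    refine ⟨i, ?_⟩
    suffices w = 1 by simp [e, this]
    set wS : S := ⟨w, hZS w hw⟩
    have hx : β x₀ = x₀ ^ i * wS := Subtype.ext (by simp [e, x₀, wS])
    set δ := τ * β * τ⁻¹ * β⁻¹ with hδ
    have hτ0 : τ x₀ = x₀ := Subtype.ext (hτy _)
    have hτi : τ⁻¹ x₀ = x₀ := by
      conv_lhs => rw [← hτ0]
      exact MulAut.inv_apply_self _ τ x₀
    have hδy : δ (β x₀) = β x₀ * (wS * wS)⁻¹ := by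
      rw [hδ, MulAut.mul_apply, MulAut.mul_apply, MulAut.mul_apply, MulAut.inv_apply_self, hτi, hx, map_mul,
        show τ (x₀ ^ i) = x₀ ^ i by rw [map_zpow, hτ0],
        show τ wS = wS⁻¹ from Subtype.ext (hτz w hw (hZS w hw)), mul_assoc]
      refine congrArg (x₀ ^ i * ·) ?_
      group
    have hδw : δ wS = wS := by
      have h1 : ((β⁻¹ wS : S) : Ω) ∈ Z := hZinv β⁻¹ w hw
      have h2 : τ⁻¹ (β⁻¹ wS) = (β⁻¹ wS)⁻¹ := by
        refine τ.injective ?_
        rw [MulAut.apply_inv_self, map_inv, show τ (β⁻¹ wS) = (β⁻¹ wS)⁻¹ from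
          Subtype.ext (hτz _ h1 (Subtype.prop _)), inv_inv]
      rw [hδ, MulAut.mul_apply, MulAut.mul_apply, MulAut.mul_apply, h2, map_inv, MulAut.apply_inv_self, map_inv,
        show τ wS = wS⁻¹ from Subtype.ext (hτz w hw (hZS w hw)), inv_inv]
    have hit : ∀ m : ℕ, (δ ^ m) (β x₀) = β x₀ * ((wS * wS)⁻¹) ^ m := by
      intro m
      induction m with
      | zero => simp
      | succ m ih =>
        rw [pow_succ', MulAut.mul_apply, ih, map_mul, hδy, map_pow, map_inv, map_mul, hδw, pow_succ', mul_assoc]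
    haveI := finite_mulAut (le_refl S)
    obtain ⟨-, V, hV⟩ := fullyAutomized_of_fullyNormalized hS hF (isFullyNormalized_self F)
    rw [autInducedBy_self] at hV
    haveI := inn_subgroupOf_normal (F.autGroup S)
    have hδm : δ ∈ F.autGroup S :=
      mul_mem (mul_mem (mul_mem hτ hβ) (inv_mem hτ)) (inv_mem hβ)
    set m := ((Cfsg.Inn S).subgroupOf (F.autGroup S)).index with hm
    have hmp : ¬ p ∣ m := by rw [hm, ← hV]; exact V.not_dvd_index
    obtain ⟨g, hg⟩ : δ ^ m ∈ Cfsg.Inn S := by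
      have := Subgroup.pow_index_mem ((Cfsg.Inn S).subgroupOf (F.autGroup S)) ⟨δ, hδm⟩
      exact Subgroup.mem_subgroupOf.1 this
    have hfix : (δ ^ m) (β x₀) = β x₀ := by
      rw [← hg]
      refine Subtype.ext ?_
      show (g : Ω) * ((β x₀ : S) : Ω) * (g : Ω)⁻¹ = _
      rw [Subgroup.mem_centralizer_iff.1 hβA.2 g g.2, mul_inv_cancel_right]
    rw [hit, mul_eq_left, inv_pow, inv_eq_one] at hfix
    have h5 : (w * w) ^ m = 1 := congrArg Subtype.val hfix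
    by_contra hw1
    have hww : w * w ≠ 1 := fun h => hw1 (hsq w hw h)
    have h6 := orderOf_dvd_of_pow_eq_one h5
    rw [orderOf_eq_prime (pow_prime_eq_one hZp (Z.mul_mem hw hw)) hww] at h6
    exact hmp h6
  -- the line of `y₀` is normal
  refine hkill (Subgroup.zpowers y₀) (fun h => hy₀Z (Subgroup.zpowers_eq_bot.1 h ▸ Z.one_mem))
    (isNormal_of_centricRadical hS hF (Subgroup.zpowers_le.2 hy₀A.1) (hAn _ (Subgroup.zpowers_le.2 hy₀A))
      fun R hRn hRc hRr => ⟨Subgroup.zpowers_le.2 (hAle R hRc hy₀A), fun α hα q hq => ?_⟩)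
  obtain ⟨i, hi⟩ := hq
  have hi' : y₀ ^ i = (q : Ω) := hi
  have hy₀R : y₀ ∈ R := hAle R hRc hy₀A
  have e : q = (⟨y₀, hy₀R⟩ : R) ^ i := Subtype.ext (by simp [hi'])
  rw [e, map_zpow, Subgroup.coe_zpow]
  refine zpow_mem ?_ i
  by_cases hRS : R = S
  · subst hRS
    exact hβ α hα
  obtain ⟨y, hyA, hyZ, hyR, σ, hσ, hσy, hσz⟩ := hex R hRn hRc hRr hRS
  -- `y₀` lies on the line of `y`
  obtain ⟨j, w, hw, ej⟩ := hdecA y hyA hyZ y₀ hy₀A
  have hw1 : w = 1 := by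
    obtain ⟨k, hk⟩ := hβ σ hσ
    have hk' : y₀ ^ k = ((σ ⟨y₀, hy₀A.1⟩ : S) : Ω) := hk
    have h1 : ((σ ⟨y₀, hy₀A.1⟩ : S) : Ω) = y ^ j * w⁻¹ := by
      rw [show (⟨y₀, hy₀A.1⟩ : S) = (⟨y, hyA.1⟩ : S) ^ j * ⟨w, hZS w hw⟩ from Subtype.ext (by simp [ej]),
        map_mul, map_zpow, Subgroup.coe_mul, Subgroup.coe_zpow, hσy, hσz w hw]
    have h2 : (w * w)⁻¹ ∈ Subgroup.zpowers y₀ := by
      have h3 : y₀⁻¹ * y₀ ^ k = (w * w)⁻¹ := by
        rw [hk', h1, ej, mul_inv_rev, mul_inv_rev, mul_assoc, inv_mul_cancel_left]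
      exact ⟨-1 + k, by rw [← h3]; group⟩
    refine hsq w hw ?_
    by_contra hne
    obtain ⟨l, hl⟩ := h2
    have hl' : y₀ ^ l = (w * w)⁻¹ := hl
    refine hne (inv_eq_one.1 ?_)
    rw [← hl']
    have hτl := hτpow l
    have hmem : y₀ ^ l ∈ Z := hl' ▸ Z.inv_mem (Z.mul_mem hw hw)
    have h4 := hτz _ hmem (hZS _ hmem)
    have e2 : (⟨y₀ ^ l, hZS _ hmem⟩ : S) = (⟨y₀, hy₀A.1⟩ : S) ^ l := Subtype.ext (by simp)
    rw [e2, hτl] at h4
    exact hsq _ hmem (mul_eq_one_iff_eq_inv.2 h4)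
  subst hw1
  rw [mul_one] at ej
  have hyRm : y ∈ R := hAle R hRc hyA
  obtain ⟨l, hl⟩ := hyR α hα hyRm
  have hl' : y ^ l = ((α ⟨y, hyRm⟩ : R) : Ω) := hl
  rw [show (⟨y₀, hy₀R⟩ : R) = (⟨y, hyRm⟩ : R) ^ j from Subtype.ext (by simp [ej]), map_zpow, Subgroup.coe_zpow,
    ← hl', ← zpow_mul, mul_comm, zpow_mul, ← ej]
  exact zpow_mem (Subgroup.mem_zpowers y₀) l

end System

end CfsgLib.Fusion
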