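import Cfsg.Agent.Fusion.FamilyStep

/-!
The conjugacy class of a subgroup all whose proper overgroup classes are saturated: normalizer maps to the fully
normalized members.
-/

set_option autoImplicit false
set_option linter.style.haveILetI false

open Cfsg

namespace CfsgLib.Fusion

open Cfsg.FusionSystem

variable {Ω : Type*} [Group Ω] {S : Subgroup Ω}

/-- Composites of isomorphisms extending to strictly larger subgroups of the normalizer. -/
inductive StepChain (F : Cfsg.FusionSystem S) : ∀ {Q Q' : Subgroup Ω}, Q ≃* Q' → Prop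
  | step {Q Q' : Subgroup Ω} {e : Q ≃* Q'} {D : Subgroup Ω} (h : ExtTo F e D S) (hlt : Q < D)
      (hn : D ≤ Subgroup.normalizer (Q : Set Ω)) : StepChain F e
  | trans {Q Q' Q'' : Subgroup Ω} {e : Q ≃* Q'} {e' : Q' ≃* Q''} (h : StepChain F e) (h' : StepChain F e') :
      StepChain F (e.trans e')

/-- Two subgroups map, with their normalizers, to a common one. -/
def CommonTarget (F : Cfsg.FusionSystem S) (Q Q' : Subgroup Ω) : Prop :=
  ∃ (Z : Subgroup Ω) (f : Q ≃* Z) (f' : Q' ≃* Z),
    ExtTo F f (normalizerIn S Q) (normalizerIn S Z) ∧ ExtTo F f' (normalizerIn S Q') (normalizerIn S Z)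

variable {F : Cfsg.FusionSystem S} {P Q Q' : Subgroup Ω} {p : ℕ}

lemma CommonTarget.symm (h : CommonTarget F Q Q') : CommonTarget F Q' Q :=
  let ⟨Z, f, f', hf, hf'⟩ := h; ⟨Z, f', f, hf', hf⟩

lemma StepChain.isoIn {Q Q' : Subgroup Ω} {e : Q ≃* Q'} (h : StepChain F e) : IsoIn F e := by
  induction h with
  | step h _ _ => exact h.isoIn
  | trans _ _ ih ih' => exact ih.trans ih'

variable [Finite S]

lemma StepChain.symm {Q Q' : Subgroup Ω} {e : Q ≃* Q'} (h : StepChain F e) : StepChain F e.symm := by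
  induction h with
  | @step Q Q' e D h hlt hn =>
    obtain ⟨E, hES, hcard, hQ'E, -, hsymm, hnorm⟩ := h.exists_symm
    refine .step (hsymm.weaken h.le) (lt_of_le_of_ne hQ'E fun he => ?_) (hnorm hn)
    haveI := finite_of_le h.le
    refine hlt.ne (Subgroup.eq_of_le_of_card_ge hlt.le ?_)
    rw [← hcard, ← he]
    exact (Nat.card_congr e.toEquiv).ge
  | trans h h' ih ih' => exact .trans ih' ih

/-- An extension to the normalizer is onto when the target normalizer is not larger. -/
lemma ExtTo.symm_normalizer {e : Q ≃* Q'} (h : ExtTo F e (normalizerIn S Q) (normalizerIn S Q'))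
    (hle : Nat.card (normalizerIn S Q') ≤ Nat.card (normalizerIn S Q)) :
    ExtTo F e.symm (normalizerIn S Q') (normalizerIn S Q) := by
  obtain ⟨E, hE, hcard, -, -, hsymm, -⟩ := h.exists_symm
  haveI := finite_normalizerIn (S := S) Q'
  obtain rfl : E = normalizerIn S Q' := Subgroup.eq_of_le_of_card_ge hE (hcard ▸ hle)
  exact hsymm

variable [Fact p.Prime]
variable (hS : IsPGroup p S) (hPS : P < S)
variable (hbig : ∀ R : Subgroup Ω, R ≤ S → Nat.card P < Nat.card R → HasGood F p R)
variable (hchain : ∀ (Q Q' : Subgroup Ω) (e : Q ≃* Q'), F.IsConj P Q → IsoIn F e → StepChain F e)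

omit [Fact p.Prime] in
/-- Transitivity through a middle term. -/
lemma commonTarget_trans {Q Q₀ Q'' : Subgroup Ω} (h : CommonTarget F Q Q₀) (h' : CommonTarget F Q'' Q₀)
    (hQ : Q₀ < normalizerIn S Q₀)
    (hstep : ∀ (A B : Subgroup Ω) (e : A ≃* B) (D : Subgroup Ω), F.IsConj Q₀ A → ExtTo F e D S → A < D →
      D ≤ Subgroup.normalizer (A : Set Ω) → Nat.card (normalizerIn S Q₀) ≤ Nat.card D → CommonTarget F A B) :
    CommonTarget F Q Q'' := by
  obtain ⟨A, f, f₁, hf, hf₁⟩ := h
  obtain ⟨B, g, g₁, hg, hg₁⟩ := h'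
  obtain ⟨E, hE, hcard, hAE, -, hsymm, -⟩ := hf₁.exists_symm
  have hlt : A < E := by
    refine lt_of_le_of_ne hAE fun he => ?_
    haveI := finite_normalizerIn (S := S) Q₀
    refine hQ.ne (Subgroup.eq_of_le_of_card_ge hQ.le ?_)
    rw [← hcard, ← he]
    exact (Nat.card_congr f₁.toEquiv).ge
  obtain ⟨Z, k, k', hk, hk'⟩ := hstep A B (f₁.symm.trans g₁) E (hf₁.isoIn.isConj)
    ((hsymm.trans hg₁).weaken inf_le_left) hlt (fun x hx => (hE hx).2) hcard.ge
  exact ⟨Z, f.trans k, g.trans k', hf.trans hk, hg.trans hk'⟩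

include hS hPS hbig in
/-- The two ends of a step have a common target. -/
lemma commonTarget_step (n : ℕ) : ∀ (Q Q' : Subgroup Ω) (e : Q ≃* Q') (D : Subgroup Ω), F.IsConj P Q →
    ExtTo F e D S → Q < D → D ≤ Subgroup.normalizer (Q : Set Ω) → Nat.card S - Nat.card D = n →
    CommonTarget F Q Q' := by
  induction n using Nat.strong_induction_on with
  | _ n ih =>
  intro Q Q' e D hQ hext hlt hn hd
  have hDS : D ≤ S := hext.le
  have hQS : Q ≤ S := hlt.le.trans hDS
  have hQ'S : Q' ≤ S := hext.isoIn.le_right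
  haveI := finite_normalizerIn (S := S) Q
  haveI := finite_normalizerIn (S := S) Q'
  haveI := finite_of_le hDS
  haveI := finite_of_le hQ'S
  have hDN : D ≤ normalizerIn S Q := le_inf hDS hn
  obtain ⟨D', hD'S, hcard, hQ'D, ⟨hQD, ψ, hψ, hv, hag⟩, hsymm, hnorm⟩ := hext.exists_symm
  have hD'N : D' ≤ normalizerIn S Q' := le_inf hD'S (hnorm hn)
  have hrefl : ∀ R : Subgroup Ω, R ≤ S → ExtTo F (MulEquiv.refl R) (normalizerIn S R) (normalizerIn S R) :=
    fun R hR => ⟨le_inf hR Subgroup.le_normalizer, _, subtype_mem (F := F) inf_le_left, fun x => x.2, fun _ => rfl⟩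
  rcases hDN.eq_or_lt with hD | hDlt
  · refine ⟨Q', e, MulEquiv.refl Q', ?_, hrefl Q' hQ'S⟩
    have := hext.normalizer hn
    rwa [hD] at this
  rcases hD'N.eq_or_lt with hD' | hD'lt
  · refine ⟨Q, MulEquiv.refl Q, e.symm, hrefl Q hQS, ?_⟩
    have := (hsymm.weaken hDN)
    rwa [hD'] at this
  haveI := finite_of_le hD'S
  have hr : ψ.range = D' := by
    refine Subgroup.eq_of_le_of_card_ge (by rintro _ ⟨x, rfl⟩; exact hv x) ?_
    rw [hcard]
    exact (Nat.card_congr (MonoidHom.ofInjective (F.injective_of_mem hψ)).toEquiv).le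
  have hη := isoIn_isoOfHom hψ hr
  have hηQ : ∀ x : D, (x : Ω) ∈ Q ↔ (isoOfHom (F.injective_of_mem hψ) hr x : Ω) ∈ Q' := by
    intro x
    rw [isoOfHom_apply]
    constructor
    · intro hx
      rw [show x = ⟨((⟨x, hx⟩ : Q) : Ω), hQD hx⟩ from rfl, hag ⟨x, hx⟩]
      exact (e _).2
    · intro hx
      have h1 : ψ ⟨(e.symm ⟨_, hx⟩ : Q), hQD (e.symm ⟨_, hx⟩).2⟩ = ψ x := by
        rw [hag, e.apply_symm_apply]
      rw [← F.injective_of_mem hψ h1]
      exact (e.symm ⟨_, hx⟩).2
  have hPD : Nat.card P < Nat.card D := by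
    rw [IsConj.card_eq hQ]
    exact lt_of_le_of_ne (Subgroup.card_le_of_le hlt.le) fun he => hlt.ne (Subgroup.eq_of_le_of_card_ge hlt.le he.ge)
  obtain ⟨D₀, Q₀, ε, ε', e₁, e₂, -, -, -, -, -, he₁, he₂, -⟩ := exists_common_step hS (hbig D hDS hPD) hη
    hlt.le hQ'D (le_inf hDN Subgroup.le_normalizer : D ≤ normalizerIn S Q ⊓ Subgroup.normalizer (D : Set Ω))
    (le_inf hD'N Subgroup.le_normalizer : D' ≤ normalizerIn S Q' ⊓ Subgroup.normalizer (D' : Set Ω))
    le_rfl le_rfl hηQ
  set M := normalizerIn S Q ⊓ Subgroup.normalizer (D : Set Ω) with hM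
  set M' := normalizerIn S Q' ⊓ Subgroup.normalizer (D' : Set Ω) with hM'
  have hgrow : ∀ {D N : Subgroup Ω}, D < N → N ≤ S → Nat.card D < Nat.card ↥(N ⊓ Subgroup.normalizer (D : Set Ω)) := by
    intro D N hDN hN
    haveI := finite_of_le hN
    haveI := finite_of_le (inf_le_left.trans hN : N ⊓ Subgroup.normalizer (D : Set Ω) ≤ S)
    obtain ⟨g, hg, hgn, hgD⟩ := exists_normalizer_not_mem (hS.to_le hN) hDN
    refine lt_of_le_of_ne (Subgroup.card_le_of_le (le_inf hDN.le Subgroup.le_normalizer)) fun he => hgD ?_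
    rw [Subgroup.eq_of_le_of_card_ge (le_inf hDN.le Subgroup.le_normalizer) he.ge]
    exact ⟨hg, hgn⟩
  have hMD : Nat.card D < Nat.card M := hgrow hDlt inf_le_left
  have hMD' : Nat.card D < Nat.card M' := hcard ▸ hgrow hD'lt inf_le_left
  have hMS : M ≤ S := inf_le_left.trans inf_le_left
  have hMS' : M' ≤ S := inf_le_left.trans inf_le_left
  haveI := finite_of_le hMS
  haveI := finite_of_le hMS'
  have hSle : Nat.card M ≤ Nat.card S := Subgroup.card_le_of_le hMS
  have hSle' : Nat.card M' ≤ Nat.card S := Subgroup.card_le_of_le hMS'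
  have hcQ' : F.IsConj P Q' := IsConj.trans hQ hext.isoIn.isConj
  have hQQ' : Nat.card Q' = Nat.card P := (IsConj.card_eq hcQ').symm
  have c1 : CommonTarget F Q Q₀ := ih _ (by omega) Q Q₀ e₁ M hQ (he₁.weaken inf_le_left)
    (lt_of_le_of_ne (le_inf (hlt.le.trans hDN) (hlt.le.trans Subgroup.le_normalizer)) fun he => by
      have := congrArg (fun R : Subgroup Ω => Nat.card R) he
      try simp only at this
      rw [← IsConj.card_eq hQ] at this
      omega)
    (inf_le_left.trans inf_le_right) rfl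
  have c2 : CommonTarget F Q' Q₀ := ih _ (by omega) Q' Q₀ e₂ M' hcQ' (he₂.weaken inf_le_left)
    (lt_of_le_of_ne (le_inf (hQ'D.trans hD'N) (hQ'D.trans Subgroup.le_normalizer)) fun he => by
      have := congrArg (fun R : Subgroup Ω => Nat.card R) he
      try simp only at this
      omega)
    (inf_le_left.trans inf_le_right) rfl
  have hbound : Nat.card M ≤ Nat.card (normalizerIn S Q₀) := by
    obtain ⟨E, hE, hEc, -⟩ := he₁.exists_symm
    haveI := finite_normalizerIn (S := S) Q₀
    exact hEc ▸ Subgroup.card_le_of_le hE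
  have hQ₀ : F.IsConj P Q₀ := IsConj.trans hQ he₁.isoIn.isConj
  refine commonTarget_trans c1 c2 (lt_of_le_of_ne (le_inf (IsConj.le_right hQ₀) Subgroup.le_normalizer) fun he => ?_)
    fun A B f E hA hf hAE hEn hEc => ?_
  · have := congrArg (fun R : Subgroup Ω => Nat.card R) he
    try simp only at this
    rw [← IsConj.card_eq hQ₀] at this
    omega
  · have hES := hf.le
    have : Nat.card E ≤ Nat.card S := Subgroup.card_le_of_le hES
    exact ih _ (by omega) A B f E (IsConj.trans hQ₀ hA) hf hAE hEn rfl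

include hS hPS in
omit [Fact p.Prime] in
lemma lt_normalizerIn_of_conj [Fact p.Prime] (hQ : F.IsConj P Q) : Q < normalizerIn S Q := by
  refine lt_normalizerIn hS (lt_of_le_of_ne (IsConj.le_right hQ) fun he => hPS.ne ?_)
  exact Subgroup.eq_of_le_of_card_ge hPS.le (by rw [IsConj.card_eq hQ, he])

include hS hPS hbig in
lemma commonTarget_chain {e : Q ≃* Q'} (h : StepChain F e) (hQ : F.IsConj P Q) : CommonTarget F Q Q' := by
  induction h with
  | @step Q Q' e D h hlt hn => exact commonTarget_step hS hPS hbig _ Q Q' e D hQ h hlt hn rfl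
  | @trans Q Q' Q'' e e' h h' ih ih' =>
    have hQ' : F.IsConj P Q' := IsConj.trans hQ h.isoIn.isConj
    exact commonTarget_trans (ih hQ) (ih' hQ').symm (lt_normalizerIn_of_conj hS hPS hQ')
      fun A B f E hA hf hAE hEn _ => commonTarget_step hS hPS hbig _ A B f E (IsConj.trans hQ' hA) hf hAE hEn rfl

include hS hPS hbig hchain in
/-- Every member of the class maps, with its normalizer, to a given fully normalized one. -/
theorem exists_arrow {Z : Subgroup Ω} (hn : F.IsFullyNormalized Z) (hZ : F.IsConj P Z) (hQ : F.IsConj P Q) :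
    ∃ f : Q ≃* Z, ExtTo F f (normalizerIn S Q) (normalizerIn S Z) := by
  obtain ⟨φ, hφ, hr⟩ := IsConj.trans (IsConj.symm hQ) hZ
  obtain ⟨B, f, f', hf, hf'⟩ := commonTarget_chain hS hPS hbig (hchain _ _ _ hQ (isoIn_isoOfHom hφ hr)) hQ
  exact ⟨f.trans f'.symm, hf.trans (hf'.symm_normalizer (hn.2 _ hf'.isoIn.isConj))⟩

end CfsgLib.Fusion
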