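import Cfsg.Agent.Fusion.FamilyLift

/-!
Saturation of a fusion system generated and saturated on a family of subgroups.
-/

set_option autoImplicit false
set_option linter.style.haveILetI false

open Cfsg

namespace CfsgLib.Fusion

open Cfsg.FusionSystem

variable {Ω : Type*} [Group Ω] {S : Subgroup Ω} {F : Cfsg.FusionSystem S} {P Q Q' : Subgroup Ω} {p : ℕ}
variable [Finite S] [Fact p.Prime]
variable (hS : IsPGroup p S) (hPS : P < S)

include hS hPS

omit [Fact p.Prime] in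
/-- The maps which, on the class of `P`, are composites of steps. -/
def chainSystem [Fact p.Prime] (F : Cfsg.FusionSystem S) (P : Subgroup Ω) (hS : IsPGroup p S) (hPS : P < S) :
    Cfsg.FusionSystem S where
  Hom R := {φ | φ ∈ F.Hom R ∧ (F.IsConj P R → ∀ (R' : Subgroup Ω) (e : R ≃* R'), (∀ x, φ x = (e x : Ω)) →
    StepChain F e)}
  le_of_mem h := F.le_of_mem h.1
  injective_of_mem h := F.injective_of_mem h.1
  conj_mem := by
    intro R g hR hg
    refine ⟨F.conj_mem hR hg, fun hc R' e he => ?_⟩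
    haveI := finite_of_le hR
    exact .step (D := normalizerIn S R) ⟨le_inf hR Subgroup.le_normalizer, _, F.conj_mem inf_le_left hg,
      fun x => val_mem (F.conj_mem inf_le_left hg) x, fun x => he x⟩
      (lt_normalizerIn_of_conj hS hPS hc) inf_le_right
  comp_mem := by
    rintro R T φ ψ ⟨hφ, hφ'⟩ ⟨hψ, hψ'⟩ hRT
    refine ⟨F.comp_mem hφ hψ hRT, fun hc R' e he => ?_⟩
    have h1 := hφ' hc φ.range (isoOfHom (F.injective_of_mem hφ) rfl) (fun x => rfl)
    obtain ⟨e', he'⟩ : ∃ e' : φ.range ≃* R', e' = (isoOfHom (F.injective_of_mem hφ) rfl).symm.trans e := ⟨_, rfl⟩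
    have hv : ∀ y : φ.range, ∀ h : (y : Ω) ∈ T, ψ ⟨y, h⟩ = (e' y : Ω) := by
      rintro y h
      obtain ⟨x, rfl⟩ := (isoOfHom (F.injective_of_mem hφ) (rfl : φ.range = φ.range)).surjective y
      rw [he', MulEquiv.trans_apply, MulEquiv.symm_apply_apply, ← he]
      rfl
    have hle : φ.range ≤ T := by rintro _ ⟨x, rfl⟩; exact hRT x
    have hc' : F.IsConj P φ.range := IsConj.trans hc ⟨φ, hφ, rfl⟩
    suffices h2 : StepChain F e' by
      have := h1.trans h2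
      rwa [show (isoOfHom (F.injective_of_mem hφ) rfl).trans e' = e by rw [he']; ext x; simp] at this
    rcases hle.eq_or_lt with hT | hlt
    · subst hT
      exact hψ' hc' R' e' fun x => hv x x.2
    · haveI := finite_of_le (le_of_hom hψ)
      obtain ⟨g, hg, hgn, hgR⟩ := exists_normalizer_not_mem (hS.to_le (le_of_hom hψ)) hlt
      refine .step (D := T ⊓ Subgroup.normalizer (φ.range : Set Ω)) ⟨le_inf hle Subgroup.le_normalizer, _,
        restrict hψ inf_le_left, fun x => val_mem hψ _, fun x => hv x _⟩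
        (lt_of_le_of_ne (le_inf hle Subgroup.le_normalizer) fun h => hgR (h.symm ▸ ⟨hg, hgn⟩)) inf_le_right
  inv_mem := by
    rintro R φ ⟨hφ, hφ'⟩
    obtain ⟨ψ, hψ, hr, h1, -⟩ := exists_inv hφ (rfl : φ.range = φ.range)
    refine ⟨ψ, ⟨hψ, fun hc R' e he => ?_⟩, fun x => h1 x ⟨x, rfl⟩⟩
    have h2 := (hφ' (IsConj.trans hc (IsConj.symm ⟨φ, hφ, rfl⟩)) φ.range (isoOfHom (F.injective_of_mem hφ) rfl)
      (fun x => rfl)).symm
    have hR : R' = R := by
      rw [← hr, ← IsoIn.range_eq e]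
      exact congrArg MonoidHom.range (MonoidHom.ext fun x => (he x).symm)
    subst hR
    rwa [show e = (isoOfHom (F.injective_of_mem hφ) (rfl : φ.range = φ.range)).symm from MulEquiv.ext fun y =>
      Subtype.ext (by
        obtain ⟨x, rfl⟩ := (isoOfHom (F.injective_of_mem hφ) (rfl : φ.range = φ.range)).surjective y
        rw [MulEquiv.symm_apply_apply, ← he]
        exact h1 x ⟨x, rfl⟩)]

variable (hbig : ∀ R : Subgroup Ω, R ≤ S → Nat.card P < Nat.card R → HasGood F p R)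
variable (hchain : ∀ (Q Q' : Subgroup Ω) (e : Q ≃* Q'), F.IsConj P Q → IsoIn F e → StepChain F e)
variable (hn : F.IsFullyNormalized P) (hlift : P < pCoreLift F p P)

include hbig hchain hn hlift

omit hPS in
lemma extAut_lift_of_chain (hPS : P < S) {e : Q ≃* Q'} (h : StepChain F e) (hQ : F.IsConj P Q)
    (f : Q ≃* P) (f' : Q' ≃* P) (hf : ExtTo F f (normalizerIn S Q) (normalizerIn S P))
    (hf' : ExtTo F f' (normalizerIn S Q') (normalizerIn S P)) :
    ExtTo F (f.symm.trans (e.trans f')) (pCoreLift F p P) (pCoreLift F p P) := by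
  induction h with
  | @step Q Q' e D h hlt hD =>
    have hD' : D ≤ normalizerIn S Q := le_inf h.le hD
    obtain ⟨E, hE, hEc, hPE, -, hfs, -⟩ := (hf.mono hlt.le hD').exists_symm
    have hext : ExtTo F (f.symm.trans (e.trans f')) E S :=
      ((hfs.trans ((h.normalizer hD).trans hf'))).weaken inf_le_left
    refine extAut_lift_of_ext hS hPS hbig hchain hn hlift _ _ E hext (lt_of_le_of_ne hPE fun he => ?_) hE rfl
    haveI := finite_of_le h.le
    refine hlt.ne (Subgroup.eq_of_le_of_card_ge hlt.le ?_)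
    rw [← hEc, ← he]
    exact (IsConj.card_eq hQ).le
  | @trans Q Q' Q'' e e' h h' ih ih' =>
    have hQ' : F.IsConj P Q' := IsConj.trans hQ h.isoIn.isConj
    obtain ⟨g, hg⟩ := exists_arrow hS hPS hbig hchain hn (IsConj.refl hn.1) hQ'
    refine ((ih hQ f g hf hg).trans (ih' hQ' g f' hg hf')).congr fun x => ?_
    simp

omit hPS in
/-- All automorphisms of the fully normalized member extend. -/
lemma extAut_lift (hPS : P < S) {a : MulAut P} (ha : a ∈ F.autGroup P) :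
    ExtTo F (a : P ≃* P) (pCoreLift F p P) (pCoreLift F p P) := by
  have hrefl : ExtTo F (MulEquiv.refl P) (normalizerIn S P) (normalizerIn S P) :=
    ⟨le_inf hn.1 Subgroup.le_normalizer, _, subtype_mem (F := F) inf_le_left, fun x => x.2, fun _ => rfl⟩
  exact (extAut_lift_of_chain hS hbig hchain hn hlift hPS
    (hchain _ _ _ (IsConj.refl hn.1) (isoIn_aut hn.1 ha)) (IsConj.refl hn.1) _ _ hrefl hrefl).congr fun x => rfl

omit hPS in
/-- The class has a fully automized receptive member. -/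
theorem hasGood_of_lift (hPS : P < S) : HasGood F p P := by
  set G := pCoreLift F p P
  have hGN : G ≤ normalizerIn S P := pCoreLift_le
  have hGS : G ≤ S := hGN.trans inf_le_left
  haveI := finite_of_le hGS
  have hGcard : Nat.card P < Nat.card G :=
    lt_of_le_of_ne (Subgroup.card_le_of_le hlift.le) fun he => hlift.ne (Subgroup.eq_of_le_of_card_ge hlift.le he.ge)
  have hNG : normalizerIn S P ≤ Subgroup.normalizer (G : Set Ω) := by
    have key : ∀ g ∈ normalizerIn S P, ∀ x ∈ G, g * x * g⁻¹ ∈ G := by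
      intro g hg x hx
      obtain ⟨hxN, hxO⟩ := mem_pCoreLift.1 hx
      refine mem_pCoreLift.2 ⟨mul_mem (mul_mem hg hxN) (inv_mem hg), ?_⟩
      rw [show (⟨g * x * g⁻¹, _⟩ : normalizerIn S P) = ⟨g, hg⟩ * ⟨x, hxN⟩ * ⟨g, hg⟩⁻¹ from rfl, map_mul,
        map_mul, map_inv]
      exact pCore_conj_mem (autInducedBy_le_autGroup hn.1 ((range_conjAut (P := P) S).le ⟨_, rfl⟩)) hxO
    intro g hg
    refine Subgroup.mem_normalizer_iff.2 fun x => ⟨key g hg x, fun h => ?_⟩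
    have := key g⁻¹ (inv_mem hg) _ h
    simpa [mul_assoc] using this
  obtain ⟨G₀, Q₀, ε, ε', e₁, e₂, hfa, hrec, hQ₀G, hε, -, he₁, -, he₁v, -, hiff, -, V, hV⟩ :=
    exists_common_step hS (hbig G hGS hGcard) (η := MulEquiv.refl G) (show IsoIn F (MulEquiv.refl G) from IsoIn.refl hGS)
      hlift.le hlift.le hGN hGN (le_inf le_rfl hNG) (le_inf le_rfl hNG) (fun x => Iff.rfl)
  have hQ₀S : Q₀ ≤ S := he₁.isoIn.le_right
  haveI := finite_mulAut hfa.1
  haveI := finite_mulAut hQ₀S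
  -- `Q₀` is fully normalized and `e₁` is onto on normalizers
  have hes : ExtTo F e₁.symm (normalizerIn S Q₀) (normalizerIn S P) :=
    he₁.symm_normalizer (hn.2 _ he₁.isoIn.isConj)
  have hn₀ : F.IsFullyNormalized Q₀ := ⟨hQ₀S, fun R hR => by
    refine le_trans (hn.2 R (IsConj.trans he₁.isoIn.isConj hR)) ?_
    obtain ⟨E, hE, hEc, -⟩ := he₁.exists_symm
    haveI := finite_normalizerIn (S := S) Q₀
    exact hEc ▸ Subgroup.card_le_of_le hE⟩
  have hN₀ : normalizerIn S Q₀ ≤ Subgroup.normalizer (G₀ : Set Ω) := by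
    obtain ⟨hP', ψ, hψ, hv, hag⟩ := hε
    have hsurj : ψ.range = normalizerIn S Q₀ := by
      haveI := finite_normalizerIn (S := S) Q₀
      refine Subgroup.eq_of_le_of_card_ge ?_ ?_
      · rintro _ ⟨x, rfl⟩
        refine ⟨val_mem hψ x, ?_⟩
        have hφ : (Q₀.subtype.comp e₁.toMonoidHom).range = Q₀ := IsoIn.range_eq e₁
        rw [← hφ]
        exact map_mem_normalizer (φ := Q₀.subtype.comp e₁.toMonoidHom) (hlift.le.trans hP')
          (fun y => (hag ⟨y, hlift.le y.2⟩).trans (he₁v y).symm) x.2 x.2.2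
      · refine le_trans (hn.2 _ he₁.isoIn.isConj) ?_
        exact (Nat.card_congr (MonoidHom.ofInjective (F.injective_of_mem hψ)).toEquiv).le
    intro g hg
    obtain ⟨x, rfl⟩ := hsurj.ge hg
    exact (hv x).2
  let H : Subgroup (MulAut G₀) := stabilizerIn (F.autGroup G₀) Q₀
  let res : H →* MulAut Q₀ := resAut hQ₀G
  have hres : ∀ a ∈ F.autGroup Q₀, ∃ b : H, res b = a := by
    intro a ha
    have hb := he₁.isoIn.symm.congr_mem ha
    obtain ⟨hG', ψ, hψ, hv, hag⟩ := extAut_lift hS hbig hchain hn hlift hPS hb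
    have hr : ψ.range = G := Subgroup.eq_of_le_of_card_ge (by rintro _ ⟨x, rfl⟩; exact hv x)
      (Nat.card_congr (MonoidHom.ofInjective (F.injective_of_mem hψ)).toEquiv).le
    obtain ⟨k, hk⟩ : ∃ k : MulAut G₀,
        k = (ε.symm.trans ((isoOfHom (F.injective_of_mem hψ) hr).trans ε) : G₀ ≃* G₀) := ⟨_, rfl⟩
    have hkF : k ∈ F.autGroup G₀ := by
      rw [hk]
      exact (mem_autGroup hfa.1).2 (hε.isoIn.symm.trans ((isoIn_isoOfHom hψ hr).trans hε.isoIn))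
    have hval : ∀ x : P, isoOfHom (F.injective_of_mem hψ) hr ⟨x, hG' x.2⟩ =
        ⟨(MulAut.congr e₁.symm a x : P), hG' (MulAut.congr e₁.symm a x).2⟩ := fun x => Subtype.ext (hag x)
    have hkiff : ∀ (z : G₀) (hz : (z : Ω) ∈ Q₀), ((k z : G₀) : Ω) = a ⟨z, hz⟩ := by
      intro z hz
      obtain ⟨x, hx⟩ := e₁.surjective ⟨z, hz⟩
      have hz' : z = ε ⟨x, hlift.le x.2⟩ := Subtype.ext (by rw [← he₁v, hx])
      subst hz'
      rw [hk]
      simp only [MulEquiv.trans_apply, MulEquiv.symm_apply_apply]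
      rw [hval, ← he₁v]
      refine congrArg Subtype.val ?_
      show e₁ (e₁.symm (a (e₁.symm.symm x))) = _
      rw [e₁.apply_symm_apply, MulEquiv.symm_symm]
      exact congrArg a (Subtype.ext (he₁v x))
    refine ⟨⟨k, hkF, fun z => ⟨fun hz => hkiff z hz ▸ (a _).2, fun hz => ?_⟩⟩, MulEquiv.ext fun q => Subtype.ext ?_⟩
    · obtain ⟨q, hq⟩ := a.surjective ⟨_, hz⟩
      have h1 := hkiff ⟨q, hQ₀G q.2⟩ q.2
      have h2 : k z = k ⟨q, hQ₀G q.2⟩ := Subtype.ext (by rw [h1]; exact congrArg Subtype.val hq.symm)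
      rw [k.injective h2]
      exact q.2
    · exact hkiff ⟨q, hQ₀G q.2⟩ q.2
  have hresA : ∀ c : H, res c ∈ F.autGroup Q₀ := fun c =>
    (mem_autGroup hQ₀S).2 (restrict_of_eq ((mem_autGroup hfa.1).1 c.2.1) hQ₀G fun _ => rfl)
  let res' : H →* F.autGroup Q₀ := res.codRestrict _ hresA
  have hres' : Function.Surjective res' := fun a => by
    obtain ⟨b, hb⟩ := hres a a.2
    exact ⟨b, Subtype.ext hb⟩
  have hVind : ((V.mapSurjective hres' : Sylow p (F.autGroup Q₀)) : Subgroup (F.autGroup Q₀)) ≤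
      (autInducedBy S Q₀).subgroupOf (F.autGroup Q₀) := by
    rw [Sylow.coe_mapSurjective]
    rintro _ ⟨c, hc, rfl⟩
    obtain ⟨g, hg, hgc⟩ := mem_autInducedBy.1 (hV ⟨c, hc, rfl⟩)
    exact Subgroup.mem_subgroupOf.2 (mem_autInducedBy.2 ⟨g, hg, fun q => hgc ⟨q, hQ₀G q.2⟩⟩)
  have hVeq := ((V.mapSurjective hres').is_maximal'
    ((isPGroup_autInducedBy p hS Q₀).comap_of_injective _ (F.autGroup Q₀).subtype_injective) hVind).symm
  refine ⟨Q₀, he₁.isoIn.isConj, ⟨hQ₀S, _, hVeq⟩, hQ₀S, fun R φ hφ hr => ?_⟩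
  -- receptive
  have hRS : R ≤ S := le_of_hom hφ
  obtain ⟨f₁, hf₁⟩ := exists_arrow hS hPS hbig hchain hn (IsConj.refl hn.1)
    (IsConj.trans he₁.isoIn.isConj (IsConj.symm ⟨φ, hφ, hr⟩))
  obtain ⟨f, hfdef⟩ : ∃ f : R ≃* Q₀, f = f₁.trans e₁ := ⟨_, rfl⟩
  have hf : ExtTo F f (normalizerIn S R) (normalizerIn S Q₀) := hfdef ▸ hf₁.trans he₁
  obtain ⟨X, hX, hXc, hRX, hfX, -, -⟩ := (hf.mono (le_extender hφ) (extender_le_normalizerIn φ)).exists_symm
  obtain ⟨a, hadef⟩ : ∃ a : MulAut Q₀,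
      a = (f.symm.trans (isoOfHom (F.injective_of_mem hφ) hr) : Q₀ ≃* Q₀) := ⟨_, rfl⟩
  have haF : a ∈ F.autGroup Q₀ := hadef ▸ (mem_autGroup hQ₀S).2 (hf.isoIn.symm.trans (isoIn_isoOfHom hφ hr))
  obtain ⟨b, hb⟩ := hres a haF
  obtain ⟨hRE, ψf, hψf, hvf, hagf⟩ := hfX
  -- conjugations by the extender are carried into `Aut_S(Q₀)`
  have hcarry : ∀ g, ∀ hg : g ∈ extender S R φ, ∀ hx : ψf ⟨g, hg⟩ ∈ normalizerIn S Q₀,
      a * conjAut Q₀ S ⟨_, hx⟩ * a⁻¹ ∈ autInducedBy S Q₀ := by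
    intro g hg hx
    obtain ⟨-, hgN, h, hh, hhx⟩ := mem_extender.1 hg
    refine mem_autInducedBy.2 ⟨h, hh, fun q => ?_⟩
    obtain ⟨y, rfl⟩ := (isoOfHom (F.injective_of_mem hφ) hr).surjective q
    have hay : a (f y) = isoOfHom (F.injective_of_mem hφ) hr y := by rw [hadef]; simp
    have hcy : g * (y : Ω) * g⁻¹ ∈ R := conj_mem_of_normalizer hgN y.2
    have hc : conjAut Q₀ S ⟨_, hx⟩ (f y) = f ⟨g * (y : Ω) * g⁻¹, hcy⟩ := Subtype.ext (by
      show ψf ⟨g, hg⟩ * (f y : Ω) * (ψf ⟨g, hg⟩)⁻¹ = _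
      rw [← hagf y, ← map_inv, ← map_mul, ← map_mul]
      exact hagf ⟨g * (y : Ω) * g⁻¹, hcy⟩)
    have hay' : a (f ⟨g * (y : Ω) * g⁻¹, hcy⟩) = isoOfHom (F.injective_of_mem hφ) hr ⟨_, hcy⟩ := by
      rw [hadef]; simp
    rw [← hay, MulAut.mul_apply, MulAut.mul_apply, MulAut.inv_apply_self, hc, hay', hay]
    exact hhx y hcy
  -- the lift
  set T := autInducedBy S G₀
  have hTH : IsPGroup p (T.comap H.subtype) :=
    (isPGroup_autInducedBy p hS G₀).comap_of_injective _ H.subtype_injective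
  have hTV : T.comap H.subtype = (V : Subgroup H) := V.is_maximal' hTH fun c hc => hV ⟨c, hc, rfl⟩
  set Z := (autInducedBy X G₀).comap H.subtype
  have hXT : ∀ c ∈ Z, c ∈ (V : Subgroup H) := fun c hc => by
    obtain ⟨g, hg, hgc⟩ := mem_autInducedBy.1 hc
    exact hTV.le (mem_autInducedBy.2 ⟨g, (hX hg).1, hgc⟩)
  set J := res.ker ⊔ (V : Subgroup H) with hJ
  have hZJ : ∀ c ∈ Z, b * c * b⁻¹ ∈ J := by
    intro c hc
    obtain ⟨g, hg, hgc⟩ := mem_autInducedBy.1 hc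
    have h1 : res' (b * c * b⁻¹) ∈ (autInducedBy S Q₀).subgroupOf (F.autGroup Q₀) := by
      rw [Subgroup.mem_subgroupOf]
      show res (b * c * b⁻¹) ∈ _
      rw [map_mul, map_mul, map_inv, hb]
      obtain ⟨⟨z, hz⟩, hzg⟩ : ∃ z : extender S R φ, ψf z = g := by
        have hrg : ψf.range = X := by
          haveI := finite_of_le (hX.trans inf_le_left)
          refine Subgroup.eq_of_le_of_card_ge (by rintro _ ⟨x, rfl⟩; exact hvf x) ?_
          rw [← Nat.card_congr (MonoidHom.ofInjective (F.injective_of_mem hψf)).toEquiv]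
          exact le_of_eq hXc
        exact hrg.ge hg
      have hx : ψf ⟨z, hz⟩ ∈ normalizerIn S Q₀ := hX (hvf _)
      rw [show res c = conjAut Q₀ S ⟨_, hx⟩ from MulEquiv.ext fun q => Subtype.ext (by
        show ((c : MulAut G₀) ⟨q, hQ₀G q.2⟩ : Ω) = _
        show _ = ψf ⟨z, hz⟩ * (q : Ω) * (ψf ⟨z, hz⟩)⁻¹
        rw [hzg]
        exact hgc _)]
      exact hcarry z hz hx
    have h1' := hVeq.ge h1
    rw [Sylow.coe_mapSurjective] at h1'
    obtain ⟨v, hv, hvc⟩ := h1'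
    have h2 : b * c * b⁻¹ * v⁻¹ ∈ res.ker := by
      rw [MonoidHom.mem_ker, map_mul, map_inv, mul_inv_eq_one]
      exact (congrArg Subtype.val hvc).symm
    have h3 := Subgroup.mul_mem_sup h2 hv
    rwa [inv_mul_cancel_right] at h3
  have hZp : IsPGroup p (Z.map (MulAut.conj b).toMonoidHom) :=
    ((isPGroup_autInducedBy p (hS.to_le (hX.trans inf_le_left)) G₀).comap_of_injective _ H.subtype_injective |>.map _)
  have hZJle : Z.map (MulAut.conj b).toMonoidHom ≤ J := by rintro _ ⟨c, hc, rfl⟩; exact hZJ c hc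
  obtain ⟨U, hU⟩ := (hZp.of_equiv (Subgroup.subgroupOfEquivOfLe hZJle).symm).exists_le_sylow
  obtain ⟨⟨w, hw⟩, hwU⟩ := MulAction.exists_smul_eq J U (V.subtype (le_sup_right : (V : Subgroup H) ≤ J))
  rw [hJ, ← SetLike.mem_coe, Subgroup.normal_mul] at hw
  obtain ⟨k, hk, v, hv, hkv : k * v = w⟩ := hw
  obtain ⟨β, hβ⟩ : ∃ β, β = v⁻¹ * w * b := ⟨_, rfl⟩
  have hresβ : res β = a := by
    rw [hβ, map_mul, hb, ← hkv, ← mul_assoc, map_mul, map_mul, map_inv, MonoidHom.mem_ker.1 hk, mul_one,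
      inv_mul_cancel, one_mul]
  have hβc : ∀ c ∈ Z, β * c * β⁻¹ ∈ (V : Subgroup H) := by
    intro c hc
    have h1 : (⟨w, ‹_›⟩ : J) * ⟨b * c * b⁻¹, hZJ c hc⟩ * (⟨w, ‹_›⟩ : J)⁻¹ ∈
        ((V.subtype (le_sup_right : (V : Subgroup H) ≤ J)) : Subgroup J) := by
      rw [← hwU, Sylow.coe_subgroup_smul]
      exact ⟨_, hU (Subgroup.mem_subgroupOf.2 ⟨c, hc, rfl⟩), rfl⟩
    rw [Sylow.coe_subtype, Subgroup.mem_subgroupOf] at h1
    have h2 := mul_mem (mul_mem ((V : Subgroup H).inv_mem hv) h1) hv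
    rw [hβ]
    simpa [mul_assoc] using h2
  set D := X ⊔ G₀
  have hG₀Q : G₀ ≤ Subgroup.normalizer (Q₀ : Set Ω) := by
    intro z hz
    obtain ⟨x, hx⟩ := ε.surjective ⟨z, hz⟩
    obtain ⟨hP', ψ, hψ, hv, hag⟩ := he₁
    refine Subgroup.mem_normalizer_iff.2 fun q => ?_
    constructor
    · intro hq
      obtain ⟨y, hy⟩ := e₁.surjective ⟨q, hq⟩
      have hq' : (⟨q, hQ₀G hq⟩ : G₀) = ε ⟨y, hlift.le y.2⟩ := Subtype.ext (by rw [← he₁v, hy])
      have h2 : ((x * ⟨y, hlift.le y.2⟩ * x⁻¹ : G) : Ω) ∈ P := conj_mem_of_normalizer (hGN x.2).2 y.2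
      have h3 := (hiff _).1 h2
      rw [map_mul, map_mul, map_inv, hx, ← hq'] at h3
      exact h3
    · intro hq
      have hqD : q ∈ G₀ := by
        have := G₀.mul_mem (G₀.mul_mem (G₀.inv_mem hz) (hQ₀G hq)) hz
        simpa [mul_assoc] using this
      obtain ⟨q', hq'⟩ := ε.surjective ⟨q, hqD⟩
      have h1 : ((x * q' * x⁻¹ : G) : Ω) ∈ P := (hiff _).2 (by rw [map_mul, map_mul, map_inv, hq', hx]; exact hq)
      have h2 : (q' : Ω) ∈ P := by
        have := conj_inv_mem_of_normalizer (hGN x.2).2 h1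
        simpa [mul_assoc] using this
      have h3 := (hiff _).1 h2
      rw [hq'] at h3
      exact h3
  have hDN : D ≤ normalizerIn S G₀ := sup_le (le_inf (hX.trans inf_le_left) (hX.trans hN₀))
    (le_inf hfa.1 Subgroup.le_normalizer)
  have hext : ExtTo F ((β : MulAut G₀) : G₀ ≃* G₀) D (normalizerIn S G₀) := by
    refine extTo_of_receptive hrec ((mem_autGroup hfa.1).1 β.2.1) le_sup_right hDN ?_
    rintro _ ⟨c, hc, rfl⟩
    let L : Subgroup (normalizerIn S G₀) := (T.comap (MulAut.conj (β : MulAut G₀)).toMonoidHom).comap (conjAut G₀ S)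
    have hL : D ≤ L.map (normalizerIn S G₀).subtype := by
      refine sup_le (fun z hz => ⟨⟨z, hDN (Subgroup.mem_sup_left hz)⟩, ?_, rfl⟩)
        (fun z hz => ⟨⟨z, hfa.1 hz, Subgroup.le_normalizer hz⟩, ?_, rfl⟩)
      · have hzH : conjAut G₀ S ⟨z, hDN (Subgroup.mem_sup_left hz)⟩ ∈ H :=
          ⟨autInducedBy_le_autGroup hfa.1 ((range_conjAut (P := G₀) S).le ⟨_, rfl⟩),
            fun q => Subgroup.mem_normalizer_iff.1 (hX hz).2 _⟩
        exact hV ⟨_, hβc ⟨_, hzH⟩ (mem_autInducedBy.2 ⟨z, hz, fun q => rfl⟩), rfl⟩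
      · show (β : MulAut G₀) * conjAut G₀ S _ * (β : MulAut G₀)⁻¹ ∈ T
        refine mem_autInducedBy.2 ⟨((β : MulAut G₀) ⟨z, hz⟩ : G₀), hfa.1 ((β : MulAut G₀) ⟨z, hz⟩).2, fun q => ?_⟩
        obtain ⟨q, rfl⟩ := (β : MulAut G₀).surjective q
        rw [MulAut.mul_apply, MulAut.mul_apply, MulAut.inv_apply_self]
        rw [show conjAut G₀ S ⟨z, hfa.1 hz, Subgroup.le_normalizer hz⟩ q = ⟨z, hz⟩ * q * ⟨z, hz⟩⁻¹ from
          Subtype.ext rfl, map_mul, map_mul, map_inv]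
        rfl
    obtain ⟨g, hg, hgc⟩ := mem_autInducedBy.1 hc
    obtain ⟨⟨g', hg'⟩, hgL, rfl⟩ := hL hg
    rw [show c = conjAut G₀ S ⟨g', hg'⟩ from MulEquiv.ext fun q => Subtype.ext (hgc q)]
    exact hgL
  obtain ⟨hG₀D, ψβ, hψβ, -, hagβ⟩ := hext
  refine ⟨_, F.comp_mem hψf hψβ (fun x => Subgroup.mem_sup_left (hvf x)), fun x hx hxe => ?_⟩
  show ψβ ⟨ψf ⟨x, hxe⟩, _⟩ = φ ⟨x, hx⟩
  have e1 : ψf ⟨x, hxe⟩ = (f ⟨x, hx⟩ : Ω) := hagf ⟨x, hx⟩
  refine (congrArg ψβ (Subtype.ext e1 : _ = (⟨(f ⟨x, hx⟩ : Ω), hG₀D (hQ₀G (f ⟨x, hx⟩).2)⟩ : D))).trans ?_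
  rw [hagβ ⟨_, hQ₀G (f ⟨x, hx⟩).2⟩]
  have h2 : res β (f ⟨x, hx⟩) = a (f ⟨x, hx⟩) := by rw [hresβ]
  rw [hadef] at h2
  simp only [MulEquiv.trans_apply, MulEquiv.symm_apply_apply] at h2
  exact congrArg Subtype.val h2

omit hS hPS hbig hchain hn hlift

/-- The saturation criterion. -/
theorem isSaturated_of_family (hS : IsPGroup p S) (F : Cfsg.FusionSystem S) (ℋ : Set (Subgroup Ω))
    (hℋconj : ∀ P ∈ ℋ, ∀ Q, F.IsConj P Q → Q ∈ ℋ) (hsat : ∀ P ∈ ℋ, HasGood F p P)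
    (hgen : ∀ E : Cfsg.FusionSystem S, (∀ P ∈ ℋ, F.Hom P ⊆ E.Hom P) → F ≤ E)
    (hstar : ∀ P : Subgroup Ω, F.IsCentric P → P ∉ ℋ → ∃ Q, F.IsConj P Q ∧
      ¬ (Cfsg.autInducedBy S Q ⊓ (Cfsg.pCore p ↥(F.autGroup Q)).map (F.autGroup Q).subtype ≤ Cfsg.Inn Q)) :
    F.IsSaturated p := by
  intro P hP
  induction hd : Nat.card S - Nat.card P using Nat.strong_induction_on generalizing P with
  | _ d ih =>
  by_cases hPℋ : P ∈ ℋ
  · exact hsat P hPℋ
  have hbig : ∀ R : Subgroup Ω, R ≤ S → Nat.card P < Nat.card R → HasGood F p R := fun R hR hlt => by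
    have := Subgroup.card_le_of_le hR
    exact ih _ (by omega) R hR rfl
  obtain ⟨Q, x, hQc, hxN, hxQ, hxO⟩ : ∃ (Q : Subgroup Ω) (x : Ω), F.IsConj P Q ∧ ∃ hxN : x ∈ normalizerIn S Q,
      x ∉ Q ∧ conjAut Q S ⟨x, hxN⟩ ∈ (Cfsg.pCore p (F.autGroup Q)).map (F.autGroup Q).subtype := by
    by_cases hc : F.IsCentric P
    · obtain ⟨Q, hQ, hne⟩ := hstar P hc hPℋ
      obtain ⟨c, ⟨hc1, hc2⟩, hc3⟩ := SetLike.not_le_iff_exists.1 hne
      obtain ⟨g, hg, hgc⟩ := mem_autInducedBy.1 hc1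
      have hN : g ∈ normalizerIn S Q := ⟨hg, mem_normalizer_of_conj hgc⟩
      have hce : c = conjAut Q S ⟨g, hN⟩ := MulEquiv.ext fun q => Subtype.ext (hgc q)
      exact ⟨Q, g, hQ, hN, fun hgQ => hc3 ⟨⟨g, hgQ⟩, MulEquiv.ext fun q => Subtype.ext (hgc q).symm⟩, hce ▸ hc2⟩
    · simp only [IsCentric, hP, true_and, not_forall] at hc
      obtain ⟨Q, hQ, hne⟩ := hc
      obtain ⟨x, hx, hxQ⟩ := SetLike.not_le_iff_exists.1 hne
      have hN : x ∈ normalizerIn S Q := centralizerIn_le_normalizerIn S Q hx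
      refine ⟨Q, x, hQ, hN, hxQ, ?_⟩
      rw [show conjAut Q S ⟨x, hN⟩ = 1 from MulEquiv.ext fun q => Subtype.ext (by
        rw [conjAut_apply, MulAut.one_apply, ← Subgroup.mem_centralizer_iff.1 hx.2 q q.2, mul_inv_cancel_right])]
      exact one_mem _
  have hQS : Q < S := lt_of_le_of_ne (IsConj.le_right hQc) fun h => hxQ (h ▸ hxN.1)
  have hPS : P < S := lt_of_le_of_ne hP fun h => hQS.ne (Subgroup.eq_of_le_of_card_ge hQS.le (by
    rw [← IsConj.card_eq hQc, h]))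
  have hle : F ≤ chainSystem (p := p) F P hS hPS := hgen _ fun R hR φ hφ => ⟨hφ, fun hc =>
    absurd (hℋconj R hR P (IsConj.symm hc)) hPℋ⟩
  have hchain : ∀ (Q Q' : Subgroup Ω) (e : Q ≃* Q'), F.IsConj P Q → IsoIn F e → StepChain F e :=
    fun Q Q' e hQ he => (hle Q he).2 hQ Q' e fun _ => rfl
  obtain ⟨Z, hZ, hn⟩ := exists_fullyNormalized (F := F) hP
  have hZc := IsConj.card_eq hZ
  have hZS : Z < S := lt_of_le_of_ne hn.1 fun h => hPS.ne (Subgroup.eq_of_le_of_card_ge hPS.le (by rw [hZc, h]))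
  have hbigZ : ∀ R : Subgroup Ω, R ≤ S → Nat.card Z < Nat.card R → HasGood F p R := fun R hR hlt =>
    hbig R hR (hZc ▸ hlt)
  have hchainZ : ∀ (Q Q' : Subgroup Ω) (e : Q ≃* Q'), F.IsConj Z Q → IsoIn F e → StepChain F e :=
    fun Q Q' e hQ he => hchain Q Q' e (IsConj.trans hZ hQ) he
  have hQZ : F.IsConj Z Q := IsConj.trans (IsConj.symm hZ) hQc
  obtain ⟨f, hf⟩ := exists_arrow hS hZS hbigZ hchainZ hn (IsConj.refl hn.1) hQZ
  obtain ⟨hQN, ψ, hψ, hv, hag⟩ := id hf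
  have hlift : Z < pCoreLift F p Z := by
    have hle' : Z ≤ pCoreLift F p Z := fun z hz => mem_pCoreLift.2 ⟨⟨hn.1 hz, Subgroup.le_normalizer hz⟩, by
      haveI := finite_mulAut hn.1
      have hInn : Cfsg.Inn Z ≤ F.autGroup Z := inn_le_autGroup hn.1
      have hp : IsPGroup p (Cfsg.Inn Z) :=
        (hS.to_le hn.1).of_surjective (MulAut.conj (G := Z)).rangeRestrict (MonoidHom.rangeRestrict_surjective _)
      have hn' : ((Cfsg.Inn Z).subgroupOf (F.autGroup Z)).Normal := ⟨fun c hc a => by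
        obtain ⟨y, hy⟩ := hc
        refine ⟨(a : MulAut Z) y, ?_⟩
        show MulAut.conj ((a : MulAut Z) y) = (a : MulAut Z) * (c : MulAut Z) * (a : MulAut Z)⁻¹
        rw [show (c : MulAut Z) = MulAut.conj y from hy.symm]
        ext w
        simp⟩
      exact ⟨⟨_, hInn ⟨⟨z, hz⟩, rfl⟩⟩, CfsgLib.PCore.le_pCore hn'
        (hp.of_equiv (Subgroup.subgroupOfEquivOfLe hInn).symm)
        (Subgroup.mem_subgroupOf.2 ⟨⟨z, hz⟩, rfl⟩), MulEquiv.ext fun w => Subtype.ext rfl⟩⟩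
    refine lt_of_le_of_ne hle' fun h => ?_
    have hy : ψ ⟨x, hxN⟩ ∈ pCoreLift F p Z := mem_pCoreLift.2 ⟨hv _, by
      rw [← congr_conjAut hQN hag hxN hxN (hv _)]
      exact congr_mem_pCore hf.isoIn hxO⟩
    rw [← h] at hy
    obtain ⟨q, hq⟩ := f.surjective ⟨_, hy⟩
    have h2 : ψ ⟨q, hQN q.2⟩ = ψ ⟨x, hxN⟩ := (hag q).trans (congrArg Subtype.val hq)
    have h3 : (q : Ω) = x := congrArg Subtype.val (F.injective_of_mem hψ h2)
    exact hxQ (h3 ▸ q.2)
  obtain ⟨W, hW, hfa, hr⟩ := hasGood_of_lift hS hbigZ hchainZ hn hlift hZS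
  exact ⟨W, IsConj.trans hZ hW, hfa, hr⟩

end CfsgLib.Fusion
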