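import Cfsg.Agent.Fusion.FamilyClass

/-!
Every automorphism of the fully normalized member extends to `{x ∈ N_S(P) | c_x ∈ O_p(Aut_F(P))}`.
-/

set_option autoImplicit false
set_option linter.style.haveILetI false

open Cfsg

namespace CfsgLib.Fusion

open Cfsg.FusionSystem

variable {Ω : Type*} [Group Ω] {S : Subgroup Ω} {F : Cfsg.FusionSystem S} {P Q Q' : Subgroup Ω} {p : ℕ}

/-- The elements of `N_S(P)` inducing elements of `O_p(Aut_F(P))`. -/
def pCoreLift (F : Cfsg.FusionSystem S) (p : ℕ) (P : Subgroup Ω) : Subgroup Ω :=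
  (((Cfsg.pCore p (F.autGroup P)).map (F.autGroup P).subtype).comap (conjAut P S)).map
    (normalizerIn S P).subtype

lemma mem_pCoreLift {x : Ω} : x ∈ pCoreLift F p P ↔ ∃ hx : x ∈ normalizerIn S P,
    conjAut P S ⟨x, hx⟩ ∈ (Cfsg.pCore p (F.autGroup P)).map (F.autGroup P).subtype := by
  constructor
  · rintro ⟨⟨x, hx⟩, h, rfl⟩; exact ⟨hx, h⟩
  · rintro ⟨hx, h⟩; exact ⟨⟨x, hx⟩, h, rfl⟩

lemma pCoreLift_le : pCoreLift F p P ≤ normalizerIn S P := Subgroup.map_subtype_le _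

lemma congr_conjAut {e : Q ≃* Q'} {D : Subgroup Ω} {ψ : D →* Ω} (hQ : Q ≤ D)
    (hag : ∀ x : Q, ψ ⟨x, hQ x.2⟩ = (e x : Ω)) {g : Ω} (hg : g ∈ D) (hgN : g ∈ normalizerIn S Q)
    (hψg : ψ ⟨g, hg⟩ ∈ normalizerIn S Q') :
    MulAut.congr e (conjAut Q S ⟨g, hgN⟩) = conjAut Q' S ⟨_, hψg⟩ := by
  refine MulEquiv.ext fun y => Subtype.ext ?_
  obtain ⟨x, rfl⟩ := e.surjective y
  show ((e (conjAut Q S ⟨g, hgN⟩ (e.symm (e x))) : Q') : Ω) = _
  rw [e.symm_apply_apply, ← hag]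
  show _ = ψ ⟨g, hg⟩ * (e x : Ω) * (ψ ⟨g, hg⟩)⁻¹
  rw [← hag, ← map_inv, ← map_mul, ← map_mul]
  rfl

lemma pCore_conj_mem {a c : MulAut P} (ha : a ∈ F.autGroup P)
    (hc : c ∈ (Cfsg.pCore p (F.autGroup P)).map (F.autGroup P).subtype) :
    a * c * a⁻¹ ∈ (Cfsg.pCore p (F.autGroup P)).map (F.autGroup P).subtype := by
  obtain ⟨c, hc, rfl⟩ := hc
  exact ⟨⟨a, ha⟩ * c * ⟨a, ha⟩⁻¹, (Cfsg.pCore_normal p _).conj_mem _ hc _, rfl⟩

/-- The automorphism extends to a map of `L` into itself. -/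
def ExtAut (F : Cfsg.FusionSystem S) (a : MulAut P) (D D' : Subgroup Ω) : Prop :=
  ExtTo F (a : P ≃* P) D D'

variable [Finite S] [Fact p.Prime]
variable (hS : IsPGroup p S) (hPS : P < S)
variable (hbig : ∀ R : Subgroup Ω, R ≤ S → Nat.card P < Nat.card R → HasGood F p R)
variable (hchain : ∀ (Q Q' : Subgroup Ω) (e : Q ≃* Q'), F.IsConj P Q → IsoIn F e → StepChain F e)
variable (hn : F.IsFullyNormalized P) (hlift : P < pCoreLift F p P)

include hS hPS hbig hchain hn hlift in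
/-- An automorphism with an extension to a larger subgroup extends to the lift of `O_p`. -/
lemma extAut_lift_of_ext (n : ℕ) : ∀ (a : MulAut P) (D : Subgroup Ω), ExtTo F (a : P ≃* P) D S → P < D →
    D ≤ normalizerIn S P → Nat.card S - Nat.card D = n →
    ExtTo F (a : P ≃* P) (pCoreLift F p P) (pCoreLift F p P) := by
  induction n using Nat.strong_induction_on with
  | _ n ih =>
  intro a D hext hlt hDN hd
  have hPle : P ≤ S := hn.1
  have haF : a ∈ F.autGroup P := (mem_autGroup hPle).2 hext.isoIn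
  have hinto : ∀ {D : Subgroup Ω}, ExtTo F (a : P ≃* P) D S → pCoreLift F p P ≤ D →
      ExtTo F (a : P ≃* P) (pCoreLift F p P) (pCoreLift F p P) := by
    intro D h hle
    obtain ⟨hQ, ψ, hψ, hv, hag⟩ := (h.mono hlift.le hle).normalizer (fun x hx => (pCoreLift_le hx).2)
    refine ⟨hQ, ψ, hψ, fun x => mem_pCoreLift.2 ⟨hv x, ?_⟩, hag⟩
    obtain ⟨hx, hxO⟩ := mem_pCoreLift.1 x.2
    have h1 := congr_mem_pCore (p := p) (e := (a : P ≃* P)) (restrict_of_eq hψ hQ fun y => (hag y).symm) hxO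
    rw [congr_conjAut hQ hag x.2 hx (hv x)] at h1
    exact h1
  by_cases hle : pCoreLift F p P ≤ D
  · exact hinto hext hle
  have hDS : D ≤ S := hext.le
  haveI := finite_normalizerIn (S := S) P
  haveI := finite_of_le hDS
  obtain ⟨D', hD'S, hcard, hPD', ⟨hQD, ψ, hψ, hv, hag⟩, hsymm, hnorm⟩ := hext.exists_symm
  haveI := finite_of_le hD'S
  have hD'N : D' ≤ normalizerIn S P := le_inf hD'S (hnorm fun x hx => (hDN hx).2)
  have hDlt : D < normalizerIn S P := lt_of_le_of_ne hDN fun he => hle (he ▸ pCoreLift_le)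
  have hD'lt : D' < normalizerIn S P := lt_of_le_of_ne hD'N fun he => hDlt.ne (Subgroup.eq_of_le_of_card_ge hDN
    (by rw [← he, hcard]))
  have hr : ψ.range = D' := by
    refine Subgroup.eq_of_le_of_card_ge (by rintro _ ⟨x, rfl⟩; exact hv x) ?_
    rw [hcard]
    exact (Nat.card_congr (MonoidHom.ofInjective (F.injective_of_mem hψ)).toEquiv).le
  have hη := isoIn_isoOfHom hψ hr
  have hηP : ∀ x : D, (x : Ω) ∈ P ↔ (isoOfHom (F.injective_of_mem hψ) hr x : Ω) ∈ P := by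
    intro x
    rw [isoOfHom_apply]
    constructor
    · intro hx
      rw [show x = ⟨((⟨x, hx⟩ : P) : Ω), hQD hx⟩ from rfl, hag ⟨x, hx⟩]
      exact (a _).2
    · intro hx
      have h1 : ψ ⟨((a⁻¹ ⟨_, hx⟩ : P) : Ω), hQD (a⁻¹ ⟨_, hx⟩ : P).2⟩ = ψ x := by
        rw [hag]
        exact congrArg Subtype.val (MulAut.apply_inv_self _ a (⟨_, hx⟩ : P))
      rw [← F.injective_of_mem hψ h1]
      exact (a⁻¹ ⟨_, hx⟩ : P).2
  have hPD : Nat.card P < Nat.card D :=
    lt_of_le_of_ne (Subgroup.card_le_of_le hlt.le) fun he => hlt.ne (Subgroup.eq_of_le_of_card_ge hlt.le he.ge)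
  obtain ⟨D₀, Q₀, ε, ε', e₁, e₂, hfa, hrec, hQ₀D, hε, hε', he₁, he₂, he₁v, he₂v, hiff, hiff', V, hV⟩ :=
    exists_common_step hS (hbig D hDS hPD) hη
    hlt.le hPD' (le_inf hDN Subgroup.le_normalizer : D ≤ normalizerIn S P ⊓ Subgroup.normalizer (D : Set Ω))
    (le_inf hD'N Subgroup.le_normalizer : D' ≤ normalizerIn S P ⊓ Subgroup.normalizer (D' : Set Ω))
    le_rfl le_rfl hηP
  set M := normalizerIn S P ⊓ Subgroup.normalizer (D : Set Ω) with hM
  set M' := normalizerIn S P ⊓ Subgroup.normalizer (D' : Set Ω) with hM'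
  have hMS : M ≤ S := inf_le_left.trans inf_le_left
  have hMS' : M' ≤ S := inf_le_left.trans inf_le_left
  haveI := finite_of_le hMS
  haveI := finite_of_le hMS'
  have hgrow : ∀ {D N : Subgroup Ω}, D < N → N ≤ S → Nat.card D < Nat.card ↥(N ⊓ Subgroup.normalizer (D : Set Ω)) := by
    intro D N hDN hN
    haveI := finite_of_le hN
    haveI := finite_of_le (inf_le_left.trans hN : N ⊓ Subgroup.normalizer (D : Set Ω) ≤ S)
    obtain ⟨g, hg, hgn, hgD⟩ := exists_normalizer_not_mem (hS.to_le hN) hDN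
    refine lt_of_le_of_ne (Subgroup.card_le_of_le (le_inf hDN.le Subgroup.le_normalizer)) fun he => hgD ?_
    rw [Subgroup.eq_of_le_of_card_ge (le_inf hDN.le Subgroup.le_normalizer) he.ge]
    exact ⟨hg, hgn⟩
  have hMD : Nat.card D < Nat.card M := hgrow hDlt inf_le_left
  have hMD' : Nat.card D < Nat.card M' := hcard ▸ hgrow hD'lt inf_le_left
  have hQ₀S : Q₀ ≤ S := he₁.isoIn.le_right
  -- an element of the lift normalizing `D`
  obtain ⟨y, hy, hyD, hyn⟩ : ∃ y ∈ pCoreLift F p P, y ∉ D ∧ y ∈ Subgroup.normalizer (D : Set Ω) := by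
    have hN : D ≤ Subgroup.normalizer (pCoreLift F p P : Set Ω) := by
      have key : ∀ g ∈ normalizerIn S P, ∀ x ∈ pCoreLift F p P, g * x * g⁻¹ ∈ pCoreLift F p P := by
        intro g hg x hx
        obtain ⟨hxN, hxO⟩ := mem_pCoreLift.1 hx
        refine mem_pCoreLift.2 ⟨mul_mem (mul_mem hg hxN) (inv_mem hg), ?_⟩
        rw [show (⟨g * x * g⁻¹, _⟩ : normalizerIn S P) = ⟨g, hg⟩ * ⟨x, hxN⟩ * ⟨g, hg⟩⁻¹ from rfl, map_mul,
          map_mul, map_inv]
        exact pCore_conj_mem (autInducedBy_le_autGroup hPle ((range_conjAut (P := P) S).le ⟨_, rfl⟩)) hxO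
      intro g hg
      refine Subgroup.mem_normalizer_iff.2 fun x => ⟨key g (hDN hg) x, fun h => ?_⟩
      have := key g⁻¹ (inv_mem (hDN hg)) _ h
      simpa [mul_assoc] using this
    have hlt' : D < pCoreLift F p P ⊔ D := lt_of_le_of_ne le_sup_right fun he => hle (he ▸ le_sup_left)
    haveI := finite_of_le (sup_le (pCoreLift_le.trans inf_le_left) hDS : pCoreLift F p P ⊔ D ≤ S)
    obtain ⟨g, hg, hgn, hgD⟩ := exists_normalizer_not_mem (hS.to_le (sup_le (pCoreLift_le.trans inf_le_left) hDS)) hlt'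
    rw [← SetLike.mem_coe, Subgroup.coe_mul_of_right_le_normalizer_left _ _ hN] at hg
    obtain ⟨x, hx, d, hd', rfl⟩ := hg
    refine ⟨x, hx, fun hxD => hgD (mul_mem hxD hd'), ?_⟩
    have := mul_mem hgn (inv_mem (Subgroup.le_normalizer hd' : d ∈ Subgroup.normalizer (D : Set Ω)))
    simpa using this
  have hyM : y ∈ M := ⟨pCoreLift_le hy, hyn⟩
  -- the automorphism of `D₀`
  obtain ⟨k, hkdef⟩ : ∃ k : MulAut D₀,
      k = (ε.symm.trans ((isoOfHom (F.injective_of_mem hψ) hr).trans ε') : D₀ ≃* D₀) := ⟨_, rfl⟩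
  obtain ⟨r, hrdef⟩ : ∃ r : MulAut Q₀, r = (e₁.symm.trans ((a : P ≃* P).trans e₂) : Q₀ ≃* Q₀) := ⟨_, rfl⟩
  have hkr : ∀ q : Q₀, (k ⟨q, hQ₀D q.2⟩ : Ω) = r q := by
    intro q
    obtain ⟨x, rfl⟩ := e₁.surjective q
    rw [hrdef, hkdef]
    simp only [MulEquiv.trans_apply, MulEquiv.symm_apply_apply]
    rw [show (⟨(e₁ x : Ω), hQ₀D (e₁ x).2⟩ : D₀) = ε ⟨x, hlt.le x.2⟩ from Subtype.ext (he₁v x),
      ε.symm_apply_apply, he₂v _ (hPD' (a x).2)]
    congr 2
    exact Subtype.ext (hag x)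
  let H : Subgroup (MulAut D₀) := stabilizerIn (F.autGroup D₀) Q₀
  haveI := finite_mulAut hfa.1
  have hkH : k ∈ H := by
    refine ⟨?_, fun z => ?_⟩
    · rw [hkdef]
      exact (mem_autGroup hfa.1).2 (hε.isoIn.symm.trans (hη.trans hε'.isoIn))
    · obtain ⟨x, rfl⟩ := ε.surjective z
      rw [hkdef]
      simp only [MulEquiv.trans_apply, MulEquiv.symm_apply_apply]
      rw [← hiff, ← hiff', ← hηP]
  let res : H →* MulAut Q₀ := resAut hQ₀D
  have hresk : res ⟨k, hkH⟩ = r := MulEquiv.ext fun q => Subtype.ext (hkr q)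
  have hresA : ∀ c : H, res c ∈ F.autGroup Q₀ := fun c =>
    (mem_autGroup hQ₀S).2 (restrict_of_eq ((mem_autGroup hfa.1).1 c.2.1) hQ₀D fun _ => rfl)
  set O₀ := (Cfsg.pCore p (F.autGroup Q₀)).map (F.autGroup Q₀).subtype with hO₀
  set K := O₀.comap res with hK
  haveI : K.Normal := ⟨fun c hc b => by
    show res (b * c * b⁻¹) ∈ O₀
    rw [map_mul, map_mul, map_inv]
    exact pCore_conj_mem (hresA b) hc⟩
  obtain ⟨U, hU⟩ := exists_sylow_inf_normal V K
  have hm : (⟨k, hkH⟩ : H) ∈ Subgroup.normalizer (((U : Subgroup K).map K.subtype : Subgroup H) : Set H) ⊔ K :=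
    (Sylow.normalizer_sup_eq_top U).ge (Subgroup.mem_top _)
  rw [← SetLike.mem_coe, Subgroup.mul_normal, hU] at hm
  obtain ⟨b₀, hb₀, d, hd, hbd : b₀ * d = ⟨k, hkH⟩⟩ := hm
  obtain ⟨w, hw, hwd⟩ : ∃ w : H, w ∈ (V : Subgroup H) ⊓ K ∧ res w = res d := by
    let ρ := (res.comp K.subtype).rangeRestrict
    have hρ : Function.Surjective ρ := MonoidHom.rangeRestrict_surjective _
    have hO : IsPGroup p O₀ := (((haveI := finite_mulAut hQ₀S; CfsgLib.PCore.isPGroup_pCore p (F.autGroup Q₀))).map _)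
    have hrange : IsPGroup p (res.comp K.subtype).range := hO.to_le (by rintro _ ⟨c, rfl⟩; exact c.2)
    have htop : ((U.mapSurjective hρ : Sylow p _) : Subgroup (res.comp K.subtype).range) = ⊤ :=
      ((U.mapSurjective hρ).is_maximal' (hrange.to_subgroup ⊤) le_top).symm
    rw [Sylow.coe_mapSurjective] at htop
    obtain ⟨w, hw, hwd⟩ := htop.ge (Subgroup.mem_top (ρ ⟨d, hd⟩))
    exact ⟨w, hU.le ⟨w, hw, rfl⟩, congrArg Subtype.val hwd⟩
  obtain ⟨n', hn'def⟩ : ∃ n', n' = b₀ * w := ⟨_, rfl⟩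
  have hn'r : res n' = r := by rw [hn'def, map_mul, hwd, ← map_mul, hbd, hresk]
  have hn'N : n' ∈ Subgroup.normalizer ((((V : Subgroup H) ⊓ K : Subgroup H)) : Set H) :=
    hn'def ▸ mul_mem hb₀ (Subgroup.le_normalizer hw)
  -- the image of `y`
  obtain ⟨hDM, ψε, hψε, hvε, hagε⟩ := id hε
  have hy1 : ψε ⟨y, hyM⟩ ∈ normalizerIn S Q₀ := by
    have h1 : ExtTo F e₁ M (normalizerIn S Q₀) := he₁
    have hφ : (Q₀.subtype.comp e₁.toMonoidHom).range = Q₀ := IsoIn.range_eq e₁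
    refine ⟨(hvε _).1, ?_⟩
    rw [← hφ]
    exact map_mem_normalizer (φ := Q₀.subtype.comp e₁.toMonoidHom) (hlt.le.trans hDM)
      (fun x => (hagε ⟨x, hlt.le x.2⟩).trans (he₁v x).symm) hyM (pCoreLift_le hy).2
  set y₁ := ψε ⟨y, hyM⟩ with hy₁
  have hy₁D : y₁ ∉ D₀ := by
    intro hmem
    obtain ⟨x, hx⟩ := ε.surjective ⟨y₁, hmem⟩
    have h1 : ψε ⟨(x : Ω), hDM x.2⟩ = ψε ⟨y, hyM⟩ := (hagε x).trans (congrArg Subtype.val hx)
    have h2 : (x : Ω) = y := congrArg Subtype.val (F.injective_of_mem hψε h1)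
    exact hyD (h2 ▸ x.2)
  have hD₀Q : D₀ ≤ Subgroup.normalizer (Q₀ : Set Ω) := by
    intro z hz
    obtain ⟨x, hx⟩ := ε.surjective ⟨z, hz⟩
    refine Subgroup.mem_normalizer_iff.2 fun q => ?_
    constructor
    · intro hq
      obtain ⟨q', hq'⟩ := ε.surjective ⟨q, hQ₀D hq⟩
      have h1 : (q' : Ω) ∈ P := (hiff q').2 (by rw [hq']; exact hq)
      have h2 : ((x * q' * x⁻¹ : D) : Ω) ∈ P := conj_mem_of_normalizer (hDN x.2).2 h1
      have h3 := (hiff _).1 h2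
      rw [map_mul, map_mul, map_inv, hq', hx] at h3
      exact h3
    · intro hq
      have hqD : q ∈ D₀ := by
        have := D₀.mul_mem (D₀.mul_mem (D₀.inv_mem hz) (hQ₀D hq)) hz
        simpa [mul_assoc] using this
      obtain ⟨q', hq'⟩ := ε.surjective ⟨q, hqD⟩
      have h1 : ((x * q' * x⁻¹ : D) : Ω) ∈ P := (hiff _).2 (by rw [map_mul, map_mul, map_inv, hq', hx]; exact hq)
      have h2 : (q' : Ω) ∈ P := by
        have := conj_inv_mem_of_normalizer (hDN x.2).2 h1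
        simpa [mul_assoc] using this
      have h3 := (hiff _).1 h2
      rw [hq'] at h3
      exact h3
  set R₀ := D₀ ⊔ Subgroup.zpowers y₁ with hR₀
  have hR₀N : R₀ ≤ normalizerIn S D₀ ⊓ Subgroup.normalizer (Q₀ : Set Ω) :=
    sup_le (le_inf (le_inf hfa.1 Subgroup.le_normalizer) hD₀Q) (Subgroup.zpowers_le.2 ⟨hvε _, hy1.2⟩)
  have hy₁c : conjAut D₀ S ⟨y₁, hvε _⟩ ∈ H := by
    refine ⟨autInducedBy_le_autGroup hfa.1 ((range_conjAut (P := D₀) S).le ⟨_, rfl⟩), fun z => ?_⟩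
    exact Subgroup.mem_normalizer_iff.1 hy1.2 _
  have hy₁V : (⟨_, hy₁c⟩ : H) ∈ (V : Subgroup H) ⊓ K := by
    constructor
    · have hle' : (V : Subgroup H) ≤ (autInducedBy S D₀).comap H.subtype := fun c hc => hV ⟨c, hc, rfl⟩
      have heq := V.is_maximal' ((isPGroup_autInducedBy p hS D₀).comap_of_injective _ H.subtype_injective) hle'
      exact heq.le ((range_conjAut (P := D₀) S).le ⟨_, rfl⟩)
    · show res _ ∈ O₀
      obtain ⟨hx, hxO⟩ := mem_pCoreLift.1 hy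
      have h1 := congr_mem_pCore (p := p) he₁.isoIn hxO
      rw [congr_conjAut (ψ := ψε) (hlt.le.trans hDM) (fun x => (hagε ⟨x, hlt.le x.2⟩).trans (he₁v x).symm) hyM hx hy1]
        at h1
      exact h1
  have hextn : ExtTo F ((n' : MulAut D₀) : D₀ ≃* D₀) R₀ (normalizerIn S D₀) := by
    refine extTo_of_receptive hrec ((mem_autGroup hfa.1).1 n'.2.1) le_sup_left (hR₀N.trans inf_le_left) ?_
    rintro _ ⟨c, hc, rfl⟩
    let G : Subgroup (normalizerIn S D₀) :=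
      ((autInducedBy S D₀).comap (MulAut.conj (n' : MulAut D₀)).toMonoidHom).comap (conjAut D₀ S)
    have hG : R₀ ≤ G.map (normalizerIn S D₀).subtype := by
      refine sup_le (fun z hz => ⟨⟨z, hfa.1 hz, Subgroup.le_normalizer hz⟩, ?_, rfl⟩)
        (Subgroup.zpowers_le.2 ⟨⟨y₁, hvε _⟩, ?_, rfl⟩)
      · show (n' : MulAut D₀) * conjAut D₀ S _ * (n' : MulAut D₀)⁻¹ ∈ autInducedBy S D₀
        refine mem_autInducedBy.2 ⟨((n' : MulAut D₀) ⟨z, hz⟩ : D₀), hfa.1 ((n' : MulAut D₀) ⟨z, hz⟩).2, fun q => ?_⟩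
        obtain ⟨q, rfl⟩ := (n' : MulAut D₀).surjective q
        rw [MulAut.mul_apply, MulAut.mul_apply, MulAut.inv_apply_self]
        rw [show conjAut D₀ S ⟨z, hfa.1 hz, Subgroup.le_normalizer hz⟩ q = ⟨z, hz⟩ * q * ⟨z, hz⟩⁻¹ from
          Subtype.ext rfl, map_mul, map_mul, map_inv]
        rfl
      · have h1 := (Subgroup.mem_normalizer_iff.1 hn'N ⟨_, hy₁c⟩).1 hy₁V
        exact hV ⟨_, h1.1, rfl⟩
    obtain ⟨g, hg, hgc⟩ := mem_autInducedBy.1 hc
    obtain ⟨⟨g', hg'⟩, hgG, rfl⟩ := hG hg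
    have : c = conjAut D₀ S ⟨g', hg'⟩ := MulEquiv.ext fun q => Subtype.ext (hgc q)
    rw [this]
    exact hgG
  have hrext : ExtTo F (r : Q₀ ≃* Q₀) R₀ (normalizerIn S Q₀) := by
    refine (hextn.res hQ₀D (e := (r : Q₀ ≃* Q₀)) fun q => ?_).normalizer (hR₀N.trans inf_le_right)
    rw [← hn'r]
    rfl
  have hPQ₀ : F.IsConj P Q₀ := he₁.isoIn.isConj
  obtain ⟨f, hf⟩ := exists_arrow hS hPS hbig hchain hn (IsConj.refl hPle) hPQ₀
  have hR₀Q : R₀ ≤ normalizerIn S Q₀ := le_inf ((hR₀N.trans inf_le_left).trans inf_le_left) (hR₀N.trans inf_le_right)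
  obtain ⟨E, hE, hEc, hPE, -, hfsymm, -⟩ := (hf.mono (hQ₀D.trans le_sup_left) hR₀Q).exists_symm
  haveI := finite_of_le (hR₀Q.trans inf_le_left)
  have hR₀c : Nat.card D < Nat.card R₀ := by
    rw [Nat.card_congr ε.toEquiv]
    refine lt_of_le_of_ne (Subgroup.card_le_of_le le_sup_left) fun he => hy₁D ?_
    rw [Subgroup.eq_of_le_of_card_ge le_sup_left he.ge]
    exact Subgroup.mem_sup_right (Subgroup.mem_zpowers y₁)
  have hlt' : ∀ {L : Subgroup Ω}, P ≤ L → L ≤ S → Nat.card D < Nat.card L → P < L := fun hPL _ hL =>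
    lt_of_le_of_ne hPL fun he => by rw [← he] at hL; omega
  have hDc : Nat.card D ≤ Nat.card S := Subgroup.card_le_of_le hDS
  have key : ∀ (c : MulAut P) (L : Subgroup Ω), ExtTo F (c : P ≃* P) L (normalizerIn S P) → L ≤ normalizerIn S P →
      P ≤ L → Nat.card D < Nat.card L → ExtTo F (c : P ≃* P) (pCoreLift F p P) (pCoreLift F p P) := by
    intro c L hc hL hPL hLc
    have : Nat.card L ≤ Nat.card S := Subgroup.card_le_of_le (hL.trans inf_le_left)
    exact ih _ (by omega) c L (hc.weaken inf_le_left) (hlt' hPL (hL.trans inf_le_left) hLc) hL rfl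
  have k1 := key (e₁.trans f) M (he₁.trans hf) inf_le_left (hlt.le.trans hDM) hMD
  have k2 := key (e₂.trans f) M' (he₂.trans hf) inf_le_left (le_inf (hPD'.trans hD'N) (hPD'.trans Subgroup.le_normalizer)) hMD'
  have k3 := key (f.symm.trans ((r : Q₀ ≃* Q₀).trans f)) E (hfsymm.trans (hrext.trans hf)) hE hPE (hEc ▸ hR₀c)
  obtain ⟨E', hE', hE'c, -, -, k2s, -⟩ := k2.exists_symm
  haveI := finite_of_le (pCoreLift_le.trans inf_le_left : pCoreLift F p P ≤ S)
  obtain rfl : E' = pCoreLift F p P := Subgroup.eq_of_le_of_card_ge hE' hE'c.ge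
  refine ((k1.trans k3).trans k2s).congr fun x => ?_
  rw [hrdef]
  simp

end CfsgLib.Fusion
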