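import Cfsg.Agent.Fusion.Alperin
import Cfsg.Agent.Fusion.AlperinCor
import Cfsg.Agent.Fusion.FactorSat

/-!
A subsystem stable under a group `A` of automorphisms of its group, the system of the composites with `A`,
and the Frattini argument for automizers.
-/

set_option autoImplicit false
set_option linter.style.haveILetI false

open Cfsg

namespace CfsgLib.Fusion

open Cfsg.FusionSystem

variable {Ω : Type*} [Group Ω] {S T : Subgroup Ω} {E : Cfsg.FusionSystem T} {P Q R : Subgroup Ω}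

/-- `r ↦ α⁻¹ (φ (α r))`. -/
def twist {φ : P →* Ω} (hφ : φ ∈ E.Hom P) (α : MulAut T) (hR : R ≤ T)
    (h : ∀ r : R, ((α ⟨r, hR r.2⟩ : T) : Ω) ∈ P) : R →* Ω where
  toFun r := ((α⁻¹ ⟨φ ⟨_, h r⟩, val_mem hφ _⟩ : T) : Ω)
  map_one' := by
    have e : (⟨((α ⟨(((1 : R) : Ω)), hR (1 : R).2⟩ : T) : Ω), h 1⟩ : P) = 1 :=
      Subtype.ext (show ((α 1 : T) : Ω) = 1 by rw [map_one]; rfl)
    simp only [e]
    show ((α⁻¹ ⟨φ 1, _⟩ : T) : Ω) = 1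
    have e2 : (⟨φ 1, val_mem hφ _⟩ : T) = 1 := Subtype.ext (map_one φ)
    rw [e2, map_one]; rfl
  map_mul' a b := by
    have e : (⟨((α ⟨((a * b : R) : Ω), hR (a * b).2⟩ : T) : Ω), h (a * b)⟩ : P) =
        ⟨_, h a⟩ * ⟨_, h b⟩ := Subtype.ext (by
      show ((α (⟨(a : Ω), hR a.2⟩ * ⟨(b : Ω), hR b.2⟩) : T) : Ω) = _
      rw [map_mul]; rfl)
    simp only [e]
    rw [← Subgroup.coe_mul, ← map_mul]
    exact congrArg (fun z : T => ((α⁻¹ z : T) : Ω)) (Subtype.ext (map_mul φ _ _))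

lemma twist_apply {φ : P →* Ω} (hφ : φ ∈ E.Hom P) (α : MulAut T) (hR : R ≤ T)
    (h : ∀ r : R, ((α ⟨r, hR r.2⟩ : T) : Ω) ∈ P) (r : R) :
    twist hφ α hR h r = ((α⁻¹ ⟨φ ⟨_, h r⟩, val_mem hφ _⟩ : T) : Ω) := rfl

/-- `E` is stable under the automorphisms in `A`. -/
def InvBy (E : Cfsg.FusionSystem T) (A : Subgroup (MulAut T)) : Prop :=
  ∀ (P : Subgroup Ω) (φ : P →* Ω) (hφ : φ ∈ E.Hom P), ∀ α ∈ A, ∀ (R : Subgroup Ω) (hR : R ≤ T)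
    (h : ∀ r : R, ((α ⟨r, hR r.2⟩ : T) : Ω) ∈ P), twist hφ α hR h ∈ E.Hom R

/-- The composites of an element of `A` with a map of `E`. -/
def twistProduct (E : Cfsg.FusionSystem T) (A : Subgroup (MulAut T)) (hinv : InvBy E A) :
    Cfsg.FusionSystem T where
  Hom P := {φ | ∃ α ∈ A, ∃ φ₀ ∈ E.Hom P, ∀ (x : P) (hx : φ₀ x ∈ T), φ x = ((α ⟨φ₀ x, hx⟩ : T) : Ω)}
  le_of_mem := by
    rintro P φ ⟨α, -, φ₀, h₀, e⟩
    exact ⟨le_of_hom h₀, fun x => (e x (val_mem h₀ x)).symm ▸ (α _).2⟩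
  injective_of_mem := by
    rintro P φ ⟨α, -, φ₀, h₀, e⟩ x y hxy
    rw [e x (val_mem h₀ x), e y (val_mem h₀ y)] at hxy
    exact E.injective_of_mem h₀ (congrArg Subtype.val (α.injective (Subtype.ext hxy)) :)
  conj_mem := fun hP hg => ⟨1, one_mem _, _, E.conj_mem hP hg, fun _ _ => rfl⟩
  comp_mem := by
    rintro P Q φ ψ ⟨α, hα, φ₀, h₀, e⟩ ⟨β, hβ, ψ₀, k₀, f⟩ h
    have hr : φ₀.range ≤ T := range_le h₀
    have hm : ∀ r : φ₀.range, ((α ⟨r, hr r.2⟩ : T) : Ω) ∈ Q := by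
      rintro ⟨_, x, rfl⟩; rw [← e x (hr ⟨x, rfl⟩)]; exact h x
    have hθ := hinv Q ψ₀ k₀ α hα φ₀.range hr hm
    refine ⟨β * α, mul_mem hβ hα, (twist k₀ α hr hm).comp (φ₀.codRestrict φ₀.range fun x => ⟨x, rfl⟩),
      E.comp_mem h₀ hθ fun x => ⟨x, rfl⟩, fun x hx => ?_⟩
    show ψ ⟨φ x, h x⟩ = ((β (α ⟨_, hx⟩) : T) : Ω)
    rw [f _ (val_mem k₀ _)]
    refine congrArg (fun z : T => ((β z : T) : Ω)) ?_
    have e2 : (⟨φ x, h x⟩ : Q) = ⟨_, hm ⟨φ₀ x, x, rfl⟩⟩ := Subtype.ext (e x (hr ⟨x, rfl⟩))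
    have e3 : (⟨_, hx⟩ : T) = α⁻¹ ⟨ψ₀ ⟨_, hm ⟨φ₀ x, x, rfl⟩⟩, val_mem k₀ _⟩ := Subtype.ext rfl
    rw [e3, MulAut.apply_inv_self]
    exact Subtype.ext (congrArg ψ₀ e2)
  inv_mem := by
    rintro P φ ⟨α, hα, φ₀, h₀, e⟩
    obtain ⟨ψ₀, k₀, -, a₀, -⟩ := exists_inv h₀ (rfl : φ₀.range = φ₀.range)
    have hr : φ.range ≤ T := by rintro _ ⟨x, rfl⟩; rw [e x (val_mem h₀ x)]; exact (α _).2
    have hm : ∀ r : φ.range, ((α⁻¹ ⟨r, hr r.2⟩ : T) : Ω) ∈ φ₀.range := by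
      rintro ⟨_, x, rfl⟩
      refine ⟨x, ?_⟩
      have : (⟨φ x, hr ⟨x, rfl⟩⟩ : T) = α ⟨φ₀ x, val_mem h₀ x⟩ := Subtype.ext (e x _)
      rw [this, MulAut.inv_apply_self]
    have hχ := hinv _ ψ₀ k₀ α⁻¹ (inv_mem hα) φ.range hr hm
    let ψ : φ.range →* Ω :=
      T.subtype.comp ((α⁻¹ : MulAut T).toMonoidHom.comp ((twist k₀ α⁻¹ hr hm).codRestrict T (val_mem hχ)))
    refine ⟨ψ, ⟨α⁻¹, inv_mem hα, _, hχ, fun r hx => rfl⟩, fun x => ?_⟩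
    have e1 : (⟨_, hm ⟨φ x, x, rfl⟩⟩ : φ₀.range) = ⟨φ₀ x, x, rfl⟩ := Subtype.ext (by
      have : (⟨φ x, hr ⟨x, rfl⟩⟩ : T) = α ⟨φ₀ x, val_mem h₀ x⟩ := Subtype.ext (e x _)
      show ((α⁻¹ (⟨φ x, _⟩ : T) : T) : Ω) = φ₀ x
      rw [this, MulAut.inv_apply_self])
    show ((α⁻¹ ⟨((α⁻¹⁻¹ ⟨ψ₀ ⟨_, hm ⟨φ x, x, rfl⟩⟩, _⟩ : T) : Ω), _⟩ : T) : Ω) = x
    simp only [inv_inv, Subtype.coe_eta, MulAut.inv_apply_self]
    exact (congrArg ψ₀ e1).trans (a₀ x ⟨x, rfl⟩)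

variable {A : Subgroup (MulAut T)} {hinv : InvBy E A}

lemma mem_twistProduct {φ : P →* Ω} :
    φ ∈ (twistProduct E A hinv).Hom P ↔
      ∃ α ∈ A, ∃ φ₀ ∈ E.Hom P, ∀ (x : P) (hx : φ₀ x ∈ T), φ x = ((α ⟨φ₀ x, hx⟩ : T) : Ω) := Iff.rfl

lemma mem_twistProduct_of_mem {φ : P →* Ω} (hφ : φ ∈ E.Hom P) : φ ∈ (twistProduct E A hinv).Hom P :=
  ⟨1, one_mem _, φ, hφ, fun _ _ => rfl⟩

variable {p : ℕ} [Fact p.Prime]

/-- Frattini: `Aut_F(R)` lies in a system over `T` containing the maps on `N_T(R)` and a normal subgroup of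
`Aut_F(R)` containing `Aut_T(R)`. -/
theorem autGroup_le_of_normal [Finite S] {F : Cfsg.FusionSystem S} (hS : IsPGroup p S)
    (ha : F.IsFullyAutomized p R) (hr : F.IsReceptive R) {G : Cfsg.FusionSystem T} (hTS : T ≤ S)
    (hRT : R ≤ T) (K : Subgroup (MulAut R)) (hK : K ≤ G.autGroup R) (hKF : K ≤ F.autGroup R)
    (hKn : ∀ β ∈ F.autGroup R, ∀ c ∈ K, β * c * β⁻¹ ∈ K) (hTK : autInducedBy T R ≤ K)
    (hG : ∀ φ ∈ F.Hom (normalizerIn T R), (∀ x, φ x ∈ S) → ∀ (h : R ≤ normalizerIn T R),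
      φ.comp (Subgroup.inclusion h) ∈ G.Hom R) :
    F.autGroup R ≤ G.autGroup R := by
  obtain ⟨hRS, W, hW⟩ := ha
  haveI := finite_mulAut hRS
  set K' := K.subgroupOf (F.autGroup R) with hK'
  haveI : K'.Normal := ⟨fun c hc g => hKn g g.2 c hc⟩
  obtain ⟨U, hU⟩ := exists_sylow_inf_normal W K'
  have hmain : Subgroup.normalizer ((((W : Subgroup (F.autGroup R)) ⊓ K' : Subgroup (F.autGroup R))) :
      Set (F.autGroup R)) ⊔ K' ≤ (G.autGroup R).subgroupOf (F.autGroup R) := by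
    refine sup_le (fun η hη => ?_) fun c hc => hK hc
    rw [Subgroup.mem_subgroupOf]
    obtain ⟨ψ, hψ, hag⟩ := hr.2 R _ ((mem_autGroup hRS).1 η.2) (range_aut (η : MulAut R))
    have hle : normalizerIn T R ≤ extender S R (R.subtype.comp (η : MulAut R).toMonoidHom) := by
      intro g hg
      refine mem_extender.2 ⟨hTS hg.1, hg.2, ?_⟩
      have hc : conjAut R T ⟨g, hg⟩ ∈ autInducedBy T R := range_conjAut (P := R) T ▸ ⟨_, rfl⟩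
      have hcS : conjAut R T ⟨g, hg⟩ ∈ autInducedBy S R :=
        Subgroup.subset_closure ⟨g, hTS hg.1, fun _ => rfl⟩
      have h1 := (Subgroup.mem_normalizer_iff.1 hη ⟨_, autInducedBy_le_autGroup (F := F) hRS hcS⟩).1
        ⟨hW.ge hcS, hTK hc⟩
      have h2 : (η : MulAut R) * conjAut R T ⟨g, hg⟩ * (η : MulAut R)⁻¹ ∈ autInducedBy S R := hW.le h1.1
      obtain ⟨k, hk, hkx⟩ := mem_autInducedBy.1 h2
      refine ⟨k, hk, fun x hx => ?_⟩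
      have h3 := hkx ((η : MulAut R) x)
      simp only [MulAut.mul_apply, MulAut.inv_apply_self] at h3
      exact h3
    have hRN : R ≤ normalizerIn T R := le_inf hRT Subgroup.le_normalizer
    refine (mem_autGroup hRT).2 (mem_of_eq (hG _ (restrict hψ hle) (fun x => val_mem hψ _) hRN) ?_)
    exact fun x => (hag x x.2 (hle (hRN x.2))).symm
  rw [← hU, U.normalizer_sup_eq_top, top_le_iff, Subgroup.subgroupOf_eq_top] at hmain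
  exact hmain

end CfsgLib.Fusion
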