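import Cfsg.Agent.Fusion.IsoExtend
import Cfsg.Agent.Fusion.TwistProduct

/-!
Moving a step between conjugate subgroups to a fully automized receptive overgroup.
-/

set_option autoImplicit false
set_option linter.style.haveILetI false

open Cfsg

namespace CfsgLib.Fusion

open Cfsg.FusionSystem

variable {Ω : Type*} [Group Ω] {S : Subgroup Ω} {F : Cfsg.FusionSystem S}
variable {P Q Q' D D' D₀ : Subgroup Ω} {p : ℕ}

/-- Some conjugate is fully automized and receptive. -/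
def HasGood (F : Cfsg.FusionSystem S) (p : ℕ) (P : Subgroup Ω) : Prop :=
  ∃ Q, F.IsConj P Q ∧ F.IsFullyAutomized p Q ∧ F.IsReceptive Q

/-- The restriction of an isomorphism to a subgroup, onto its image. -/
lemma exists_resIso (ε : D ≃* D₀) (h : Q ≤ D) :
    ∃ (Q₁ : Subgroup Ω) (e : Q ≃* Q₁), Q₁ ≤ D₀ ∧ (∀ x : Q, (e x : Ω) = ε ⟨x, h x.2⟩) ∧
      ∀ y : D, (y : Ω) ∈ Q ↔ (ε y : Ω) ∈ Q₁ := by
  let f : Q →* Ω := D₀.subtype.comp (ε.toMonoidHom.comp (Subgroup.inclusion h))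
  have hf : Function.Injective f := fun a b hab => Subgroup.inclusion_injective h (ε.injective (Subtype.ext hab))
  refine ⟨f.range, isoOfHom hf rfl, ?_, fun x => rfl, fun y => ⟨fun hy => ⟨⟨y, hy⟩, rfl⟩, ?_⟩⟩
  · rintro _ ⟨x, rfl⟩; exact (ε _).2
  · rintro ⟨x, hx⟩
    have : Subgroup.inclusion h x = y := ε.injective (Subtype.ext hx)
    exact this ▸ x.2

/-- An extension of an isomorphism of `D` also extends its restriction. -/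
lemma ExtTo.res {ε : D ≃* D₀} {M M' Q₁ : Subgroup Ω} (hε : ExtTo F ε M M') (h : Q ≤ D) {e : Q ≃* Q₁}
    (he : ∀ x : Q, (e x : Ω) = ε ⟨x, h x.2⟩) : ExtTo F e M M' := by
  obtain ⟨hD, ψ, hψ, hv, hag⟩ := hε
  exact ⟨h.trans hD, ψ, hψ, hv, fun x => (hag ⟨x, h x.2⟩).trans (he x).symm⟩

/-- The transported conjugations stabilize the image of a normalized subgroup. -/
lemma congr_mem_stabilizerIn (hD : D ≤ S) {ε : D ≃* D₀} (hε : IsoIn F ε) {M Q₁ : Subgroup Ω}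
    (hMS : M ≤ S) (hM : M ≤ Subgroup.normalizer (Q : Set Ω))
    (hiff : ∀ y : D, (y : Ω) ∈ Q ↔ (ε y : Ω) ∈ Q₁) {a : MulAut D} (ha : a ∈ autInducedBy M D) :
    MulAut.congr ε a ∈ stabilizerIn (F.autGroup D₀) Q₁ := by
  obtain ⟨g, hg, hga⟩ := mem_autInducedBy.1 ha
  refine ⟨hε.congr_mem (autInducedBy_le_autGroup hD (mem_autInducedBy.2 ⟨g, hMS hg, hga⟩)), fun y => ?_⟩
  obtain ⟨x, rfl⟩ := ε.surjective y
  show _ ↔ ((ε (a (ε.symm (ε x))) : D₀) : Ω) ∈ Q₁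
  rw [ε.symm_apply_apply, ← hiff, ← hiff, hga]
  exact Subgroup.mem_normalizer_iff.1 (hM hg) _

variable [Finite S] [Fact p.Prime]

/-- A step `η : D → D'` carrying `Q` to `Q'` factors through a fully automized receptive conjugate of `D`, the
image of `Q` having a Sylow subgroup of its stabilizer induced by `S`. -/
theorem exists_common_step (hS : IsPGroup p S) (hgood : HasGood F p D) {η : D ≃* D'} (hη : IsoIn F η)
    {M M' : Subgroup Ω} (hQD : Q ≤ D) (hQ'D : Q' ≤ D') (hDM : D ≤ M) (hD'M : D' ≤ M')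
    (hM : M ≤ normalizerIn S Q ⊓ Subgroup.normalizer (D : Set Ω))
    (hM' : M' ≤ normalizerIn S Q' ⊓ Subgroup.normalizer (D' : Set Ω))
    (hηQ : ∀ x : D, (x : Ω) ∈ Q ↔ (η x : Ω) ∈ Q') :
    ∃ (D₀ Q₀ : Subgroup Ω) (ε : D ≃* D₀) (ε' : D' ≃* D₀) (e₁ : Q ≃* Q₀) (e₂ : Q' ≃* Q₀),
      F.IsFullyAutomized p D₀ ∧ F.IsReceptive D₀ ∧ Q₀ ≤ D₀ ∧
      ExtTo F ε M (normalizerIn S D₀) ∧ ExtTo F ε' M' (normalizerIn S D₀) ∧
      ExtTo F e₁ M (normalizerIn S Q₀) ∧ ExtTo F e₂ M' (normalizerIn S Q₀) ∧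
      (∀ x : Q, (e₁ x : Ω) = ε ⟨x, hQD x.2⟩) ∧ (∀ (x : Q') (h : (x : Ω) ∈ D'), (e₂ x : Ω) = ε' ⟨x, h⟩) ∧
      (∀ y : D, (y : Ω) ∈ Q ↔ (ε y : Ω) ∈ Q₀) ∧ (∀ y : D', (y : Ω) ∈ Q' ↔ (ε' y : Ω) ∈ Q₀) ∧
      ∃ V : Sylow p (stabilizerIn (F.autGroup D₀) Q₀),
        (V : Subgroup (stabilizerIn (F.autGroup D₀) Q₀)).map (stabilizerIn (F.autGroup D₀) Q₀).subtype ≤
          autInducedBy S D₀ := by
  obtain ⟨D₀, ⟨φ, hφ, hφr⟩, hfa, hrec⟩ := hgood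
  have hDS : D ≤ S := hη.le_left
  have hD'S : D' ≤ S := hη.le_right
  have hD₀S : D₀ ≤ S := hfa.1
  haveI := finite_mulAut hD₀S
  have hε₀ := isoIn_isoOfHom hφ hφr
  set ε₀ := isoOfHom (F.injective_of_mem hφ) hφr
  obtain ⟨χ, hχ, hext⟩ := exists_extTo_normalizer hS hfa hrec hε₀
  obtain ⟨χ', hχ', hext'⟩ := exists_extTo_normalizer hS hfa hrec (hη.symm.trans hε₀)
  have hε₁ : IsoIn F (ε₀.trans χ) := hext.isoIn
  have hε₂ : IsoIn F ((η.symm.trans ε₀).trans χ') := hext'.isoIn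
  obtain ⟨ε₁, hε₁def⟩ : ∃ e, e = ε₀.trans χ := ⟨_, rfl⟩
  obtain ⟨ε₂, hε₂def⟩ : ∃ e, e = (η.symm.trans ε₀).trans χ' := ⟨_, rfl⟩
  rw [← hε₁def] at hext hε₁
  rw [← hε₂def] at hext' hε₂
  -- the automorphism joining the two images
  obtain ⟨a, ha'⟩ : ∃ a : MulAut D₀, a = (ε₁.symm.trans (η.trans ε₂) : D₀ ≃* D₀) := ⟨_, rfl⟩
  have ha : a ∈ F.autGroup D₀ := by
    rw [ha']
    exact (mem_autGroup hD₀S).2 (hε₁.symm.trans (hη.trans hε₂))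
  have haε : ∀ x : D, a (ε₁ x) = ε₂ (η x) := fun x => by
    rw [ha']
    simp
  obtain ⟨Q₁, -, -, -, hiff₁⟩ := exists_resIso ε₁ hQD
  have hiff₂ : ∀ x : D, (x : Ω) ∈ Q ↔ ((a (ε₁ x) : D₀) : Ω) ∈ (Q'.subgroupOf D').map (D₀.subtype.comp ε₂.toMonoidHom) := by
    intro x
    rw [haε, hηQ]
    constructor
    · intro h; exact ⟨η x, h, rfl⟩
    · rintro ⟨y, hy, hyx⟩
      obtain rfl : y = η x := ε₂.injective (Subtype.ext hyx)
      exact hy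
  obtain ⟨Q₂, hQ₂def⟩ : ∃ R, R = (Q'.subgroupOf D').map (D₀.subtype.comp ε₂.toMonoidHom) := ⟨_, rfl⟩
  rw [← hQ₂def] at hiff₂
  have hiff₂' : ∀ y : D', (y : Ω) ∈ Q' ↔ (ε₂ y : Ω) ∈ Q₂ := by
    intro y
    obtain ⟨x, rfl⟩ := η.surjective y
    rw [← hηQ, hiff₂, haε]
  set H₁ := stabilizerIn (F.autGroup D₀) Q₁
  have hH₁a : ∀ d : MulAut D₀, d ∈ H₁ → a * d * a⁻¹ ∈ stabilizerIn (F.autGroup D₀) Q₂ := by
    intro d hd
    refine ⟨mul_mem (mul_mem ha hd.1) (inv_mem ha), fun y => ?_⟩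
    obtain ⟨z, rfl⟩ := a.surjective y
    obtain ⟨x, rfl⟩ := ε₁.surjective z
    show _ ↔ ((a (d (a⁻¹ (a (ε₁ x)))) : D₀) : Ω) ∈ Q₂
    obtain ⟨x', hx'⟩ := ε₁.surjective (d (ε₁ x))
    rw [MulAut.inv_apply_self, ← hiff₂, ← hx', ← hiff₂, hiff₁, hiff₁, hx']
    exact hd.2 _
  have hH₂a : ∀ d : MulAut D₀, d ∈ stabilizerIn (F.autGroup D₀) Q₂ → a⁻¹ * d * a ∈ H₁ := by
    intro d hd
    refine ⟨mul_mem (mul_mem (inv_mem ha) hd.1) ha, fun y => ?_⟩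
    obtain ⟨x, rfl⟩ := ε₁.surjective y
    show _ ↔ ((a⁻¹ (d (a (ε₁ x))) : D₀) : Ω) ∈ Q₁
    obtain ⟨x', hx'⟩ := ε₁.surjective (a⁻¹ (d (a (ε₁ x))))
    rw [← hiff₁, hiff₂, ← hx', ← hiff₁, hiff₂ x', hx', MulAut.apply_inv_self]
    exact hd.2 _
  -- the two induced `p`-subgroups of the stabilizer
  have hTp : IsPGroup p (autInducedBy S D₀) := isPGroup_autInducedBy p hS D₀
  obtain ⟨W, hW⟩ := ((hTp.to_le (inf_le_right : H₁ ⊓ autInducedBy S D₀ ≤ _)).of_equiv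
    (Subgroup.subgroupOfEquivOfLe inf_le_left).symm).exists_le_sylow
  have hX₂ : IsPGroup p ((stabilizerIn (F.autGroup D₀) Q₂ ⊓ autInducedBy S D₀).map
      (MulAut.conj a⁻¹).toMonoidHom) := (hTp.to_le inf_le_right).map _
  have hX₂le : (stabilizerIn (F.autGroup D₀) Q₂ ⊓ autInducedBy S D₀).map (MulAut.conj a⁻¹).toMonoidHom ≤ H₁ := by
    rintro _ ⟨d, hd, rfl⟩
    have := hH₂a d hd.1
    rwa [MulEquiv.coe_toMonoidHom, MulAut.conj_apply, inv_inv]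
  obtain ⟨W', hW'⟩ := (hX₂.of_equiv (Subgroup.subgroupOfEquivOfLe hX₂le).symm).exists_le_sylow
  obtain ⟨s, hs⟩ := MulAction.exists_smul_eq H₁ W' W
  obtain ⟨g, hg, hgW⟩ := exists_conj_le_autInducedBy p hfa ((W : Subgroup H₁).map H₁.subtype) (W.isPGroup'.map _)
    (by rintro _ ⟨d, -, rfl⟩; exact d.2.1)
  obtain ⟨g', hg'def⟩ : ∃ g', g' = g * (s : MulAut D₀) * a⁻¹ := ⟨_, rfl⟩
  have hg' : g' ∈ F.autGroup D₀ := hg'def ▸ mul_mem (mul_mem hg s.2.1) (inv_mem ha)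
  obtain ⟨Q₀, hQ₀def⟩ : ∃ R, R = ((Q₁.subgroupOf D₀).map g.toMonoidHom).map D₀.subtype := ⟨_, rfl⟩
  have hgQ : ∀ y : D₀, (y : Ω) ∈ Q₁ ↔ (g y : Ω) ∈ Q₀ := by
    intro y
    rw [hQ₀def]
    constructor
    · intro h; exact ⟨g y, ⟨y, h, rfl⟩, rfl⟩
    · rintro ⟨_, ⟨z, hz, rfl⟩, e⟩
      obtain rfl : z = y := g.injective (Subtype.ext e)
      exact hz
  have hQ₀D : Q₀ ≤ D₀ := by rw [hQ₀def]; exact Subgroup.map_subtype_le _
  have hg'Q : ∀ y : D', (y : Ω) ∈ Q' ↔ (g' (ε₂ y) : Ω) ∈ Q₀ := by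
    intro y
    obtain ⟨x, rfl⟩ := η.surjective y
    rw [← hηQ, hiff₁, hg'def, MulAut.mul_apply, MulAut.mul_apply, ← haε, MulAut.inv_apply_self, ← hgQ]
    exact s.2.2 _
  -- extensions
  have hconj₁ : ∀ d ∈ autInducedBy M D, g * MulAut.congr ε₁ d * g⁻¹ ∈ autInducedBy S D₀ := by
    intro d hd
    have h1 := congr_mem_stabilizerIn hDS hε₁ (hM.trans (inf_le_left.trans inf_le_left))
      (hM.trans (inf_le_left.trans inf_le_right)) hiff₁ hd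
    have h2 : MulAut.congr ε₁ d ∈ autInducedBy S D₀ := by
      have h3 := (hext.mono hDM (fun z hz => ⟨(hM hz).1.1, (hM hz).2⟩)).map_autInducedBy ⟨d, hd, rfl⟩
      obtain ⟨k, hk, hkx⟩ := mem_autInducedBy.1 h3
      exact mem_autInducedBy.2 ⟨k, hk.1, hkx⟩
    exact hgW _ ⟨⟨_, h1⟩, hW (Subgroup.mem_subgroupOf.2 ⟨h1, h2⟩), rfl⟩
  have hconj₂ : ∀ d ∈ autInducedBy M' D', g' * MulAut.congr ε₂ d * g'⁻¹ ∈ autInducedBy S D₀ := by
    intro d hd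
    have h1 := congr_mem_stabilizerIn hD'S hε₂ (hM'.trans (inf_le_left.trans inf_le_left))
      (hM'.trans (inf_le_left.trans inf_le_right)) hiff₂' hd
    have h2 : MulAut.congr ε₂ d ∈ autInducedBy S D₀ := by
      have h3 := (hext'.mono hD'M (fun z hz => ⟨(hM' hz).1.1, (hM' hz).2⟩)).map_autInducedBy ⟨d, hd, rfl⟩
      obtain ⟨k, hk, hkx⟩ := mem_autInducedBy.1 h3
      exact mem_autInducedBy.2 ⟨k, hk.1, hkx⟩
    have h4 : a⁻¹ * MulAut.congr ε₂ d * a ∈ H₁ := hH₂a _ h1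
    have h5 : (⟨_, h4⟩ : H₁) ∈ (W' : Subgroup H₁) :=
      hW' (Subgroup.mem_subgroupOf.2 ⟨_, ⟨h1, h2⟩, by rw [MulEquiv.coe_toMonoidHom, MulAut.conj_apply, inv_inv]⟩)
    have h6 : s * (⟨_, h4⟩ : H₁) * s⁻¹ ∈ (W : Subgroup H₁) := by
      rw [← hs, Sylow.coe_subgroup_smul]
      exact ⟨_, h5, rfl⟩
    have h7 := hgW _ ⟨_, h6, rfl⟩
    rw [hg'def]
    simpa [mul_assoc] using h7
  have hMN : M ≤ normalizerIn S D := fun z hz => ⟨(hM hz).1.1, (hM hz).2⟩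
  have hM'N : M' ≤ normalizerIn S D' := fun z hz => ⟨(hM' hz).1.1, (hM' hz).2⟩
  have hfin₁ : ExtTo F (ε₁.trans g) M (normalizerIn S D₀) := by
    refine extTo_of_receptive hrec (hε₁.trans (isoIn_aut hD₀S hg)) hDM hMN ?_
    rintro _ ⟨d, hd, rfl⟩
    exact hconj₁ d hd
  have hfin₂ : ExtTo F (ε₂.trans g') M' (normalizerIn S D₀) := by
    refine extTo_of_receptive hrec (hε₂.trans (isoIn_aut hD₀S hg')) hD'M hM'N ?_
    rintro _ ⟨d, hd, rfl⟩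
    exact hconj₂ d hd
  obtain ⟨R₁, e₁, hR₁D, he₁, hR₁⟩ := exists_resIso (ε₁.trans g) hQD
  obtain ⟨R₂, e₂, hR₂D, he₂, hR₂⟩ := exists_resIso (ε₂.trans g') hQ'D
  obtain rfl : R₁ = Q₀ := by
    ext z
    constructor
    · intro hz
      obtain ⟨y, hy⟩ := (ε₁.trans g).surjective ⟨z, hR₁D hz⟩
      have h1 : (y : Ω) ∈ Q := (hR₁ y).2 (by rw [hy]; exact hz)
      rw [hiff₁, hgQ, show g (ε₁ y) = (⟨z, hR₁D hz⟩ : D₀) from hy] at h1
      exact h1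
    · intro hz
      obtain ⟨y, hy⟩ := (ε₁.trans g).surjective ⟨z, hQ₀D hz⟩
      have h1 : (y : Ω) ∈ Q := by
        rw [hiff₁, hgQ, show g (ε₁ y) = (⟨z, hQ₀D hz⟩ : D₀) from hy]; exact hz
      rw [hR₁, hy] at h1
      exact h1
  obtain rfl : R₂ = R₁ := by
    ext z
    constructor
    · intro hz
      obtain ⟨y, hy⟩ := (ε₂.trans g').surjective ⟨z, hR₂D hz⟩
      have h1 : (y : Ω) ∈ Q' := (hR₂ y).2 (by rw [hy]; exact hz)
      rw [hg'Q, show g' (ε₂ y) = (⟨z, hR₂D hz⟩ : D₀) from hy] at h1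
      exact h1
    · intro hz
      obtain ⟨y, hy⟩ := (ε₂.trans g').surjective ⟨z, hQ₀D hz⟩
      have h1 : (y : Ω) ∈ Q' := by
        rw [hg'Q, show g' (ε₂ y) = (⟨z, hQ₀D hz⟩ : D₀) from hy]; exact hz
      rw [hR₂, hy] at h1
      exact h1
  refine ⟨D₀, R₂, ε₁.trans g, ε₂.trans g', e₁, e₂, hfa, hrec, hQ₀D, hfin₁, hfin₂,
    (hfin₁.res hQD he₁).normalizer (hM.trans (inf_le_left.trans inf_le_right)),
    (hfin₂.res hQ'D he₂).normalizer (hM'.trans (inf_le_left.trans inf_le_right)),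
    he₁, fun x _ => he₂ x, hR₁, hR₂, ?_⟩
  set H := stabilizerIn (F.autGroup D₀) R₂
  have hHg : ∀ d ∈ H, g⁻¹ * d * g ∈ H₁ := by
    intro d hd
    refine ⟨mul_mem (mul_mem (inv_mem hg) hd.1) hg, fun y => ?_⟩
    rw [hgQ, hgQ, hd.2 (g y)]
    show _ ↔ ((g (g⁻¹ (d (g y))) : D₀) : Ω) ∈ R₂
    rw [MulAut.apply_inv_self]
  have hWH : ((W : Subgroup H₁).map H₁.subtype).map (MulAut.conj g).toMonoidHom ≤ H := by
    rintro _ ⟨_, ⟨d, hd, rfl⟩, rfl⟩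
    refine ⟨mul_mem (mul_mem hg d.2.1) (inv_mem hg), fun y => ?_⟩
    obtain ⟨z, rfl⟩ := g.surjective y
    show _ ↔ ((g ((d : MulAut D₀) (g⁻¹ (g z))) : D₀) : Ω) ∈ R₂
    rw [MulAut.inv_apply_self, ← hgQ, ← hgQ]
    exact d.2.2 z
  obtain ⟨V, hV⟩ := ((W.isPGroup'.map H₁.subtype).map (MulAut.conj g).toMonoidHom |>.of_equiv
    (Subgroup.subgroupOfEquivOfLe hWH).symm).exists_le_sylow
  refine ⟨V, ?_⟩
  let π : H →* H₁ :=
    { toFun := fun d => ⟨g⁻¹ * d * g, hHg d d.2⟩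
      map_one' := Subtype.ext (by simp)
      map_mul' := fun x y => Subtype.ext (by simp [mul_assoc]) }
  have hle : (W : Subgroup H₁) ≤ (V : Subgroup H).map π := by
    intro d hd
    refine ⟨⟨g * d * g⁻¹, hWH ⟨_, ⟨d, hd, rfl⟩, rfl⟩⟩, hV (Subgroup.mem_subgroupOf.2 ⟨_, ⟨d, hd, rfl⟩, rfl⟩), ?_⟩
    exact Subtype.ext (by simp [π, mul_assoc])
  have heq : (V : Subgroup H).map π = W := W.is_maximal' (V.isPGroup'.map π) hle
  rintro _ ⟨v, hv, rfl⟩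
  have h1 := hgW _ ⟨π v, heq.le ⟨v, hv, rfl⟩, rfl⟩
  simpa [π, mul_assoc] using h1

end CfsgLib.Fusion
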