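import Cfsg.Agent.Fusion.FixPair

/-!
Elements of `C_S(T)` centralizing a subsystem over `T`.
-/

set_option autoImplicit false
set_option linter.style.haveILetI false

open Cfsg

namespace CfsgLib.Fusion

open Cfsg.FusionSystem

variable {Ω : Type*} [Group Ω] {S T : Subgroup Ω} {F : Cfsg.FusionSystem S} {E : Cfsg.FusionSystem T}
variable {P R : Subgroup Ω} {p : ℕ}

/-- `x ∈ C_S(T)` and every map of `E` extends to one fixing `x`. -/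
def FixedElt (F : Cfsg.FusionSystem S) (E : Cfsg.FusionSystem T) (x : Ω) : Prop :=
  x ∈ centralizerIn S T ∧ ∀ (P : Subgroup Ω) (φ : P →* Ω), φ ∈ E.Hom P →
    ∃ ψ ∈ F.Hom (P ⊔ Subgroup.zpowers x), (∀ a : P, ψ ⟨a, Subgroup.mem_sup_left a.2⟩ = φ a) ∧
      ψ ⟨x, Subgroup.mem_sup_right (Subgroup.mem_zpowers x)⟩ = x

lemma range_sup_zpowers {x : Ω} (ψ : ↥(P ⊔ Subgroup.zpowers x) →* Ω) {Q : Subgroup Ω} {y : Ω}
    (hP : ∀ a (ha : a ∈ P), ψ ⟨a, Subgroup.mem_sup_left ha⟩ ∈ Q)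
    (hQ : ∀ q ∈ Q, ∃ a, ∃ ha : a ∈ P, ψ ⟨a, Subgroup.mem_sup_left ha⟩ = q)
    (hx : ψ ⟨x, Subgroup.mem_sup_right (Subgroup.mem_zpowers x)⟩ = y) : ψ.range = Q ⊔ Subgroup.zpowers y := by
  refine le_antisymm ?_ (sup_le (fun q hq => ?_) (Subgroup.zpowers_le.2 ⟨_, hx⟩))
  · rintro _ ⟨u, rfl⟩
    refine sup_zpowers_map_mem ψ (fun a ha => Subgroup.mem_sup_left (hP a ha)) ?_ u
    rw [hx]
    exact Subgroup.mem_sup_right (Subgroup.mem_zpowers y)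
  · obtain ⟨a, ha, e⟩ := hQ q hq
    exact ⟨_, e⟩

/-- Maps of `N_F(T)` carry centralizing elements to centralizing elements. -/
theorem fixedElt_map [Finite S] (hE : E.IsInvariantIn F) {x : Ω} (hx : FixedElt F E x)
    {η : ↥(T ⊔ Subgroup.zpowers x) →* Ω} (hη : η ∈ F.Hom (T ⊔ Subgroup.zpowers x)) :
    FixedElt F E (η ⟨x, Subgroup.mem_sup_right (Subgroup.mem_zpowers x)⟩) := by
  have hT := hE.2.1
  have hTS := hT.1
  set y := η ⟨x, Subgroup.mem_sup_right (Subgroup.mem_zpowers x)⟩ with hy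
  set θ : T →* Ω := η.comp (Subgroup.inclusion le_sup_left)
  have hθ : θ ∈ F.Hom T := restrict hη le_sup_left
  have hθr : θ.range = T := (weaklyClosed_of_stronglyClosed hT).2 θ hθ
  haveI := finite_of_le hTS
  obtain ⟨α, hαdef⟩ : ∃ α : MulAut T, α = isoOfHom (F.injective_of_mem hθ) hθr := ⟨_, rfl⟩
  have hα : ∀ t : T, ((α t : T) : Ω) = η ⟨t, Subgroup.mem_sup_left t.2⟩ := fun t => by rw [hαdef]; rfl
  have hαF : α ∈ F.autGroup T := (mem_autGroup hTS).2 (mem_of_eq hθ fun t => hα t)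
  have hyC : y ∈ centralizerIn S T := by
    refine ⟨val_mem hη _, Subgroup.mem_centralizer_iff.2 fun t ht => ?_⟩
    obtain ⟨u, hu⟩ := α.surjective ⟨t, ht⟩
    have h1 := hα u
    rw [hu] at h1
    rw [show t = _ from h1, hy, ← map_mul, ← map_mul]
    exact congrArg η (Subtype.ext (Subgroup.mem_centralizer_iff.1 hx.1.2 u u.2))
  refine ⟨hyC, fun P φ hφ => ?_⟩
  have hPT : P ≤ T := le_of_hom hφ
  obtain ⟨R, hR⟩ : ∃ R, R = (P.subgroupOf T).map (T.subtype.comp (α⁻¹ : MulAut T).toMonoidHom) := ⟨_, rfl⟩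
  have hRT : R ≤ T := hR ▸ by rintro _ ⟨a, -, rfl⟩; exact (α⁻¹ a).2
  have hm : ∀ r : R, ((α ⟨r, hRT r.2⟩ : T) : Ω) ∈ P := by
    rintro ⟨r, hr⟩
    obtain ⟨a, ha, e⟩ := hR ▸ hr
    have e1 : (⟨r, hRT hr⟩ : T) = α⁻¹ a := Subtype.ext e.symm
    show ((α ⟨r, hRT hr⟩ : T) : Ω) ∈ P
    rw [e1, MulAut.apply_inv_self]
    exact ha
  have hmem : ∀ a (ha : a ∈ P), ((α⁻¹ ⟨a, hPT ha⟩ : T) : Ω) ∈ R := fun a ha =>
    hR ▸ ⟨⟨a, hPT ha⟩, ha, rfl⟩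
  obtain ⟨ψ, hψ, hψR, hψx⟩ := hx.2 R _ (invBy_of_isInvariant hE P φ hφ α hαF R hRT hm)
  have hv : ∀ u, ψ u ∈ T ⊔ Subgroup.zpowers x := sup_zpowers_map_mem ψ
    (fun r hr => by rw [hψR ⟨r, hr⟩, twist_apply]; exact Subgroup.mem_sup_left (α⁻¹ _).2)
    (by rw [hψx]; exact Subgroup.mem_sup_right (Subgroup.mem_zpowers x))
  have hle : R ⊔ Subgroup.zpowers x ≤ T ⊔ Subgroup.zpowers x := sup_le_sup_right hRT _
  have hrange : (η.comp (Subgroup.inclusion hle)).range = P ⊔ Subgroup.zpowers y := by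
    refine range_sup_zpowers _ (fun r hr => ?_) (fun a ha => ⟨_, hmem a ha, ?_⟩) rfl
    · show η ⟨r, _⟩ ∈ P
      rw [← hα ⟨r, hRT hr⟩]
      exact hm ⟨r, hr⟩
    · show η ⟨_, _⟩ = a
      rw [← hα (α⁻¹ ⟨a, hPT ha⟩), MulAut.apply_inv_self]
  obtain ⟨χ, hχ, hχr, hχ1, -⟩ := exists_inv (restrict hη hle) hrange
  have hm1 : ∀ u, χ u ∈ R ⊔ Subgroup.zpowers x := fun u => hχr ▸ ⟨u, rfl⟩
  have hmid := F.comp_mem hχ hψ hm1
  refine ⟨_, F.comp_mem hmid hη (fun u => hv _), fun a => ?_, ?_⟩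
  · show η ⟨ψ ⟨χ ⟨a, _⟩, _⟩, _⟩ = φ a
    have e1 : χ ⟨a, Subgroup.mem_sup_left a.2⟩ = ((α⁻¹ ⟨a, hPT a.2⟩ : T) : Ω) := by
      refine Eq.trans (congrArg χ (Subtype.ext ?_)) (hχ1 ⟨_, Subgroup.mem_sup_left (hmem a a.2)⟩ (hrange ▸ ⟨_, rfl⟩))
      show (a : Ω) = η ⟨_, _⟩
      rw [← hα (α⁻¹ ⟨a, hPT a.2⟩), MulAut.apply_inv_self]
    have e2 : ψ ⟨χ ⟨a, Subgroup.mem_sup_left a.2⟩, hm1 _⟩ = ((α⁻¹ ⟨φ a, val_mem hφ a⟩ : T) : Ω) := by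
      refine Eq.trans (congrArg ψ (Subtype.ext e1 :
        _ = (⟨_, Subgroup.mem_sup_left (hmem a a.2)⟩ : ↥(R ⊔ Subgroup.zpowers x)))) ?_
      rw [hψR ⟨_, hmem a a.2⟩, twist_apply]
      refine congrArg (fun z : T => ((α⁻¹ z : T) : Ω)) (Subtype.ext (congrArg φ (Subtype.ext ?_)))
      show ((α (α⁻¹ ⟨a, _⟩) : T) : Ω) = a
      rw [MulAut.apply_inv_self]
    refine Eq.trans (congrArg η (Subtype.ext e2 :
      _ = (⟨_, Subgroup.mem_sup_left (α⁻¹ ⟨φ a, val_mem hφ a⟩).2⟩ : ↥(T ⊔ Subgroup.zpowers x)))) ?_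
    rw [← hα (α⁻¹ ⟨φ a, val_mem hφ a⟩), MulAut.apply_inv_self]
  · show η ⟨ψ ⟨χ ⟨y, _⟩, _⟩, _⟩ = y
    have e1 : χ ⟨y, Subgroup.mem_sup_right (Subgroup.mem_zpowers y)⟩ = x :=
      hχ1 ⟨x, Subgroup.mem_sup_right (Subgroup.mem_zpowers x)⟩ _
    refine congrArg η (Subtype.ext ?_)
    exact Eq.trans (congrArg ψ (Subtype.ext e1 :
      _ = (⟨x, Subgroup.mem_sup_right (Subgroup.mem_zpowers x)⟩ : ↥(R ⊔ Subgroup.zpowers x)))) hψx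

/-- Any map on a subgroup of `T` extends to a centralizing element, with centralizing image. -/
theorem exists_fixed_lift [Finite S] [Fact p.Prime] (hS : IsPGroup p S) (hF : F.IsSaturated p)
    (hE : E.IsInvariantIn F) {x : Ω} (hx : FixedElt F E x) (hPT : P ≤ T) {ω : P →* Ω} (hω : ω ∈ F.Hom P) :
    ∃ ρ ∈ F.Hom (P ⊔ Subgroup.zpowers x), (∀ a : P, ρ ⟨a, Subgroup.mem_sup_left a.2⟩ = ω a) ∧
      FixedElt F E (ρ ⟨x, Subgroup.mem_sup_right (Subgroup.mem_zpowers x)⟩) := by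
  have hTS := hE.2.1.1
  obtain ⟨α, hα, φ₀, hφ₀, hag⟩ := hE.2.2.2 P hPT ω hω
  obtain ⟨β, hβ, hβT, -⟩ := exists_aut_sup hS hF hE.2.1 hα
  obtain ⟨ψ₀, hψ₀, hψP, hψx⟩ := hx.2 P φ₀ hφ₀
  have hle : T ⊔ Subgroup.zpowers x ≤ T ⊔ centralizerIn S T := sup_le_sup_left (Subgroup.zpowers_le.2 hx.1) _
  have hη := restrict ((mem_autGroup (sup_le hTS inf_le_left)).1 hβ) hle
  have hv : ∀ u, ψ₀ u ∈ T ⊔ Subgroup.zpowers x := sup_zpowers_map_mem ψ₀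
    (fun a ha => by rw [hψP ⟨a, ha⟩]; exact Subgroup.mem_sup_left (val_mem hφ₀ _))
    (by rw [hψx]; exact Subgroup.mem_sup_right (Subgroup.mem_zpowers x))
  refine ⟨_, F.comp_mem hψ₀ hη hv, fun a => ?_, ?_⟩
  · show ((β ⟨ψ₀ ⟨a, _⟩, _⟩ : ↥(T ⊔ centralizerIn S T)) : Ω) = ω a
    rw [hag a (val_mem hφ₀ a), ← hβT ⟨φ₀ a, val_mem hφ₀ a⟩]
    exact congrArg (fun z => ((β z : ↥(T ⊔ centralizerIn S T)) : Ω)) (Subtype.ext (hψP a))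
  · have h1 := fixedElt_map hE hx hη
    refine Eq.subst ?_ h1
    exact congrArg (fun z => ((β z : ↥(T ⊔ centralizerIn S T)) : Ω)) (Subtype.ext hψx.symm)

end CfsgLib.Fusion
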