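import Mathlib

/-!
The determinant of an automorphism of a free `S`-set with values in an abelian group, and its evaluation on
elements commuting with a `p`-group acting compatibly.
-/

set_option autoImplicit false
set_option linter.style.haveILetI false

namespace CfsgLib.FreeDet

variable {S X A : Type*} [Group S] [MulAction S X] [CommGroup A]

/-- The permutations commuting with the action. -/
def commutant (S X : Type*) [Group S] [MulAction S X] : Subgroup (Equiv.Perm X) where
  carrier := {σ | ∀ (a : S) (x : X), σ (a • x) = a • σ x}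
  one_mem' := fun a x => rfl
  mul_mem' := fun {σ τ} hσ hτ a x => (congrArg σ (hτ a x)).trans (hσ a (τ x))
  inv_mem' := fun {σ} hσ a x => σ.injective (by rw [hσ]; simp)

/-- The chosen point of an orbit. -/
noncomputable def rep (o : MulAction.orbitRel.Quotient S X) : X := Quotient.out o

lemma mk_rep (o : MulAction.orbitRel.Quotient S X) : (Quotient.mk _ (rep o) : MulAction.orbitRel.Quotient S X) = o :=
  Quotient.out_eq o

lemma mk_smul (a : S) (x : X) :
    (Quotient.mk _ (a • x) : MulAction.orbitRel.Quotient S X) = Quotient.mk _ x :=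
  Quotient.sound ⟨a, rfl⟩

/-- The induced map on orbits. -/
noncomputable def act (w : commutant S X) (o : MulAction.orbitRel.Quotient S X) : MulAction.orbitRel.Quotient S X :=
  Quotient.mk _ ((w : Equiv.Perm X) (rep o))

lemma exists_shift (w : commutant S X) (o : MulAction.orbitRel.Quotient S X) :
    ∃ a : S, (w : Equiv.Perm X) (rep o) = a • rep (act w o) := by
  obtain ⟨a, ha⟩ := Quotient.exact (Quotient.out_eq (act w o)).symm
  exact ⟨a, ha.symm⟩

/-- The element moving the chosen point of the image orbit to the image of the chosen point. -/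
noncomputable def shift (w : commutant S X) (o : MulAction.orbitRel.Quotient S X) : S :=
  Classical.choose (exists_shift w o)

lemma shift_spec (w : commutant S X) (o : MulAction.orbitRel.Quotient S X) :
    (w : Equiv.Perm X) (rep o) = shift w o • rep (act w o) := Classical.choose_spec (exists_shift w o)

variable (hfree : ∀ (a : S) (x : X), a • x = x → a = 1)
include hfree

lemma shift_eq {w : commutant S X} {o o' : MulAction.orbitRel.Quotient S X} {a : S}
    (h : (w : Equiv.Perm X) (rep o) = a • rep o') : act w o = o' ∧ shift w o = a := by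
  have h1 : act w o = o' := by rw [act, h, mk_smul, mk_rep]
  refine ⟨h1, ?_⟩
  have h2 := shift_spec w o
  rw [h1, h] at h2
  have h3 : ((shift w o)⁻¹ * a) • rep o' = rep o' := by rw [mul_smul, h2, inv_smul_smul]
  exact inv_mul_eq_one.1 (hfree _ _ h3)

lemma mul_spec (w v : commutant S X) (o : MulAction.orbitRel.Quotient S X) :
    act (w * v) o = act w (act v o) ∧ shift (w * v) o = shift v o * shift w (act v o) := by
  refine shift_eq hfree ?_
  show (w : Equiv.Perm X) ((v : Equiv.Perm X) (rep o)) = _
  rw [shift_spec v o, w.2, shift_spec w (act v o), mul_smul]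

lemma one_spec (o : MulAction.orbitRel.Quotient S X) : act (1 : commutant S X) o = o ∧ shift (1 : commutant S X) o = 1 :=
  shift_eq hfree (one_smul S (rep o)).symm

lemma act_bijective (w : commutant S X) : Function.Bijective (act w) := by
  refine Function.bijective_iff_has_inverse.2 ⟨act w⁻¹, fun o => ?_, fun o => ?_⟩
  · rw [← (mul_spec hfree w⁻¹ w o).1, inv_mul_cancel, (one_spec hfree o).1]
  · rw [← (mul_spec hfree w w⁻¹ o).1, mul_inv_cancel, (one_spec hfree o).1]

variable [Finite X]

/-- The determinant. -/
noncomputable def det (χ : S →* A) : commutant S X →* A :=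
  letI : Fintype (MulAction.orbitRel.Quotient S X) := Fintype.ofFinite _
  MonoidHom.mk' (fun w => ∏ o, χ (shift w o)) fun w v => by
    rw [Finset.prod_congr rfl fun o _ => by rw [(mul_spec hfree w v o).2, map_mul], Finset.prod_mul_distrib, mul_comm,
      (act_bijective hfree v).prod_comp fun o => χ (shift w o)]

lemma det_apply [Fintype (MulAction.orbitRel.Quotient S X)] (χ : S →* A) (w : commutant S X) :
    det hfree χ w = ∏ o, χ (shift w o) := by
  show Finset.prod _ _ = _
  congr! 1
  ext o
  simp

variable {P : Type*} [Group P] [Finite P] {p : ℕ} [Fact p.Prime]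

omit [Finite X] hfree in
/-- An invariant product over a set on which a `p`-group acts, with exponent `p` values, is the product over
the fixed points. -/
lemma prod_eq_prod_fixed {O : Type*} [Fintype O] [MulAction P O] (hP : IsPGroup p P) (hA : ∀ a : A, a ^ p = 1)
    (c : O → A) (hc : ∀ (x : P) (o : O), c (x • o) = c o) [DecidablePred (· ∈ MulAction.fixedPoints P O)] :
    ∏ o, c o = ∏ o ∈ Finset.univ.filter (· ∈ MulAction.fixedPoints P O), c o := by
  classical
  rw [← Finset.prod_fiberwise_of_maps_to (g := c) (t := Finset.univ.image c) (fun o _ => Finset.mem_image.2 ⟨o, by simp⟩),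
    ← Finset.prod_fiberwise_of_maps_to (g := c) (t := Finset.univ.image c)
      (s := Finset.univ.filter (· ∈ MulAction.fixedPoints P O)) (fun o _ => Finset.mem_image.2 ⟨o, by simp⟩)]
  refine Finset.prod_congr rfl fun γ _ => ?_
  rw [Finset.prod_congr rfl (fun o ho => (Finset.mem_filter.1 ho).2), Finset.prod_congr rfl
    (fun o ho => (Finset.mem_filter.1 ho).2), Finset.prod_const, Finset.prod_const]
  let sub : SubMulAction P O :=
    { carrier := {o | c o = γ}
      smul_mem' := fun x o ho => (hc x o).trans ho }
  have h := hP.card_modEq_card_fixedPoints sub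
  have h1 : Nat.card sub = (Finset.univ.filter fun o => c o = γ).card := by
    rw [← Nat.subtype_card _ (fun o => by simp only [Finset.mem_filter, Finset.mem_univ, true_and]; exact Iff.rfl : ∀ o, o ∈ Finset.univ.filter (fun o => c o = γ) ↔ o ∈ sub)]
  have h2 : Nat.card (MulAction.fixedPoints P sub) =
      ((Finset.univ.filter (· ∈ MulAction.fixedPoints P O)).filter fun o => c o = γ).card := by
    rw [← Nat.subtype_card (p := fun o => o ∈ MulAction.fixedPoints P O ∧ c o = γ) _ (fun o => by simp)]
    refine Nat.card_congr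
      { toFun := fun o => ⟨(o.1 : O), fun x => congrArg Subtype.val (o.2 x), o.1.2⟩
        invFun := fun o => ⟨⟨o.1, o.2.2⟩, fun x => Subtype.ext (o.2.1 x)⟩
        left_inv := fun o => rfl
        right_inv := fun o => rfl }
  rw [h1, h2] at h
  exact pow_eq_pow_of_modEq (h.of_dvd dvd_rfl) (hA γ)

/-- The determinant of an element commuting with a compatibly acting `p`-group is computed on fixed orbits. -/
theorem det_eq_prod_fixed [Fintype (MulAction.orbitRel.Quotient S X)] (hP : IsPGroup p P) (hA : ∀ a : A, a ^ p = 1)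
    (χ : S →* A) (χP : P →* A) (Q : P →* commutant S X)
    (hcomp : ∀ (x : P) (y : X) (a : S), (Q x : Equiv.Perm X) y = a • y → χP x = χ a)
    (w : commutant S X) (hw : ∀ x, Q x * w = w * Q x)
    [DecidablePred fun o : MulAction.orbitRel.Quotient S X => ∀ x, act (Q x) o = o] :
    det hfree χ w = ∏ o ∈ Finset.univ.filter (fun o => ∀ x, act (Q x) o = o), χ (shift w o) := by
  classical
  letI : MulAction P (MulAction.orbitRel.Quotient S X) :=
    { smul := fun x o => act (Q x) o
      one_smul := fun o => by
        show act (Q 1) o = o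
        rw [map_one]; exact (one_spec hfree o).1
      mul_smul := fun x y o => by
        show act (Q (x * y)) o = act (Q x) (act (Q y) o)
        rw [map_mul]; exact (mul_spec hfree _ _ o).1 }
  let g : P → MulAction.orbitRel.Quotient S X → A := fun x o => χ (shift (Q x) o) * (χP x)⁻¹
  have hmul : ∀ x y o, g (x * y) o = g y o * g x (act (Q y) o) := fun x y o => by
    show χ (shift (Q (x * y)) o) * (χP (x * y))⁻¹ = χ (shift (Q y) o) * (χP y)⁻¹ * (χ (shift (Q x) (act (Q y) o)) * (χP x)⁻¹)
    rw [map_mul Q, (mul_spec hfree _ _ o).2, map_mul, map_mul, mul_inv]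
    ac_rfl
  have hstab : ∀ x o, act (Q x) o = o → g x o = 1 := fun x o h => by
    have h1 := shift_spec (Q x) o
    rw [h] at h1
    show χ (shift (Q x) o) * (χP x)⁻¹ = 1
    rw [hcomp x _ _ h1, mul_inv_cancel]
  have hwd : ∀ x y o, act (Q x) o = act (Q y) o → g x o = g y o := fun x y o h => by
    have h1 : act (Q (x⁻¹ * y)) o = o := by
      rw [map_mul, (mul_spec hfree _ _ o).1, ← h, ← (mul_spec hfree _ _ o).1, ← map_mul, inv_mul_cancel, map_one,
        (one_spec hfree o).1]
    have h2 := hmul x (x⁻¹ * y) o
    rw [mul_inv_cancel_left, h1, hstab _ _ h1, one_mul] at h2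
    exact h2.symm
  let e : MulAction.orbitRel.Quotient S X → MulAction.orbitRel.Quotient S X := fun o =>
    Quotient.out (Quotient.mk (MulAction.orbitRel P (MulAction.orbitRel.Quotient S X)) o)
  have he : ∀ o, ∃ x : P, act (Q x) (e o) = o := fun o => by
    obtain ⟨x, hx⟩ := Quotient.exact (s := MulAction.orbitRel P (MulAction.orbitRel.Quotient S X))
      (Quotient.out_eq (Quotient.mk (MulAction.orbitRel P (MulAction.orbitRel.Quotient S X)) o)).symm
    exact ⟨x, hx⟩
  choose xo hxo using he
  let u : MulAction.orbitRel.Quotient S X → A := fun o => g (xo o) (e o)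
  have hu : ∀ x o, u (act (Q x) o) = u o * g x o := fun x o => by
    have h1 : e (act (Q x) o) = e o :=
      congrArg Quotient.out (Quotient.sound (s := MulAction.orbitRel P (MulAction.orbitRel.Quotient S X)) ⟨x, rfl⟩)
    have h2 : act (Q (x * xo o)) (e o) = act (Q x) o := by rw [map_mul, (mul_spec hfree _ _ _).1, hxo]
    show g (xo (act (Q x) o)) (e (act (Q x) o)) = g (xo o) (e o) * g x o
    rw [h1, hwd (xo (act (Q x) o)) (x * xo o) (e o) (by rw [h2, ← h1, hxo]), hmul, hxo]
  have hcomm : ∀ x o, act (Q x) (act w o) = act w (act (Q x) o) ∧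
      χ (shift w o) * g x (act w o) = g x o * χ (shift w (act (Q x) o)) := fun x o => by
    have h1 := mul_spec hfree (Q x) w o
    rw [hw x] at h1
    obtain ⟨h2, h3⟩ := mul_spec hfree w (Q x) o
    refine ⟨h1.1.symm.trans h2, ?_⟩
    have h4 := congrArg χ (h1.2.symm.trans h3)
    rw [map_mul, map_mul] at h4
    show χ (shift w o) * (χ (shift (Q x) (act w o)) * (χP x)⁻¹) = χ (shift (Q x) o) * (χP x)⁻¹ * χ (shift w (act (Q x) o))
    rw [← mul_assoc, h4]
    ac_rfl
  let c : MulAction.orbitRel.Quotient S X → A := fun o => χ (shift w o) * u o * (u (act w o))⁻¹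
  have hcinv : ∀ (x : P) o, c (x • o) = c o := fun x o => by
    show χ (shift w (act (Q x) o)) * u (act (Q x) o) * (u (act w (act (Q x) o)))⁻¹ = χ (shift w o) * u o * (u (act w o))⁻¹
    obtain ⟨h1, h2⟩ := hcomm x o
    rw [← h1, hu, hu, mul_inv_eq_iff_eq_mul, show χ (shift w o) * u o * (u (act w o))⁻¹ * (u (act w o) * g x (act w o)) =
      χ (shift w o) * g x (act w o) * u o * ((u (act w o))⁻¹ * u (act w o)) by ac_rfl, inv_mul_cancel, mul_one, h2]
    ac_rfl
  have hprod : ∏ o, c o = det hfree χ w := by
    show ∏ o, χ (shift w o) * u o * (u (act w o))⁻¹ = _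
    rw [Finset.prod_mul_distrib, Finset.prod_mul_distrib, Finset.prod_inv_distrib, (act_bijective hfree w).prod_comp u,
      mul_inv_cancel_right, det_apply]
  rw [← hprod, prod_eq_prod_fixed hP hA c hcinv]
  have hfilter : Finset.univ.filter (· ∈ MulAction.fixedPoints P (MulAction.orbitRel.Quotient S X)) =
      Finset.univ.filter (fun o => ∀ x, act (Q x) o = o) := by
    ext o
    simp only [Finset.mem_filter, Finset.mem_univ, true_and]
    exact Iff.rfl
  rw [hfilter]
  refine Finset.prod_congr rfl fun o ho => ?_
  have ho' := (Finset.mem_filter.1 ho).2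
  have hu1 : ∀ o', (∀ x, act (Q x) o' = o') → u o' = 1 := fun o' ho' => by
    obtain ⟨y, hy⟩ : ∃ y : P, act (Q y) o' = e o' := ⟨(xo o')⁻¹, by
      calc act (Q (xo o')⁻¹) o' = act (Q (xo o')⁻¹) (act (Q (xo o')) (e o')) := by rw [hxo o']
        _ = e o' := by
          rw [← (mul_spec hfree _ _ _).1, ← map_mul, inv_mul_cancel, map_one, (one_spec hfree _).1]⟩
    rw [ho' y] at hy
    show g (xo o') (e o') = 1
    refine hstab _ _ ?_
    exact (hxo o').trans hy
  show χ (shift w o) * u o * (u (act w o))⁻¹ = _
  rw [hu1 o ho', hu1 (act w o) (fun x => by rw [(hcomm x o).1, ho']), inv_one, mul_one, mul_one]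

end CfsgLib.FreeDet
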