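import Cfsg.Agent.Fusion.GlaubermanPower
import Cfsg.Agent.ZJ.OrbitProduct
import Cfsg.Agent.ZJ.Transvection

/-!
Glauberman's theorem: in a constrained group a central element of a Sylow subgroup centralized by the
normalizer of its Thompson subgroup is central, for odd `p` or in the `S₄`-free case; and always for `p`-th powers.
-/

set_option autoImplicit false
set_option linter.style.haveILetI false

open Cfsg

namespace CfsgLib.Fusion

open CfsgLib.ZJ
open scoped commutatorElement Pointwise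

universe u

variable {G : Type u} [Group G] [Finite G] {p : ℕ} [Fact p.Prime]

/-- A member of the maximal family outside the centralizer of an abelian normal subgroup, normalized by it. -/
lemma exists_quadratic_member (P : Sylow p G) (V : Subgroup G) [V.Normal] (hVP : V ≤ (P : Subgroup G))
    (hab : ∀ a ∈ V, ∀ b ∈ V, a * b = b * a) {R : Subgroup G} (hR : ∀ r ∈ R, ∀ v ∈ V, r * v = v * r)
    (hJ : ¬ J p false (P : Subgroup G) ≤ R) :
    ∃ A ∈ maxGood p false (P : Subgroup G), ¬ A ≤ R ∧ V ≤ Subgroup.normalizer (A : Set G) := by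
  have hne : {A | A ∈ maxGood p false (P : Subgroup G) ∧ ¬ A ≤ R}.Nonempty := by
    by_contra hcon
    refine hJ (sSup_le fun A hA => ?_)
    by_contra hAR
    exact hcon ⟨A, hA, hAR⟩
  obtain ⟨A, ⟨hA, hAR⟩, hmax⟩ := Set.exists_max_image _ (fun A : Subgroup G => Nat.card (A ⊓ V : Subgroup G))
    (Set.toFinite _) hne
  refine ⟨A, hA, hAR, ?_⟩
  by_contra hVA
  have hgV : Good p false V := ⟨⟨⟨fun a b => Subtype.ext (hab a a.2 b b.2)⟩⟩, by simp⟩
  have hVV : ⁅V, V⁆ = ⊥ := Subgroup.commutator_eq_bot_iff_le_centralizer.2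
    fun a ha => Subgroup.mem_centralizer_iff.2 fun b hb => hab b hb a ha
  obtain ⟨A', hA', hlt, hA'A⟩ := exists_maxGood_gt hA (P.2.to_le (sup_le hA.1 hVP))
    (le_top.trans_eq (Subgroup.normalizer_eq_top _).symm) (fun v hv => Subgroup.le_normalizer (hVP hv))
    (by rw [hVV]; exact bot_le) (by rw [hVV]; exact Subgroup.commutator_bot_left _) (Or.inr hgV) hVA
  have hA'R : A' ≤ R := by
    by_contra h
    exact absurd (hmax A' ⟨hA', h⟩) (not_le.2 (lt_of_le_of_ne (Subgroup.card_le_of_le hlt.le)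
      fun e => hlt.ne (Subgroup.eq_of_le_of_card_ge hlt.le e.ge)))
  exact hVA (fun v hv => hA'A (mem_of_maxGood hA' (hVP hv) (fun a ha => hR a (hA'R ha) v hv) (by simp)))

lemma J_map_top (P : Subgroup G) :
    (J p false (⊤ : Subgroup P)).map P.subtype = J p false P := (J_eq_map_top P).symm

lemma J_hom_top (Q R : Type u) [Group Q] [Group R] [Finite Q] (_ : IsPGroup p Q) (φ : Q ≃* R) :
    (J p false (⊤ : Subgroup Q)).map φ.toMonoidHom = J p false (⊤ : Subgroup R) := by
  rw [← J_map φ.toMonoidHom fun x _ hx => φ.injective (hx.trans (map_one φ).symm),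
    Subgroup.map_top_of_surjective _ φ.surjective]

/-- The `p`-th power of a central element fixed by the normalizer of the Thompson subgroup is central. -/
theorem pow_mem_center_of_thompson (P : Sylow p G)
    (hc : Subgroup.centralizer ((Cfsg.pCore p G : Subgroup G) : Set G) ≤ Cfsg.pCore p G)
    {w : G} (hw : w ∈ (P : Subgroup G)) (hwP : ∀ t ∈ (P : Subgroup G), t * w = w * t)
    (hfix : ∀ g ∈ Subgroup.normalizer (J p false (P : Subgroup G) : Set G), g * w ^ p = w ^ p * g) :
    w ^ p ∈ Subgroup.center G := by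
  refine pow_mem_center_of_quadratic (W := fun Q _ => J p false (⊤ : Subgroup Q)) J_hom_top ?_ G P hc w hw hwP
    (by rw [J_map_top]; exact hfix)
  intro G _ _ P hJn
  rw [J_map_top] at hJn
  set K := Cfsg.pCore p G with hK
  set V := (Subgroup.center ↥K).map K.subtype with hV
  haveI hKn : K.Normal := Cfsg.pCore_normal p G
  haveI hVn : V.Normal := inferInstance
  have hKP : K ≤ (P : Subgroup G) := CfsgLib.PCore.pCore_le_sylow P
  have hVK : V ≤ K := Subgroup.map_subtype_le _
  have hVc : ∀ k ∈ K, ∀ v ∈ V, k * v = v * k := by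
    rintro k hk _ ⟨v, hv, rfl⟩
    exact congrArg Subtype.val (Subgroup.mem_center_iff.1 hv ⟨k, hk⟩)
  have hJK : ¬ J p false (P : Subgroup G) ≤ K := fun h => hJn (by
    rw [← J_eq_of_le h hKP, J_eq_map_top]
    haveI : (J p false (⊤ : Subgroup ↥K)).Characteristic :=
      Subgroup.characteristic_iff_map_eq.2 fun e => J_hom_top K K (CfsgLib.PCore.isPGroup_pCore p G) e
    infer_instance)
  obtain ⟨A, hA, hAK, hVA⟩ := exists_quadratic_member P V (hVK.trans hKP)
    (fun a ha b hb => hVc a (hVK ha) b hb) hVc hJK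
  obtain ⟨a, ha, haK⟩ := SetLike.not_le_iff_exists.1 hAK
  refine ⟨a, hA.1 ha, haK, le_bot_iff.1 ?_⟩
  have h1 : ⁅V, Subgroup.zpowers a⁆ ≤ A := by
    rw [Subgroup.commutator_le]
    intro v hv z hz
    have hz' : z ∈ A := Subgroup.zpowers_le.2 ha hz
    rw [commutatorElement_def]
    exact A.mul_mem ((Subgroup.mem_normalizer_iff.1 (hVA hv) z).1 hz') (A.inv_mem hz')
  refine (Subgroup.commutator_mono h1 (Subgroup.zpowers_le.2 ha)).trans ?_
  rw [le_bot_iff, Subgroup.commutator_eq_bot_iff_le_centralizer]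
  exact fun x hx => Subgroup.mem_centralizer_iff.2 fun y hy => good_commute hA.2.1 hy hx

/-- Glauberman's theorem for constrained groups. -/
theorem mem_center_of_thompson (P : Sylow p G)
    (hc : Subgroup.centralizer ((Cfsg.pCore p G : Subgroup G) : Set G) ≤ Cfsg.pCore p G)
    (h : p ≠ 2 ∨ ¬ Cfsg.Involves (Equiv.Perm (Fin 4)) G) {x : G} (hx : x ∈ (P : Subgroup G))
    (hxP : ∀ t ∈ (P : Subgroup G), t * x = x * t)
    (hfix : ∀ g ∈ Subgroup.normalizer (J p false (P : Subgroup G) : Set G), g * x = x * g) :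
    x ∈ Subgroup.center G := by
  induction hn : Nat.card G using Nat.strong_induction_on generalizing G with
  | _ n ih =>
  classical
  haveI := Fintype.ofFinite G
  have hpow : x ^ p ∈ Subgroup.center G :=
    pow_mem_center_of_thompson P hc hx hxP fun g hg => ((show Commute g x from hfix g hg).pow_right p).eq
  set K := Cfsg.pCore p G with hK
  haveI hKn : K.Normal := Cfsg.pCore_normal p G
  have hKP : K ≤ (P : Subgroup G) := CfsgLib.PCore.pCore_le_sylow P
  have hxK : x ∈ K := hc (Subgroup.mem_centralizer_iff.2 fun k hk => hxP k (hKP hk))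
  -- `V` is generated by the conjugates of `x`
  set V := Subgroup.normalClosure ({x} : Set G) with hVdef
  haveI hVn : V.Normal := Subgroup.normalClosure_normal
  have hxV : x ∈ V := Subgroup.subset_normalClosure rfl
  have hVK : V ≤ K := Subgroup.normalClosure_le_normal (by simpa using hxK)
  have hVc : ∀ k ∈ K, ∀ v ∈ V, k * v = v * k := by
    intro k hk v hv
    have hle : V ≤ Subgroup.centralizer (K : Set G) := Subgroup.normalClosure_le_normal (by
      intro y hy
      rw [Set.mem_singleton_iff.1 hy]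
      exact Subgroup.mem_centralizer_iff.2 fun k hk => hxP k (hKP hk))
    exact Subgroup.mem_centralizer_iff.1 (hle hv) k hk
  have hab : ∀ a ∈ V, ∀ b ∈ V, a * b = b * a := fun a ha b hb => hVc a (hVK ha) b hb
  have hVP : V ≤ (P : Subgroup G) := hVK.trans hKP
  have hVpow : ∀ v ∈ V, v ^ p ∈ Subgroup.center G := by
    intro v hv
    rw [hVdef, Subgroup.normalClosure] at hv
    induction hv using Subgroup.closure_induction with
    | mem y hy =>
      obtain ⟨a, ha, hay⟩ := Group.mem_conjugatesOfSet_iff.1 hy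
      rw [Set.mem_singleton_iff.1 ha] at hay
      obtain ⟨c, rfl⟩ := isConj_iff.1 hay
      rw [conj_pow, (Subgroup.mem_center_iff.1 hpow c), mul_inv_cancel_right]
      exact hpow
    | one => rw [one_pow]; exact one_mem _
    | mul a b ha hb iha ihb =>
      rw [(show Commute a b from hab a ha b hb).mul_pow]
      exact mul_mem iha ihb
    | inv a ha iha => rw [inv_pow]; exact inv_mem iha
  set C := Subgroup.centralizer (V : Set G) with hC
  haveI hCn : C.Normal := Subgroup.normal_centralizer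
  have hKC : K ≤ C := fun k hk => Subgroup.mem_centralizer_iff.2 fun v hv => (hVc k hk v hv).symm
  have hCx : ∀ c ∈ C, c * x = x * c := fun c hc' => (Subgroup.mem_centralizer_iff.1 hc' x hxV).symm
  refine Subgroup.mem_center_iff.2 fun a₀ => ?_
  by_cases hJC : J p false (P : Subgroup G) ≤ C
  · -- Frattini
    obtain ⟨T, hT⟩ : ∃ T : Sylow p C, (T : Subgroup C).map C.subtype = (P : Subgroup G) ⊓ C := by
      have hX : IsPGroup p (((P : Subgroup G) ⊓ C).subgroupOf C) :=
        (P.2.to_le inf_le_left).of_equiv (Subgroup.subgroupOfEquivOfLe inf_le_right).symm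
      obtain ⟨U, hU⟩ := hX.exists_le_sylow
      refine ⟨U, ?_⟩
      obtain ⟨T', hT'⟩ := (U.2.map C.subtype).exists_le_sylow
      obtain ⟨g, hg⟩ := MulAction.exists_smul_eq G P T'
      have h1 : (U : Subgroup C).map C.subtype ≤ ((P : Subgroup G) ⊓ C).map (MulAut.conj g).toMonoidHom := by
        intro y hy
        have h2 := hT' hy
        rw [← hg, Sylow.coe_subgroup_smul] at h2
        obtain ⟨z, hz, rfl⟩ := h2
        refine ⟨z, ⟨hz, ?_⟩, rfl⟩
        have h3 : g * z * g⁻¹ ∈ C := Subgroup.map_subtype_le _ hy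
        simpa [mul_assoc] using hCn.conj_mem _ h3 g⁻¹
      symm
      refine Subgroup.eq_of_le_of_card_ge (fun y hy => ⟨⟨y, hy.2⟩, hU hy, rfl⟩) ?_
      exact (Subgroup.card_le_of_le h1).trans (le_of_eq (Subgroup.card_map_of_injective (MulAut.conj g).injective))
    have htop := Sylow.normalizer_sup_eq_top T
    rw [hT] at htop
    have hm : a₀ ∈ ((Subgroup.normalizer (((P : Subgroup G) ⊓ C : Subgroup G) : Set G) ⊔ C : Subgroup G) : Set G) := by
      rw [htop]; trivial
    rw [Subgroup.mul_normal] at hm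
    obtain ⟨m, hm, c, hc', rfl⟩ := hm
    have hJ : J p false ((P : Subgroup G) ⊓ C) = J p false (P : Subgroup G) :=
      J_eq_of_le (le_inf (J_le _) hJC) inf_le_left
    have hmx : m * x = x * m := hfix m (by rw [← hJ]; exact normalizer_le_normalizer_J _ hm)
    exact ((show Commute m x from hmx).mul_left (show Commute c x from hCx c hc')).eq
  -- the quadratic members with largest part in `C`
  set Mem : Set (Subgroup G) :=
    {A | A ∈ maxGood p false (P : Subgroup G) ∧ ¬ A ≤ C ∧ V ≤ Subgroup.normalizer (A : Set G)} with hMem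
  have hMne : Mem.Nonempty := by
    obtain ⟨A, h1, h2, h3⟩ := exists_quadratic_member P V hVP hab
      (fun c hc' v hv => (Subgroup.mem_centralizer_iff.1 hc' v hv).symm) hJC
    exact ⟨A, h1, h2, h3⟩
  obtain ⟨A₁, hA₁, hA₁max⟩ := Set.exists_max_image Mem (fun A : Subgroup G => Nat.card (A ⊓ C : Subgroup G))
    (Set.toFinite _) hMne
  set 𝒜 : Set (Subgroup G) :=
    {A | A ∈ Mem ∧ Nat.card (A ⊓ C : Subgroup G) = Nat.card (A₁ ⊓ C : Subgroup G)} with h𝒜
  have hequiv : ∀ g : G, ∀ A ∈ 𝒜, A.map (MulAut.conj g).toMonoidHom ≤ (P : Subgroup G) →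
      A.map (MulAut.conj g).toMonoidHom ∈ 𝒜 := by
    rintro g A ⟨⟨hA, hAC, hVA⟩, hAc⟩ hle
    have hinj : Function.Injective (MulAut.conj g).toMonoidHom := (MulAut.conj g).injective
    have hCc : C.map (MulAut.conj g).toMonoidHom = C := by
      refine le_antisymm (by rintro _ ⟨y, hy, rfl⟩; exact hCn.conj_mem y hy g) fun y hy => ?_
      exact ⟨g⁻¹ * y * g, by simpa using hCn.conj_mem y hy g⁻¹, by show g * _ * g⁻¹ = y; group⟩
    refine ⟨⟨⟨hle, good_map _ hA.2.1, fun D hD hDg => ?_⟩, fun h' => hAC ?_, fun v hv => ?_⟩, ?_⟩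
    · rw [Subgroup.card_map_of_injective hinj]; exact hA.2.2 D hD hDg
    · rw [← hCc] at h'; exact (Subgroup.map_le_map_iff_of_injective hinj).1 h'
    · refine Subgroup.le_normalizer_map _ ⟨g⁻¹ * v * g, hVA (by simpa using hVn.conj_mem v hv g⁻¹), ?_⟩
      show g * _ * g⁻¹ = v
      group
    · rw [show A.map (MulAut.conj g).toMonoidHom ⊓ C = (A ⊓ C).map (MulAut.conj g).toMonoidHom by
        rw [Subgroup.map_inf _ _ _ hinj, hCc], Subgroup.card_map_of_injective hinj]
      exact hAc
  set J₀ := sSup 𝒜 with hJ₀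
  have hJ₀P : J₀ ≤ (P : Subgroup G) := sSup_le fun A hA => hA.1.1.1
  have hJ₀n : ¬ J₀.Normal := fun hn' =>
    hA₁.2.1 ((le_sSup (show A₁ ∈ 𝒜 from ⟨hA₁, rfl⟩)).trans ((CfsgLib.PCore.le_pCore hn' (P.2.to_le hJ₀P)).trans hKC))
  set M := Subgroup.normalizer (J₀ : Set G) with hM
  have hperm : ∀ g : G, (∀ A ∈ 𝒜, A.map (MulAut.conj g).toMonoidHom ≤ (P : Subgroup G)) → g ∈ M := by
    intro g hg
    refine Subgroup.mem_normalizer_fintype fun y hy => ?_
    have h1 : J₀.map (MulAut.conj g).toMonoidHom ≤ J₀ := by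
      rw [hJ₀, Subgroup.map_le_iff_le_comap]
      exact sSup_le fun A hA => Subgroup.map_le_iff_le_comap.1 (le_sSup (hequiv g A hA (hg A hA)))
    exact h1 ⟨y, hy, rfl⟩
  have hPM : (P : Subgroup G) ≤ M := fun g hg => hperm g fun A hA => by
    rintro _ ⟨y, hy, rfl⟩
    exact P.mul_mem (P.mul_mem hg (hA.1.1.1 hy)) (P.inv_mem hg)
  -- by induction `M` fixes `x`
  have hMx : ∀ y ∈ M, y * x = x * y := by
    have hMtop : M ≠ ⊤ := fun e => hJ₀n (Subgroup.normalizer_eq_top_iff.1 e)
    have hlt : Nat.card M < n := hn ▸ lt_of_le_of_ne (Subgroup.card_le_card_group M)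
      fun e => hMtop (Subgroup.eq_top_of_card_eq M e)
    have hcM : Subgroup.centralizer ((Cfsg.pCore p M : Subgroup M) : Set M) ≤ Cfsg.pCore p M := by
      have hKM : K.subgroupOf M ≤ Cfsg.pCore p M := CfsgLib.PCore.le_pCore inferInstance
        ((CfsgLib.PCore.isPGroup_pCore p G).of_equiv (Subgroup.subgroupOfEquivOfLe (hKP.trans hPM)).symm)
      refine fun y hy => hKM (hc (Subgroup.mem_centralizer_iff.2 fun k hk => ?_))
      exact congrArg Subtype.val (Subgroup.mem_centralizer_iff.1 hy ⟨k, hPM (hKP hk)⟩ (hKM hk))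
    have hJM : (J p false ((P.subtype hPM : Sylow p M) : Subgroup M)).map M.subtype = J p false (P : Subgroup G) := by
      rw [← J_map M.subtype fun y _ hy => Subtype.ext hy, Sylow.coe_subtype,
        Subgroup.map_subgroupOf_eq_of_le hPM]
    have hcen := ih _ hlt (P.subtype hPM) hcM (h.imp_right fun hf hi => hf (involves_subgroup M hi))
      (x := ⟨x, hPM hx⟩) hx (fun t ht => Subtype.ext (hxP t ht)) (fun y hy => Subtype.ext (hfix y ?_)) rfl
    · intro y hy
      exact congrArg Subtype.val (Subgroup.mem_center_iff.1 hcen ⟨y, hy⟩)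
    · rw [← hJM]
      exact Subgroup.le_normalizer_map M.subtype ⟨y, hy, rfl⟩
  -- conjugates fixed by all the members
  have hfixed : ∀ g : G, (∀ A ∈ 𝒜, ∀ a ∈ A, a * (g * x * g⁻¹) = g * x * g⁻¹ * a) → g * x * g⁻¹ = x := by
    intro g hall
    set Cx := Subgroup.centralizer ({x} : Set G) with hCx'
    have hmemCx : ∀ c, c ∈ Cx ↔ c * x = x * c := fun c =>
      ⟨fun hc' => (Subgroup.mem_centralizer_iff.1 hc' x rfl).symm,
        fun hc' => Subgroup.mem_centralizer_iff.2 fun y hy => by rw [Set.mem_singleton_iff.1 hy, hc']⟩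
    have hPC : (P : Subgroup G) ≤ Cx := fun t ht => (hmemCx t).2 (hxP t ht)
    set X := J₀.map (MulAut.conj g⁻¹).toMonoidHom with hX
    have hXC : X ≤ Cx := by
      rw [hX, Subgroup.map_le_iff_le_comap, hJ₀]
      refine sSup_le fun A hA a ha => (hmemCx _).2 ?_
      show g⁻¹ * a * (g⁻¹)⁻¹ * x = x * (g⁻¹ * a * (g⁻¹)⁻¹)
      calc g⁻¹ * a * (g⁻¹)⁻¹ * x = g⁻¹ * (a * (g * x * g⁻¹)) * g := by group
        _ = g⁻¹ * (g * x * g⁻¹ * a) * g := by rw [hall A hA a ha]
        _ = x * (g⁻¹ * a * (g⁻¹)⁻¹) := by group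
    have hXp : IsPGroup p (X.subgroupOf Cx) :=
      ((P.2.to_le hJ₀P).map _).of_equiv (Subgroup.subgroupOfEquivOfLe hXC).symm
    obtain ⟨U, hU⟩ := hXp.exists_le_sylow
    obtain ⟨d, hd⟩ := MulAction.exists_smul_eq Cx (P.subtype hPC) U
    have hk : (d : G)⁻¹ * g⁻¹ ∈ M := hperm _ fun A hA => by
      rintro _ ⟨a, ha, rfl⟩
      have h1 : (MulAut.conj g⁻¹).toMonoidHom a ∈ X := ⟨a, le_sSup hA ha, rfl⟩
      have h2 : (⟨_, hXC h1⟩ : Cx) ∈ (d • P.subtype hPC : Sylow p Cx) := by rw [hd]; exact hU h1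
      have h3 := CfsgLib.Transfer.mem_smul_sylow_iff.1 h2
      show (d : G)⁻¹ * g⁻¹ * a * ((d : G)⁻¹ * g⁻¹)⁻¹ ∈ (P : Subgroup G)
      have h4 : (d : G)⁻¹ * (g⁻¹ * a * (g⁻¹)⁻¹) * d ∈ (P : Subgroup G) := h3
      simpa [mul_assoc] using h4
    have h5 : g * x = x * g := by
      have e1 : Commute ((d : G)⁻¹ * g⁻¹) x := hMx _ hk
      have e2 : Commute (d : G) x := (hmemCx d).1 d.2
      have e3 : Commute (g⁻¹) x := by
        have := e2.mul_left e1
        rwa [mul_inv_cancel_left] at this
      exact (Commute.inv_left_iff.1 e3).eq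
    rw [h5, mul_inv_cancel_right]
  -- orbits of members
  letI : CommGroup V := { (inferInstance : Group V) with mul_comm := fun a b => Subtype.ext (hab a a.2 b b.2) }
  let φ : G →* MulAut V := MulAut.conjNormal
  have hφ : ∀ g (v : V), ((φ g v : V) : G) = g * v * g⁻¹ := fun g v => MulAut.conjNormal_apply g v
  have hfixiff : ∀ v : V, v ∈ CfsgLib.OrbitProduct.fix φ ↔ ∀ g : G, g * v = v * g := fun v =>
    ⟨fun hv g => mul_inv_eq_iff_eq_mul.1 ((hφ g v).symm.trans (congrArg Subtype.val (hv g))),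
      fun hv g => Subtype.ext ((hφ g v).trans (mul_inv_eq_iff_eq_mul.2 (hv g)))⟩
  have horb : ∀ A ∈ 𝒜, ∀ z : V, (∃ a ∈ A, φ a z ≠ z) →
      ∏ v ∈ CfsgLib.OrbitProduct.orb φ A z, v ∈ CfsgLib.OrbitProduct.fix φ := by
    rintro A ⟨⟨hA, hAC, hVA⟩, hAc⟩ z hmov
    have hcomm : ∀ a ∈ A, ∀ v ∈ V, a * v * a⁻¹ * v⁻¹ ∈ A := fun a ha v hv => by
      have := A.mul_mem ha ((Subgroup.mem_normalizer_iff.1 (hVA hv) _).1 (A.inv_mem ha))
      simpa [mul_assoc] using this
    refine CfsgLib.OrbitProduct.prod_orb_quadratic (p := p) A z (fun a ha b hb => Subtype.ext ?_) hmov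
      ((hfixiff _).2 fun g => by
        rw [Subgroup.coe_pow]; exact Subgroup.mem_center_iff.1 (hVpow z z.2) g) ?_
    · rw [hφ, Subgroup.coe_div, hφ, div_eq_mul_inv]
      exact mul_inv_eq_iff_eq_mul.2 (good_commute hA.2.1 ha (hcomm b hb z z.2))
    by_contra hcon
    push Not at hcon
    obtain ⟨hp2, hlt3⟩ := hcon
    subst hp2
    have hfree : ¬ Cfsg.Involves (Equiv.Perm (Fin 4)) G := h.resolve_left (fun hne => hne rfl)
    set Az := A ⊓ Subgroup.centralizer ({(z : G)} : Set G) with hAz
    have hAzmem : ∀ a, a ∈ A → (a ∈ Az ↔ a * (z : G) = z * a) := fun a ha =>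
      ⟨fun h' => (Subgroup.mem_centralizer_iff.1 h'.2 _ rfl).symm, fun h' => ⟨ha,
        Subgroup.mem_centralizer_iff.2 fun y hy => by rw [Set.mem_singleton_iff.1 hy, h']⟩⟩
    -- two elements in the orbit
    obtain ⟨a₀, ha₀, ha₀z⟩ := hmov
    have hidx : ∀ a ∈ A, a ∈ Az ∨ a₀⁻¹ * a ∈ Az := by
      intro a ha
      by_contra hcon
      push Not at hcon
      have h3 : ({z, φ a₀ z, φ a z} : Finset V) ⊆ CfsgLib.OrbitProduct.orb φ A z := by
        intro v hv
        simp only [Finset.mem_insert, Finset.mem_singleton] at hv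
        rcases hv with rfl | rfl | rfl
        exacts [CfsgLib.OrbitProduct.self_mem_orb A _, CfsgLib.OrbitProduct.mem_orb.2 ⟨a₀, ha₀, rfl⟩,
          CfsgLib.OrbitProduct.mem_orb.2 ⟨a, ha, rfl⟩]
      have h4 := Finset.card_le_card h3
      have hne2 : φ a z ≠ z := fun e => hcon.1 ((hAzmem a ha).2
        (mul_inv_eq_iff_eq_mul.1 ((hφ a z).symm.trans (congrArg Subtype.val e))))
      have hne3 : φ a₀ z ≠ φ a z := fun e => hcon.2 ((hAzmem _ (A.mul_mem (A.inv_mem ha₀) ha)).2
        (mul_inv_eq_iff_eq_mul.1 (by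
          rw [← hφ, map_mul, MulAut.mul_apply, ← e, map_inv, MulAut.inv_apply_self])))
      rw [Finset.card_insert_of_notMem (by simp [Ne.symm ha₀z, Ne.symm hne2]),
        Finset.card_insert_of_notMem (by simp [hne3]), Finset.card_singleton] at h4
      omega
    have hzA : (z : G) ∉ A := fun h' => ha₀z (Subtype.ext (by
      rw [hφ, good_commute hA.2.1 ha₀ h', mul_inv_cancel_right]))
    have hcardA : Nat.card A ≤ 2 * Nat.card Az := by
      let f : A → Az × Fin 2 := fun a =>
        if ha : (a : G) ∈ Az then (⟨a, ha⟩, 0) else (⟨a₀⁻¹ * a, (hidx a a.2).resolve_left ha⟩, 1)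
      have hf : Function.Injective f := by
        intro a b hab'
        simp only [f] at hab'
        split_ifs at hab' with h1 h2 h2
        · exact Subtype.ext (congrArg (fun q : Az × Fin 2 => (q.1 : G)) hab')
        · exact absurd (congrArg Prod.snd hab') (by simp)
        · exact absurd (congrArg Prod.snd hab') (by simp)
        · exact Subtype.ext (mul_left_cancel (congrArg (fun q : Az × Fin 2 => (q.1 : G)) hab'))
      have := Nat.card_le_card_of_injective f hf
      rwa [Nat.card_prod, Nat.card_fin, mul_comm] at this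
    -- the replacement
    have hgz : Good 2 false (Subgroup.zpowers (z : G)) := by
      rw [Subgroup.zpowers_eq_closure]
      exact good_closure (by rintro a rfl b rfl; rfl) (by simp)
    set A' := Az ⊔ Subgroup.zpowers (z : G) with hA'
    have hgA' : Good 2 false A' := good_sup (good_mono inf_le_left hA.2.1) hgz
      (Subgroup.zpowers_le.2 (Subgroup.mem_centralizer_iff.2 fun a ha =>
        (hAzmem a ha.1).1 ha))
    have hA'P : A' ≤ (P : Subgroup G) := sup_le (inf_le_left.trans hA.1) (Subgroup.zpowers_le.2 (hVP z.2))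
    have hzA' : (z : G) ∈ A' := (le_sup_right : _ ≤ A') (Subgroup.mem_zpowers _)
    have hAzlt : Az < A' := lt_of_le_of_ne le_sup_left fun e => hzA (e.ge hzA').1
    have hA'card : Nat.card A ≤ Nat.card A' := by
      obtain ⟨q, hq⟩ := Subgroup.card_dvd_of_le hAzlt.le
      rcases q with _ | _ | q
      · rw [mul_zero] at hq; exact absurd hq Nat.card_pos.ne'
      · exact absurd (Subgroup.eq_of_le_of_card_ge hAzlt.le (by rw [hq]; simp)) hAzlt.ne
      · rw [hq, Nat.mul_comm]; exact hcardA.trans (Nat.mul_le_mul_right _ (by omega))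
    have hA'max : A' ∈ maxGood 2 false (P : Subgroup G) :=
      ⟨hA'P, hgA', fun D hD hDg => (hA.2.2 D hD hDg).trans hA'card⟩
    by_cases hA'C : A' ≤ C
    · -- a transvection
      have hAzC : Az ≤ C := le_sup_left.trans hA'C
      obtain ⟨t, ht, htC⟩ := SetLike.not_le_iff_exists.1 hAC
      refine hfree (involves_S4_of_transvection V hab (P.2.to_le hVP) htC ?_ ?_ ?_)
      · refine hAzC ?_
        rcases hidx t ht with h1 | h1
        · exact absurd (hAzC h1) htC
        rcases hidx (t ^ 2) (A.pow_mem ht 2) with h2 | h2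
        · exact h2
        · exfalso
          refine htC (hAzC ?_)
          have h3 := Az.mul_mem (Az.inv_mem h1) h2
          rw [show (a₀⁻¹ * t)⁻¹ * (a₀⁻¹ * t ^ 2) = t by rw [pow_two]; group] at h3
          exact h3
      · have hgV : Good 2 false V := ⟨⟨⟨fun a b => Subtype.ext (hab a a.2 b b.2)⟩⟩, by simp⟩
        have hsup : Good 2 false (Az ⊔ V) := good_sup (good_mono inf_le_left hA.2.1) hgV
          (fun v hv => Subgroup.mem_centralizer_iff.2 fun a ha =>
            (Subgroup.mem_centralizer_iff.1 (hAzC ha) v hv).symm)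
        have h1 := hA.2.2 _ (sup_le (inf_le_left.trans hA.1) hVP) hsup
        have h2 := card_sup_mul_card_inf_of_le_normalizer (A := Az) (B := V)
          (le_top.trans_eq (Subgroup.normalizer_eq_top _).symm)
        have h3 : Nat.card (Az ⊓ V : Subgroup G) ≤ Nat.card (V ⊓ Subgroup.centralizer ({t} : Set G) : Subgroup G) :=
          Subgroup.card_le_of_le fun v hv => ⟨hv.2, Subgroup.mem_centralizer_iff.2 fun y hy => by
            rw [Set.mem_singleton_iff.1 hy]; exact good_commute hA.2.1 ht hv.1.1⟩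
        have h4 : Nat.card Az * Nat.card V ≤ Nat.card Az * (2 * Nat.card (V ⊓ Subgroup.centralizer ({t} : Set G) : Subgroup G)) := by
          rw [← h2]
          calc _ ≤ (2 * Nat.card Az) * Nat.card (V ⊓ Subgroup.centralizer ({t} : Set G) : Subgroup G) :=
                Nat.mul_le_mul (h1.trans hcardA) h3
            _ = _ := by ring
        exact Nat.le_of_mul_le_mul_left h4 Nat.card_pos
      · -- no normal `2`-subgroup modulo `C`
        intro N hNn hCN hN2 y hy
        obtain ⟨T, hT⟩ : ∃ T : Sylow 2 N, (T : Subgroup N).map N.subtype ≤ (P : Subgroup G) := by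
          obtain ⟨U, hU⟩ := (IsPGroup.of_bot (p := 2) (G := N)).exists_le_sylow
          obtain ⟨T', hT'⟩ := (U.2.map N.subtype).exists_le_sylow
          obtain ⟨g, hg⟩ := MulAction.exists_smul_eq G T' P
          refine ⟨(MulAut.conjNormal g : MulAut N) • U, ?_⟩
          rintro _ ⟨u, ⟨u', hu', rfl⟩, rfl⟩
          rw [← hg, Sylow.coe_subgroup_smul]
          exact ⟨u', hT' ⟨u', hu', rfl⟩, (MulAut.conjNormal_apply g u').symm⟩
        have hC'n : (C.subgroupOf N).Normal := inferInstance
        have hNT : (T : Subgroup N) ⊔ C.subgroupOf N = ⊤ := by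
          have hq : IsPGroup 2 (N ⧸ C.subgroupOf N) := fun q => by
            obtain ⟨a, rfl⟩ := QuotientGroup.mk'_surjective _ q
            obtain ⟨k, hk⟩ := hN2 a a.2
            exact ⟨k, by rw [← map_pow]; exact (QuotientGroup.eq_one_iff _).2 hk⟩
          have h1 := T.mapSurjective (QuotientGroup.mk'_surjective (C.subgroupOf N))
          have h2 : ((T.mapSurjective (QuotientGroup.mk'_surjective (C.subgroupOf N))) : Subgroup (N ⧸ C.subgroupOf N)) = ⊤ :=
            ((T.mapSurjective (QuotientGroup.mk'_surjective (C.subgroupOf N))).3 (hq.to_subgroup ⊤) le_top).symm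
          rw [Sylow.coe_mapSurjective] at h2
          rw [← QuotientGroup.ker_mk' (C.subgroupOf N), ← Subgroup.comap_map_eq, h2, Subgroup.comap_top]
        refine Subgroup.mem_centralizer_iff.2 ?_
        have key : ∀ m ∈ N, m * x = x * m := fun m hm => by
          have h1 : (⟨m, hm⟩ : N) ∈ (((T : Subgroup N) ⊔ C.subgroupOf N : Subgroup N) : Set N) := by
            rw [hNT]; trivial
          rw [Subgroup.mul_normal] at h1
          obtain ⟨u, hu, c, hc', huc⟩ := h1
          rw [show m = (u : G) * c from (congrArg Subtype.val huc).symm]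
          exact ((show Commute (u : G) x from hxP _ (hT ⟨u, hu, rfl⟩)).mul_left
            (show Commute (c : G) x from hCx _ hc')).eq
        intro v hv
        have hle : V ≤ Subgroup.centralizer (N : Set G) := Subgroup.normalClosure_le_normal (by
          intro w hw
          rw [Set.mem_singleton_iff.1 hw]
          exact Subgroup.mem_centralizer_iff.2 key)
        exact (Subgroup.mem_centralizer_iff.1 (hle hv) y hy).symm
    · -- a member with larger part in `C`
      have hVA' : V ≤ Subgroup.normalizer (A' : Set G) := by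
        intro v hv
        refine Subgroup.mem_normalizer_fintype fun y hy => ?_
        have hsub : A' ≤ A'.comap (MulAut.conj v).toMonoidHom := by
          refine sup_le (fun a ha => ?_) (Subgroup.zpowers_le.2 ?_)
          · show v * a * v⁻¹ ∈ A'
            set c := v * a * v⁻¹ * a⁻¹ with hcdef
            have hcA : c ∈ A := A.mul_mem ((Subgroup.mem_normalizer_iff.1 (hVA hv) a).1 ha.1) (A.inv_mem ha.1)
            have hcV : c ∈ V := by
              have := V.mul_mem hv (hVn.conj_mem _ (V.inv_mem hv) a)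
              simpa [hcdef, mul_assoc] using this
            have hcA' : c ∈ A' := (le_sup_left : Az ≤ A') ((hAzmem c hcA).2 (hab c hcV z z.2) )
            have := A'.mul_mem hcA' ((le_sup_left : Az ≤ A') ha)
            simpa [hcdef, mul_assoc] using this
          · show v * (z : G) * v⁻¹ ∈ A'
            rw [hab v hv z z.2, mul_inv_cancel_right]
            exact hzA'
        exact hsub hy
      have h1 := hA₁max A' ⟨hA'max, hA'C, hVA'⟩
      have h2 : A ⊓ C < A' ⊓ C := by
        refine lt_of_le_of_ne (fun a ha => ⟨(le_sup_left : Az ≤ A') ((hAzmem a ha.1).2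
          (Subgroup.mem_centralizer_iff.1 ha.2 z z.2).symm), ha.2⟩) fun e => hzA (e.ge ⟨hzA', ?_⟩).1
        exact Subgroup.mem_centralizer_iff.2 fun v hv => hab v hv z z.2
      have h3 : Nat.card (A ⊓ C : Subgroup G) < Nat.card (A' ⊓ C : Subgroup G) :=
        lt_of_le_of_ne (Subgroup.card_le_of_le h2.le) fun e => h2.ne (Subgroup.eq_of_le_of_card_ge h2.le e.ge)
      rw [hAc] at h3
      exact absurd h1 (not_le.2 h3)
  -- summing over the conjugates
  set Ω : Set V := {z | ∃ g : G, g * x * g⁻¹ = z} with hΩ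
  have hΩinv : ∀ g : G, ∀ z ∈ Ω, φ g z ∈ Ω := by
    rintro g z ⟨k, hk⟩
    refine ⟨g * k, ?_⟩
    rw [hφ, ← hk]; group
  set T := (Set.toFinite Ω).toFinset with hTdef
  set x' : V := ⟨x, hxV⟩ with hx'
  have hxT : x' ∈ T := by rw [hTdef, Set.Finite.mem_toFinset]; exact ⟨1, by simp [hx']⟩
  have htot : ∏ v ∈ T, v ∈ CfsgLib.OrbitProduct.fix φ := by
    intro g
    rw [map_prod]
    exact Finset.prod_bij (fun v _ => φ g v)
      (fun v hv => by rw [hTdef, Set.Finite.mem_toFinset] at hv ⊢; exact hΩinv g v hv)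
      (fun a _ b _ e => (φ g).injective e)
      (fun v hv => ⟨φ g⁻¹ v, by rw [hTdef, Set.Finite.mem_toFinset] at hv ⊢; exact hΩinv _ v hv, by
        rw [← MulAut.mul_apply, ← map_mul, mul_inv_cancel, map_one]; rfl⟩)
      (fun v _ => rfl)
  have hrest : ∏ v ∈ T.erase x', v ∈ CfsgLib.OrbitProduct.fix φ := by
    have hPfix : ∀ t ∈ (P : Subgroup G), φ t x' = x' := fun t ht => Subtype.ext (by
      rw [hφ]; exact mul_inv_eq_iff_eq_mul.2 (hxP t ht))
    refine CfsgLib.OrbitProduct.prod_mem_of_orbits (P : Subgroup G) _ (fun a ha v hv => ?_) fun v hv => ?_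
    · rw [Finset.mem_erase, hTdef, Set.Finite.mem_toFinset] at hv ⊢
      exact ⟨fun e => hv.1 ((φ a).injective (e.trans (hPfix a ha).symm)), hΩinv a v hv.2⟩
    · rw [Finset.mem_erase, hTdef, Set.Finite.mem_toFinset] at hv
      refine CfsgLib.OrbitProduct.prod_orb_mem (p := p) P.2 𝒜 Ω hΩinv (fun A hA z _ => horb A hA z) _ le_rfl v hv.2 ?_
      by_contra hcon
      obtain ⟨g, hg⟩ := hv.2
      refine hv.1 (Subtype.ext (hg.symm.trans (hfixed g fun A hA a ha => ?_)))
      rw [hg]
      by_contra hne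
      exact hcon ⟨A, hA, hA.1.1.1, a, ha, fun e => hne
        (mul_inv_eq_iff_eq_mul.1 ((hφ a v).symm.trans (congrArg Subtype.val e)))⟩
  rw [← Finset.mul_prod_erase T _ hxT] at htot
  have hfx : x' ∈ CfsgLib.OrbitProduct.fix φ := by
    have := (CfsgLib.OrbitProduct.fix φ).mul_mem htot ((CfsgLib.OrbitProduct.fix φ).inv_mem hrest)
    rwa [mul_inv_cancel_right] at this
  exact (hfixiff x').1 hfx a₀

end CfsgLib.Fusion
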