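import Cfsg.Agent.Fusion.GoodExtension

/-!
Good extensions climb from a centric subgroup to its normalizer.
-/

set_option autoImplicit false
set_option linter.style.haveILetI false

open Cfsg

namespace CfsgLib.Fusion

open Cfsg.FusionSystem

variable {Ω : Type*} [Group Ω] {S T : Subgroup Ω} {F : Cfsg.FusionSystem S} {E : Cfsg.FusionSystem T}
variable {R : Subgroup Ω} {p : ℕ} [Fact p.Prime] [Finite S]

/-- An automorphism of `T`, good on a centric subgroup, has a good partner on the normalizer. -/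
theorem exists_good_extension (hS : IsPGroup p S) (hF : F.IsSaturated p) (hE : E.IsInvariantIn F)
    (hR : E.IsCentric R) {b : MulAut T}
    (hgood : (T.subtype.comp b.toMonoidHom).comp (Subgroup.inclusion hR.1) ∈ (goodSystem hE).Hom R) :
    ∃ e ∈ (goodSystem hE).Hom (normalizerIn T R), ∀ (x : R) (hx : (x : Ω) ∈ normalizerIn T R),
      e ⟨x, hx⟩ = ((b ⟨x, hR.1 x.2⟩ : T) : Ω) := by
  have hTS : T ≤ S := hE.2.1.1
  obtain ⟨hθF, -, hθ'⟩ := hgood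
  obtain ⟨ψ, hψ, hag, hC⟩ := hθ' hR
  set θ := (T.subtype.comp b.toMonoidHom).comp (Subgroup.inclusion hR.1)
  obtain ⟨R', hR'⟩ : ∃ R', R' = θ.range := ⟨_, rfl⟩
  obtain ⟨C, hCdef⟩ : ∃ C, C = centralizerIn S T := ⟨_, rfl⟩
  have hR'c : E.IsCentric R' := hR' ▸ isCentric_of_fconj hE hR hθF
  have hCcomm : ∀ c ∈ C, ∀ t ∈ T, t * c = c * t := fun c hc t ht =>
    Subgroup.mem_centralizer_iff.1 (hCdef ▸ hc : c ∈ centralizerIn S T).2 t ht
  have hCN : ∀ {U : Subgroup Ω}, U ≤ T → C ≤ Subgroup.normalizer (U : Set Ω) := fun {U} hU c hc =>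
    Subgroup.mem_normalizer_iff.2 fun u => by
      constructor
      · intro hu
        rwa [show c * u * c⁻¹ = u by rw [← hCcomm c hc u (hU hu), mul_inv_cancel_right]]
      · intro hu
        have h1 := hCcomm c hc _ (hU hu)
        have h2 : c * u * c⁻¹ = u := mul_left_cancel (a := c) (by rw [← h1]; group)
        rwa [h2] at hu
  have hCS : C ≤ S := hCdef ▸ inf_le_left
  -- `ψ` maps `R C` onto `R' C`
  have hψr : ψ.range = R' ⊔ C := by
    rw [hCdef, hR']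
    refine le_antisymm ?_ (sup_le ?_ fun c hcc => ?_)
    · rintro _ ⟨x, rfl⟩
      exact goodExt_values hE hθF hR hag hC (Q := θ.range) (fun y => ⟨y, rfl⟩) x
    · rintro _ ⟨x, rfl⟩
      exact ⟨_, hag x⟩
    · obtain ⟨y, hy⟩ := centralizer_range_le hE hθF hR (hC c hcc)
      refine ⟨⟨c, Subgroup.mem_sup_right hcc⟩ * ⟨(y : Ω)⁻¹, Subgroup.mem_sup_left (R.inv_mem y.2)⟩, ?_⟩
      rw [map_mul, show ψ ⟨(y : Ω)⁻¹, Subgroup.mem_sup_left (R.inv_mem y.2)⟩ = θ y⁻¹ from hag y⁻¹, map_inv, hy,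
        mul_inv_rev, inv_inv, ← mul_assoc, mul_inv_cancel, one_mul]
  have hRC : R ⊔ centralizerIn S T = R ⊔ C := by rw [hCdef]
  obtain ⟨η, hηF, hηag, hηC⟩ : ∃ η : ↥(R ⊔ C) ≃* ↥(R' ⊔ C), IsoIn F η ∧
      (∀ x : R, ((η ⟨x, Subgroup.mem_sup_left x.2⟩ : ↥(R' ⊔ C)) : Ω) = θ x) ∧
      ∀ (c : Ω) (hc : c ∈ C), c⁻¹ * ((η ⟨c, Subgroup.mem_sup_right hc⟩ : ↥(R' ⊔ C)) : Ω) ∈ centralizerIn T R' := by
    subst hCdef hR'
    exact ⟨isoOfHom (F.injective_of_mem hψ) hψr, isoIn_isoOfHom hψ hψr, fun x => hag x, fun c hc => hC c hc⟩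
  have hR'T : R' ≤ T := hR'c.1
  obtain ⟨D', hD'⟩ : ∃ D', D' = R' ⊔ C := ⟨_, rfl⟩
  have hD'S : D' ≤ S := hD' ▸ sup_le (hR'T.trans hTS) hCS
  have hR'D : R' ≤ D' := hD' ▸ le_sup_left
  obtain ⟨M, hMdef⟩ : ∃ M, M = normalizerIn S R' ⊓ Subgroup.normalizer (D' : Set Ω) := ⟨_, rfl⟩
  have hD'M : D' ≤ M := by
    rw [hMdef]
    refine le_inf (le_inf hD'S ?_) Subgroup.le_normalizer
    rw [hD']
    exact sup_le Subgroup.le_normalizer (hCN hR'T)
  -- `b g` normalizes `D'`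
  have hbN : ∀ g (hg : g ∈ normalizerIn T R), ((b ⟨g, hg.1⟩ : T) : Ω) ∈ M := by
    intro g hg
    have hbR : ∀ y, y ∈ R' → ∀ s : T, (s : Ω) ∈ Subgroup.normalizer (R : Set Ω) →
        ((b s : T) : Ω) * y * ((b s : T) : Ω)⁻¹ ∈ R' := by
      intro y hy s hs
      rw [hR'] at hy ⊢
      obtain ⟨x, rfl⟩ := hy
      refine ⟨⟨s * x * (s : Ω)⁻¹, conj_mem_of_normalizer hs x.2⟩, ?_⟩
      show ((b ⟨(s : Ω) * x * (s : Ω)⁻¹, _⟩ : T) : Ω) = _
      rw [show (⟨(s : Ω) * x * (s : Ω)⁻¹, hR.1 (conj_mem_of_normalizer hs x.2)⟩ : T) = s * ⟨x, hR.1 x.2⟩ * s⁻¹ from rfl,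
        map_mul, map_mul, map_inv]
      rfl
    have hn : ((b ⟨g, hg.1⟩ : T) : Ω) ∈ Subgroup.normalizer (R' : Set Ω) := by
      refine Subgroup.mem_normalizer_iff.2 fun y => ⟨fun hy => hbR y hy _ hg.2, fun hy => ?_⟩
      have h1 := hbR _ hy (⟨g, hg.1⟩⁻¹) (inv_mem hg.2)
      rw [map_inv, Subgroup.coe_inv] at h1
      simpa [mul_assoc] using h1
    rw [hMdef, hD']
    refine ⟨⟨hTS (b _).2, hn⟩, ?_⟩
    have hnC : ((b ⟨g, hg.1⟩ : T) : Ω) ∈ Subgroup.normalizer (C : Set Ω) := by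
      refine Subgroup.mem_normalizer_iff.2 fun y => ?_
      constructor
      · intro hy
        rwa [hCcomm y hy _ (b _).2, mul_inv_cancel_right]
      · intro hy
        have h1 := hCcomm _ hy _ (T.inv_mem (b ⟨g, hg.1⟩).2)
        have h2 : ((b ⟨g, hg.1⟩ : T) : Ω) * y * ((b ⟨g, hg.1⟩ : T) : Ω)⁻¹ = y := by
          have h3 := congrArg (fun z => z * ((b ⟨g, hg.1⟩ : T) : Ω)) h1
          simp only [mul_assoc, inv_mul_cancel, mul_one, inv_mul_cancel_left] at h3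
          rw [mul_assoc]
          exact h3.symm
        rwa [h2] at hy
    refine Subgroup.mem_normalizer_iff.2 fun y => ?_
    have hmap : (R' ⊔ C).map (MulAut.conj ((b ⟨g, hg.1⟩ : T) : Ω)).toMonoidHom = R' ⊔ C := by
      rw [Subgroup.map_sup]
      congr 1
      · exact (Subgroup.mem_normalizer_iff_map_conj_eq.1 hn)
      · exact (Subgroup.mem_normalizer_iff_map_conj_eq.1 hnC)
    exact Subgroup.mem_normalizer_iff.1 (Subgroup.mem_normalizer_iff_map_conj_eq.2 hmap) y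
  subst hD'
  obtain ⟨D₀, Q₀, ε, ε', e₁, e₂, hfa, hrec, hQ₀D, hε, -, -, -, he₁v, -, hiff, -, V, hV⟩ :=
    exists_common_step hS (hF _ hD'S) (IsoIn.refl (F := F) hD'S) hR'D hR'D hD'M hD'M hMdef.le hMdef.le (fun x => Iff.rfl)
  have hD₀S := hfa.1
  haveI := finite_mulAut hD₀S
  have hQ₀c : E.IsCentric Q₀ := by
    have h1 : e₁.toMonoidHom.range = ⊤ := MonoidHom.range_eq_top.2 e₁.surjective
    have hiso : IsoIn F e₁ := by
      obtain ⟨hDM, ψε, hψε, -, hagε⟩ := hε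
      exact restrict_of_eq hψε (hR'D.trans hDM) fun x => ((hagε ⟨x, hR'D x.2⟩).trans (he₁v x).symm).symm
    have := isCentric_of_fconj hE hR'c hiso
    rwa [IsoIn.range_eq e₁] at this
  obtain ⟨hDM, ψε, hψε, hvε, hagε⟩ := id hε
  let H : Subgroup (MulAut D₀) := stabilizerIn (F.autGroup D₀) Q₀
  -- the automorphisms trivial on `Q₀` and modulo `Q₀`
  let Δ₀ : Subgroup H :=
    { carrier := {d | (∀ x : D₀, (x : Ω) ∈ Q₀ → (d : MulAut D₀) x = x) ∧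
        ∀ x : D₀, (x : Ω)⁻¹ * (((d : MulAut D₀) x : D₀) : Ω) ∈ Q₀}
      one_mem' := ⟨fun x _ => rfl, fun x => by simp⟩
      mul_mem' := fun {d d'} hd hd' => ⟨fun x hx => by
          show (d : MulAut D₀) ((d' : MulAut D₀) x) = x
          rw [hd'.1 x hx, hd.1 x hx], fun x => by
          show (x : Ω)⁻¹ * (((d : MulAut D₀) ((d' : MulAut D₀) x) : D₀) : Ω) ∈ Q₀
          have := mul_mem (hd'.2 x) (hd.2 ((d' : MulAut D₀) x))
          rwa [mul_assoc, mul_inv_cancel_left] at this⟩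
      inv_mem' := fun {d} hd => ⟨fun x hx => by
          show (d : MulAut D₀)⁻¹ x = x
          conv_lhs => rw [← hd.1 x hx]
          exact MulAut.inv_apply_self _ _ x, fun x => by
          show (x : Ω)⁻¹ * (((d : MulAut D₀)⁻¹ x : D₀) : Ω) ∈ Q₀
          obtain ⟨z, rfl⟩ := (d : MulAut D₀).surjective x
          rw [MulAut.inv_apply_self]
          have := inv_mem (hd.2 z)
          rwa [mul_inv_rev, inv_inv] at this⟩ }
  have hΔn : Δ₀.Normal := by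
    refine ⟨fun d hd a => ⟨fun x hx => ?_, fun x => ?_⟩⟩
    · show (a : MulAut D₀) ((d : MulAut D₀) ((a : MulAut D₀)⁻¹ x)) = x
      rw [hd.1 ((a : MulAut D₀)⁻¹ x) (((a⁻¹).2.2 x).1 hx), MulAut.apply_inv_self]
    · show (x : Ω)⁻¹ * (((a : MulAut D₀) ((d : MulAut D₀) ((a : MulAut D₀)⁻¹ x)) : D₀) : Ω) ∈ Q₀
      obtain ⟨z, rfl⟩ := (a : MulAut D₀).surjective x
      rw [MulAut.inv_apply_self]
      have h1 := (a.2.2 (z⁻¹ * (d : MulAut D₀) z)).1 (hd.2 z)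
      rw [map_mul, map_inv] at h1
      exact h1
  have hΔp : IsPGroup p Δ₀ := by
    haveI := finite_of_le (hQ₀D.trans hD₀S)
    obtain ⟨k, hk⟩ := IsPGroup.iff_card.1 (hS.to_le (hQ₀D.trans hD₀S))
    rintro ⟨d, hd⟩
    refine ⟨k, Subtype.ext (Subtype.ext (MulEquiv.ext fun x => Subtype.ext ?_))⟩
    have hu : ∀ n : ℕ, ((((d : MulAut D₀) ^ n) x : D₀) : Ω) = x * ((x : Ω)⁻¹ * (((d : MulAut D₀) x : D₀) : Ω)) ^ n := by
      intro n
      induction n with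
      | zero => simp
      | succ n ih =>
        have h2 : ∀ y : D₀, (y : Ω) = x * ((x : Ω)⁻¹ * (((d : MulAut D₀) x : D₀) : Ω)) ^ n →
            ((((d : MulAut D₀) y) : D₀) : Ω) = x * ((x : Ω)⁻¹ * (((d : MulAut D₀) x : D₀) : Ω)) ^ (n + 1) := by
          intro y hy
          have hy' : y = x * ⟨_, hQ₀D (Q₀.pow_mem (hd.2 x) n)⟩ := Subtype.ext hy
          rw [hy', map_mul, hd.1 ⟨_, hQ₀D (Q₀.pow_mem (hd.2 x) n)⟩ (Q₀.pow_mem (hd.2 x) n), Subgroup.coe_mul,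
            pow_succ', ← mul_assoc (x : Ω), mul_inv_cancel_left]
        rw [pow_succ', MulAut.mul_apply]
        exact h2 _ ih
    rw [Subgroup.coe_pow, Subgroup.coe_pow, hu, ← hk,
      show ((x : Ω)⁻¹ * (((d : MulAut D₀) x : D₀) : Ω)) ^ Nat.card Q₀ = 1 from
        congrArg Subtype.val (pow_card_eq_one' (x := (⟨_, hd.2 x⟩ : Q₀))), mul_one]
    rfl
  have hΔV : Δ₀ ≤ (V : Subgroup H) := by
    have hsup : IsPGroup p (Δ₀ ⊔ (V : Subgroup H) : Subgroup H) := hΔp.to_sup_of_normal_left V.isPGroup'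
    exact (V.is_maximal' hsup le_sup_right) ▸ le_sup_left
  -- the extension
  set N := normalizerIn T R with hN
  have hRN : R ≤ N := le_inf hR.1 Subgroup.le_normalizer
  have hNC : N ⊔ C ≤ normalizerIn S (R ⊔ C) := by
    refine sup_le (fun g hg => ⟨hTS hg.1, ?_⟩) (le_inf hCS (le_sup_right.trans Subgroup.le_normalizer))
    have hgC : g ∈ Subgroup.normalizer (C : Set Ω) := by
      refine Subgroup.mem_normalizer_iff.2 fun y => ?_
      constructor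
      · intro hy
        rwa [hCcomm y hy _ hg.1, mul_inv_cancel_right]
      · intro hy
        have h1 := hCcomm _ hy _ (T.inv_mem hg.1)
        have h2 : g * y * g⁻¹ = y := by
          have h3 := congrArg (fun z => z * g) h1
          simp only [mul_assoc, inv_mul_cancel, mul_one, inv_mul_cancel_left] at h3
          rw [mul_assoc]
          exact h3.symm
        rwa [h2] at hy
    refine Subgroup.mem_normalizer_iff_map_conj_eq.2 ?_
    rw [Subgroup.map_sup, Subgroup.mem_normalizer_iff_map_conj_eq.1 hg.2, Subgroup.mem_normalizer_iff_map_conj_eq.1 hgC]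
  have hε₁ : IsoIn F (η.trans ε) := hηF.trans hε.isoIn
  have hconjN : ∀ g (hg : g ∈ N), MulAut.congr (η.trans ε) (conjAut (R ⊔ C) S ⟨g, hNC (Subgroup.mem_sup_left hg)⟩) ∈
      autInducedBy S D₀ := by
    intro g hg
    have hbM := hbN g hg
    have hMN : ∀ m ∈ M, m ∈ normalizerIn S (R' ⊔ C) := fun m hm => by
      have := hMdef.le hm
      exact ⟨this.1.1, this.2⟩
    set c₁ := conjAut (R' ⊔ C) S ⟨_, hMN _ hbM⟩ with hc₁
    set c₂ := MulAut.congr η (conjAut (R ⊔ C) S ⟨g, hNC (Subgroup.mem_sup_left hg)⟩) with hc₂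
    set δ := c₁⁻¹ * c₂ with hδ
    have hδF : δ ∈ F.autGroup (R' ⊔ C) :=
      mul_mem (inv_mem (autInducedBy_le_autGroup hD'S ((range_conjAut (P := R' ⊔ C) S).le ⟨_, rfl⟩)))
        (hηF.congr_mem (autInducedBy_le_autGroup hηF.le_left ((range_conjAut (P := R ⊔ C) S).le ⟨_, rfl⟩)))
    -- `δ` fixes `R'`
    have hδR : ∀ y : ↥(R' ⊔ C), (y : Ω) ∈ R' → δ y = y := by
      intro y hy
      rw [hδ, MulAut.mul_apply]
      refine c₁.injective ?_
      rw [MulAut.apply_inv_self]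
      obtain ⟨x, hx⟩ := hR'.le hy
      have hy' : y = η ⟨x, Subgroup.mem_sup_left x.2⟩ := Subtype.ext ((hx.symm).trans (hηag x).symm)
      refine Subtype.ext ?_
      rw [hy', hc₂]
      show ((η (conjAut (R ⊔ C) S ⟨g, _⟩ (η.symm (η ⟨(x : Ω), _⟩))) : ↥(R' ⊔ C)) : Ω) = _
      rw [η.symm_apply_apply]
      have hgx : g * (x : Ω) * g⁻¹ ∈ R := conj_mem_of_normalizer hg.2 x.2
      refine Eq.trans (congrArg (fun z => ((η z : ↥(R' ⊔ C)) : Ω))
        (Subtype.ext rfl : _ = ⟨g * (x : Ω) * g⁻¹, Subgroup.mem_sup_left hgx⟩)) ?_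
      rw [hηag ⟨_, hgx⟩, hc₁, conjAut_apply, hηag]
      show ((b ⟨g * (x : Ω) * g⁻¹, _⟩ : T) : Ω) = _
      rw [show (⟨g * (x : Ω) * g⁻¹, hR.1 hgx⟩ : T) = ⟨g, hg.1⟩ * ⟨x, hR.1 x.2⟩ * ⟨g, hg.1⟩⁻¹ from rfl,
        map_mul, map_mul, map_inv]
      rfl
    -- and is trivial modulo `R'`
    have hδm : ∀ y : ↥(R' ⊔ C), (y : Ω)⁻¹ * ((δ y : ↥(R' ⊔ C)) : Ω) ∈ R' := by
      have hn : R' ⊔ C ≤ Subgroup.normalizer (R' : Set Ω) := sup_le Subgroup.le_normalizer (hCN hR'T)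
      let L : Subgroup ↥(R' ⊔ C) :=
        { carrier := {y | (y : Ω)⁻¹ * ((δ y : ↥(R' ⊔ C)) : Ω) ∈ R'}
          one_mem' := by simp
          mul_mem' := fun {y z} hy hz => by
            show ((y * z : ↥(R' ⊔ C)) : Ω)⁻¹ * ((δ (y * z) : ↥(R' ⊔ C)) : Ω) ∈ R'
            rw [map_mul, Subgroup.coe_mul, Subgroup.coe_mul]
            have h1 := conj_inv_mem_of_normalizer (hn z.2) hy
            have := mul_mem h1 hz
            simpa [mul_assoc] using this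
          inv_mem' := fun {y} hy => by
            show ((y⁻¹ : ↥(R' ⊔ C)) : Ω)⁻¹ * ((δ y⁻¹ : ↥(R' ⊔ C)) : Ω) ∈ R'
            rw [map_inv, Subgroup.coe_inv, Subgroup.coe_inv, inv_inv]
            have h1 := conj_mem_of_normalizer (hn y.2) (inv_mem hy)
            simpa [mul_assoc] using h1 }
      have hCL : ∀ c (hc : c ∈ C), η ⟨c, Subgroup.mem_sup_right hc⟩ ∈ L := by
        intro c hc
        have h2 : c₂ (η ⟨c, Subgroup.mem_sup_right hc⟩) = η ⟨c, Subgroup.mem_sup_right hc⟩ := by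
          rw [hc₂]
          show η (conjAut (R ⊔ C) S ⟨g, _⟩ (η.symm (η ⟨c, _⟩))) = _
          rw [η.symm_apply_apply]
          refine congrArg η (Subtype.ext ?_)
          show g * c * g⁻¹ = c
          rw [hCcomm c hc g hg.1, mul_inv_cancel_right]
        show _⁻¹ * ((δ _ : ↥(R' ⊔ C)) : Ω) ∈ R'
        rw [hδ, MulAut.mul_apply, h2]
        obtain ⟨z, hz⟩ : ∃ z, z = c⁻¹ * ((η ⟨c, Subgroup.mem_sup_right hc⟩ : ↥(R' ⊔ C)) : Ω) := ⟨_, rfl⟩
        have hzR : z ∈ R' := hR'c.2 R' (IsConj.refl hR'T) (hz ▸ hηC c hc)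
        have hηv : ((η ⟨c, Subgroup.mem_sup_right hc⟩ : ↥(R' ⊔ C)) : Ω) = c * z := by rw [hz, mul_inv_cancel_left]
        have hv : ((c₁⁻¹ (η ⟨c, Subgroup.mem_sup_right hc⟩) : ↥(R' ⊔ C)) : Ω) =
            ((b ⟨g, hg.1⟩ : T) : Ω)⁻¹ * (c * z) * ((b ⟨g, hg.1⟩ : T) : Ω) := by
          rw [← hηv]
          rfl
        rw [hv, hηv]
        have h3 := conj_inv_mem_of_normalizer (hMdef.le hbM).1.2 hzR
        have h4 : (c * z)⁻¹ * (((b ⟨g, hg.1⟩ : T) : Ω)⁻¹ * (c * z) * ((b ⟨g, hg.1⟩ : T) : Ω)) =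
            z⁻¹ * (((b ⟨g, hg.1⟩ : T) : Ω)⁻¹ * z * ((b ⟨g, hg.1⟩ : T) : Ω)) := by
          have h5 := hCcomm c hc _ (T.inv_mem (b ⟨g, hg.1⟩).2)
          rw [← mul_assoc ((b ⟨g, hg.1⟩ : T) : Ω)⁻¹ c z, h5]
          simp [mul_assoc]
        rw [h4]
        exact mul_mem (inv_mem hzR) h3
      have hRL : ∀ y : ↥(R' ⊔ C), (y : Ω) ∈ R' → y ∈ L := fun y hy => by
        show (y : Ω)⁻¹ * _ ∈ R'
        rw [hδR y hy, inv_mul_cancel]
        exact one_mem _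
      intro y
      obtain ⟨x, hx⟩ := η.surjective y
      have hle : R ⊔ C ≤ (L.comap η.toMonoidHom).map (R ⊔ C).subtype := by
        refine sup_le (fun r hr => ⟨⟨r, Subgroup.mem_sup_left hr⟩, hRL _ ?_, rfl⟩)
          (fun c hc => ⟨⟨c, Subgroup.mem_sup_right hc⟩, hCL c hc, rfl⟩)
        show ((η ⟨r, _⟩ : ↥(R' ⊔ C)) : Ω) ∈ R'
        rw [hηag ⟨r, hr⟩, hR']
        exact ⟨_, rfl⟩
      obtain ⟨w, hw, e⟩ := hle x.2
      obtain rfl : w = x := Subtype.ext e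
      exact hx ▸ hw
    -- transported to `D₀`
    have hd₀ : MulAut.congr ε δ ∈ H := by
      refine ⟨hε.isoIn.congr_mem hδF, fun z => ?_⟩
      obtain ⟨y, rfl⟩ := ε.surjective z
      show _ ↔ ((ε (δ (ε.symm (ε y))) : D₀) : Ω) ∈ Q₀
      rw [ε.symm_apply_apply, ← hiff, ← hiff]
      constructor
      · intro h; rwa [hδR y h]
      · intro h
        have h1 := δ.injective (hδR _ h)
        rwa [h1] at h
    have hdΔ : (⟨_, hd₀⟩ : H) ∈ Δ₀ := by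
      refine ⟨fun z hz => ?_, fun z => ?_⟩
      · obtain ⟨y, rfl⟩ := ε.surjective z
        show ε (δ (ε.symm (ε y))) = ε y
        rw [ε.symm_apply_apply, hδR y ((hiff y).2 hz)]
      · obtain ⟨y, rfl⟩ := ε.surjective z
        show ((ε y : D₀) : Ω)⁻¹ * ((ε (δ (ε.symm (ε y))) : D₀) : Ω) ∈ Q₀
        rw [ε.symm_apply_apply, ← Subgroup.coe_inv, ← Subgroup.coe_mul, ← map_inv, ← map_mul, ← hiff]
        exact hδm y
    have h1 : MulAut.congr ε c₁ ∈ autInducedBy S D₀ := by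
      have h3 := hε.map_autInducedBy ⟨c₁, mem_autInducedBy.2 ⟨_, hbM, fun y => rfl⟩, rfl⟩
      obtain ⟨k, hk, hkx⟩ := mem_autInducedBy.1 h3
      exact mem_autInducedBy.2 ⟨k, hk.1, hkx⟩
    have h2 : MulAut.congr ε δ ∈ autInducedBy S D₀ := hV ⟨_, hΔV hdΔ, rfl⟩
    have h3 : MulAut.congr (η.trans ε) (conjAut (R ⊔ C) S ⟨g, hNC (Subgroup.mem_sup_left hg)⟩) =
        MulAut.congr ε (c₁ * δ) := by
      rw [hδ, mul_inv_cancel_left, hc₂]
      ext x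
      simp
    rw [h3, map_mul]
    exact mul_mem h1 h2
  have hext : ExtTo F (η.trans ε) (N ⊔ C) (normalizerIn S D₀) := by
    refine extTo_of_receptive hrec hε₁ (sup_le_sup_right hRN C) hNC ?_
    rintro _ ⟨a, ha, rfl⟩
    let G : Subgroup (normalizerIn S (R ⊔ C)) :=
      ((autInducedBy S D₀).comap (MulAut.congr (η.trans ε)).toMonoidHom).comap (conjAut (R ⊔ C) S)
    have hG : N ⊔ C ≤ G.map (normalizerIn S (R ⊔ C)).subtype := by
      refine sup_le (fun g hg => ⟨⟨g, hNC (Subgroup.mem_sup_left hg)⟩, hconjN g hg, rfl⟩)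
        (fun c hc => ⟨⟨c, hNC (Subgroup.mem_sup_right hc)⟩, ?_, rfl⟩)
      refine mem_autInducedBy.2 ⟨((η.trans ε) ⟨c, Subgroup.mem_sup_right hc⟩ : D₀),
        hD₀S ((η.trans ε) ⟨c, Subgroup.mem_sup_right hc⟩).2, fun z => ?_⟩
      obtain ⟨y, rfl⟩ := (η.trans ε).surjective z
      show (((η.trans ε) (conjAut (R ⊔ C) S ⟨c, _⟩ ((η.trans ε).symm ((η.trans ε) y))) : D₀) : Ω) = _
      rw [MulEquiv.symm_apply_apply, show conjAut (R ⊔ C) S ⟨c, hNC (Subgroup.mem_sup_right hc)⟩ y =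
        ⟨c, Subgroup.mem_sup_right hc⟩ * y * ⟨c, Subgroup.mem_sup_right hc⟩⁻¹ from Subtype.ext rfl,
        map_mul, map_mul, map_inv]
      rfl
    obtain ⟨g, hg, hga⟩ := mem_autInducedBy.1 ha
    obtain ⟨⟨g', hg'⟩, hgG, rfl⟩ := hG hg
    rw [show a = conjAut (R ⊔ C) S ⟨g', hg'⟩ from MulEquiv.ext fun y => Subtype.ext (hga y)]
    exact hgG
  obtain ⟨hRCN, χ, hχ, -, hχag⟩ := hext
  -- the image lies in the image of `M`
  have hMS : M ≤ S := le_of_hom hψε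
  have hχv : ∀ z, χ z ∈ ψε.range := by
    intro z
    have hle : N ⊔ C ≤ (ψε.range.comap χ).map (N ⊔ C).subtype := by
      refine sup_le (fun g hg => ⟨⟨g, Subgroup.mem_sup_left hg⟩, ?_, rfl⟩)
        (fun c hc => ⟨⟨c, Subgroup.mem_sup_right hc⟩, ?_, rfl⟩)
      · show χ ⟨g, Subgroup.mem_sup_left hg⟩ ∈ ψε.range
        set y := ψε ⟨_, hbN g hg⟩ with hy
        have hyT : y ∈ T := hE.2.1.2 (M ⊓ T) inf_le_right _ (restrict hψε inf_le_left) ⟨_, hbN g hg, (b _).2⟩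
        have hgT : χ ⟨g, Subgroup.mem_sup_left hg⟩ ∈ T :=
          hE.2.1.2 N inf_le_left _ (restrict hχ le_sup_left) ⟨g, hg⟩
        have hz : y⁻¹ * χ ⟨g, Subgroup.mem_sup_left hg⟩ ∈ centralizerIn T Q₀ := by
          refine ⟨T.mul_mem (T.inv_mem hyT) hgT, Subgroup.mem_centralizer_iff.2 fun q hq => ?_⟩
          obtain ⟨r', hr'⟩ := e₁.surjective ⟨q, hq⟩
          obtain ⟨x, hx⟩ := hR'.le r'.2
          have hgx : g * (x : Ω) * g⁻¹ ∈ R := conj_mem_of_normalizer hg.2 x.2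
          have hq1 : χ ⟨x, Subgroup.mem_sup_left (hRN x.2)⟩ = q := by
            rw [hχag ⟨x, Subgroup.mem_sup_left x.2⟩, MulEquiv.trans_apply,
              show η ⟨x, Subgroup.mem_sup_left x.2⟩ = ⟨r', hR'D r'.2⟩ from Subtype.ext ((hηag x).trans hx),
              ← he₁v, hr']
          have hq2 : ψε ⟨r', hDM (hR'D r'.2)⟩ = q := by
            rw [hagε ⟨r', hR'D r'.2⟩, ← he₁v, hr']
          have hgr : ((b ⟨g, hg.1⟩ : T) : Ω) * r' * ((b ⟨g, hg.1⟩ : T) : Ω)⁻¹ = θ ⟨_, hgx⟩ := by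
            rw [← hx]
            show _ = ((b ⟨g * (x : Ω) * g⁻¹, _⟩ : T) : Ω)
            rw [show (⟨g * (x : Ω) * g⁻¹, hR.1 hgx⟩ : T) = ⟨g, hg.1⟩ * ⟨x, hR.1 x.2⟩ * ⟨g, hg.1⟩⁻¹ from rfl,
              map_mul, map_mul, map_inv]
            rfl
          have hgm : θ ⟨_, hgx⟩ ∈ R' := hR' ▸ ⟨_, rfl⟩
          have h1 : χ ⟨g, Subgroup.mem_sup_left hg⟩ * q * (χ ⟨g, Subgroup.mem_sup_left hg⟩)⁻¹ =
              ε ⟨θ ⟨_, hgx⟩, hR'D hgm⟩ := by
            rw [← hq1, ← map_inv, ← map_mul, ← map_mul]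
            refine (hχag ⟨g * (x : Ω) * g⁻¹, Subgroup.mem_sup_left hgx⟩).trans ?_
            rw [MulEquiv.trans_apply]
            exact congrArg (fun z => ((ε z : D₀) : Ω)) (Subtype.ext (hηag ⟨_, hgx⟩))
          have h2 : y * q * y⁻¹ = ε ⟨θ ⟨_, hgx⟩, hR'D hgm⟩ := by
            rw [← hq2, hy, ← map_inv, ← map_mul, ← map_mul]
            refine Eq.trans (congrArg ψε (Subtype.ext hgr)) (hagε ⟨θ ⟨_, hgx⟩, hR'D hgm⟩)
          have h3 := h1.trans h2.symm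
          rw [show q * (y⁻¹ * χ ⟨g, Subgroup.mem_sup_left hg⟩) = y⁻¹ * (y * q * y⁻¹) * χ ⟨g, Subgroup.mem_sup_left hg⟩
            by group, ← h3]
          group
        have h4 : y⁻¹ * χ ⟨g, Subgroup.mem_sup_left hg⟩ ∈ Q₀ := hQ₀c.2 Q₀ (IsConj.refl hQ₀c.1) hz
        obtain ⟨r', hr'⟩ := e₁.surjective ⟨_, h4⟩
        refine ⟨⟨_, hbN g hg⟩ * ⟨r', hDM (hR'D r'.2)⟩, ?_⟩
        rw [map_mul, hagε ⟨r', hR'D r'.2⟩, ← he₁v, hr']
        exact mul_inv_cancel_left y _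
      · show χ _ ∈ ψε.range
        exact ⟨⟨η ⟨c, Subgroup.mem_sup_right hc⟩, hDM (η _).2⟩,
          (hagε _).trans (hχag ⟨c, Subgroup.mem_sup_right hc⟩).symm⟩
    obtain ⟨w, hw, e⟩ := hle z.2
    obtain rfl : w = z := Subtype.ext e
    exact hw
  obtain ⟨ι, hι, hιr, hι1, -⟩ := exists_inv hψε (rfl : ψε.range = ψε.range)
  obtain ⟨e, hedef⟩ : ∃ e : ↥(N ⊔ C) →* Ω, e = ι.comp (χ.codRestrict _ hχv) := ⟨_, rfl⟩
  have heF : e ∈ F.Hom (N ⊔ C) := hedef ▸ F.comp_mem hχ hι hχv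
  have heD : ∀ z : ↥(R ⊔ C), e ⟨z, sup_le_sup_right hRN C z.2⟩ = ((η z : ↥(R' ⊔ C)) : Ω) := by
    intro z
    rw [hedef]
    show ι ⟨χ _, _⟩ = _
    refine Eq.trans (congrArg ι (Subtype.ext ?_)) (hι1 ⟨η z, hDM (η z).2⟩ ⟨_, rfl⟩)
    exact (hχag z).trans (hagε (η z)).symm
  have heN : ∀ g : N, e ⟨g, Subgroup.mem_sup_left g.2⟩ ∈ T := fun g =>
    hE.2.1.2 N inf_le_left _ (restrict heF le_sup_left) g
  refine ⟨e.comp (Subgroup.inclusion le_sup_left), ⟨restrict heF le_sup_left, inf_le_left, fun _ => ?_⟩,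
    fun x hx => ?_⟩
  · refine ⟨e.comp (Subgroup.inclusion (by rw [hCdef])), restrict heF _, fun x => rfl, fun c hc => ?_⟩
    have hc' : c ∈ C := hCdef ▸ hc
    show c⁻¹ * e ⟨c, _⟩ ∈ _
    rw [heD ⟨c, Subgroup.mem_sup_right hc'⟩]
    obtain ⟨hzT, hzR⟩ := hηC c hc'
    refine ⟨hzT, Subgroup.mem_centralizer_iff.2 ?_⟩
    rintro _ ⟨g, rfl⟩
    show e ⟨(g : Ω), _⟩ * _ = _ * e ⟨(g : Ω), _⟩
    have h1 : e ⟨g, Subgroup.mem_sup_left g.2⟩ * ((η ⟨c, Subgroup.mem_sup_right hc'⟩ : ↥(R' ⊔ C)) : Ω) =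
        ((η ⟨c, Subgroup.mem_sup_right hc'⟩ : ↥(R' ⊔ C)) : Ω) * e ⟨g, Subgroup.mem_sup_left g.2⟩ := by
      rw [← heD ⟨c, Subgroup.mem_sup_right hc'⟩, ← map_mul, ← map_mul]
      exact congrArg e (Subtype.ext (hCcomm c hc' g g.2.1))
    rw [← mul_assoc, hCcomm c⁻¹ (C.inv_mem hc') _ (heN g), mul_assoc, h1, mul_assoc]
  · show e ⟨(x : Ω), _⟩ = _
    rw [heD ⟨x, Subgroup.mem_sup_left x.2⟩, hηag x]
    rfl

end CfsgLib.Fusion
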