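import Cfsg.Agent.Fusion.FamilyStep
import Cfsg.Agent.Fusion.CentricClimb
import Cfsg.Agent.Fusion.InvariantTwist
import Cfsg.Agent.Fusion.SeriesNormal
import Cfsg.Agent.Fusion.AlperinCor

/-!
Maps between subgroups of a strongly closed `T` extending to `C_S(T)` trivially modulo `T`.
-/

set_option autoImplicit false
set_option linter.style.haveILetI false

open Cfsg

namespace CfsgLib.Fusion

open Cfsg.FusionSystem

variable {Ω : Type*} [Group Ω] {S T : Subgroup Ω} {F : Cfsg.FusionSystem S} {E : Cfsg.FusionSystem T}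
variable {P Q R : Subgroup Ω}

/-- The map extends to `P C_S(T)`, moving `C_S(T)` only inside the centralizer of the image in `T`. -/
def GoodExt (F : Cfsg.FusionSystem S) (T : Subgroup Ω) {P : Subgroup Ω} (φ : P →* Ω) : Prop :=
  ∃ ψ ∈ F.Hom (P ⊔ centralizerIn S T), (∀ x : P, ψ ⟨x, Subgroup.mem_sup_left x.2⟩ = φ x) ∧
    ∀ (c : Ω) (hc : c ∈ centralizerIn S T), c⁻¹ * ψ ⟨c, Subgroup.mem_sup_right hc⟩ ∈ centralizerIn T φ.range

lemma centralizer_range_le (hE : E.IsInvariantIn F) {φ : P →* Ω} (hφ : φ ∈ F.Hom P) (hc : E.IsCentric P) :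
    centralizerIn T φ.range ≤ φ.range :=
  (isCentric_of_fconj hE hc hφ).2 _ (IsConj.refl (isCentric_of_fconj hE hc hφ).1)

lemma goodExt_values (hE : E.IsInvariantIn F) {φ : P →* Ω} (hφ : φ ∈ F.Hom P) (hc : E.IsCentric P)
    {ψ : ↥(P ⊔ centralizerIn S T) →* Ω} (hag : ∀ x : P, ψ ⟨x, Subgroup.mem_sup_left x.2⟩ = φ x)
    (hC : ∀ (c : Ω) (hc : c ∈ centralizerIn S T), c⁻¹ * ψ ⟨c, Subgroup.mem_sup_right hc⟩ ∈ centralizerIn T φ.range)
    {Q : Subgroup Ω} (hQ : ∀ x : P, φ x ∈ Q) (x : ↥(P ⊔ centralizerIn S T)) : ψ x ∈ Q ⊔ centralizerIn S T := by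
  have hle : P ⊔ centralizerIn S T ≤
      ((Q ⊔ centralizerIn S T).comap ψ).map (P ⊔ centralizerIn S T).subtype := by
    refine sup_le (fun x hx => ⟨⟨x, Subgroup.mem_sup_left hx⟩, ?_, rfl⟩)
      (fun c hcc => ⟨⟨c, Subgroup.mem_sup_right hcc⟩, ?_, rfl⟩)
    · show ψ ⟨x, Subgroup.mem_sup_left hx⟩ ∈ Q ⊔ centralizerIn S T
      rw [hag ⟨x, hx⟩]
      exact Subgroup.mem_sup_left (hQ _)
    · show ψ ⟨c, Subgroup.mem_sup_right hcc⟩ ∈ Q ⊔ centralizerIn S T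
      rw [← mul_inv_cancel_left c (ψ ⟨c, Subgroup.mem_sup_right hcc⟩)]
      refine mul_mem (Subgroup.mem_sup_right hcc) (Subgroup.mem_sup_left ?_)
      obtain ⟨y, hy⟩ := centralizer_range_le hE hφ hc (hC c hcc)
      rw [← hy]
      exact hQ y
  obtain ⟨y, hy, e⟩ := hle x.2
  obtain rfl : y = x := Subtype.ext e
  exact hy

/-- The maps between subgroups of `T` which are good on centric sources. -/
def goodSystem (hE : E.IsInvariantIn F) : Cfsg.FusionSystem T where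
  Hom P := {φ | φ ∈ F.Hom P ∧ P ≤ T ∧ (E.IsCentric P → GoodExt F T φ)}
  le_of_mem := fun {P φ} h => ⟨h.2.1, fun x => hE.2.1.2 P h.2.1 φ h.1 x⟩
  injective_of_mem h := F.injective_of_mem h.1
  conj_mem := by
    intro P g hP hg
    have hTS := hE.2.1.1
    refine ⟨F.conj_mem (hP.trans hTS) (hTS hg), hP, fun _ => ⟨_, F.conj_mem (sup_le (hP.trans hTS) inf_le_left) (hTS hg),
      fun x => rfl, fun c hc => ?_⟩⟩
    show c⁻¹ * (g * c * g⁻¹) ∈ _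
    rw [Subgroup.mem_centralizer_iff.1 hc.2 g hg, mul_inv_cancel_right, inv_mul_cancel]
    exact one_mem _
  comp_mem := by
    rintro P Q φ ψ ⟨hφ, hP, hφ'⟩ ⟨hψ, hQ, hψ'⟩ hPQ
    refine ⟨F.comp_mem hφ hψ hPQ, hP, fun hc => ?_⟩
    obtain ⟨φ₁, hφ₁, hag₁, hC₁⟩ := hφ' hc
    have hQc : E.IsCentric Q := isCentric_of_le (isCentric_of_fconj hE hc hφ)
      (by rintro _ ⟨x, rfl⟩; exact hPQ x) hQ
    obtain ⟨ψ₁, hψ₁, hag₂, hC₂⟩ := hψ' hQc
    have hv := goodExt_values hE hφ hc hag₁ hC₁ hPQ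
    refine ⟨_, F.comp_mem hφ₁ hψ₁ hv, fun x => ?_, fun c hcc => ?_⟩
    · show ψ₁ ⟨φ₁ _, _⟩ = ψ ⟨φ x, _⟩
      rw [← hag₂ ⟨φ x, hPQ x⟩]
      exact congrArg ψ₁ (Subtype.ext (hag₁ x))
    · show c⁻¹ * ψ₁ ⟨φ₁ ⟨c, _⟩, _⟩ ∈ _
      obtain ⟨y, hy⟩ := centralizer_range_le hE hφ hc (hC₁ c hcc)
      have h1 : (⟨φ₁ ⟨c, Subgroup.mem_sup_right hcc⟩, hv _⟩ : ↥(Q ⊔ centralizerIn S T)) =
          ⟨c, Subgroup.mem_sup_right hcc⟩ * ⟨φ y, Subgroup.mem_sup_left (hPQ y)⟩ := Subtype.ext (by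
        show φ₁ ⟨c, _⟩ = c * φ y
        rw [hy, mul_inv_cancel_left])
      rw [h1, map_mul, ← mul_assoc, hag₂ ⟨φ y, hPQ y⟩]
      refine mul_mem ⟨(hC₂ c hcc).1, Subgroup.mem_centralizer_iff.2 ?_⟩
        ⟨hE.2.1.2 Q hQ ψ hψ _, Subgroup.mem_centralizer_iff.2 ?_⟩
      · rintro _ ⟨x, rfl⟩
        exact Subgroup.mem_centralizer_iff.1 (hC₂ c hcc).2 _ ⟨_, rfl⟩
      · rintro _ ⟨x, rfl⟩
        have h2 := Subgroup.mem_centralizer_iff.1 (hC₁ c hcc).2 (φ x) ⟨x, rfl⟩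
        rw [← hy] at h2
        show ψ ⟨φ x, hPQ x⟩ * ψ ⟨φ y, hPQ y⟩ = ψ ⟨φ y, hPQ y⟩ * ψ ⟨φ x, hPQ x⟩
        rw [← map_mul, ← map_mul]
        exact congrArg ψ (Subtype.ext h2)
  inv_mem := by
    rintro P φ ⟨hφ, hP, hφ'⟩
    obtain ⟨ψ, hψ, hr, h1, -⟩ := exists_inv hφ (rfl : φ.range = φ.range)
    have hle : φ.range ≤ T := by rintro _ ⟨x, rfl⟩; exact hE.2.1.2 P hP φ hφ x
    refine ⟨ψ, ⟨hψ, hle, fun hc => ?_⟩, fun x => h1 x ⟨x, rfl⟩⟩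
    have hcP : E.IsCentric P := by
      have := isCentric_of_fconj hE hc hψ
      rwa [hr] at this
    obtain ⟨φ₁, hφ₁, hag₁, hC₁⟩ := hφ' hcP
    have hr₁ : φ₁.range = φ.range ⊔ centralizerIn S T := by
      refine le_antisymm ?_ (sup_le ?_ fun c hcc => ?_)
      · rintro _ ⟨x, rfl⟩
        exact goodExt_values hE hφ hcP hag₁ hC₁ (Q := φ.range) (fun y => ⟨y, rfl⟩) x
      · rintro _ ⟨x, rfl⟩
        exact ⟨_, hag₁ x⟩
      · obtain ⟨y, hy⟩ := centralizer_range_le hE hφ hcP (hC₁ c hcc)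
        refine ⟨⟨c, Subgroup.mem_sup_right hcc⟩ * ⟨(y : Ω)⁻¹, Subgroup.mem_sup_left (P.inv_mem y.2)⟩, ?_⟩
        rw [map_mul, show φ₁ ⟨(y : Ω)⁻¹, Subgroup.mem_sup_left (P.inv_mem y.2)⟩ = φ y⁻¹ from hag₁ y⁻¹, map_inv, hy,
          mul_inv_rev, inv_inv, ← mul_assoc, mul_inv_cancel, one_mul]
    obtain ⟨χ, hχ, -, hχ1, -⟩ := exists_inv hφ₁ hr₁
    refine ⟨χ, hχ, ?_, fun c hcc => ?_⟩
    · rintro ⟨_, x, rfl⟩
      refine Eq.trans ?_ (h1 x ⟨x, rfl⟩).symm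
      refine Eq.trans ?_ (hχ1 ⟨x, Subgroup.mem_sup_left x.2⟩ (by rw [hag₁]; exact Subgroup.mem_sup_left ⟨x, rfl⟩))
      exact congrArg χ (Subtype.ext (hag₁ x).symm)
    · obtain ⟨y, hy⟩ := centralizer_range_le hE hφ hcP (hC₁ c hcc)
      have h2 : χ ⟨c, Subgroup.mem_sup_right hcc⟩ = c * (y : Ω)⁻¹ := by
        refine Eq.trans ?_ (hχ1 (⟨c, Subgroup.mem_sup_right hcc⟩ * ⟨(y : Ω)⁻¹, Subgroup.mem_sup_left (P.inv_mem y.2)⟩)
          (by rw [← hr₁]; exact ⟨_, rfl⟩))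
        refine congrArg χ (Subtype.ext ?_)
        show c = φ₁ _
        rw [map_mul, show φ₁ ⟨(y : Ω)⁻¹, Subgroup.mem_sup_left (P.inv_mem y.2)⟩ = φ y⁻¹ from hag₁ y⁻¹, map_inv, hy,
          mul_inv_rev, inv_inv, ← mul_assoc, mul_inv_cancel, one_mul]
      rw [h2, inv_mul_cancel_left, hr]
      refine ⟨hP (P.inv_mem y.2), Subgroup.mem_centralizer_iff.2 fun z hz => ?_⟩
      have h3 := Subgroup.mem_centralizer_iff.1 (hC₁ c hcc).2 (φ ⟨z, hz⟩) ⟨_, rfl⟩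
      rw [← hy, ← map_mul, ← map_mul] at h3
      have h4 : (z : Ω) * y = y * z := congrArg Subtype.val (F.injective_of_mem hφ h3)
      rw [mul_inv_eq_iff_eq_mul, mul_assoc, eq_inv_mul_iff_mul_eq]
      exact h4.symm

variable {p : ℕ} [Fact p.Prime] [Finite S]

omit [Fact p.Prime] in
/-- Automorphisms of `T` in the system extend to `T C_S(T)`, preserving `C_S(T)`. -/
lemma exists_aut_sup [Fact p.Prime] (hS : IsPGroup p S) (hF : F.IsSaturated p) (hT : F.StronglyClosed T)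
    {α : MulAut T} (hα : α ∈ F.autGroup T) :
    ∃ β : MulAut ↥(T ⊔ centralizerIn S T), β ∈ F.autGroup (T ⊔ centralizerIn S T) ∧
      (∀ x : T, ((β ⟨x, Subgroup.mem_sup_left x.2⟩ : ↥(T ⊔ centralizerIn S T)) : Ω) = α x) ∧
      ∀ (c : Ω) (hc : c ∈ centralizerIn S T),
        ((β ⟨c, Subgroup.mem_sup_right hc⟩ : ↥(T ⊔ centralizerIn S T)) : Ω) ∈ centralizerIn S T := by
  have hn : F.IsFullyNormalized T := by
    refine ⟨hT.1, fun Q hQ => ?_⟩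
    obtain ⟨φ, hφ, rfl⟩ := hQ
    rw [(weaklyClosed_of_stronglyClosed hT).2 φ hφ]
  have hαm := (mem_autGroup hT.1).1 hα
  obtain ⟨ψ, hψ, hag⟩ := (receptive_of_fullyNormalized hS hF hn).2 T _ hαm (range_aut α)
  have hle : T ⊔ centralizerIn S T ≤ extender S T (T.subtype.comp α.toMonoidHom) :=
    sup_le (le_extender hαm) centralizerIn_le_extender
  obtain ⟨θ, hθdef⟩ : ∃ θ, θ = ψ.comp (Subgroup.inclusion hle) := ⟨_, rfl⟩
  have hθ : θ ∈ F.Hom (T ⊔ centralizerIn S T) := hθdef ▸ restrict hψ hle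
  have hθT : ∀ x : T, θ ⟨x, Subgroup.mem_sup_left x.2⟩ = α x := fun x => by rw [hθdef]; exact hag x x.2 _
  have hθC : ∀ (c : Ω) (hc : c ∈ centralizerIn S T), θ ⟨c, Subgroup.mem_sup_right hc⟩ ∈ centralizerIn S T := by
    intro c hc
    refine ⟨val_mem hθ _, Subgroup.mem_centralizer_iff.2 fun t ht => ?_⟩
    obtain ⟨u, hu⟩ := α.surjective ⟨t, ht⟩
    rw [show t = θ ⟨u, Subgroup.mem_sup_left u.2⟩ by rw [hθT, hu], ← map_mul, ← map_mul]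
    exact congrArg θ (Subtype.ext (Subgroup.mem_centralizer_iff.1 hc.2 u u.2))
  have hv : ∀ x, θ x ∈ T ⊔ centralizerIn S T := by
    intro x
    have hle' : T ⊔ centralizerIn S T ≤
        ((T ⊔ centralizerIn S T).comap θ).map (T ⊔ centralizerIn S T).subtype := by
      refine sup_le (fun y hy => ⟨⟨y, Subgroup.mem_sup_left hy⟩, ?_, rfl⟩)
        (fun c hc => ⟨⟨c, Subgroup.mem_sup_right hc⟩, Subgroup.mem_sup_right (hθC c hc), rfl⟩)
      show θ ⟨y, Subgroup.mem_sup_left hy⟩ ∈ T ⊔ centralizerIn S T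
      rw [hθT ⟨y, hy⟩]
      exact Subgroup.mem_sup_left (α _).2
    obtain ⟨y, hy, e⟩ := hle' x.2
    obtain rfl : y = x := Subtype.ext e
    exact hy
  haveI := finite_of_le (sup_le hT.1 inf_le_left : T ⊔ centralizerIn S T ≤ S)
  have hbij : Function.Bijective (θ.codRestrict _ hv) :=
    Finite.injective_iff_bijective.1 fun a b hab => F.injective_of_mem hθ (congrArg Subtype.val hab :)
  refine ⟨MulEquiv.ofBijective _ hbij, (mem_autGroup (sup_le hT.1 inf_le_left)).2 (mem_of_eq hθ fun _ => rfl),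
    hθT, hθC⟩

/-- Goodness is preserved by twisting with `Aut_F(T)`. -/
lemma invBy_goodSystem (hS : IsPGroup p S) (hF : F.IsSaturated p) (hE : E.IsInvariantIn F) :
    InvBy (goodSystem hE) (F.autGroup T) := by
  intro P φ hφ α hα R hR hm
  obtain ⟨hφF, hPT, hφ'⟩ := id hφ
  have hTS := hE.2.1.1
  obtain ⟨β, hβ, hβT, hβC⟩ := exists_aut_sup hS hF hE.2.1 hα
  have hTCS : T ⊔ centralizerIn S T ≤ S := sup_le hTS inf_le_left
  have hαF := (mem_autGroup hTS).1 hα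
  have hαi := (mem_autGroup hTS).1 (inv_mem hα)
  have hσ : (T.subtype.comp α.toMonoidHom).comp (Subgroup.inclusion hR) ∈ F.Hom R := restrict hαF hR
  have htw : twist hφ α hR hm ∈ F.Hom R :=
    comp_of_eq (comp_of_eq hσ hφF hm fun _ => rfl : φ.comp (((T.subtype.comp α.toMonoidHom).comp
      (Subgroup.inclusion hR)).codRestrict P hm) ∈ F.Hom R) hαi (fun r => val_mem hφ _) fun r => rfl
  refine ⟨htw, hR, fun hc => ?_⟩
  have hPc : E.IsCentric P := isCentric_of_le (isCentric_of_fconj hE hc hσ) (by rintro _ ⟨r, rfl⟩; exact hm r) hPT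
  obtain ⟨φ₁, hφ₁, hag₁, hC₁⟩ := hφ' hPc
  have hv := goodExt_values hE hφF hPc hag₁ hC₁ (fun x => val_mem hφ x)
  -- the conjugated extension
  let b : ↥(R ⊔ centralizerIn S T) →* Ω := ((T ⊔ centralizerIn S T).subtype.comp β.toMonoidHom).comp
    (Subgroup.inclusion (sup_le_sup_right hR _))
  have hb : b ∈ F.Hom (R ⊔ centralizerIn S T) := restrict ((mem_autGroup hTCS).1 hβ) _
  have hbv : ∀ x, b x ∈ P ⊔ centralizerIn S T := by
    intro x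
    have hle : R ⊔ centralizerIn S T ≤
        ((P ⊔ centralizerIn S T).comap b).map (R ⊔ centralizerIn S T).subtype := by
      refine sup_le (fun r hr => ⟨⟨r, Subgroup.mem_sup_left hr⟩, ?_, rfl⟩)
        (fun c hc => ⟨⟨c, Subgroup.mem_sup_right hc⟩, Subgroup.mem_sup_right (hβC c hc), rfl⟩)
      show ((β ⟨r, Subgroup.mem_sup_left (hR hr)⟩ : ↥(T ⊔ centralizerIn S T)) : Ω) ∈ P ⊔ centralizerIn S T
      rw [hβT ⟨r, hR hr⟩]
      exact Subgroup.mem_sup_left (hm ⟨r, hr⟩)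
    obtain ⟨y, hy, e⟩ := hle x.2
    obtain rfl : y = x := Subtype.ext e
    exact hy
  have hb1 := F.comp_mem hb hφ₁ hbv
  refine ⟨_, F.comp_mem hb1 ((mem_autGroup hTCS).1 (inv_mem hβ)) (fun x => hv _), fun r => ?_, fun c hc => ?_⟩
  · show ((β⁻¹ ⟨φ₁ ⟨((β ⟨r, _⟩ : ↥(T ⊔ centralizerIn S T)) : Ω), _⟩, _⟩ : ↥(T ⊔ centralizerIn S T)) : Ω) = _
    rw [twist_apply]
    have h1 : φ₁ ⟨((β ⟨r, Subgroup.mem_sup_left (hR r.2)⟩ : ↥(T ⊔ centralizerIn S T)) : Ω), hbv ⟨r, Subgroup.mem_sup_left r.2⟩⟩ =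
        φ ⟨_, hm r⟩ := (congrArg φ₁ (Subtype.ext (hβT ⟨r, hR r.2⟩))).trans (hag₁ ⟨_, hm r⟩)
    obtain ⟨u, hu⟩ := α.surjective ⟨φ ⟨_, hm r⟩, val_mem hφ _⟩
    rw [← hu, MulAut.inv_apply_self]
    refine Eq.trans (congrArg (fun z => ((β⁻¹ z : ↥(T ⊔ centralizerIn S T)) : Ω)) (Subtype.ext ?_ :
      _ = β ⟨u, Subgroup.mem_sup_left u.2⟩)) ?_
    · rw [hβT, hu]
      exact h1
    · rw [MulAut.inv_apply_self]
  · obtain ⟨d, hd⟩ : ∃ d, d = ((β ⟨c, Subgroup.mem_sup_right hc⟩ : ↥(T ⊔ centralizerIn S T)) : Ω) := ⟨_, rfl⟩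
    have hdC : d ∈ centralizerIn S T := hd ▸ hβC c hc
    have hz := hC₁ d hdC
    obtain ⟨u, hu⟩ := α.surjective ⟨_, hz.1⟩
    have hval : ((β⁻¹ ⟨φ₁ ⟨d, Subgroup.mem_sup_right hdC⟩, hv _⟩ : ↥(T ⊔ centralizerIn S T)) : Ω) = c * (u : Ω) := by
      refine Eq.trans (congrArg (fun z => ((β⁻¹ z : ↥(T ⊔ centralizerIn S T)) : Ω)) (Subtype.ext ?_ :
        _ = β (⟨c, Subgroup.mem_sup_right hc⟩ * ⟨u, Subgroup.mem_sup_left u.2⟩))) ?_
      · rw [map_mul, Subgroup.coe_mul, hβT, ← hd, hu]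
        show φ₁ ⟨d, _⟩ = d * (d⁻¹ * φ₁ ⟨d, _⟩)
        rw [mul_inv_cancel_left]
      · rw [MulAut.inv_apply_self]
        rfl
    subst hd
    show c⁻¹ * ((β⁻¹ ⟨φ₁ ⟨((β ⟨c, _⟩ : ↥(T ⊔ centralizerIn S T)) : Ω), _⟩, _⟩ : ↥(T ⊔ centralizerIn S T)) : Ω) ∈ _
    rw [hval, inv_mul_cancel_left]
    refine ⟨u.2, Subgroup.mem_centralizer_iff.2 ?_⟩
    rintro _ ⟨r, rfl⟩
    rw [twist_apply]
    have h2 : (⟨φ ⟨_, hm r⟩, val_mem hφ _⟩ : T) * α u = α u * ⟨φ ⟨_, hm r⟩, val_mem hφ _⟩ := by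
      rw [hu]
      exact Subtype.ext (Subgroup.mem_centralizer_iff.1 hz.2 _ ⟨_, rfl⟩)
    have h3 := congrArg (fun z : T => ((α⁻¹ z : T) : Ω)) h2
    simp only [map_mul, MulAut.inv_apply_self, Subgroup.coe_mul] at h3
    exact h3

end CfsgLib.Fusion
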