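import Cfsg.Agent.Fusion.FreeDet
import Cfsg.Agent.Fusion.Biset.Space
import Cfsg.Agent.Fusion.Biset.Existence
import Cfsg.Agent.Fusion.Biset.Transfer

/-!
The determinant on the group of a characteristic biset, for an invariant character of exponent `p`.
-/

set_option autoImplicit false
set_option linter.style.haveILetI false

open Cfsg

namespace CfsgLib.Biset

open Cfsg.FusionSystem CfsgLib.Fusion

universe u v

variable {Ω : Type u} [Group Ω] {S : Subgroup Ω} {F : Cfsg.FusionSystem S} (n : Subgroup (S × S) → ℕ)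

/-- The biset with the left action only. -/
abbrev LSpace : Type u := Pull (MonoidHom.inl S S) n

/-- The group of the biset, as a commutant. -/
def toCommutant : leftCentralizer n →* CfsgLib.FreeDet.commutant S (LSpace n) where
  toFun σ := ⟨σ.1, fun a x => σ.2 a x⟩
  map_one' := rfl
  map_mul' _ _ := rfl

variable {n}

lemma free_left (hn : ∀ H, n H ≠ 0 → IsFGraph F H) (a : S) (x : LSpace n) (h : a • x = x) : a = 1 := by
  obtain ⟨⟨H, i⟩, q⟩ := x
  obtain ⟨k, rfl⟩ := QuotientGroup.mk_surjective q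
  have h1 : (⟨⟨H, i⟩, ((a, 1) : S × S) • (k : (S × S) ⧸ H)⟩ : BSpace n) = ⟨⟨H, i⟩, (k : (S × S) ⧸ H)⟩ := h
  have h2 := QuotientGroup.eq.1 (eq_of_heq (Sigma.ext_iff.1 h1).2).symm
  obtain ⟨V, c, hc, hcV⟩ := (hn H (Nat.pos_iff_ne_zero.1 (Fin.pos i))).map_conj' k
  have h3 : ((a, 1) : S × S) ∈ gsub (S := S) c := by
    rw [← hcV]
    exact ⟨k⁻¹ * (((a, 1) : S × S) * k), h2, by simp [mul_assoc]⟩
  obtain ⟨h4, h5⟩ := h3
  have h6 : (⟨(a : Ω), h4⟩ : V) = 1 := F.injective_of_mem hc (by rw [map_one]; exact h5)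
  exact Subtype.ext (congrArg Subtype.val h6 :)

/-- A right translation agreeing with a left one at a point gives a point of the graph of a map. -/
lemma exists_graph_of_eq (hn : ∀ H, n H ≠ 0 → IsFGraph F H) (y : LSpace n) :
    ∃ (V : Subgroup Ω) (c : V →* Ω), c ∈ F.Hom V ∧ ∀ (x a : S),
      ((toCommutant n (rightHom n x) : CfsgLib.FreeDet.commutant S (LSpace n)) : Equiv.Perm (LSpace n)) y = a • y →
      ((a⁻¹, x) : S × S) ∈ gsub (S := S) c := by
  obtain ⟨⟨H, i⟩, q⟩ := y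
  obtain ⟨k, rfl⟩ := QuotientGroup.mk_surjective q
  obtain ⟨V, c, hc, hcV⟩ := (hn H (Nat.pos_iff_ne_zero.1 (Fin.pos i))).map_conj' k
  refine ⟨V, c, hc, fun x a h => ?_⟩
  have h1 : (⟨⟨H, i⟩, ((1, x) : S × S) • (k : (S × S) ⧸ H)⟩ : BSpace n) =
      ⟨⟨H, i⟩, ((a, 1) : S × S) • (k : (S × S) ⧸ H)⟩ := h
  have h2 : ((((1, x) : S × S) * k : S × S) : (S × S) ⧸ H) = ((((a, 1) : S × S) * k : S × S) : (S × S) ⧸ H) :=
    eq_of_heq (Sigma.ext_iff.1 h1).2
  have h3 := QuotientGroup.eq.1 h2.symm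
  rw [← hcV]
  refine ⟨(((a, 1) : S × S) * k)⁻¹ * (((1, x) : S × S) * k), h3, ?_⟩
  simp [mul_assoc]

variable [Finite S]

/-- The number of left orbits is the degree. -/
lemma card_orbits (hn : ∀ H, n H ≠ 0 → IsFGraph F H) :
    Nat.card (MulAction.orbitRel.Quotient S (LSpace n)) = degree n := by
  classical
  haveI : Finite (LSpace n) := inferInstanceAs (Finite (BSpace n))
  have hX : Nat.card (LSpace n) = Nat.card (MulAction.orbitRel.Quotient S (LSpace n)) * Nat.card S := by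
    rw [← Nat.card_prod]
    refine (Nat.card_congr (Equiv.ofBijective
      (fun z : MulAction.orbitRel.Quotient S (LSpace n) × S => z.2 • CfsgLib.FreeDet.rep z.1) ⟨?_, ?_⟩)).symm
    · rintro ⟨o, a⟩ ⟨o', a'⟩ h
      have h1 : o = o' := by
        have := congrArg (fun y : LSpace n => (Quotient.mk _ y : MulAction.orbitRel.Quotient S (LSpace n))) h
        simpa only [CfsgLib.FreeDet.mk_smul, CfsgLib.FreeDet.mk_rep] using this
      subst h1
      have h2 : (a'⁻¹ * a) • CfsgLib.FreeDet.rep o = CfsgLib.FreeDet.rep o := by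
        rw [mul_smul]
        exact (congrArg (a'⁻¹ • ·) h).trans (inv_smul_smul a' _)
      rw [inv_mul_eq_one.1 (free_left hn _ _ h2)]
    · intro x
      obtain ⟨a, ha⟩ := Quotient.exact
        (Quotient.out_eq (Quotient.mk _ x : MulAction.orbitRel.Quotient S (LSpace n))).symm
      exact ⟨(Quotient.mk _ x, a), ha⟩
  have hB : Nat.card (LSpace n) = degree n * Nat.card S := by
    rw [← sum_index hn, Finset.sum_mul]
    show Nat.card (Σ j : BIndex n, (S × S) ⧸ j.1) = _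
    rw [Nat.card_sigma]
    refine Finset.sum_congr rfl fun j _ => ?_
    have hc : Nat.card (sndR j.1) = Nat.card j.1 :=
      (Nat.card_congr (Equiv.ofBijective _ ⟨snd_injOn (isFGraph_index hn j),
        MonoidHom.subgroupMap_surjective _ _⟩)).symm
    refine Nat.eq_of_mul_eq_mul_right (Nat.card_pos (α := j.1)) ?_
    rw [← Subgroup.card_eq_card_quotient_mul_card_subgroup, Nat.card_prod, mul_right_comm]
    conv_rhs => rw [← hc, (sndR j.1).index_mul_card]
  exact Nat.eq_of_mul_eq_mul_right Nat.card_pos (hX.symm.trans hB)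

variable {A : Type v} [CommGroup A] {p : ℕ} [Fact p.Prime]

/-- An invariant character takes equal values along the maps of the system. -/
def InvChar (F : Cfsg.FusionSystem S) (χ : S →* A) : Prop :=
  ∀ (U : Subgroup Ω) (c : U →* Ω) (hc : c ∈ F.Hom U) (x : U), χ ⟨c x, val_mem hc x⟩ = χ ⟨x, le_of_hom hc x.2⟩

instance instFiniteLSpace : Finite (LSpace n) := inferInstanceAs (Finite (BSpace n))

/-- The determinant on the group of the biset. -/
noncomputable def bdet (hn : ∀ H, n H ≠ 0 → IsFGraph F H) (χ : S →* A) : leftCentralizer n →* A :=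
  (CfsgLib.FreeDet.det (free_left hn) χ⁻¹).comp (toCommutant n)

lemma compat (hn : ∀ H, n H ≠ 0 → IsFGraph F H) {χ : S →* A} (hχ : InvChar F χ) (x a : S) (y : LSpace n)
    (h : ((toCommutant n (rightHom n x) : CfsgLib.FreeDet.commutant S (LSpace n)) : Equiv.Perm (LSpace n)) y = a • y) :
    χ x = χ⁻¹ a := by
  obtain ⟨V, c, hc, hgr⟩ := exists_graph_of_eq hn y
  obtain ⟨h1, h2⟩ := hgr x a h
  have h3 := hχ V c hc ⟨_, h1⟩
  rw [MonoidHom.inv_apply, ← map_inv]
  refine Eq.trans ?_ h3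
  exact congrArg χ (Subtype.ext h2.symm)

/-- The determinant of a right translation. -/
theorem bdet_rightHom (hS : IsPGroup p S) (hn : ∀ H, n H ≠ 0 → IsFGraph F H) {χ : S →* A} (hχ : InvChar F χ)
    (hA : ∀ a : A, a ^ p = 1) (t : S) : bdet hn χ (rightHom n t) = χ t ^ degree n := by
  classical
  letI : Fintype (MulAction.orbitRel.Quotient S (LSpace n)) := Fintype.ofFinite _
  let Q : Subgroup.zpowers t →* CfsgLib.FreeDet.commutant S (LSpace n) :=
    ((toCommutant n).comp (rightHom n)).comp (Subgroup.zpowers t).subtype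
  have hP : IsPGroup p (Subgroup.zpowers t) := hS.to_subgroup _
  have hw : ∀ x, Q x * toCommutant n (rightHom n t) = toCommutant n (rightHom n t) * Q x := by
    rintro ⟨_, k, rfl⟩
    show toCommutant n (rightHom n (t ^ k)) * _ = _ * toCommutant n (rightHom n (t ^ k))
    rw [← map_mul, ← map_mul, ← map_mul, ← map_mul, ← zpow_one_add, ← zpow_add_one, add_comm]
  show CfsgLib.FreeDet.det (free_left hn) χ⁻¹ (toCommutant n (rightHom n t)) = _
  rw [CfsgLib.FreeDet.det_eq_prod_fixed (free_left hn) (p := p) hP hA χ⁻¹ (χ.comp (Subgroup.zpowers t).subtype) Q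
    (fun x y a h => compat hn hχ x a y h) _ hw]
  have h1 : ∀ o ∈ Finset.univ.filter (fun o => ∀ x, CfsgLib.FreeDet.act (Q x) o = o),
      χ⁻¹ (CfsgLib.FreeDet.shift (toCommutant n (rightHom n t)) o) = χ t := by
    intro o ho
    have h2 := (Finset.mem_filter.1 ho).2 ⟨t, Subgroup.mem_zpowers t⟩
    have h3 := CfsgLib.FreeDet.shift_spec (toCommutant n (rightHom n t)) o
    have h4 : CfsgLib.FreeDet.act (toCommutant n (rightHom n t)) o = o := h2
    rw [h4] at h3
    exact (compat hn hχ _ _ _ h3).symm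
  rw [Finset.prod_congr rfl h1, ← card_orbits hn, Nat.card_eq_fintype_card, ← Finset.card_univ, ← Finset.prod_const]
  letI : MulAction (Subgroup.zpowers t) (MulAction.orbitRel.Quotient S (LSpace n)) :=
    { smul := fun x o => CfsgLib.FreeDet.act (Q x) o
      one_smul := fun o => by
        show CfsgLib.FreeDet.act (Q 1) o = o
        rw [map_one]; exact (CfsgLib.FreeDet.one_spec (free_left hn) o).1
      mul_smul := fun x y o => by
        show CfsgLib.FreeDet.act (Q (x * y)) o = _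
        rw [map_mul]; exact (CfsgLib.FreeDet.mul_spec (free_left hn) _ _ o).1 }
  refine Eq.trans ?_ (CfsgLib.FreeDet.prod_eq_prod_fixed (p := p) hP hA (fun _ => χ t) (fun _ _ => rfl)).symm
  refine Finset.prod_congr ?_ fun _ _ => rfl
  ext o
  simp only [Finset.mem_filter, Finset.mem_univ, true_and]
  exact Iff.rfl

/-- The determinant of an element centralizing `P` comes from centralizers of conjugates of `P`. -/
theorem bdet_mem_of_commute (hS : IsPGroup p S) (hn : ∀ H, n H ≠ 0 → IsFGraph F H) {χ : S →* A} (hχ : InvChar F χ)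
    (hA : ∀ a : A, a ^ p = 1) {P : Subgroup Ω} (hP : P ≤ S) (w : leftCentralizer n)
    (hw : ∀ x : P, rightHom n ⟨x, hP x.2⟩ * w = w * rightHom n ⟨x, hP x.2⟩) (M : Subgroup A)
    (hM : ∀ ψ : P →* Ω, ψ ∈ F.Hom P → ∀ c : S, (∀ x : P, ψ x * c = c * ψ x) → χ c ∈ M) :
    bdet hn χ w ∈ M := by
  classical
  letI : Fintype (MulAction.orbitRel.Quotient S (LSpace n)) := Fintype.ofFinite _
  haveI := finite_of_le hP
  let i : P →* S := Subgroup.inclusion hP
  let Q : P →* CfsgLib.FreeDet.commutant S (LSpace n) := ((toCommutant n).comp (rightHom n)).comp i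
  have hPp : IsPGroup p P := hS.to_le hP
  have hQw : ∀ x, Q x * toCommutant n w = toCommutant n w * Q x := fun x => by
    show toCommutant n (rightHom n (i x)) * _ = _ * toCommutant n (rightHom n (i x))
    rw [← map_mul, ← map_mul]
    exact congrArg _ (hw x)
  show CfsgLib.FreeDet.det (free_left hn) χ⁻¹ (toCommutant n w) ∈ M
  rw [CfsgLib.FreeDet.det_eq_prod_fixed (free_left hn) (p := p) hPp hA χ⁻¹ (χ.comp i) Q
    (fun x y a h => compat hn hχ _ a y h) _ hQw]
  set O₀ := Finset.univ.filter (fun o => ∀ x, CfsgLib.FreeDet.act (Q x) o = o)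
  -- the map attached to a fixed orbit
  let ψ : MulAction.orbitRel.Quotient S (LSpace n) → P → S := fun o x => (CfsgLib.FreeDet.shift (Q x) o)⁻¹
  have hψF : ∀ o ∈ O₀, ∃ φ ∈ F.Hom P, ∀ x, φ x = (ψ o x : Ω) := by
    intro o ho
    obtain ⟨V, c, hc, hgr⟩ := exists_graph_of_eq hn (CfsgLib.FreeDet.rep o)
    have hx : ∀ x : P, ∃ h : ((ψ o x : S) : Ω) ∈ V, c ⟨_, h⟩ = (x : Ω) := fun x => by
      have h1 := CfsgLib.FreeDet.shift_spec (Q x) o
      rw [(Finset.mem_filter.1 ho).2 x] at h1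
      exact hgr (i x) (CfsgLib.FreeDet.shift (Q x) o) h1
    obtain ⟨γ, hγ, -, hγ1, -⟩ := exists_inv hc (rfl : c.range = c.range)
    have hle : P ≤ c.range := fun y hy => ⟨⟨_, (hx ⟨y, hy⟩).1⟩, (hx ⟨y, hy⟩).2⟩
    refine ⟨_, restrict hγ hle, fun x => ?_⟩
    exact (congrArg γ (Subtype.ext (hx x).2.symm)).trans (hγ1 ⟨_, (hx x).1⟩ ⟨_, rfl⟩)
  -- conjugacy classes of these maps
  let σ : Setoid (P → S) :=
    { r := fun f g => ∃ a : S, ∀ x, g x = a * f x * a⁻¹
      iseqv :=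
        { refl := fun f => ⟨1, fun x => by simp⟩
          symm := fun ⟨a, h⟩ => ⟨a⁻¹, fun x => by rw [h x]; group⟩
          trans := fun ⟨a, h⟩ ⟨b, h'⟩ => ⟨b * a, fun x => by rw [h' x, h x]; group⟩ } }
  have hrep : ∀ o, ∃ a : S, ∀ x, ψ o x = a * (Quotient.out (Quotient.mk σ (ψ o))) x * a⁻¹ := fun o =>
    Quotient.exact (s := σ) (Quotient.out_eq (Quotient.mk σ (ψ o)))
  choose a₀ ha₀ using hrep
  have hkey : ∀ o ∈ O₀, CfsgLib.FreeDet.act (toCommutant n w) o ∈ O₀ ∧
      χ⁻¹ (CfsgLib.FreeDet.shift (toCommutant n w) o) * χ⁻¹ (a₀ (CfsgLib.FreeDet.act (toCommutant n w) o)) *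
        (χ⁻¹ (a₀ o))⁻¹ ∈ M := by
    intro o ho
    obtain ⟨o', ho'⟩ : ∃ o', o' = CfsgLib.FreeDet.act (toCommutant n w) o := ⟨_, rfl⟩
    obtain ⟨s, hs⟩ : ∃ s, s = CfsgLib.FreeDet.shift (toCommutant n w) o := ⟨_, rfl⟩
    rw [← ho', ← hs]
    have hc : ∀ x, CfsgLib.FreeDet.act (Q x) o' = o' ∧
        s * CfsgLib.FreeDet.shift (Q x) o' = CfsgLib.FreeDet.shift (Q x) o * s := fun x => by
      obtain ⟨h1, h2⟩ := CfsgLib.FreeDet.mul_spec (free_left hn) (Q x) (toCommutant n w) o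
      obtain ⟨h3, h4⟩ := CfsgLib.FreeDet.mul_spec (free_left hn) (toCommutant n w) (Q x) o
      rw [hQw x, h3, (Finset.mem_filter.1 ho).2 x, ← ho'] at h1
      rw [hQw x, h4, (Finset.mem_filter.1 ho).2 x, ← hs, ← ho'] at h2
      exact ⟨h1.symm, h2.symm⟩
    refine ⟨Finset.mem_filter.2 ⟨Finset.mem_univ _, fun x => (hc x).1⟩, ?_⟩
    have hψ' : ∀ x, ψ o' x = s⁻¹ * ψ o x * s := fun x => by
      show (CfsgLib.FreeDet.shift (Q x) o')⁻¹ = s⁻¹ * (CfsgLib.FreeDet.shift (Q x) o)⁻¹ * s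
      rw [eq_inv_mul_iff_mul_eq.2 (hc x).2]
      group
    have hsame : Quotient.mk σ (ψ o') = Quotient.mk σ (ψ o) :=
      (Quotient.sound (s := σ) ⟨s⁻¹, fun x => by rw [hψ' x, inv_inv]⟩).symm
    obtain ⟨φ, hφ, hφx⟩ := hψF o ho
    have hcen : ∀ x, ψ o x * (s * a₀ o' * (a₀ o)⁻¹) = s * a₀ o' * (a₀ o)⁻¹ * ψ o x := by
      intro x
      obtain ⟨ρ, hρ⟩ : ∃ ρ, ρ = (Quotient.out (Quotient.mk σ (ψ o))) x := ⟨_, rfl⟩
      have h1 := ha₀ o x
      have h2 := ha₀ o' x
      rw [hsame, ← hρ, hψ' x] at h2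
      rw [← hρ] at h1
      calc ψ o x * (s * a₀ o' * (a₀ o)⁻¹) = s * (s⁻¹ * ψ o x * s) * a₀ o' * (a₀ o)⁻¹ := by group
        _ = s * a₀ o' * ρ * (a₀ o)⁻¹ := by rw [h2]; group
        _ = s * a₀ o' * (a₀ o)⁻¹ * (a₀ o * ρ * (a₀ o)⁻¹) := by group
        _ = _ := by rw [← h1]
    have hm := hM φ hφ (s * a₀ o' * (a₀ o)⁻¹) fun x => by
      rw [hφx x]
      exact congrArg Subtype.val (hcen x)
    have h5 := M.inv_mem hm
    rw [map_mul, map_mul, map_inv, mul_inv, mul_inv] at h5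
    rw [MonoidHom.inv_apply, MonoidHom.inv_apply, MonoidHom.inv_apply]
    exact h5
  have hbij : ∏ o ∈ O₀, χ⁻¹ (a₀ (CfsgLib.FreeDet.act (toCommutant n w) o)) = ∏ o ∈ O₀, χ⁻¹ (a₀ o) := by
    refine Finset.prod_nbij (CfsgLib.FreeDet.act (toCommutant n w)) (fun o ho => (hkey o ho).1)
      ((CfsgLib.FreeDet.act_bijective (free_left hn) _).1.injOn) ?_ fun o _ => rfl
    refine Finset.surjOn_of_injOn_of_card_le _ (fun o ho => (hkey o ho).1)
      ((CfsgLib.FreeDet.act_bijective (free_left hn) _).1.injOn) le_rfl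
  have h := Subgroup.prod_mem M fun o ho => (hkey o ho).2
  rwa [Finset.prod_mul_distrib, Finset.prod_mul_distrib, Finset.prod_inv_distrib, hbij, mul_inv_cancel_right] at h

end CfsgLib.Biset
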