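import Cfsg.Agent.Fusion.TwistProduct
import Cfsg.Agent.Fusion.SubsystemCentric

/-!
The largest `A`-stable subsystem, and subsystems containing `O^{p'}` of the automizers of centric subgroups.
-/

set_option autoImplicit false
set_option linter.style.haveILetI false

open Cfsg

namespace CfsgLib.Fusion

open Cfsg.FusionSystem

variable {Ω : Type*} [Group Ω] {S : Subgroup Ω} {F E : Cfsg.FusionSystem S} {P Q R : Subgroup Ω}

/-- The maps of `E` all whose `A`-twists are maps of `E`. -/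
def invariantCore (E : Cfsg.FusionSystem S) (A : Subgroup (MulAut S)) : Cfsg.FusionSystem S where
  Hom P := {φ | ∃ hφ : φ ∈ E.Hom P, ∀ α ∈ A, ∀ (R : Subgroup Ω) (hR : R ≤ S)
    (h : ∀ r : R, ((α ⟨r, hR r.2⟩ : S) : Ω) ∈ P), twist hφ α hR h ∈ E.Hom R}
  le_of_mem h := E.le_of_mem h.1
  injective_of_mem h := E.injective_of_mem h.1
  conj_mem := by
    intro P g hP hg
    refine ⟨E.conj_mem hP hg, fun α _ R hR h =>
      conj_of_eq hR ((α⁻¹ ⟨g, hg⟩ : S)).2 fun r => ?_⟩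
    rw [twist_apply]
    refine (congrArg (fun z : S => ((α⁻¹ z : S) : Ω)) (Subtype.ext rfl : _ = ⟨g, hg⟩ * α ⟨(r : Ω), hR r.2⟩ * ⟨g, hg⟩⁻¹)).trans ?_
    simp only [map_mul, map_inv, MulAut.inv_apply_self]
    rfl
  comp_mem := by
    rintro P Q φ ψ ⟨hφ, hφ'⟩ ⟨hψ, hψ'⟩ h
    refine ⟨E.comp_mem hφ hψ h, fun α hα R hR hm => ?_⟩
    set R' := (Q.subgroupOf S).map (S.subtype.comp (α⁻¹ : MulAut S).toMonoidHom) with hR'def
    have hR' : R' ≤ S := by rintro _ ⟨x, -, rfl⟩; exact (α⁻¹ x).2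
    have hm' : ∀ r : R', ((α ⟨r, hR' r.2⟩ : S) : Ω) ∈ Q := by
      rintro ⟨_, x, hx, rfl⟩
      show ((α (α⁻¹ x) : S) : Ω) ∈ Q
      rw [MulAut.apply_inv_self]; exact hx
    refine comp_of_eq (hφ' α hα R hR hm) (hψ' α hα R' hR' hm')
      (fun r => ⟨⟨_, val_mem hφ ⟨_, hm r⟩⟩, h ⟨_, hm r⟩, rfl⟩) fun r => ?_
    rw [twist_apply, twist_apply]
    refine congrArg (fun z : S => ((α⁻¹ z : S) : Ω)) (Subtype.ext (congrArg ψ (Subtype.ext ?_)))
    show φ _ = ((α (α⁻¹ _) : S) : Ω)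
    rw [MulAut.apply_inv_self]
  inv_mem := by
    rintro P φ ⟨hφ, hφ'⟩
    obtain ⟨ψ, hψ, -, h1, h2⟩ := exists_inv hφ (rfl : φ.range = φ.range)
    refine ⟨ψ, ⟨hψ, fun α hα R hR hm => ?_⟩, fun x => h1 x ⟨x, rfl⟩⟩
    set R₀ := (P.subgroupOf S).map (S.subtype.comp (α⁻¹ : MulAut S).toMonoidHom) with hR₀def
    have hR₀ : R₀ ≤ S := by rintro _ ⟨x, -, rfl⟩; exact (α⁻¹ x).2
    have hm₀ : ∀ r : R₀, ((α ⟨r, hR₀ r.2⟩ : S) : Ω) ∈ P := by
      rintro ⟨_, x, hx, rfl⟩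
      show ((α (α⁻¹ x) : S) : Ω) ∈ P
      rw [MulAut.apply_inv_self]; exact hx
    obtain ⟨χ, hχ, -, k1, -⟩ := exists_inv (hφ' α hα R₀ hR₀ hm₀) rfl
    have key : ∀ r : R, ∃ r₀ : R₀, twist hφ α hR₀ hm₀ r₀ = r ∧ (r₀ : Ω) = twist hψ α hR hm r := by
      intro r
      obtain ⟨x, hx⟩ := (⟨_, hm r⟩ : φ.range).2
      have e1 : ψ ⟨_, hm r⟩ = x := by
        refine Eq.trans (congrArg ψ (Subtype.ext hx.symm)) (h1 x ⟨x, rfl⟩)
      refine ⟨⟨_, ⟨⟨x, le_of_hom hφ x.2⟩, x.2, rfl⟩⟩, ?_, ?_⟩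
      · rw [twist_apply]
        show ((α⁻¹ ⟨φ ⟨((α (α⁻¹ ⟨(x : Ω), _⟩) : S) : Ω), _⟩, _⟩ : S) : Ω) = (r : Ω)
        simp only [MulAut.apply_inv_self]
        have e2 : (⟨φ x, val_mem hφ x⟩ : S) = α ⟨(r : Ω), hR r.2⟩ := Subtype.ext hx
        show ((α⁻¹ ⟨φ x, _⟩ : S) : Ω) = (r : Ω)
        rw [e2, MulAut.inv_apply_self]
      · rw [twist_apply]
        exact congrArg (fun z : S => ((α⁻¹ z : S) : Ω)) (Subtype.ext e1.symm)
    refine restrict_of_eq hχ (fun r hr => ?_) fun r => ?_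
    · obtain ⟨r₀, h₀, -⟩ := key ⟨r, hr⟩
      exact ⟨r₀, h₀⟩
    · obtain ⟨r₀, h₀, h₀'⟩ := key r
      refine h₀'.symm.trans ?_
      exact ((congrArg χ (Subtype.ext h₀.symm)).trans (k1 r₀ ⟨r₀, rfl⟩)).symm

lemma invariantCore_le (A : Subgroup (MulAut S)) : invariantCore E A ≤ E := fun _ _ h => h.1

lemma invBy_invariantCore {A : Subgroup (MulAut S)} : InvBy (invariantCore E A) A := by
  intro P φ hφ α hα R hR h
  refine ⟨hφ.2 α hα R hR h, fun β hβ R' hR' h' => ?_⟩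
  have hm : ∀ r : R', (((α * β) ⟨r, hR' r.2⟩ : S) : Ω) ∈ P := fun r => by
    have e : (α * β) ⟨r, hR' r.2⟩ = α ⟨_, hR (h' r)⟩ := congrArg α (Subtype.ext rfl)
    rw [e]; exact h ⟨_, h' r⟩
  refine mem_of_eq (hφ.2 (α * β) (mul_mem hα hβ) R' hR' hm) fun r => ?_
  show ((β⁻¹ ⟨((α⁻¹ ⟨φ ⟨((α ⟨((β ⟨(r : Ω), _⟩ : S) : Ω), _⟩ : S) : Ω), _⟩, _⟩ : S) : Ω), _⟩ : S) : Ω) = _
  simp only [twist_apply, mul_inv_rev, MulAut.mul_apply, Subtype.coe_eta]

/-- The subgroup generated by the elements of `p`-power order is normal, in `Aut_F(R)`. -/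
lemma conj_mem_closure_pElements {p : ℕ} (β : MulAut R) (hβ : β ∈ F.autGroup R) (c : MulAut R)
    (hc : c ∈ (Subgroup.closure {α : ↥(F.autGroup R) | ∃ k : ℕ, orderOf α = p ^ k}).map
      (F.autGroup R).subtype) :
    β * c * β⁻¹ ∈ (Subgroup.closure {α : ↥(F.autGroup R) | ∃ k : ℕ, orderOf α = p ^ k}).map
      (F.autGroup R).subtype := by
  obtain ⟨d, hd, rfl⟩ := hc
  have hle : Subgroup.closure {α : ↥(F.autGroup R) | ∃ k : ℕ, orderOf α = p ^ k} ≤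
      (Subgroup.closure {α : ↥(F.autGroup R) | ∃ k : ℕ, orderOf α = p ^ k}).comap
        (MulAut.conj (⟨β, hβ⟩ : F.autGroup R)).toMonoidHom := by
    rw [Subgroup.closure_le]
    rintro x ⟨k, hk⟩
    exact Subgroup.subset_closure ⟨k, (orderOf_injective _ (MulEquiv.injective _) x).trans hk⟩
  exact ⟨_, hle hd, rfl⟩

variable {p : ℕ} [Fact p.Prime] [Finite S]

/-- Data: `E ⊆ F` contains `O^{p'}(Aut_F(P))` for centric `P`. -/
theorem mem_invariantCore_of_pElement (hEF : E.IsSubsystemOf F)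
    (h : ∀ P : Subgroup Ω, F.IsCentric P →
      (Subgroup.closure {α : ↥(F.autGroup P) | ∃ k : ℕ, orderOf α = p ^ k}).map (F.autGroup P).subtype ≤
        E.autGroup P) (hc : F.IsCentric P) {γ : F.autGroup P} {k : ℕ} (hγ : orderOf γ = p ^ k) :
    (γ : MulAut P) ∈ (invariantCore E (F.autGroup S)).autGroup P := by
  have hP := hc.1
  have hγE := (mem_autGroup hP).1 (h P hc ⟨γ, Subgroup.subset_closure ⟨k, hγ⟩, rfl⟩)
  refine (mem_autGroup hP).2 ⟨hγE, fun α hα R hR hm => ?_⟩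
  -- the preimage of `P` under `α`
  set σ : P →* Ω := S.subtype.comp ((α⁻¹ : MulAut S).toMonoidHom.comp (Subgroup.inclusion hP))
  have hσ : σ ∈ F.Hom P := restrict_of_eq ((mem_autGroup le_rfl).1 (inv_mem hα)) hP fun _ => rfl
  have hRσ : R ≤ σ.range := fun r hr => ⟨⟨_, hm ⟨r, hr⟩⟩, by
    show ((α⁻¹ (α ⟨r, hR hr⟩) : S) : Ω) = r
    rw [MulAut.inv_apply_self]⟩
  set e := isoOfHom (F.injective_of_mem hσ) (rfl : σ.range = σ.range)
  set γ' := MulAut.congr e (γ : MulAut P) with hγ'def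
  have hγ'F : γ' ∈ F.autGroup σ.range := congr_mem_autGroup hσ rfl γ.2
  have hord : orderOf (⟨γ', hγ'F⟩ : F.autGroup σ.range) = p ^ k := by
    rw [← Subgroup.orderOf_coe]
    show orderOf ((MulAut.congr e).toMonoidHom (γ : MulAut P)) = _
    rw [orderOf_injective (MulAut.congr e).toMonoidHom (MulEquiv.injective _),
      Subgroup.orderOf_coe, hγ]
  have hγ'E := (mem_autGroup (range_le hσ)).1
    (h σ.range (isCentric_of_conj hc ⟨σ, hσ, rfl⟩) ⟨⟨γ', hγ'F⟩, Subgroup.subset_closure ⟨k, hord⟩, rfl⟩)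
  refine restrict_of_eq hγ'E hRσ fun r => ?_
  show _ = ((e ((γ : MulAut P) (e.symm ⟨r, hRσ r.2⟩)) : σ.range) : Ω)
  have e1 : e.symm ⟨r, hRσ r.2⟩ = ⟨_, hm r⟩ := by
    rw [MulEquiv.symm_apply_eq]
    refine Subtype.ext ?_
    show (r : Ω) = ((α⁻¹ (α ⟨(r : Ω), hR r.2⟩) : S) : Ω)
    rw [MulAut.inv_apply_self]
  rw [e1]
  rfl

theorem closure_le_invariantCore (hEF : E.IsSubsystemOf F)
    (h : ∀ P : Subgroup Ω, F.IsCentric P →
      (Subgroup.closure {α : ↥(F.autGroup P) | ∃ k : ℕ, orderOf α = p ^ k}).map (F.autGroup P).subtype ≤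
        E.autGroup P) (hc : F.IsCentric P) :
    (Subgroup.closure {α : ↥(F.autGroup P) | ∃ k : ℕ, orderOf α = p ^ k}).map (F.autGroup P).subtype ≤
      (invariantCore E (F.autGroup S)).autGroup P := by
  rw [Subgroup.map_le_iff_le_comap, Subgroup.closure_le]
  rintro γ ⟨k, hk⟩
  exact mem_invariantCore_of_pElement hEF h hc hk

/-- The Frattini decomposition `F = Aut_F(S) ∘ E`. -/
theorem le_twistProduct_invariantCore (hS : IsPGroup p S) (hF : F.IsSaturated p) (hEF : E.IsSubsystemOf F)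
    (h : ∀ P : Subgroup Ω, F.IsCentric P →
      (Subgroup.closure {α : ↥(F.autGroup P) | ∃ k : ℕ, orderOf α = p ^ k}).map (F.autGroup P).subtype ≤
        E.autGroup P) :
    F ≤ twistProduct (invariantCore E (F.autGroup S)) (F.autGroup S) invBy_invariantCore := by
  refine le_of_essential_rec hS hF fun P hP hrec => ?_
  rcases hP with rfl | ⟨hc, hn, -⟩
  · intro α hα
    exact (mem_autGroup le_rfl).2 ⟨α, hα, P.subtype, subtype_mem le_rfl, fun x _ => rfl⟩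
  rcases hn.1.eq_or_lt with rfl | hlt
  · intro α hα
    exact (mem_autGroup le_rfl).2 ⟨α, hα, P.subtype, subtype_mem le_rfl, fun x _ => rfl⟩
  haveI := finite_mulAut hn.1
  set K := (Subgroup.closure {α : ↥(F.autGroup P) | ∃ k : ℕ, orderOf α = p ^ k}).map (F.autGroup P).subtype
  refine autGroup_le_of_normal (p := p) hS (fullyAutomized_of_fullyNormalized hS hF hn)
    (receptive_of_fullyNormalized hS hF hn) le_rfl hn.1 K ?_ (Subgroup.map_subtype_le _)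
    (fun β hβ c hc => conj_mem_closure_pElements β hβ c hc) ?_ ?_
  · intro γ hγ
    exact (mem_autGroup hn.1).2
      (mem_twistProduct_of_mem ((mem_autGroup hn.1).1 (closure_le_invariantCore hEF h hc hγ)))
  · intro γ hγ
    refine ⟨⟨γ, autInducedBy_le_autGroup hn.1 hγ⟩, Subgroup.subset_closure ?_, rfl⟩
    obtain ⟨j, hj⟩ := (IsPGroup.iff_orderOf.1 (isPGroup_autInducedBy p hS P)) ⟨γ, hγ⟩
    refine ⟨j, ?_⟩
    rw [← Subgroup.orderOf_coe] at hj ⊢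
    exact hj
  · intro φ hφ _ hPN
    haveI := finite_normalizerIn (S := S) P
    refine restrict (hrec _ φ hφ (lt_of_le_of_ne (Subgroup.card_le_of_le hPN) fun he => ?_)) hPN
    exact (lt_normalizerIn hS hlt).ne (Subgroup.eq_of_le_of_card_ge hPN he.ge)

theorem primeToP_of_centrics (hS : IsPGroup p S) (hF : F.IsSaturated p) (hEF : E.IsSubsystemOf F)
    (h : ∀ P : Subgroup Ω, F.IsCentric P →
      (Subgroup.closure {α : ↥(F.autGroup P) | ∃ k : ℕ, orderOf α = p ^ k}).map (F.autGroup P).subtype ≤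
        E.autGroup P) :
    E.HasPrimeToPIndexIn F p ∧
    (∀ (P : Subgroup Ω) (φ : P →* Ω), φ ∈ F.Hom P → ∃ α ∈ F.autGroup S, ∃ φ₀ ∈ E.Hom P,
      ∀ (x : P) (hx : φ₀ x ∈ S), φ x = ((α ⟨φ₀ x, hx⟩ : S) : Ω)) ∧
    ∀ P : Subgroup Ω, E.IsCentric P ↔ F.IsCentric P := by
  have hdec := le_twistProduct_invariantCore hS hF hEF h
  set D := invariantCore E (F.autGroup S)
  refine ⟨⟨hEF, fun P hP => ?_⟩, fun P φ hφ => ?_, fun P => ⟨fun hc => ?_, fun hc => ?_⟩⟩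
  · rw [Subgroup.map_le_iff_le_comap, Subgroup.closure_le]
    rintro γ ⟨k, hk⟩
    suffices hD : (γ : MulAut P) ∈ D.autGroup P from
      (mem_autGroup hP).2 (invariantCore_le _ P ((mem_autGroup hP).1 hD))
    obtain ⟨Q, ⟨φ, hφ, hφQ⟩, ha, -⟩ := hF P hP
    set e := isoOfHom (F.injective_of_mem hφ) hφQ
    have hγ' : MulAut.congr e (γ : MulAut P) ∈ F.autGroup Q := congr_mem_autGroup hφ hφQ γ.2
    have hXp : IsPGroup p (Subgroup.zpowers (MulAut.congr e (γ : MulAut P))) := by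
      refine IsPGroup.of_card (n := k) ?_
      rw [Nat.card_zpowers]
      show orderOf ((MulAut.congr e).toMonoidHom (γ : MulAut P)) = _
      rw [orderOf_injective (MulAut.congr e).toMonoidHom (MulEquiv.injective _),
        Subgroup.orderOf_coe, hk]
    obtain ⟨χ, hχ, hχγ⟩ := exists_conj_le_autInducedBy p ha _ hXp (Subgroup.zpowers_le.2 hγ')
    obtain ⟨g, hg, hgx⟩ := mem_autInducedBy.1 (hχγ _ (Subgroup.mem_zpowers _))
    let φ' : P →* Ω := Q.subtype.comp ((χ : Q ≃* Q).toMonoidHom.comp e.toMonoidHom)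
    have hφ' : φ' ∈ F.Hom P :=
      comp_of_eq hφ ((mem_autGroup ha.1).1 hχ) (mem_of_range_eq hφQ) fun _ => rfl
    have hφ'γ : ∀ x : P, φ' ((γ : MulAut P) x) = g * φ' x * g⁻¹ := by
      intro x
      have h1 := hgx (χ (e x))
      have h2 : MulAut.congr e (γ : MulAut P) (e x) = e ((γ : MulAut P) x) := by
        show e ((γ : MulAut P) (e.symm (e x))) = _
        rw [MulEquiv.symm_apply_apply]
      simp only [MulAut.mul_apply, MulAut.inv_apply_self, h2] at h1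
      exact h1
    obtain ⟨α, hα, φ₀, hφ₀, hag⟩ := hdec P hφ'
    obtain ⟨ψ₀, hψ₀, -, h1, -⟩ := exists_inv hφ₀ (rfl : φ₀.range = φ₀.range)
    have key : ∀ x : P,
        φ₀ ((γ : MulAut P) x) = ((α⁻¹ ⟨g, hg⟩ : S) : Ω) * φ₀ x * ((α⁻¹ ⟨g, hg⟩ : S) : Ω)⁻¹ := by
      intro x
      have h2 : α ⟨φ₀ ((γ : MulAut P) x), val_mem hφ₀ _⟩ =
          ⟨g, hg⟩ * α ⟨φ₀ x, val_mem hφ₀ x⟩ * ⟨g, hg⟩⁻¹ := by
        refine Subtype.ext ?_
        rw [← hag, hφ'γ, hag x (val_mem hφ₀ x)]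
        rfl
      have h3 := congrArg (fun z : S => ((α⁻¹ z : S) : Ω)) h2
      simp only [map_mul, map_inv, MulAut.inv_apply_self, Subgroup.coe_mul, Subgroup.coe_inv] at h3
      exact h3
    have hgs := val_mem hφ₀ (P := P)
    have hc : conjHom φ₀.range ((α⁻¹ ⟨g, hg⟩ : S) : Ω) ∈ D.Hom φ₀.range :=
      D.conj_mem (range_le hφ₀) (α⁻¹ _).2
    have hm : ∀ x : P, φ₀ x ∈ φ₀.range := fun x => ⟨x, rfl⟩
    have hm2 : ∀ y : φ₀.range, conjHom φ₀.range ((α⁻¹ ⟨g, hg⟩ : S) : Ω) y ∈ φ₀.range := by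
      rintro ⟨_, x, rfl⟩
      exact ⟨_, key x⟩
    refine (mem_autGroup hP).2 (comp_of_eq hφ₀ (D.comp_mem hc hψ₀ hm2) hm fun x => ?_)
    show (((γ : MulAut P) x : P) : Ω) = ψ₀ ⟨_, hm2 ⟨φ₀ x, hm x⟩⟩
    refine (h1 ((γ : MulAut P) x) (hm _)).symm.trans (congrArg ψ₀ (Subtype.ext ?_))
    exact key x
  · obtain ⟨α, hα, φ₀, hφ₀, hag⟩ := hdec P hφ
    exact ⟨α, hα, φ₀, invariantCore_le _ P hφ₀, hag⟩
  · refine ⟨hc.1, ?_⟩
    rintro _ ⟨φ, hφ, rfl⟩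
    obtain ⟨α, hα, φ₀, hφ₀, hag⟩ := hdec P hφ
    have h0 := hc.2 φ₀.range ⟨φ₀, invariantCore_le _ P hφ₀, rfl⟩
    rintro y ⟨hyS, hy⟩
    have hy0 : ((α⁻¹ ⟨y, hyS⟩ : S) : Ω) ∈ φ₀.range := by
      refine h0 ⟨(α⁻¹ _).2, Subgroup.mem_centralizer_iff.2 ?_⟩
      rintro _ ⟨x, rfl⟩
      have h1 := Subgroup.mem_centralizer_iff.1 hy (φ x) ⟨x, rfl⟩
      rw [hag x (val_mem hφ₀ x)] at h1
      have h2 : α ⟨φ₀ x, val_mem hφ₀ x⟩ * ⟨y, hyS⟩ = ⟨y, hyS⟩ * α ⟨φ₀ x, val_mem hφ₀ x⟩ := Subtype.ext h1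
      have h3 := congrArg (fun z : S => ((α⁻¹ z : S) : Ω)) h2
      simp only [map_mul, MulAut.inv_apply_self, Subgroup.coe_mul] at h3
      exact h3
    obtain ⟨x, hx⟩ := hy0
    refine ⟨x, ?_⟩
    rw [hag x (val_mem hφ₀ x)]
    have : (⟨φ₀ x, val_mem hφ₀ x⟩ : S) = α⁻¹ ⟨y, hyS⟩ := Subtype.ext hx
    rw [this, MulAut.apply_inv_self]
  · exact isCentric_mono hEF hc

end CfsgLib.Fusion
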