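import Cfsg.Agent.Fusion.ResidualAut
import Cfsg.Agent.Fusion.InvariantCore

/-!
Saturated subsystems of `p`-power index over normal subgroups are normal.
-/

set_option autoImplicit false
set_option linter.style.haveILetI false

open Cfsg

namespace CfsgLib.Fusion

open Cfsg.FusionSystem

universe u

variable {Ω : Type u} [Group Ω] {S T : Subgroup Ω} {F : Cfsg.FusionSystem S} {P Q R : Subgroup Ω}
variable {p : ℕ} [Fact p.Prime]

lemma inv_mul_mem_hyperfocal (hP : P ≤ S) {α : F.autGroup P} (hα : α ∈ Cfsg.pResidual p (F.autGroup P))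
    (x : P) : (x : Ω)⁻¹ * (((α : MulAut P) x : P) : Ω) ∈ F.hyperfocalSubgroup p :=
  Subgroup.subset_closure ⟨P, α, x, hP, hα, rfl⟩

/-- The maps preserving membership in a subgroup normalized by `S`. -/
def preservingSystem (F : Cfsg.FusionSystem S) (T : Subgroup Ω)
    (hn : S ≤ Subgroup.normalizer (T : Set Ω)) : Cfsg.FusionSystem S where
  Hom P := {φ | φ ∈ F.Hom P ∧ ∀ x : P, ((x : Ω) ∈ T ↔ φ x ∈ T)}
  le_of_mem h := F.le_of_mem h.1
  injective_of_mem h := F.injective_of_mem h.1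
  conj_mem := fun hP hg => ⟨F.conj_mem hP hg, fun x => Subgroup.mem_normalizer_iff.1 (hn hg) x⟩
  comp_mem := fun h₁ h₂ h => ⟨F.comp_mem h₁.1 h₂.1 h, fun x => (h₁.2 x).trans (h₂.2 ⟨_, h x⟩)⟩
  inv_mem := by
    rintro P φ ⟨hφ, hiff⟩
    obtain ⟨ψ, hψ, h⟩ := F.inv_mem hφ
    refine ⟨ψ, ⟨hψ, ?_⟩, h⟩
    rintro ⟨_, x, rfl⟩
    rw [h x]
    exact (hiff x).symm

theorem stronglyClosed_of_hyperfocal_le [Finite S] (hS : IsPGroup p S) (hF : F.IsSaturated p) (hTS : T ≤ S)
    (hn : S ≤ Subgroup.normalizer (T : Set Ω)) (hT : F.hyperfocalSubgroup p ≤ T) : F.StronglyClosed T := by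
  have hle : F ≤ preservingSystem F T hn := by
    refine le_of_centricRadical hS hF _ fun R hRn _ _ => ?_
    refine autGroup_le_of_residual (fullyAutomized_of_fullyNormalized hS hF hRn) ?_
      (autInducedBy_le_autGroup hRn.1)
    rintro _ ⟨c, hc, rfl⟩
    refine (mem_autGroup hRn.1).2 ⟨(mem_autGroup hRn.1).1 c.2, fun x => ?_⟩
    have h1 := hT (inv_mul_mem_hyperfocal hRn.1 hc x)
    show (x : Ω) ∈ T ↔ (((c : MulAut R) x : R) : Ω) ∈ T
    constructor
    · intro hx
      have h2 := T.mul_mem hx h1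
      rwa [mul_inv_cancel_left] at h2
    · intro hx
      have h2 := T.mul_mem hx (T.inv_mem h1)
      rwa [mul_inv_rev, inv_inv, mul_inv_cancel_left] at h2
  exact ⟨hTS, fun R hR φ hφ x => ((hle R hφ).2 x).1 (hR x.2)⟩

variable {E : Cfsg.FusionSystem T}

theorem le_invariantCore_of_pPowerIndex [Finite S] (hS : IsPGroup p S) (hTS : T ≤ S) (hE : E.IsSaturated p)
    (hEi : E.HasPPowerIndexIn F p) : E ≤ invariantCore E (F.autGroup T) := by
  refine le_of_residual (F := F) hS hTS E _ hE hEi.1 fun P hP => ?_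
  rw [Subgroup.map_le_iff_le_comap, Cfsg.pResidual, Subgroup.closure_le]
  intro γ hγ
  have hPS := hP.trans hTS
  have hγE := (mem_autGroup hP).1 (hEi.2.2 P hP ⟨γ, Subgroup.subset_closure hγ, rfl⟩)
  refine (mem_autGroup hP).2 ⟨hγE, fun α hα R hR hm => ?_⟩
  set σ : P →* Ω := T.subtype.comp ((α⁻¹ : MulAut T).toMonoidHom.comp (Subgroup.inclusion hP))
  have hσ : σ ∈ F.Hom P := restrict_of_eq ((mem_autGroup hTS).1 (inv_mem hα)) hP fun _ => rfl
  have hσT : σ.range ≤ T := by rintro _ ⟨x, rfl⟩; exact (α⁻¹ _).2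
  have hRσ : R ≤ σ.range := fun r hr => ⟨⟨_, hm ⟨r, hr⟩⟩, by
    show ((α⁻¹ (α ⟨r, hR hr⟩) : T) : Ω) = r
    rw [MulAut.inv_apply_self]⟩
  set e := isoOfHom (F.injective_of_mem hσ) (rfl : σ.range = σ.range)
  set γ' := MulAut.congr e (γ : MulAut P) with hγ'def
  have hγ'F : γ' ∈ F.autGroup σ.range := congr_mem_autGroup hσ rfl γ.2
  have hord : orderOf (⟨γ', hγ'F⟩ : F.autGroup σ.range) = orderOf γ := by
    rw [← Subgroup.orderOf_coe]
    show orderOf ((MulAut.congr e).toMonoidHom (γ : MulAut P)) = _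
    rw [orderOf_injective (MulAut.congr e).toMonoidHom (MulEquiv.injective _), Subgroup.orderOf_coe]
  have hγ'E := (mem_autGroup hσT).1 (hEi.2.2 σ.range hσT
    ⟨⟨γ', hγ'F⟩, Subgroup.subset_closure (show Nat.Coprime _ p from hord ▸ hγ), rfl⟩)
  refine restrict_of_eq hγ'E hRσ fun r => ?_
  show _ = ((e ((γ : MulAut P) (e.symm ⟨r, hRσ r.2⟩)) : σ.range) : Ω)
  have e1 : e.symm ⟨r, hRσ r.2⟩ = ⟨_, hm r⟩ := by
    rw [MulEquiv.symm_apply_eq]
    refine Subtype.ext ?_
    show (r : Ω) = ((α⁻¹ (α ⟨(r : Ω), hR r.2⟩) : T) : Ω)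
    rw [MulAut.inv_apply_self]
  rw [e1]
  rfl

theorem invBy_of_pPowerIndex [Finite S] (hS : IsPGroup p S) (hTS : T ≤ S) (hE : E.IsSaturated p)
    (hEi : E.HasPPowerIndexIn F p) : InvBy E (F.autGroup T) := fun P _φ hφ α hα R hR h =>
  ((le_invariantCore_of_pPowerIndex hS hTS hE hEi) P hφ).2 α hα R hR h

/-- The maps whose restriction to the part of the source inside `T` lies in `G`. -/
def belowSystem (F : Cfsg.FusionSystem S) (G : Cfsg.FusionSystem T) (hT : F.StronglyClosed T)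
    (hG : ∀ g ∈ S, ∀ P : Subgroup Ω, P ≤ T → conjHom P g ∈ G.Hom P) : Cfsg.FusionSystem S where
  Hom P := {φ | φ ∈ F.Hom P ∧
    φ.comp (Subgroup.inclusion (inf_le_left : P ⊓ T ≤ P)) ∈ G.Hom (P ⊓ T)}
  le_of_mem h := F.le_of_mem h.1
  injective_of_mem h := F.injective_of_mem h.1
  conj_mem := fun hP hg => ⟨F.conj_mem hP hg, mem_of_eq (hG _ hg _ inf_le_right) fun _ => rfl⟩
  comp_mem := by
    rintro P Q φ ψ ⟨hφ, hφ'⟩ ⟨hψ, hψ'⟩ h
    exact ⟨F.comp_mem hφ hψ h, comp_of_eq hφ' hψ'
      (fun x => ⟨h _, stronglyClosed_mapsTo hT hφ _ x.2.2⟩) fun _ => rfl⟩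
  inv_mem := by
    rintro P φ ⟨hφ, hφ'⟩
    obtain ⟨ψ, hψ, h⟩ := F.inv_mem hφ
    obtain ⟨τ, hτ, -, hτ1, -⟩ := exists_inv hφ' rfl
    have key : ∀ y : ↥(φ.range ⊓ T), ∃ x : ↥(P ⊓ T), φ (Subgroup.inclusion inf_le_left x) = y ∧
        ψ (Subgroup.inclusion inf_le_left y) = (x : Ω) := by
      rintro ⟨_, ⟨x, rfl⟩, hy⟩
      have h1 := stronglyClosed_mapsTo hT hψ ⟨φ x, x, rfl⟩ hy
      rw [h x] at h1
      exact ⟨⟨x, x.2, h1⟩, rfl, h x⟩
    refine ⟨ψ, ⟨hψ, restrict_of_eq hτ (fun y hy => ?_) fun y => ?_⟩, h⟩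
    · obtain ⟨x, hx, -⟩ := key ⟨y, hy⟩
      exact ⟨x, hx⟩
    · obtain ⟨x, hx, hx'⟩ := key y
      refine hx'.trans ((hτ1 x ⟨x, rfl⟩).symm.trans (congrArg τ (Subtype.ext ?_)))
      exact hx

theorem isNormalIn_of_pPowerIndex [Finite S] (hS : IsPGroup p S) (hF : F.IsSaturated p) (hTS : T ≤ S)
    (hTn : (T.subgroupOf S).Normal) (hT : F.hyperfocalSubgroup p ≤ T) (hE : E.IsSaturated p)
    (hEi : E.HasPPowerIndexIn F p) : E.IsNormalIn F p := by
  have hn : S ≤ Subgroup.normalizer (T : Set Ω) := (Subgroup.normal_subgroupOf_iff_le_normalizer hTS).1 hTn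
  have hsc := stronglyClosed_of_hyperfocal_le hS hF hTS hn hT
  have hIB := invBy_of_pPowerIndex hS hTS hE hEi
  haveI := finite_of_le hTS
  have hTp := hS.to_le hTS
  set A := F.autGroup T
  set G := twistProduct E A hIB
  have hcA : ∀ g (hg : g ∈ S), conjAut T S ⟨g, hg, hn hg⟩ ∈ A := fun g hg =>
    autInducedBy_le_autGroup hTS (range_conjAut (P := T) S ▸ ⟨_, rfl⟩)
  have hGconj : ∀ g ∈ S, ∀ P : Subgroup Ω, P ≤ T → conjHom P g ∈ G.Hom P := fun g hg P hP =>
    ⟨_, hcA g hg, P.subtype, subtype_mem hP, fun _ _ => rfl⟩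
  have hfrat : F ≤ belowSystem F G hsc hGconj := by
    refine le_of_centricRadical hS hF _ fun R hRn _ _ => ?_
    refine autGroup_le_of_residual (fullyAutomized_of_fullyNormalized hS hF hRn) ?_
      (autInducedBy_le_autGroup hRn.1)
    rw [Subgroup.map_le_iff_le_comap, Cfsg.pResidual, Subgroup.closure_le]
    intro c hc
    have hcR := (mem_autGroup hRn.1).1 c.2
    refine (mem_autGroup hRn.1).2 ⟨hcR, ?_⟩
    obtain ⟨a, haco, hax⟩ := exists_restrict_coprime (p := p) hRn.1 (inf_le_left : R ⊓ T ≤ R) c.2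
      (by rw [Subgroup.orderOf_coe]; exact hc)
      (fun x => ⟨((c : MulAut R) _).2, stronglyClosed_mapsTo hsc hcR _ x.2.2⟩)
    have haE := (mem_autGroup (inf_le_right : R ⊓ T ≤ T)).1
      (hEi.2.2 _ inf_le_right ⟨a, Subgroup.subset_closure haco, rfl⟩)
    exact mem_of_eq (mem_twistProduct_of_mem haE) fun x => (hax x).symm
  refine ⟨⟨hE, hF, hEi.1, hsc, ?_, ?_⟩, ?_⟩
  · intro P hPT φ hφ α hα
    set R := (P.subgroupOf T).map (T.subtype.comp α.toMonoidHom)
    have hR : R ≤ T := by rintro _ ⟨x, -, rfl⟩; exact (α x).2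
    have hm : ∀ r : R, ((α⁻¹ ⟨r, hR r.2⟩ : T) : Ω) ∈ P := by
      rintro ⟨_, x, hx, rfl⟩
      show ((α⁻¹ (α x) : T) : Ω) ∈ P
      rw [MulAut.inv_apply_self]; exact hx
    refine ⟨_, hIB P φ hφ α⁻¹ (inv_mem hα) R hR hm, fun x hφx hαx => ?_⟩
    show ((α⁻¹⁻¹ ⟨φ ⟨((α⁻¹ ⟨((α ⟨(x : Ω), _⟩ : T) : Ω), _⟩ : T) : Ω), _⟩, _⟩ : T) : Ω) = _
    simp only [inv_inv, Subtype.coe_eta, MulAut.inv_apply_self]
  · intro P hP φ hφ
    have h1 := (hfrat P hφ).2
    have h2 : φ ∈ G.Hom P := hom_congr h1 (inf_eq_left.2 hP) fun _ _ _ => rfl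
    exact h2
  · -- extensions to `T C_S(T)`
    set D := T ⊔ centralizerIn S T
    have hDS : D ≤ S := sup_le hTS inf_le_left
    haveI := finite_of_le hDS
    haveI := finite_mulAut hDS
    haveI := finite_mulAut hTS
    let Ext : MulAut T → MulAut D → Prop := fun α β => β ∈ F.autGroup D ∧
      (∀ x : T, ((β (Subgroup.inclusion le_sup_left x) : D) : Ω) = ((α x : T) : Ω)) ∧
      ∀ c : D, (c : Ω) ∈ centralizerIn S T →
        (c : Ω)⁻¹ * ((β c : D) : Ω) ∈ T ⊓ Subgroup.centralizer (T : Set Ω)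
    have hmul : ∀ {a a' : MulAut T} {b b' : MulAut D}, Ext a b → Ext a' b' → Ext (a * a') (b * b') := by
      rintro a a' b b' ⟨hb, h1, h2⟩ ⟨hb', h1', h2'⟩
      refine ⟨mul_mem hb hb', fun x => ?_, fun c hc => ?_⟩
      · rw [MulAut.mul_apply, MulAut.mul_apply, ← h1]
        exact congrArg (fun z : D => ((b z : D) : Ω)) (Subtype.ext (h1' x))
      · have hz := h2' c hc
        have hc' : ((b' c : D) : Ω) ∈ centralizerIn S T := by
          have := (centralizerIn S T).mul_mem hc ⟨hTS hz.1, hz.2⟩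
          rwa [mul_inv_cancel_left] at this
        have := (T ⊓ Subgroup.centralizer (T : Set Ω)).mul_mem hz (h2 _ hc')
        rw [MulAut.mul_apply]
        simpa [mul_assoc] using this
    have hone : Ext 1 1 := ⟨one_mem _, fun _ => rfl, fun c _ => by
      show (c : Ω)⁻¹ * (c : Ω) ∈ _
      rw [inv_mul_cancel]; exact one_mem _⟩
    have hpow : ∀ {a b}, Ext a b → ∀ n : ℕ, Ext (a ^ n) (b ^ n) := by
      intro a b h n
      induction n with
      | zero => exact hone
      | succ n ih => rw [pow_succ, pow_succ]; exact hmul ih h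
    let X : Subgroup (MulAut T) :=
      { carrier := {a | ∃ b, Ext a b}
        one_mem' := ⟨1, hone⟩
        mul_mem' := fun ⟨_, h⟩ ⟨_, h'⟩ => ⟨_, hmul h h'⟩
        inv_mem' := by
          rintro a ⟨b, h⟩
          refine ⟨b ^ (orderOf a - 1), ?_⟩
          have h1 := hpow h (orderOf a - 1)
          rwa [← inv_eq_of_mul_eq_one_right (by
            rw [← pow_succ', Nat.sub_add_cancel (orderOf_pos a), pow_orderOf_eq_one] :
              a * a ^ (orderOf a - 1) = 1)] at h1 }
    have hX : E.autGroup T ≤ X := by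
      refine autGroup_le_of_residual
        (fullyAutomized_of_fullyNormalized hTp hE (isFullyNormalized_self E)) ?_ ?_
      · rw [Subgroup.map_le_iff_le_comap, Cfsg.pResidual, Subgroup.closure_le]
        intro c hc
        have hcF' : (c : MulAut T) ∈ F.autGroup T :=
          (mem_autGroup hTS).2 (hEi.1 T ((mem_autGroup le_rfl).1 c.2))
        have hTfn : F.IsFullyNormalized T := ⟨hTS, fun Q _ => by
          haveI := finite_normalizerIn (S := S) T
          exact Subgroup.card_le_of_le (le_inf inf_le_left (inf_le_left.trans hn))⟩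
        obtain ⟨ψ, hψ, hag⟩ := (receptive_of_fullyNormalized hS hF hTfn).2 T _
          ((mem_autGroup hTS).1 hcF') (range_aut (c : MulAut T))
        have hle : D ≤ extender S T (T.subtype.comp (c : MulAut T).toMonoidHom) :=
          sup_le (le_extender ((mem_autGroup hTS).1 hcF')) centralizerIn_le_extender
        have hψD := restrict hψ hle
        have hmaps : D ≤ (D.comap (ψ.comp (Subgroup.inclusion hle))).map D.subtype := by
          refine sup_le (fun y hy => ⟨⟨y, Subgroup.mem_sup_left hy⟩, ?_, rfl⟩)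
            (fun y hy => ⟨⟨y, Subgroup.mem_sup_right hy⟩, ?_, rfl⟩)
          · show ψ _ ∈ D
            refine Subgroup.mem_sup_left ?_
            rw [show Subgroup.inclusion hle ⟨y, Subgroup.mem_sup_left hy⟩ =
              ⟨y, hle (Subgroup.mem_sup_left hy)⟩ from rfl, hag y hy]
            exact ((c : MulAut T) ⟨y, hy⟩).2
          · show ψ _ ∈ D
            refine Subgroup.mem_sup_right ?_
            have h3 := map_mem_centralizerIn hψ (le_extender ((mem_autGroup hTS).1 hcF'))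
              (fun z => hag z z.2 _) (hle (Subgroup.mem_sup_right hy)) hy.2
            rwa [range_aut] at h3
        have hvals : ∀ y : D, ψ (Subgroup.inclusion hle y) ∈ D := fun y => by
          obtain ⟨z, hz, hzy⟩ := hmaps y.2
          rwa [show y = z from Subtype.ext hzy.symm]
        have hr : (ψ.comp (Subgroup.inclusion hle)).range = D := by
          refine Subgroup.eq_of_le_of_card_ge (by rintro _ ⟨y, rfl⟩; exact hvals y) (le_of_eq ?_)
          exact Nat.card_congr (MonoidHom.ofInjective (F.injective_of_mem hψD)).toEquiv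
        let β : MulAut D := isoOfHom (F.injective_of_mem hψD) hr
        have hβ : β ∈ F.autGroup D := mem_autGroup_of_eq hψD fun _ => rfl
        have hres : ∀ (n : ℕ) (x : T), (((β ^ n) (Subgroup.inclusion le_sup_left x) : D) : Ω) =
            ((((c : MulAut T) ^ n) x : T) : Ω) := by
          intro n
          induction n with
          | zero => intro x; rfl
          | succ n ih =>
            intro x
            rw [pow_succ', pow_succ', MulAut.mul_apply, MulAut.mul_apply]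
            have e : (β ^ n) (Subgroup.inclusion le_sup_left x) =
                Subgroup.inclusion le_sup_left (((c : MulAut T) ^ n) x) := Subtype.ext (ih x)
            rw [e]
            exact hag _ (((c : MulAut T) ^ n) x).2 _
        obtain ⟨k, hk, hk1⟩ := exists_pow_coprime (p := p) β (n := orderOf (c : MulAut T))
          (by rw [Subgroup.orderOf_coe]; exact hc)
        have hck : (c : MulAut T) ^ k = c := pow_eq_self_of_modEq hk1
        refine ⟨β ^ k, pow_mem hβ k, fun x => ?_, fun y hy => ?_⟩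
        · rw [hres, hck]
          rfl
        have h1 : (⟨β ^ k, pow_mem hβ k⟩ : F.autGroup D) ∈ Cfsg.pResidual p (F.autGroup D) :=
          Subgroup.subset_closure (show Nat.Coprime _ p by rw [← Subgroup.orderOf_coe]; exact hk)
        refine ⟨hT (inv_mul_mem_hyperfocal hDS h1 y), ?_⟩
        have h3 : (((β ^ k) y : D) : Ω) ∈ Subgroup.centralizer (T : Set Ω) := by
          refine Subgroup.mem_centralizer_iff.2 fun t ht => ?_
          obtain ⟨t', ht'⟩ := (c : MulAut T).surjective ⟨t, ht⟩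
          have e : (((β ^ k) (Subgroup.inclusion le_sup_left t') : D) : Ω) = t := by
            rw [hres, hck, ht']
          have h4 : Subgroup.inclusion le_sup_left t' * y = y * Subgroup.inclusion le_sup_left t' :=
            Subtype.ext (Subgroup.mem_centralizer_iff.1 hy.2 t' t'.2)
          have h5 := congrArg (fun z : D => (((β ^ k) z : D) : Ω)) h4
          simp only [map_mul, Subgroup.coe_mul, e] at h5
          exact h5
        exact (Subgroup.centralizer (T : Set Ω)).mul_mem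
          ((Subgroup.centralizer (T : Set Ω)).inv_mem hy.2) h3
      · intro γ hγ
        obtain ⟨g, hg, hgx⟩ := mem_autInducedBy.1 hγ
        refine ⟨conjAut D S ⟨g, hTS hg, Subgroup.le_normalizer (Subgroup.mem_sup_left hg)⟩,
          autInducedBy_le_autGroup hDS (range_conjAut (P := D) S ▸ ⟨_, rfl⟩), fun x => (hgx x).symm,
          fun y hy => ?_⟩
        show (y : Ω)⁻¹ * (g * (y : Ω) * g⁻¹) ∈ _
        rw [Subgroup.mem_centralizer_iff.1 hy.2 g hg, mul_inv_cancel_right, inv_mul_cancel]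
        exact one_mem _
    intro α hα
    obtain ⟨β, hβ⟩ := hX hα
    exact ⟨β, hβ⟩

end CfsgLib.Fusion
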