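import Cfsg.Agent.Fusion.Alperin
import Cfsg.Agent.Fusion.AlperinCor
import Cfsg.Agent.Fusion.SeriesNormal
import Cfsg.Agent.Fusion.FactorSat
import Cfsg.Agent.Transfer.Residual

/-!
`O^p` of the automizers: hyperfocal elements on a strongly closed subgroup, subsystems of `p`-power index.
-/

set_option autoImplicit false
set_option linter.style.haveILetI false

open Cfsg

namespace CfsgLib.Fusion

open Cfsg.FusionSystem

universe u

variable {Ω : Type u} [Group Ω] {S T : Subgroup Ω} {F : Cfsg.FusionSystem S} {P Q R : Subgroup Ω}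
variable {p : ℕ} [Fact p.Prime]

/-- In a finite group, a power of `β` of order prime to `p` with exponent congruent to `1` modulo an order
prime to `p`. -/
lemma exists_pow_coprime {A : Type*} [Group A] [Finite A] (β : A) {n : ℕ} (hn : Nat.Coprime n p) :
    ∃ k : ℕ, Nat.Coprime (orderOf (β ^ k)) p ∧ k ≡ 1 [MOD n] := by
  have hp : p.Prime := Fact.out
  obtain ⟨a, m, hm, he⟩ := Nat.exists_eq_pow_mul_and_not_dvd (orderOf_pos β).ne' p hp.ne_one
  obtain ⟨k, hk0, hk1⟩ := Nat.chineseRemainder ((hn.symm).pow_left a) 0 1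
  refine ⟨k, ?_, hk1⟩
  obtain ⟨c, rfl⟩ := Nat.modEq_zero_iff_dvd.1 hk0
  refine Nat.Coprime.coprime_dvd_left (k := m) (orderOf_dvd_of_pow_eq_one ?_)
    ((hp.coprime_iff_not_dvd.2 hm).symm)
  rw [← pow_mul, show p ^ a * c * m = orderOf β * c by rw [he]; ring, pow_mul, pow_orderOf_eq_one, one_pow]

lemma pow_eq_self_of_modEq {A : Type*} [Group A] {α : A} {k : ℕ} (h : k ≡ 1 [MOD orderOf α]) :
    α ^ k = α := by
  conv_rhs => rw [← pow_one α]
  exact pow_eq_pow_iff_modEq.2 h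

/-- The restriction of an automorphism of `D` of order prime to `p` to an invariant subgroup. -/
lemma exists_restrict_coprime [Finite S] (hDS : Q ≤ S) (hRQ : R ≤ Q) {β : MulAut Q} (hβ : β ∈ F.autGroup Q)
    (hco : Nat.Coprime (orderOf β) p) (hinv : ∀ x : R, ((β ⟨x, hRQ x.2⟩ : Q) : Ω) ∈ R) :
    ∃ a : F.autGroup R, Nat.Coprime (orderOf a) p ∧
      ∀ x : R, ((((a : MulAut R) x : R)) : Ω) = ((β ⟨x, hRQ x.2⟩ : Q) : Ω) := by
  haveI := finite_of_le (hRQ.trans hDS)
  set φ : R →* Ω := (Q.subtype.comp β.toMonoidHom).comp (Subgroup.inclusion hRQ)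
  have hφ : φ ∈ F.Hom R := restrict ((mem_autGroup hDS).1 hβ) hRQ
  have hr : φ.range = R := by
    refine Subgroup.eq_of_le_of_card_ge (by rintro _ ⟨x, rfl⟩; exact hinv x) (le_of_eq ?_)
    exact Nat.card_congr (MonoidHom.ofInjective (F.injective_of_mem hφ)).toEquiv
  let a : F.autGroup R := ⟨isoOfHom (F.injective_of_mem hφ) hr, mem_autGroup_of_eq hφ fun _ => rfl⟩
  refine ⟨a, Nat.Coprime.coprime_dvd_left (orderOf_dvd_of_pow_eq_one ?_) hco, fun x => rfl⟩
  have key : ∀ (n : ℕ) (x : R), ((((a : MulAut R) ^ n) x : R) : Ω) = (((β ^ n) ⟨x, hRQ x.2⟩ : Q) : Ω) := by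
    intro n
    induction n with
    | zero => intro x; rfl
    | succ n ih =>
      intro x
      rw [pow_succ', pow_succ', MulAut.mul_apply, MulAut.mul_apply]
      exact congrArg (fun z : Q => ((β z : Q) : Ω)) (Subtype.ext (ih x))
  refine Subtype.ext (MulEquiv.ext fun x => Subtype.ext ?_)
  show ((((a : MulAut R) ^ orderOf β) x : R) : Ω) = (x : Ω)
  rw [key, pow_orderOf_eq_one]
  rfl

/-- Hyperfocal elements induce elements of `O^p(Aut_F(T)) Inn(T)` on a strongly closed `T`. -/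
theorem hyperfocal_induces [Finite S] (hS : IsPGroup p S) (hF : F.IsSaturated p) (hT : F.StronglyClosed T) :
    ∀ x ∈ F.hyperfocalSubgroup p,
      ∃ α ∈ ((Cfsg.pResidual p (F.autGroup T)).map (F.autGroup T).subtype ⊔ Cfsg.Inn T :
        Subgroup (MulAut T)), ∀ t : T, ((α t : T) : Ω) = x * (t : Ω) * x⁻¹ := by
  have hTN := le_normalizer_of_weaklyClosed_fusion (weaklyClosed_of_stronglyClosed hT)
  set K := (Cfsg.pResidual p (F.autGroup T)).map (F.autGroup T).subtype ⊔ Cfsg.Inn T with hK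
  let H : Subgroup Ω :=
    { carrier := {x | ∃ α ∈ K, ∀ t : T, ((α t : T) : Ω) = x * (t : Ω) * x⁻¹}
      one_mem' := ⟨1, one_mem _, fun t => by simp⟩
      mul_mem' := by
        rintro x y ⟨α, hα, hx⟩ ⟨β, hβ, hy⟩
        refine ⟨α * β, mul_mem hα hβ, fun t => ?_⟩
        rw [MulAut.mul_apply, hx, hy]; group
      inv_mem' := by
        rintro x ⟨α, hα, hx⟩
        refine ⟨α⁻¹, inv_mem hα, fun t => ?_⟩
        have h1 := hx (α⁻¹ t)
        rw [MulAut.apply_inv_self] at h1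
        rw [h1]; group }
  have hTH : ∀ t ∈ T, t ∈ H := fun t ht =>
    ⟨MulAut.conj ⟨t, ht⟩, Subgroup.mem_sup_right ⟨⟨t, ht⟩, rfl⟩, fun _ => rfl⟩
  suffices hmain : F.hyperfocalSubgroup p ≤ H from fun x hx => hmain hx
  rw [FusionSystem.hyperfocalSubgroup, Subgroup.closure_le]
  rintro _ ⟨P, α, x, hP, hα, rfl⟩
  revert x
  unfold Cfsg.pResidual at hα
  induction hα using Subgroup.closure_induction with
  | one => intro x; simp
  | mul a b _ _ iha ihb =>
    intro x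
    have h2 := H.mul_mem (ihb x) (iha ((b : MulAut P) x))
    simpa [mul_assoc] using h2
  | inv a _ iha =>
    intro x
    have h2 := H.inv_mem (iha ((a : MulAut P)⁻¹ x))
    simpa using h2
  | mem α hα =>
    intro x
    have hαP := (mem_autGroup hP).1 α.2
    obtain ⟨D, ψ, hψ, hPD, hTD, hn⟩ := nearMap_of_mem hS hF hT (Nat.card S + 1) P _ hαP (by omega)
    set D₀ := P ⊔ T
    have hD₀ : D₀ ≤ D := sup_le hPD hTD
    have hD₀S : D₀ ≤ S := sup_le hP hT.1
    have hψP : ∀ y : P, ψ (Subgroup.inclusion hPD y) ∈ D₀ := fun y => by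
      have hn' : (((α : MulAut P) y : P) : Ω)⁻¹ * ψ (Subgroup.inclusion hPD y) ∈ T := hn y
      have h1 := D₀.mul_mem (Subgroup.mem_sup_left ((α : MulAut P) y).2) (Subgroup.mem_sup_right hn')
      rwa [mul_inv_cancel_left] at h1
    have hle : D₀ ≤ (D₀.comap ψ).map D.subtype := sup_le
      (fun y hy => ⟨⟨y, hPD hy⟩, hψP ⟨y, hy⟩, rfl⟩)
      (fun y hy => ⟨⟨y, hTD hy⟩, Subgroup.mem_sup_right (stronglyClosed_mapsTo hT hψ _ hy), rfl⟩)
    have hψD₀ : ∀ y : D₀, ψ (Subgroup.inclusion hD₀ y) ∈ D₀ := fun y => by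
      obtain ⟨z, hz, hzy⟩ := hle y.2
      rwa [show Subgroup.inclusion hD₀ y = z from Subtype.ext hzy.symm]
    haveI := finite_of_le hD₀S
    haveI := finite_mulAut hP
    haveI := finite_mulAut hD₀S
    have hψ' := restrict hψ hD₀
    have hr : (ψ.comp (Subgroup.inclusion hD₀)).range = D₀ := by
      refine Subgroup.eq_of_le_of_card_ge (by rintro _ ⟨y, rfl⟩; exact hψD₀ y) (le_of_eq ?_)
      exact Nat.card_congr (MonoidHom.ofInjective (F.injective_of_mem hψ')).toEquiv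
    let β : MulAut D₀ := isoOfHom (F.injective_of_mem hψ') hr
    have hβ : β ∈ F.autGroup D₀ := mem_autGroup_of_eq hψ' fun _ => rfl
    obtain ⟨k, hk, hk1⟩ := exists_pow_coprime (p := p) β (n := orderOf (α : MulAut P))
      (by rw [Subgroup.orderOf_coe]; exact hα)
    have hβT : ∀ (n : ℕ) (t : D₀), (t : Ω) ∈ T → (((β ^ n) t : D₀) : Ω) ∈ T := fun n t ht =>
      mem_of_weaklyClosed_aut (weaklyClosed_of_stronglyClosed hT) le_sup_right hD₀S (pow_mem hβ n) ht
    have key : ∀ (n : ℕ) (y : P), (((((α : MulAut P) ^ n) y : P)) : Ω)⁻¹ *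
        (((β ^ n) ⟨y, Subgroup.mem_sup_left y.2⟩ : D₀) : Ω) ∈ T := by
      intro n
      induction n with
      | zero =>
        intro y
        show ((y : Ω))⁻¹ * (y : Ω) ∈ T
        rw [inv_mul_cancel]; exact T.one_mem
      | succ n ih =>
        intro y
        set z : P := ((α : MulAut P) ^ n) y
        set w : D₀ := (β ^ n) ⟨y, Subgroup.mem_sup_left y.2⟩
        have h1 := stronglyClosed_mapsTo hT hψ'
          ((⟨z, Subgroup.mem_sup_left z.2⟩ : D₀)⁻¹ * w) (ih y)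
        rw [map_mul, map_inv] at h1
        have h2 := T.mul_mem (hn z) h1
        rw [pow_succ', pow_succ', MulAut.mul_apply, MulAut.mul_apply]
        show ((((α : MulAut P) z : P) : Ω))⁻¹ * ψ (Subgroup.inclusion hD₀ w) ∈ T
        have h3 : ((((α : MulAut P) z : P) : Ω))⁻¹ * ψ (Subgroup.inclusion hPD z) *
          ((ψ (Subgroup.inclusion hPD z))⁻¹ * ψ (Subgroup.inclusion hD₀ w)) =
          ((((α : MulAut P) z : P) : Ω))⁻¹ * ψ (Subgroup.inclusion hD₀ w) := by group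
        rw [← h3]
        exact h2
    have hαk : (α : MulAut P) ^ k = α := pow_eq_self_of_modEq hk1
    have h4 := key k x
    rw [hαk] at h4
    obtain ⟨a, haco, hax⟩ := exists_restrict_coprime (p := p) hD₀S (le_sup_right : T ≤ D₀) (pow_mem hβ k) hk
      (fun t => hβT k _ t.2)
    set z : D₀ := ⟨x, Subgroup.mem_sup_left x.2⟩
    suffices h5 : (x : Ω)⁻¹ * (((β ^ k) z : D₀) : Ω) ∈ H by
      have h6 := H.mul_mem h5 (H.inv_mem (hTH _ h4))
      simpa [mul_assoc] using h6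
    -- the commutator of `c_x` and `a`
    let c : F.autGroup T := ⟨conjAut T S ⟨x, hP x.2, hTN (hP x.2)⟩,
      autInducedBy_le_autGroup hT.1 (range_conjAut (P := T) S ▸ ⟨_, rfl⟩)⟩
    have hmem : c⁻¹ * a * c * a⁻¹ ∈ Cfsg.pResidual p (F.autGroup T) := by
      have h7 := CfsgLib.Transfer.mem_pResidual_of_coprime haco
      have h8 := (CfsgLib.Transfer.pResidual_normal (p := p) (G := F.autGroup T)).conj_mem a h7 c⁻¹
      rw [inv_inv] at h8
      exact mul_mem h8 (inv_mem h7)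
    refine ⟨_, Subgroup.mem_sup_left ⟨_, hmem, rfl⟩, fun t => ?_⟩
    set u := (a : MulAut T)⁻¹ t
    have hu : (t : Ω) = (((β ^ k) ⟨u, Subgroup.mem_sup_right u.2⟩ : D₀) : Ω) := by
      rw [← hax u]
      exact congrArg (fun v : T => (v : Ω)) (MulAut.apply_inv_self _ (a : MulAut T) t).symm
    show ((((c : MulAut T)⁻¹ ((a : MulAut T) ((c : MulAut T) u))) : T) : Ω) = _
    show (x : Ω)⁻¹ * (((a : MulAut T) ((c : MulAut T) u) : T) : Ω) * (x : Ω) = _
    rw [hax]
    have h9 : (⟨(((c : MulAut T) u : T) : Ω), Subgroup.mem_sup_right ((c : MulAut T) u).2⟩ : D₀) =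
        z * ⟨u, Subgroup.mem_sup_right u.2⟩ * z⁻¹ := Subtype.ext rfl
    rw [h9, map_mul, map_mul, map_inv, hu]
    simp [mul_assoc]

/-- A subgroup containing `O^p(Aut_F(P))` and `Aut_S(P)` contains `Aut_F(P)`. -/
lemma autGroup_le_of_residual [Finite S] (ha : F.IsFullyAutomized p P) {X : Subgroup (MulAut P)}
    (h1 : (Cfsg.pResidual p (F.autGroup P)).map (F.autGroup P).subtype ≤ X)
    (h2 : autInducedBy S P ≤ X) : F.autGroup P ≤ X := by
  obtain ⟨hP, W, hW⟩ := ha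
  haveI := finite_mulAut hP
  intro γ hγ
  have h3 : (⟨γ, hγ⟩ : F.autGroup P) ∈ Cfsg.pResidual p (F.autGroup P) ⊔ (W : Subgroup (F.autGroup P)) := by
    rw [CfsgLib.Transfer.pResidual_sup_sylow W]; exact Subgroup.mem_top _
  have h4 : Cfsg.pResidual p (F.autGroup P) ⊔ (W : Subgroup (F.autGroup P)) ≤ X.subgroupOf (F.autGroup P) :=
    sup_le (fun c hc => h1 ⟨c, hc, rfl⟩) (fun c hc => h2 (hW.le hc))
  exact h4 h3

lemma residual_mono {E : Cfsg.FusionSystem T} (hEF : E.IsSubsystemOf F) (hPT : P ≤ T) (hPS : P ≤ S) :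
    (Cfsg.pResidual p (E.autGroup P)).map (E.autGroup P).subtype ≤
      (Cfsg.pResidual p (F.autGroup P)).map (F.autGroup P).subtype := by
  have hle : E.autGroup P ≤ F.autGroup P := fun α hα =>
    (mem_autGroup hPS).2 (hEF P ((mem_autGroup hPT).1 hα))
  rintro _ ⟨c, hc, rfl⟩
  exact ⟨_, CfsgLib.Transfer.map_pResidual_le (Subgroup.inclusion hle) ⟨c, hc, rfl⟩, rfl⟩

/-- A saturated `E ⊆ F` over `T` is contained in every system over `T` containing `O^p` of the automizers of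
`F`. -/
theorem le_of_residual [Finite S] (hS : IsPGroup p S) (hTS : T ≤ S) (E G : Cfsg.FusionSystem T)
    (hE : E.IsSaturated p) (hEF : E.IsSubsystemOf F)
    (hG : ∀ P : Subgroup Ω, P ≤ T →
      (Cfsg.pResidual p (F.autGroup P)).map (F.autGroup P).subtype ≤ G.autGroup P) : E ≤ G := by
  haveI := finite_of_le hTS
  have hT := hS.to_le hTS
  refine le_of_centricRadical hT hE G fun P hn _ _ => ?_
  exact autGroup_le_of_residual (fullyAutomized_of_fullyNormalized hT hE hn)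
    ((residual_mono hEF hn.1 (hn.1.trans hTS)).trans (hG P hn.1)) (autInducedBy_le_autGroup hn.1)

/-- The maps with source and values in `T`. -/
def restrictToSub (F : Cfsg.FusionSystem S) (T : Subgroup Ω) (hTS : T ≤ S) : Cfsg.FusionSystem T where
  Hom P := {φ | φ ∈ F.Hom P ∧ P ≤ T ∧ ∀ x : P, φ x ∈ T}
  le_of_mem h := ⟨h.2.1, h.2.2⟩
  injective_of_mem h := F.injective_of_mem h.1
  conj_mem := fun hP hg => ⟨F.conj_mem (hP.trans hTS) (hTS hg), hP,
    fun x => T.mul_mem (T.mul_mem hg (hP x.2)) (T.inv_mem hg)⟩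
  comp_mem := by
    rintro P Q φ ψ ⟨hφ, hP, -⟩ ⟨hψ, -, hv⟩ h
    exact ⟨F.comp_mem hφ hψ h, hP, fun x => hv _⟩
  inv_mem := by
    rintro P φ ⟨hφ, hP, hv⟩
    obtain ⟨ψ, hψ, hr, h, -⟩ := exists_inv hφ (rfl : φ.range = φ.range)
    refine ⟨ψ, ⟨hψ, by rintro _ ⟨x, rfl⟩; exact hv x, fun y => hP (hr.le ⟨y, rfl⟩)⟩, fun x => h x _⟩

theorem normal_le_pPowerIndex [Finite S] (hS : IsPGroup p S) {U : Subgroup Ω} {E : Cfsg.FusionSystem T}
    (hE : E.IsSaturated p) (hEF : E.IsSubsystemOf F) {F₀ : Cfsg.FusionSystem U} (hTU : T ≤ U)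
    (hTS : T ≤ S) (hidx : F₀.HasPPowerIndexIn F p) : E.IsSubsystemOf F₀ := by
  intro P φ hφ
  refine (le_of_residual (F := F) hS hTS E (restrictToSub F₀ T hTU) hE hEF (fun Q hQ => ?_) P hφ).1
  rintro _ ⟨c, hc, rfl⟩
  refine (mem_autGroup hQ).2 ⟨(mem_autGroup (hQ.trans hTU)).1 (hidx.2.2 Q (hQ.trans hTU) ⟨c, hc, rfl⟩),
    hQ, fun x => hQ (((c : MulAut Q) x).2)⟩

end CfsgLib.Fusion
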