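import Cfsg.Agent.Fusion.IndexPDet
import Cfsg.Agent.Fusion.PPowerIndexNormal
import Cfsg.Agent.Fusion.NormalCriteria
import Cfsg.Agent.Fusion.ResidualAut

/-!
Saturated subsystems of `p`-power index over any subgroup containing the hyperfocal subgroup: existence and
uniqueness.
-/

set_option autoImplicit false
set_option linter.style.haveILetI false

open Cfsg

namespace CfsgLib.Biset

open Cfsg.FusionSystem CfsgLib.Fusion
open scoped commutatorElement

universe u v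

variable {Ω : Type u} [Group Ω] {S : Subgroup Ω} [Finite S] {F : Cfsg.FusionSystem S} {n : Subgroup (S × S) → ℕ}
variable {A : Type v} [CommGroup A] {p : ℕ} [Fact p.Prime] {χ : S →* A} {T : Subgroup Ω}

/-- What the construction of the subsystem of index `p` needs. -/
structure CharData (F : Cfsg.FusionSystem S) (p : ℕ) (n : Subgroup (S × S) → ℕ) (χ : S →* A) (T : Subgroup Ω) :
    Prop where
  pgroup : IsPGroup p S
  sat : F.IsSaturated p
  graph : ∀ H, n H ≠ 0 → IsFGraph F H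
  stable : IsStable F n
  coprime : ¬ p ∣ degree n
  exponent : ∀ a : A, a ^ p = 1
  surj : Function.Surjective χ
  inv : InvChar F χ
  le : T ≤ S
  ker : ∀ s : S, χ s = 1 ↔ (s : Ω) ∈ T

lemma CharData.stronglyClosed (D : CharData F p n χ T) : F.StronglyClosed T := by
  refine ⟨D.le, fun R hR φ hφ x => ?_⟩
  have h1 := D.inv R φ hφ x
  rw [(D.ker ⟨x, le_of_hom hφ x.2⟩).2 (hR x.2)] at h1
  exact (D.ker _).1 h1

lemma exists_root (D : CharData F p n χ T) (a : A) : ∃ m : ℕ, (a ^ m) ^ degree n = a := by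
  have h : (degree n).Coprime (orderOf a) :=
    Nat.Coprime.coprime_dvd_right (orderOf_dvd_of_pow_eq_one (D.exponent a))
      (((Fact.out : p.Prime).coprime_iff_not_dvd.2 D.coprime).symm)
  obtain ⟨m, hm⟩ := exists_pow_eq_self_of_coprime h
  exact ⟨m, by rw [← pow_mul, mul_comm, pow_mul]; exact hm⟩

/-- The maps realized by an element of determinant one. -/
noncomputable def detSystem (D : CharData F p n χ T) : Cfsg.FusionSystem T where
  Hom P := {φ | ∃ (hφ : φ ∈ F.Hom P), P ≤ T ∧ ∃ w : leftCentralizer n,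
    (∀ x : P, rightHom n ⟨φ x, val_mem hφ x⟩ = w * rightHom n ⟨x, le_of_hom hφ x.2⟩ * w⁻¹) ∧ bdet D.graph χ w = 1}
  le_of_mem := fun {P φ} ⟨hφ, hP, _⟩ => ⟨hP, fun x => D.stronglyClosed.2 P hP φ hφ x⟩
  injective_of_mem := fun ⟨hφ, _, _⟩ => F.injective_of_mem hφ
  conj_mem := by
    intro P g hP hg
    refine ⟨F.conj_mem (hP.trans D.le) (D.le hg), hP, rightHom n ⟨g, D.le hg⟩, fun x => ?_, ?_⟩
    · rw [← map_mul, ← map_inv, ← map_mul]
      rfl
    · rw [bdet_rightHom D.pgroup D.graph D.inv D.exponent, (D.ker ⟨g, D.le hg⟩).2 hg, one_pow]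
  comp_mem := by
    rintro P Q φ ψ ⟨hφ, hP, w, hw, hdw⟩ ⟨hψ, hQ, v, hv, hdv⟩ h
    refine ⟨F.comp_mem hφ hψ h, hP, v * w, fun x => ?_, by rw [map_mul, hdv, hdw, one_mul]⟩
    show rightHom n ⟨ψ ⟨φ x, h x⟩, _⟩ = _
    rw [hv ⟨φ x, h x⟩, hw x, mul_inv_rev, ← mul_assoc, ← mul_assoc, ← mul_assoc]
  inv_mem := by
    rintro P φ ⟨hφ, hP, w, hw, hdw⟩
    obtain ⟨ψ, hψ, h⟩ := F.inv_mem hφ
    refine ⟨ψ, ⟨hψ, by rintro _ ⟨x, rfl⟩; exact D.stronglyClosed.2 P hP φ hφ x, w⁻¹, ?_, ?_⟩, h⟩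
    · rintro ⟨_, x, rfl⟩
      have h1 : (⟨ψ ⟨φ x, ⟨x, rfl⟩⟩, val_mem hψ _⟩ : S) = ⟨x, le_of_hom hφ x.2⟩ := Subtype.ext (h x)
      rw [h1, hw x]
      group
    · rw [map_inv, hdw, inv_one]

lemma detSystem_le (D : CharData F p n χ T) : (detSystem D).IsSubsystemOf F := fun _ _ h => h.1

/-- The values on the centralizer of a receptive subgroup bound the determinants of centralizing elements. -/
lemma bdet_mem_centralizer (D : CharData F p n χ T) {Q : Subgroup Ω} (hQ : F.IsReceptive Q) (w : leftCentralizer n)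
    (hw : ∀ x : Q, rightHom n ⟨x, hQ.1 x.2⟩ * w = w * rightHom n ⟨x, hQ.1 x.2⟩) :
    bdet D.graph χ w ∈ ((centralizerIn S Q).subgroupOf S).map χ := by
  refine bdet_mem_of_commute D.pgroup D.graph D.inv D.exponent hQ.1 w hw _ fun ψ hψ c hc => ?_
  obtain ⟨γ, hγ, hγr, hγ1, -⟩ := exists_inv hψ (rfl : ψ.range = ψ.range)
  obtain ⟨η, hη, hag⟩ := hQ.2 _ γ hγ hγr
  have hcN : (c : Ω) ∈ centralizerIn S ψ.range := ⟨c.2, Subgroup.mem_centralizer_iff.2 (by
    rintro _ ⟨x, rfl⟩; exact hc x)⟩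
  have hcx : (c : Ω) ∈ extender S ψ.range γ := centralizerIn_le_extender hcN
  refine ⟨⟨η ⟨c, hcx⟩, val_mem hη _⟩, ⟨val_mem hη _, Subgroup.mem_centralizer_iff.2 fun q hq => ?_⟩, ?_⟩
  · have e1 : η ⟨ψ ⟨q, hq⟩, le_extender hγ ⟨_, rfl⟩⟩ = q :=
      (hag _ ⟨_, rfl⟩ _).trans (hγ1 ⟨q, hq⟩ ⟨_, rfl⟩)
    rw [← e1]
    show η _ * η _ = η _ * η _
    rw [← map_mul, ← map_mul]
    exact congrArg η (Subtype.ext (hc _))
  · exact D.inv _ η hη ⟨c, hcx⟩

lemma mem_centralizer_map_root (D : CharData F p n χ T) {Q : Subgroup Ω} {s : S}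
    (h : χ s ^ degree n ∈ ((centralizerIn S Q).subgroupOf S).map χ) :
    χ s ∈ ((centralizerIn S Q).subgroupOf S).map χ := by
  obtain ⟨m, hm⟩ := exists_root D (χ s)
  rw [← hm, ← pow_mul, mul_comm, pow_mul]
  exact Subgroup.pow_mem _ h m

/-- A conjugate by an element of `S` of a fully normalized subgroup is fully normalized. -/
lemma isFullyNormalized_conj {Q : Subgroup Ω} (hQ : F.IsFullyNormalized Q) {s : Ω} (hs : s ∈ S) :
    F.IsFullyNormalized (conjHom Q s).range := by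
  have hle : (conjHom Q s).range ≤ S := range_le (F.conj_mem hQ.1 hs)
  have h0 : F.IsConj Q (conjHom Q s).range := ⟨conjHom Q s, F.conj_mem hQ.1 hs, rfl⟩
  refine ⟨hle, fun R hR => le_trans (hQ.2 R (CfsgLib.Fusion.IsConj.trans h0 hR)) ?_⟩
  haveI := finite_normalizerIn (S := S) (conjHom Q s).range
  refine (Subgroup.card_map_of_injective (f := (MulAut.conj s).toMonoidHom)
    (MulAut.conj s).injective).ge.trans (Subgroup.card_le_of_le ?_)
  rintro _ ⟨g, hg, rfl⟩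
  refine ⟨S.mul_mem (S.mul_mem hs hg.1) (S.inv_mem hs), Subgroup.mem_normalizer_iff.2 fun y => ?_⟩
  have hy : ∀ z : Ω, z ∈ (conjHom Q s).range ↔ s⁻¹ * z * s ∈ Q := fun z => by
    constructor
    · rintro ⟨x, rfl⟩
      show s⁻¹ * (s * x * s⁻¹) * s ∈ Q
      simpa [mul_assoc] using x.2
    · intro h
      refine ⟨⟨_, h⟩, ?_⟩
      show s * (s⁻¹ * z * s) * s⁻¹ = z
      group
  rw [hy, hy]
  show _ ↔ s⁻¹ * (s * g * s⁻¹ * y * (s * g * s⁻¹)⁻¹) * s ∈ Q
  rw [show s⁻¹ * (s * g * s⁻¹ * y * (s * g * s⁻¹)⁻¹) * s = g * (s⁻¹ * y * s) * g⁻¹ by group]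
  exact Subgroup.mem_normalizer_iff.1 hg.2 _

theorem isSaturated_detSystem (D : CharData F p n χ T) : (detSystem D).IsSaturated p := by
  intro P hP
  have hPS := hP.trans D.le
  obtain ⟨Q₀, ⟨φ, hφ, hφr⟩, hn₀⟩ := exists_fullyNormalized (F := F) hPS
  obtain ⟨w, hw⟩ := exists_conj_of_hom D.graph D.stable hφ
  obtain ⟨m, hm⟩ := exists_root D (bdet D.graph χ w)⁻¹
  obtain ⟨s, hs⟩ := D.surj ((bdet D.graph χ w)⁻¹ ^ m)
  have hv : ∀ x, φ x ∈ Q₀ := fun x => hφr ▸ ⟨x, rfl⟩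
  obtain ⟨ψ, hψdef⟩ : ∃ ψ, ψ = (conjHom Q₀ (s : Ω)).comp (φ.codRestrict Q₀ hv) := ⟨_, rfl⟩
  have hψF : ψ ∈ F.Hom P := hψdef ▸ F.comp_mem hφ (F.conj_mem hn₀.1 s.2) hv
  have hψx : ∀ x : P, (⟨ψ x, val_mem hψF x⟩ : S) = s * ⟨φ x, val_mem hφ x⟩ * s⁻¹ := fun x =>
    Subtype.ext ((DFunLike.congr_fun hψdef x).trans rfl)
  have hψE : ψ ∈ (detSystem D).Hom P := by
    refine ⟨hψF, hP, rightHom n s * w, fun x => ?_, ?_⟩
    · rw [hψx, map_mul, map_mul, map_inv, hw x, mul_inv_rev, ← mul_assoc, ← mul_assoc, ← mul_assoc]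
    · rw [map_mul, bdet_rightHom D.pgroup D.graph D.inv D.exponent, hs, hm, inv_mul_cancel]
  obtain ⟨Q, hQdef⟩ : ∃ Q, Q = (conjHom Q₀ (s : Ω)).range := ⟨_, rfl⟩
  have hn : F.IsFullyNormalized Q := hQdef ▸ isFullyNormalized_conj hn₀ s.2
  have hψr : ψ.range = Q := by
    rw [hψdef, hQdef]
    refine le_antisymm (by rintro _ ⟨x, rfl⟩; exact ⟨_, rfl⟩) ?_
    rintro _ ⟨⟨q, hq⟩, rfl⟩
    obtain ⟨x, hx⟩ := hφr.ge hq
    exact ⟨x, congrArg (conjHom Q₀ (s : Ω)) (Subtype.ext hx)⟩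
  have hQT : Q ≤ T := hψr ▸ by rintro _ ⟨x, rfl⟩; exact D.stronglyClosed.2 P hP ψ hψF x
  have hQS := hn.1
  have ha := fullyAutomized_of_fullyNormalized D.pgroup D.sat hn
  have hr := receptive_of_fullyNormalized D.pgroup D.sat hn
  haveI := finite_mulAut hQS
  haveI := finite_of_le D.le
  refine ⟨Q, ⟨ψ, hψE, hψr⟩, ⟨hQT, ?_⟩, hQT, ?_⟩
  · -- fully automized
    have hle : autInducedBy T Q ≤ (detSystem D).autGroup Q := autInducedBy_le_autGroup hQT
    have hp' : IsPGroup p ((autInducedBy T Q).subgroupOf ((detSystem D).autGroup Q)) :=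
      (isPGroup_autInducedBy p (D.pgroup.to_le D.le) Q).comap_of_injective _ Subtype.val_injective
    obtain ⟨X, hX⟩ := hp'.exists_le_sylow
    refine ⟨X, (Subgroup.eq_of_le_of_card_ge hX ?_).symm⟩
    set X' := (X : Subgroup ((detSystem D).autGroup Q)).map ((detSystem D).autGroup Q).subtype
    have hX'F : X' ≤ F.autGroup Q := by
      rintro _ ⟨α, -, rfl⟩
      exact (mem_autGroup hQS).2 (((mem_autGroup hQT).1 α.2).1)
    obtain ⟨γ, hγ, hγX⟩ := exists_conj_le_autInducedBy p ha X' (X.isPGroup'.map _) hX'F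
    obtain ⟨v, hv⟩ := exists_conj_of_hom D.graph D.stable ((mem_autGroup hQS).1 hγ)
    have hinto : X'.map (MulAut.conj γ).toMonoidHom ≤ autInducedBy T Q := by
      rintro _ ⟨α, hα, rfl⟩
      obtain ⟨g, hg, hgx⟩ := mem_autInducedBy.1 (hγX α hα)
      obtain ⟨α', -, rfl⟩ := hα
      obtain ⟨hαF, -, u, hu, hdu⟩ := (mem_autGroup hQT).1 α'.2
      have hcomm : ∀ x : Q, rightHom n ⟨x, hQS x.2⟩ * ((rightHom n ⟨g, hg⟩)⁻¹ * (v * u * v⁻¹)) =
          (rightHom n ⟨g, hg⟩)⁻¹ * (v * u * v⁻¹) * rightHom n ⟨x, hQS x.2⟩ := by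
        intro x
        obtain ⟨y, rfl⟩ := γ.surjective x
        have h1 : rightHom n ⟨(γ y : Q), hQS (γ y).2⟩ = v * rightHom n ⟨y, hQS y.2⟩ * v⁻¹ := hv y
        have h2 : rightHom n ⟨(γ ((α' : MulAut Q) y) : Q), hQS (γ _).2⟩ =
            v * u * rightHom n ⟨y, hQS y.2⟩ * u⁻¹ * v⁻¹ := by
          rw [show rightHom n ⟨(γ ((α' : MulAut Q) y) : Q), hQS (γ _).2⟩ =
            v * rightHom n ⟨((α' : MulAut Q) y : Q), hQS ((α' : MulAut Q) y).2⟩ * v⁻¹ from hv _,
            show rightHom n ⟨((α' : MulAut Q) y : Q), hQS ((α' : MulAut Q) y).2⟩ =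
            u * rightHom n ⟨y, hQS y.2⟩ * u⁻¹ from hu y]
          group
        have h3 := hgx (γ y)
        simp only [MulAut.mul_apply, MulAut.inv_apply_self, Subgroup.coe_subtype] at h3
        have h4 : rightHom n ⟨(γ ((α' : MulAut Q) y) : Q), hQS (γ _).2⟩ =
            rightHom n ⟨g, hg⟩ * rightHom n ⟨(γ y : Q), hQS (γ y).2⟩ * (rightHom n ⟨g, hg⟩)⁻¹ := by
          rw [← map_inv, ← map_mul, ← map_mul]
          exact congrArg _ (Subtype.ext h3)
        rw [h2, h1] at h4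
        rw [h1]
        calc v * rightHom n ⟨y, hQS y.2⟩ * v⁻¹ * ((rightHom n ⟨g, hg⟩)⁻¹ * (v * u * v⁻¹))
            = (rightHom n ⟨g, hg⟩)⁻¹ * (rightHom n ⟨g, hg⟩ * (v * rightHom n ⟨y, hQS y.2⟩ * v⁻¹) *
                (rightHom n ⟨g, hg⟩)⁻¹) * (v * u * v⁻¹) := by group
          _ = (rightHom n ⟨g, hg⟩)⁻¹ * (v * u * rightHom n ⟨y, hQS y.2⟩ * u⁻¹ * v⁻¹) * (v * u * v⁻¹) := by rw [h4]
          _ = _ := by group
      have h5 := bdet_mem_centralizer D hr _ hcomm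
      rw [map_mul, map_mul, map_mul, map_inv, map_inv, hdu, mul_one, mul_inv_cancel, mul_one,
        bdet_rightHom D.pgroup D.graph D.inv D.exponent, inv_mem_iff] at h5
      obtain ⟨c, hc, hcχ⟩ := mem_centralizer_map_root D h5
      refine mem_autInducedBy.2 ⟨g * (c : Ω)⁻¹, ?_, fun x => ?_⟩
      · refine (D.ker (⟨g, hg⟩ * c⁻¹)).1 ?_
        rw [map_mul, map_inv, hcχ, mul_inv_cancel]
      · refine (hgx x).trans ?_
        have h6 : (c : Ω) * x = x * (c : Ω) := (Subgroup.mem_centralizer_iff.1 hc.2 x x.2).symm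
        rw [mul_inv_rev, inv_inv]
        calc g * (x : Ω) * g⁻¹ = g * ((c : Ω)⁻¹ * ((c : Ω) * x)) * g⁻¹ := by group
          _ = g * ((c : Ω)⁻¹ * (x * (c : Ω))) * g⁻¹ := by rw [h6]
          _ = g * (c : Ω)⁻¹ * x * ((c : Ω) * g⁻¹) := by group
    have hc2 := Subgroup.card_le_of_le hinto
    rw [Subgroup.card_map_of_injective (MulAut.conj γ).injective, Subgroup.card_map_of_injective Subtype.val_injective,
      ← Nat.card_congr (Subgroup.subgroupOfEquivOfLe hle).toEquiv] at hc2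
    exact hc2
  · -- receptive
    intro R θ hθ hθr
    obtain ⟨hθF, hRT, u, hu, hdu⟩ := id hθ
    obtain ⟨η, hη, hag⟩ := hr.2 R θ hθF hθr
    have hext : extender T R θ ≤ extender S R θ := by
      refine Subgroup.closure_mono ?_
      rintro g ⟨hg, hgN, h, hh, hgh⟩
      exact ⟨D.le hg, hgN, h, D.le hh, hgh⟩
    have hNT : extender T R θ ≤ T := (Subgroup.closure_le _).2 fun g hg => hg.1
    obtain ⟨η', hη'def⟩ : ∃ η', η' = η.comp (Subgroup.inclusion hext) := ⟨_, rfl⟩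
    have hη' : η' ∈ F.Hom (extender T R θ) := hη'def ▸ restrict hη hext
    obtain ⟨v, hv⟩ := exists_conj_of_hom D.graph D.stable hη'
    have hag' : ∀ (x : Ω) (hx : x ∈ R) (hN : x ∈ extender T R θ), η' ⟨x, hN⟩ = θ ⟨x, hx⟩ := fun x hx hN => by
      rw [hη'def]; exact hag x hx (hext hN)
    have hcomm : ∀ q : Q, rightHom n ⟨q, hQS q.2⟩ * (v * u⁻¹) = v * u⁻¹ * rightHom n ⟨q, hQS q.2⟩ := by
      rintro ⟨q, hq⟩
      obtain ⟨x, rfl⟩ := hθr.ge hq
      have h1 := hu x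
      have h2 := hv ⟨x, le_extender hθ x.2⟩
      have e1 : (⟨η' ⟨x, le_extender hθ x.2⟩, val_mem hη' _⟩ : S) = ⟨θ x, val_mem hθF x⟩ :=
        Subtype.ext (hag' x x.2 _)
      rw [e1] at h2
      calc rightHom n ⟨θ x, _⟩ * (v * u⁻¹) = v * rightHom n ⟨x, le_of_hom hθF x.2⟩ * v⁻¹ * (v * u⁻¹) := by rw [← h2]
        _ = v * u⁻¹ * (u * rightHom n ⟨x, le_of_hom hθF x.2⟩ * u⁻¹) := by group
        _ = _ := by rw [← h1]
    have h5 := bdet_mem_centralizer D hr _ hcomm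
    rw [map_mul, map_inv, hdu, inv_one, mul_one] at h5
    obtain ⟨m, hm⟩ := exists_root D (bdet D.graph χ v)
    obtain ⟨c, hc, hcχ⟩ := Subgroup.pow_mem _ h5 m
    have hk : (bdet D.graph χ ((rightHom n c)⁻¹ * v)) = 1 := by
      rw [map_mul, map_inv, bdet_rightHom D.pgroup D.graph D.inv D.exponent, hcχ, hm, inv_mul_cancel]
    have hvT : ∀ y, η' y ∈ T := fun y => D.stronglyClosed.2 _ hNT η' hη' y
    refine ⟨_, ⟨F.comp_mem hη' (F.conj_mem D.le (S.inv_mem c.2)) hvT, hNT, (rightHom n c)⁻¹ * v, fun y => ?_, hk⟩,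
      fun x hx hN => ?_⟩
    · rw [show (⟨((conjHom T (c : Ω)⁻¹).comp (η'.codRestrict T hvT)) y, _⟩ : S) =
        c⁻¹ * ⟨η' y, val_mem hη' y⟩ * c⁻¹⁻¹ from Subtype.ext rfl]
      simp only [map_mul, map_inv, hv y]
      group
    · show (c : Ω)⁻¹ * η' ⟨x, hN⟩ * ((c : Ω)⁻¹)⁻¹ = θ ⟨x, hx⟩
      rw [hag' x hx hN, inv_inv]
      have h6 : θ ⟨x, hx⟩ * c = c * θ ⟨x, hx⟩ :=
        Subgroup.mem_centralizer_iff.1 hc.2 _ (hθr.le ⟨_, rfl⟩)
      rw [mul_assoc, h6, inv_mul_cancel_left]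

theorem hasPPowerIndexIn_detSystem (D : CharData F p n χ T) (hT : F.hyperfocalSubgroup p ≤ T) :
    (detSystem D).HasPPowerIndexIn F p := by
  refine ⟨detSystem_le D, hT, fun P hP => ?_⟩
  rw [Subgroup.map_le_iff_le_comap, Cfsg.pResidual, Subgroup.closure_le]
  intro γ hγ
  have hPS := hP.trans D.le
  haveI := finite_of_le hPS
  haveI := finite_mulAut hPS
  have hφ := (mem_autGroup hPS).1 γ.2
  obtain ⟨w, hw⟩ := exists_conj_of_hom D.graph D.stable hφ
  have hco : p.Coprime (orderOf (γ : MulAut P)) := by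
    rw [Subgroup.orderOf_coe]
    exact Nat.Coprime.symm hγ
  obtain ⟨j, hj⟩ := exists_pow_eq_self_of_coprime hco
  refine (mem_autGroup hP).2 ⟨hφ, hP, w ^ (p * j), fun x => ?_, ?_⟩
  · have key : ∀ (i : ℕ) (x : P), rightHom n ⟨(((γ : MulAut P) ^ i) x : P), hPS (((γ : MulAut P) ^ i) x).2⟩ =
        w ^ i * rightHom n ⟨x, hPS x.2⟩ * (w ^ i)⁻¹ := by
      intro i
      induction i with
      | zero => intro x; simp
      | succ i ih =>
        intro x
        rw [pow_succ' w, mul_inv_rev]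
        calc rightHom n ⟨((((γ : MulAut P) ^ (i + 1)) x : P) : Ω), _⟩
            = rightHom n ⟨(((γ : MulAut P) (((γ : MulAut P) ^ i) x) : P) : Ω),
                hPS ((γ : MulAut P) (((γ : MulAut P) ^ i) x)).2⟩ :=
              congrArg _ (Subtype.ext (by rw [pow_succ', MulAut.mul_apply]))
          _ = w * rightHom n ⟨((((γ : MulAut P) ^ i) x : P) : Ω), hPS (((γ : MulAut P) ^ i) x).2⟩ * w⁻¹ := hw _
          _ = _ := by rw [ih x]; group
    rw [← key (p * j) x]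
    refine congrArg _ (Subtype.ext ?_)
    show (((γ : MulAut P) x : P) : Ω) = _
    rw [pow_mul, hj]
  · rw [map_pow, pow_mul, D.exponent, one_pow]

/-- A normal subgroup of index `p` containing the hyperfocal subgroup carries a subsystem of `p`-power index. -/
theorem exists_index_p (hS : IsPGroup p S) (hF : F.IsSaturated p) (hTS : T ≤ S) (hTn : (T.subgroupOf S).Normal)
    (hind : (T.subgroupOf S).index = p) (hT : F.hyperfocalSubgroup p ≤ T) :
    ∃ E : Cfsg.FusionSystem T, E.IsSaturated p ∧ E.HasPPowerIndexIn F p := by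
  obtain ⟨n, hn, hst, hdeg⟩ := exists_stable hS hF
  haveI := hTn
  have hcard : Nat.card (S ⧸ T.subgroupOf S) = p := hind
  haveI : IsCyclic (S ⧸ T.subgroupOf S) := isCyclic_of_prime_card hcard
  letI : CommGroup (S ⧸ T.subgroupOf S) := IsCyclic.commGroup
  have hfoc : F.focalSubgroup ≤ T := by
    rw [focalSubgroup_eq hS hF]
    refine sup_le hT (Subgroup.commutator_le.2 fun a ha b hb => ?_)
    have h1 : QuotientGroup.mk' (T.subgroupOf S) ⁅(⟨a, ha⟩ : S), (⟨b, hb⟩ : S)⁆ = 1 := by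
      rw [map_commutatorElement, commutatorElement_eq_one_iff_commute]
      exact mul_comm _ _
    exact Subgroup.mem_subgroupOf.1 ((QuotientGroup.eq_one_iff _).1 h1)
  have hD : CharData F p n (QuotientGroup.mk' (T.subgroupOf S)) T :=
    { pgroup := hS
      sat := hF
      graph := hn
      stable := hst
      coprime := hdeg
      exponent := fun a => by rw [← hcard]; exact pow_card_eq_one'
      surj := QuotientGroup.mk'_surjective _
      inv := fun U c hc x => by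
        refine (QuotientGroup.eq.2 ?_).symm
        exact Subgroup.mem_subgroupOf.2 (hfoc (Subgroup.subset_closure ⟨U, c, x, hc, rfl⟩))
      le := hTS
      ker := fun s => (QuotientGroup.eq_one_iff s).trans Subgroup.mem_subgroupOf }
  exact ⟨detSystem hD, isSaturated_detSystem hD, hasPPowerIndexIn_detSystem hD hT⟩

end CfsgLib.Biset

namespace CfsgLib.Fusion

open Cfsg.FusionSystem

universe u

variable {Ω : Type u} [Group Ω] {p : ℕ} [Fact p.Prime]

lemma hyperfocal_le_of_subsystem {S T : Subgroup Ω} [Finite S] {F : Cfsg.FusionSystem S} {E : Cfsg.FusionSystem T}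
    (hEF : E.IsSubsystemOf F) (hTS : T ≤ S) : E.hyperfocalSubgroup p ≤ F.hyperfocalSubgroup p := by
  rw [FusionSystem.hyperfocalSubgroup, Subgroup.closure_le]
  rintro _ ⟨P, α, x, hP, hα, rfl⟩
  obtain ⟨β, hβ, hβe⟩ := residual_mono (p := p) hEF hP (hP.trans hTS) ⟨α, hα, rfl⟩
  refine Subgroup.subset_closure ⟨P, β, x, hP.trans hTS, hβ, ?_⟩
  have h : ((β : MulAut P) x : P) = (α : MulAut P) x := DFunLike.congr_fun hβe x
  rw [h]

/-- Every subgroup containing the hyperfocal subgroup carries a saturated subsystem of `p`-power index. -/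
theorem exists_pPowerIndex : ∀ (N : ℕ) {S : Subgroup Ω} [Finite S] {F : Cfsg.FusionSystem S} {T : Subgroup Ω},
    IsPGroup p S → F.IsSaturated p → T ≤ S → F.hyperfocalSubgroup p ≤ T → Nat.card S ≤ N →
    ∃ E : Cfsg.FusionSystem T, E.IsSaturated p ∧ E.HasPPowerIndexIn F p := by
  intro N
  induction N with
  | zero => intro S _ F T hS hF hTS hT hN; exact absurd hN (by have := Nat.card_pos (α := S); omega)
  | succ N ih =>
    intro S _ F T hS hF hTS hT hN
    rcases hTS.eq_or_lt with rfl | hlt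
    · exact ⟨F, hF, fun _ => subset_rfl, hT, fun P _ => Subgroup.map_subtype_le _⟩
    obtain ⟨k, hk⟩ := hS.exists_card_eq
    obtain ⟨j, hj⟩ := (hS.to_subgroup (T.subgroupOf S)).exists_card_eq
    have hp : p.Prime := Fact.out
    have hjk : j < k := by
      refine (Nat.pow_lt_pow_iff_right hp.one_lt).1 (hj ▸ hk ▸ lt_of_le_of_ne ?_ ?_)
      · exact Nat.le_of_dvd Nat.card_pos (Subgroup.card_subgroup_dvd_card _)
      · intro e
        have h1 := Subgroup.eq_top_of_card_eq _ e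
        exact hlt.ne (le_antisymm hTS (Subgroup.subgroupOf_eq_top.1 h1))
    obtain ⟨K, hK, hTK⟩ := Sylow.exists_subgroup_card_pow_prime_le p (n := j) (m := k - 1)
      (hk ▸ pow_dvd_pow p (Nat.sub_le k 1)) (T.subgroupOf S) hj (by omega)
    have hKi : K.index = p := by
      have h1 := K.card_mul_index
      rw [hK, hk] at h1
      refine Nat.eq_of_mul_eq_mul_left (pow_pos hp.pos (k - 1)) ?_
      rw [h1, ← pow_succ, Nat.sub_add_cancel (by omega)]
    haveI hKn : K.Normal := Subgroup.normal_of_index_eq_minFac_card (by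
      rw [hKi, hk, Nat.pow_minFac (by omega), hp.minFac_eq])
    obtain ⟨M, hMdef⟩ : ∃ M, M = K.map S.subtype := ⟨_, rfl⟩
    have hMS : M ≤ S := hMdef ▸ Subgroup.map_subtype_le K
    have hMK : M.subgroupOf S = K := by
      rw [hMdef, Subgroup.subgroupOf, Subgroup.comap_map_eq_self_of_injective Subtype.val_injective]
    have hTM : T ≤ M := by
      rw [hMdef]
      exact fun t ht => ⟨⟨t, hTS ht⟩, hTK (Subgroup.mem_subgroupOf.2 ht), rfl⟩
    obtain ⟨E, hE, hEi⟩ := CfsgLib.Biset.exists_index_p hS hF hMS (hMK ▸ hKn) (hMK ▸ hKi) (hT.trans hTM)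
    haveI := finite_of_le hMS
    have hMN : Nat.card M ≤ N := by
      have h1 : Nat.card M < Nat.card S := by
        rw [hMdef, Subgroup.card_map_of_injective Subtype.val_injective, hK, hk]
        exact Nat.pow_lt_pow_right hp.one_lt (by omega)
      omega
    obtain ⟨E', hE', h1, h2, h3⟩ := ih (hS.to_le hMS) hE hTM ((hyperfocal_le_of_subsystem hEi.1 hMS).trans hT) hMN
    refine ⟨E', hE', fun P φ hφ => hEi.1 P (h1 P hφ), hT, fun P hP => ?_⟩
    rw [Subgroup.map_le_iff_le_comap, Cfsg.pResidual, Subgroup.closure_le]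
    intro γ hγ
    have hγE : (γ : MulAut P) ∈ E.autGroup P := hEi.2.2 P (hP.trans hTM) ⟨γ, Subgroup.subset_closure hγ, rfl⟩
    refine h3 P hP ⟨⟨γ, hγE⟩, Subgroup.subset_closure ?_, rfl⟩
    show Nat.Coprime (orderOf (⟨(γ : MulAut P), hγE⟩ : E.autGroup P)) p
    rw [← Subgroup.orderOf_coe]
    show Nat.Coprime (orderOf (γ : MulAut P)) p
    rw [Subgroup.orderOf_coe]
    exact hγ

/-- The saturated subsystem of `p`-power index over a given subgroup is unique. -/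
theorem pPowerIndex_unique {S T : Subgroup Ω} [Finite S] {F : Cfsg.FusionSystem S} (hS : IsPGroup p S) (hTS : T ≤ S)
    {E E' : Cfsg.FusionSystem T} (hE : E.IsSaturated p) (hEi : E.HasPPowerIndexIn F p) (hE' : E'.IsSaturated p)
    (hE'i : E'.HasPPowerIndexIn F p) : E' = E :=
  ext_hom fun P => Set.Subset.antisymm ((le_of_residual hS hTS E' E hE' hE'i.1 hEi.2.2) P)
    ((le_of_residual hS hTS E E' hE hEi.1 hE'i.2.2) P)

end CfsgLib.Fusion
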