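import Cfsg.Agent.Fusion.Inner
import Cfsg.Agent.Fusion.Alperin

/-!
The fusion system of restrictions of a group of automorphisms of a `p`-group, containing the inner ones with
index prime to `p`.
-/

set_option autoImplicit false
set_option linter.style.haveILetI false

open Cfsg

namespace CfsgLib.Fusion

open Cfsg.FusionSystem

variable {Ω : Type*} [Group Ω] {P U : Subgroup Ω}

/-- The restrictions to subgroups of `P` of the automorphisms in `A`. -/
def restrictionSystem (A : Subgroup (MulAut P)) (hA : Cfsg.Inn P ≤ A) : Cfsg.FusionSystem P where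
  Hom U := {φ | U ≤ P ∧ ∃ α ∈ A, ∀ (x : U) (h : (x : Ω) ∈ P), φ x = ((α ⟨x, h⟩ : P) : Ω)}
  le_of_mem := by
    rintro U φ ⟨hU, α, -, h⟩
    exact ⟨hU, fun x => (h x (hU x.2)).symm ▸ (α _).2⟩
  injective_of_mem := by
    rintro U φ ⟨hU, α, -, h⟩ a b hab
    rw [h a (hU a.2), h b (hU b.2)] at hab
    exact Subtype.ext (congrArg (fun z : P => (z : Ω)) (α.injective (Subtype.ext hab)) :)
  conj_mem := by
    intro U g hU hg
    exact ⟨hU, MulAut.conj ⟨g, hg⟩, hA ⟨⟨g, hg⟩, rfl⟩, fun x h => rfl⟩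
  comp_mem := by
    rintro U V φ ψ ⟨hU, α, hα, ha⟩ ⟨hV, β, hβ, hb⟩ h
    refine ⟨hU, β * α, mul_mem hβ hα, fun x hx => ?_⟩
    show ψ ⟨φ x, h x⟩ = _
    rw [hb ⟨φ x, h x⟩ (hV (h x))]
    exact congrArg (fun z : P => ((β z : P) : Ω)) (Subtype.ext (ha x hx))
  inv_mem := by
    rintro U φ ⟨hU, α, hα, ha⟩
    have hr : φ.range ≤ P := by rintro _ ⟨x, rfl⟩; rw [ha x (hU x.2)]; exact (α _).2
    refine ⟨(P.subtype.comp (α⁻¹ : MulAut P).toMonoidHom).comp (Subgroup.inclusion hr),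
      ⟨hr, α⁻¹, inv_mem hα, fun x h => rfl⟩, fun x => ?_⟩
    show ((α⁻¹ ⟨φ x, _⟩ : P) : Ω) = x
    rw [show (⟨φ x, hr ⟨x, rfl⟩⟩ : P) = α ⟨x, hU x.2⟩ from Subtype.ext (ha x (hU x.2)), MulAut.inv_apply_self]

variable {A : Subgroup (MulAut P)} {hA : Cfsg.Inn P ≤ A}

lemma mem_restrictionSystem {φ : U →* Ω} :
    φ ∈ (restrictionSystem A hA).Hom U ↔
      U ≤ P ∧ ∃ α ∈ A, ∀ (x : U) (h : (x : Ω) ∈ P), φ x = ((α ⟨x, h⟩ : P) : Ω) := Iff.rfl

lemma autGroup_restrictionSystem_self : (restrictionSystem A hA).autGroup P = A := by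
  ext α
  rw [mem_autGroup le_rfl, mem_restrictionSystem]
  constructor
  · rintro ⟨-, β, hβ, h⟩
    exact (show α = β from MulEquiv.ext fun x => Subtype.ext (h x x.2)) ▸ hβ
  · exact fun h => ⟨le_rfl, α, h, fun x _ => rfl⟩

lemma receptive_restrictionSystem (hU : U ≤ P) : (restrictionSystem A hA).IsReceptive U := by
  refine ⟨hU, fun V φ hφ _ => ?_⟩
  obtain ⟨hV, α, hα, ha⟩ := hφ
  have hle : extender P V φ ≤ P := (extender_le_normalizerIn φ).trans inf_le_left
  exact ⟨(P.subtype.comp α.toMonoidHom).comp (Subgroup.inclusion hle), ⟨hle, α, hα, fun x h => rfl⟩,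
    fun x hx hN => (ha ⟨x, hx⟩ (hV hx)).symm⟩

/-- The automorphisms of `P` preserving `U`. -/
def stabilizerIn (A : Subgroup (MulAut P)) (U : Subgroup Ω) : Subgroup (MulAut P) where
  carrier := {α | α ∈ A ∧ ∀ x : P, (x : Ω) ∈ U ↔ ((α x : P) : Ω) ∈ U}
  one_mem' := ⟨one_mem _, fun _ => Iff.rfl⟩
  mul_mem' := fun {a b} ha hb => ⟨mul_mem ha.1 hb.1, fun x => (hb.2 x).trans (ha.2 _)⟩
  inv_mem' := fun {a} ha => ⟨inv_mem ha.1, fun x => by
    rw [ha.2 (a⁻¹ x), MulAut.apply_inv_self]⟩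

/-- Restriction to `U`. -/
def resAut (hU : U ≤ P) : ↥(stabilizerIn A U) →* MulAut U where
  toFun α :=
    { toFun := fun x => ⟨((α : MulAut P) ⟨x, hU x.2⟩ : P), (α.2.2 _).1 x.2⟩
      invFun := fun x => ⟨(((α : MulAut P)⁻¹) ⟨x, hU x.2⟩ : P), (α.2.2 _).2 (by
        rw [MulAut.apply_inv_self]; exact x.2)⟩
      left_inv := fun x => Subtype.ext (by simp)
      right_inv := fun x => Subtype.ext (by simp)
      map_mul' := fun x y => Subtype.ext (by
        show (((α : MulAut P) ⟨(x * y : U), _⟩ : P) : Ω) = _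
        rw [show (⟨((x * y : U) : Ω), hU (x * y).2⟩ : P) = ⟨x, hU x.2⟩ * ⟨y, hU y.2⟩ from rfl, map_mul]
        rfl) }
  map_one' := rfl
  map_mul' _ _ := rfl

variable {p : ℕ} [Fact p.Prime]

theorem isSaturated_restrictionSystem [Finite P] (hP : IsPGroup p P)
    (hi : ¬ p ∣ (Cfsg.Inn P).relIndex A) : (restrictionSystem A hA).IsSaturated p := by
  intro U hU
  refine ⟨U, IsConj.refl hU, ⟨hU, ?_⟩, receptive_restrictionSystem hU⟩
  haveI := finite_mulAut (S := P) (le_refl P)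
  haveI := finite_mulAut (S := P) hU
  set E := restrictionSystem A hA
  set X := stabilizerIn A U
  -- the range of restriction is the automizer
  have hrange : (resAut (A := A) hU).range = E.autGroup U := by
    refine le_antisymm ?_ fun β hβ => ?_
    · rintro _ ⟨α, rfl⟩
      exact (mem_autGroup hU).2 ⟨hU, α, α.2.1, fun x h => rfl⟩
    · obtain ⟨-, α, hα, ha⟩ := (mem_autGroup hU).1 hβ
      refine ⟨⟨α, hα, fun x => ⟨fun hx => ?_, fun hx => ?_⟩⟩, ?_⟩
      · rw [← ha ⟨x, hx⟩ x.2]; exact (β _).2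
      · have h1 := ha (β⁻¹ ⟨_, hx⟩) (hU (β⁻¹ ⟨_, hx⟩).2)
        have h2 : x = ⟨_, hU (β⁻¹ ⟨_, hx⟩).2⟩ := α.injective (Subtype.ext (by
          rw [← h1]
          show _ = ((β (β⁻¹ ⟨_, hx⟩) : U) : Ω)
          rw [MulAut.apply_inv_self]))
        rw [h2]; exact (β⁻¹ ⟨_, hx⟩).2
      · exact MulEquiv.ext fun x => Subtype.ext (ha x (hU x.2)).symm
  let f : ↥X →* ↥(E.autGroup U) :=
    (resAut (A := A) hU).codRestrict _ fun α => hrange.le ⟨α, rfl⟩
  have hf : Function.Surjective f := fun β => by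
    obtain ⟨α, hα⟩ := hrange.ge β.2
    exact ⟨α, Subtype.ext hα⟩
  have himage : ((Cfsg.Inn P).subgroupOf X).map f = (autInducedBy P U).subgroupOf (E.autGroup U) := by
    ext β
    rw [Subgroup.mem_subgroupOf, mem_autInducedBy]
    constructor
    · rintro ⟨α, ⟨g, hg⟩, rfl⟩
      refine ⟨g, g.2, fun x => ?_⟩
      show (((α : MulAut P) ⟨x, hU x.2⟩ : P) : Ω) = _
      exact (congrArg (fun a : MulAut P => ((a ⟨x, hU x.2⟩ : P) : Ω)) hg).symm
    · rintro ⟨g, hg, hgx⟩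
      have hN := mem_normalizer_of_conj hgx
      refine ⟨⟨MulAut.conj ⟨g, hg⟩, hA ⟨⟨g, hg⟩, rfl⟩, fun x => ?_⟩, ⟨⟨g, hg⟩, rfl⟩,
        Subtype.ext (MulEquiv.ext fun x => Subtype.ext (hgx x).symm)⟩
      exact Subgroup.mem_normalizer_iff.1 hN x
  have hpg : IsPGroup p ↥((autInducedBy P U).subgroupOf (E.autGroup U)) :=
    (isPGroup_autInducedBy p hP U).comap_of_injective _ (Subgroup.subtype_injective _)
  have hindex : ¬ p ∣ ((autInducedBy P U).subgroupOf (E.autGroup U)).index := by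
    rw [← himage]
    intro h
    have h1 : p ∣ ((Cfsg.Inn P).subgroupOf X).index := h.trans (Subgroup.index_map_dvd _ hf)
    apply hi
    haveI : (Cfsg.Inn P).Normal := inn_normal
    let π := QuotientGroup.mk' (Cfsg.Inn P)
    have key : ∀ H : Subgroup (MulAut P), (Cfsg.Inn P).relIndex H = Nat.card (H.map π) := by
      intro H
      have : (Cfsg.Inn P).subgroupOf H = (π.comp H.subtype).ker := by
        rw [← MonoidHom.comap_ker, QuotientGroup.ker_mk']
        rfl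
      rw [Subgroup.relIndex, this, Subgroup.index_ker, MonoidHom.range_comp, Subgroup.range_subtype]
    rw [key]
    exact (show p ∣ Nat.card (X.map π) from key X ▸ h1).trans
      (Subgroup.card_dvd_of_le (Subgroup.map_mono fun _ h => h.1))
  exact ⟨hpg.toSylow hindex, hpg.toSylow_coe hindex⟩

end CfsgLib.Fusion
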