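import Cfsg.Agent.Fusion.KNormalizer
import Cfsg.Agent.Fusion.RestrictionSystem
import Cfsg.Agent.PLocalBasics.ModCore

/-!
Isomorphisms of a fusion system extending to overgroups.
-/

set_option autoImplicit false
set_option linter.style.haveILetI false

open Cfsg

namespace CfsgLib.Fusion

open Cfsg.FusionSystem

variable {Ω : Type*} [Group Ω] {S : Subgroup Ω} {F : Cfsg.FusionSystem S}
variable {Q Q' Q'' D D' : Subgroup Ω}

/-- The isomorphism `e` is the restriction of a map of the system with source `D` and values in `D'`. -/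
def ExtTo (F : Cfsg.FusionSystem S) (e : Q ≃* Q') (D D' : Subgroup Ω) : Prop :=
  ∃ (hQ : Q ≤ D) (ψ : D →* Ω), ψ ∈ F.Hom D ∧ (∀ x, ψ x ∈ D') ∧
    ∀ x : Q, ψ ⟨x, hQ x.2⟩ = (e x : Ω)

lemma ExtTo.isoIn {e : Q ≃* Q'} (h : ExtTo F e D D') : IsoIn F e := by
  obtain ⟨hQ, ψ, hψ, -, hag⟩ := h
  exact restrict_of_eq hψ hQ fun x => (hag x).symm

lemma ExtTo.le {e : Q ≃* Q'} (h : ExtTo F e D D') : D ≤ S :=
  let ⟨_, _, hψ, _, _⟩ := h; le_of_hom hψ

lemma ExtTo.mono {e : Q ≃* Q'} (h : ExtTo F e D D') {M : Subgroup Ω} (hQM : Q ≤ M) (hM : M ≤ D) :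
    ExtTo F e M D' := by
  obtain ⟨hQ, ψ, hψ, hv, hag⟩ := h
  exact ⟨hQM, _, restrict hψ hM, fun x => hv _, fun x => hag x⟩

lemma ExtTo.weaken {e : Q ≃* Q'} (h : ExtTo F e D D') {M : Subgroup Ω} (hM : D' ≤ M) : ExtTo F e D M := by
  obtain ⟨hQ, ψ, hψ, hv, hag⟩ := h
  exact ⟨hQ, ψ, hψ, fun x => hM (hv x), hag⟩

lemma ExtTo.congr {e e' : Q ≃* Q'} (h : ExtTo F e D D') (he : ∀ x, e' x = e x) : ExtTo F e' D D' := by
  obtain ⟨hQ, ψ, hψ, hv, hag⟩ := h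
  exact ⟨hQ, ψ, hψ, hv, fun x => by rw [he]; exact hag x⟩

lemma ExtTo.trans {e : Q ≃* Q'} {e' : Q' ≃* Q''} {D'' : Subgroup Ω} (h : ExtTo F e D D')
    (h' : ExtTo F e' D' D'') : ExtTo F (e.trans e') D D'' := by
  obtain ⟨hQ, ψ, hψ, hv, hag⟩ := h
  obtain ⟨hQ', χ, hχ, hv', hag'⟩ := h'
  refine ⟨hQ, _, F.comp_mem hψ hχ hv, fun x => hv' _, fun x => ?_⟩
  refine Eq.trans ?_ (hag' (e x))
  exact congrArg χ (Subtype.ext (hag x))

lemma ExtTo.of_isoIn {e : Q ≃* Q'} (h : IsoIn F e) : ExtTo F e Q Q' :=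
  ⟨le_rfl, _, h, fun x => (e x).2, fun _ => rfl⟩

/-- The image of `D` under an extension, with the inverse extension on it. -/
lemma ExtTo.exists_symm {e : Q ≃* Q'} (h : ExtTo F e D D') :
    ∃ E : Subgroup Ω, E ≤ D' ∧ Nat.card E = Nat.card D ∧ Q' ≤ E ∧ ExtTo F e D E ∧ ExtTo F e.symm E D ∧
      (D ≤ Subgroup.normalizer (Q : Set Ω) → E ≤ Subgroup.normalizer (Q' : Set Ω)) := by
  obtain ⟨hQ, ψ, hψ, hv, hag⟩ := h
  obtain ⟨χ, hχ, hr, h1, -⟩ := exists_inv hψ (rfl : ψ.range = ψ.range)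
  have hQ' : Q' ≤ ψ.range := fun y hy => ⟨⟨(e.symm ⟨y, hy⟩ : Q), hQ (e.symm ⟨y, hy⟩).2⟩, by
    rw [hag, e.apply_symm_apply]⟩
  refine ⟨ψ.range, ?_, ?_, hQ', ⟨hQ, ψ, hψ, fun x => ⟨x, rfl⟩, hag⟩,
    ⟨hQ', χ, hχ, fun x => hr.le ⟨x, rfl⟩, fun x => ?_⟩, fun hn => ?_⟩
  · rintro _ ⟨x, rfl⟩; exact hv x
  · exact (Nat.card_congr (MonoidHom.ofInjective (F.injective_of_mem hψ)).toEquiv).symm
  · have h2 := h1 ⟨(e.symm x : Q), hQ (e.symm x).2⟩ ⟨_, rfl⟩
    refine Eq.trans ?_ h2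
    refine congrArg χ (Subtype.ext ?_)
    exact ((hag (e.symm x)).trans (congrArg Subtype.val (e.apply_symm_apply x))).symm
  · rintro _ ⟨x, rfl⟩
    have hφ : (Q'.subtype.comp e.toMonoidHom).range = Q' := IsoIn.range_eq e
    rw [← hφ]
    exact map_mem_normalizer hQ (fun y => hag y) x.2 (hn x.2)

lemma ExtTo.normalizer {e : Q ≃* Q'} (h : ExtTo F e D D') (hn : D ≤ Subgroup.normalizer (Q : Set Ω)) :
    ExtTo F e D (normalizerIn S Q') := by
  obtain ⟨hQ, ψ, hψ, -, hag⟩ := h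
  refine ⟨hQ, ψ, hψ, fun x => ⟨val_mem hψ x, ?_⟩, hag⟩
  have hφ : (Q'.subtype.comp e.toMonoidHom).range = Q' := IsoIn.range_eq e
  rw [← hφ]
  exact map_mem_normalizer hQ (fun y => hag y) x.2 (hn x.2)

/-- Conjugations by elements of `D` are carried to conjugations by their images. -/
lemma ExtTo.map_autInducedBy {e : Q ≃* Q'} (h : ExtTo F e D D') :
    (autInducedBy D Q).map (MulAut.congr e).toMonoidHom ≤ autInducedBy D' Q' := by
  obtain ⟨hQ, ψ, hψ, hv, hag⟩ := h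
  rintro _ ⟨a, ha, rfl⟩
  obtain ⟨g, hg, hga⟩ := mem_autInducedBy.1 ha
  refine mem_autInducedBy.2 ⟨ψ ⟨g, hg⟩, hv _, fun y => ?_⟩
  obtain ⟨x, rfl⟩ := e.surjective y
  show ((e (a (e.symm (e x))) : Q') : Ω) = _
  rw [e.symm_apply_apply, ← hag, ← hag, ← map_inv, ← map_mul, ← map_mul]
  exact congrArg ψ (Subtype.ext (hga x))

variable {p : ℕ}

/-- Transport of `O_p(Aut_F(Q))`. -/
lemma congr_mem_pCore {e : Q ≃* Q'} (h : IsoIn F e) {a : MulAut Q}
    (ha : a ∈ (Cfsg.pCore p (F.autGroup Q)).map (F.autGroup Q).subtype) :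
    MulAut.congr e a ∈ (Cfsg.pCore p (F.autGroup Q')).map (F.autGroup Q').subtype := by
  let E : F.autGroup Q ≃* F.autGroup Q' :=
    { toFun := fun b => ⟨MulAut.congr e b, h.congr_mem b.2⟩
      invFun := fun b => ⟨MulAut.congr e.symm b, h.symm.congr_mem b.2⟩
      left_inv := fun b => Subtype.ext (MulEquiv.ext fun x => by simp)
      right_inv := fun b => Subtype.ext (MulEquiv.ext fun x => by simp)
      map_mul' := fun b c => Subtype.ext (map_mul (MulAut.congr e) _ _) }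
  obtain ⟨b, hb, rfl⟩ := ha
  exact ⟨E b, (CfsgLib.PCore.map_pCore_equiv E).le ⟨b, hb, rfl⟩, rfl⟩

/-- The extension given by receptivity. -/
lemma extTo_of_receptive {e : Q ≃* Q'} (hr : F.IsReceptive Q') (he : IsoIn F e) {D : Subgroup Ω}
    (hQD : Q ≤ D) (hD : D ≤ normalizerIn S Q)
    (hm : (autInducedBy D Q).map (MulAut.congr e).toMonoidHom ≤ autInducedBy S Q') :
    ExtTo F e D (normalizerIn S Q') := by
  obtain ⟨ψ, hψ, hag⟩ := hr.2 Q _ he (IsoIn.range_eq e)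
  have hle : D ≤ extender S Q (Q'.subtype.comp e.toMonoidHom) := by
    intro g hg
    have hc : conjAut Q D ⟨g, hg, (hD hg).2⟩ ∈ autInducedBy D Q := range_conjAut (P := Q) D ▸ ⟨_, rfl⟩
    obtain ⟨k, hk, hkx⟩ := mem_autInducedBy.1 (hm ⟨_, hc, rfl⟩)
    refine mem_extender.2 ⟨(hD hg).1, (hD hg).2, k, hk, fun x hx => ?_⟩
    have h1 := hkx (e x)
    refine Eq.trans ?_ h1
    show _ = ((e (conjAut Q D ⟨g, hg, (hD hg).2⟩ (e.symm (e x))) : Q') : Ω)
    rw [e.symm_apply_apply]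
    rfl
  refine ExtTo.normalizer (D' := S) ⟨hQD, _, restrict hψ hle, fun x => val_mem hψ _, fun x => hag x x.2 _⟩
    fun g hg => (hD hg).2

/-- Some automorphism of a fully automized receptive target makes an isomorphism extend to `N_S(Q)`. -/
lemma exists_extTo_normalizer [Finite S] [Fact p.Prime] (hS : IsPGroup p S) {e : Q ≃* Q'}
    (ha : F.IsFullyAutomized p Q') (hr : F.IsReceptive Q') (he : IsoIn F e) :
    ∃ χ ∈ F.autGroup Q', ExtTo F (e.trans χ) (normalizerIn S Q) (normalizerIn S Q') := by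
  obtain ⟨χ, hχ, hχX⟩ := exists_conj_le_autInducedBy p ha ((autInducedBy S Q).map (MulAut.congr e).toMonoidHom)
    ((isPGroup_autInducedBy p hS Q).map _) (by
      rintro _ ⟨a, ha', rfl⟩
      exact he.congr_mem (autInducedBy_le_autGroup he.le_left ha'))
  refine ⟨χ, hχ, extTo_of_receptive hr (he.trans (isoIn_aut ha.1 hχ))
    (le_inf he.le_left Subgroup.le_normalizer) le_rfl ?_⟩
  rintro _ ⟨a, ha', rfl⟩
  have ha'' : a ∈ autInducedBy S Q := by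
    obtain ⟨g, hg, hga⟩ := mem_autInducedBy.1 ha'
    exact mem_autInducedBy.2 ⟨g, hg.1, hga⟩
  exact hχX _ ⟨a, ha'', rfl⟩

end CfsgLib.Fusion
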