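import Cfsg.Agent.Fusion.FamilyCriterion
import Cfsg.Agent.Fusion.InvariantCore
import Cfsg.Agent.Fusion.CentricMeet

/-!
Saturated subsystems of index prime to `p`, built on a family of centric subgroups containing the essentials.
-/

set_option autoImplicit false
set_option linter.style.haveILetI false

open Cfsg

namespace CfsgLib.Fusion

open Cfsg.FusionSystem

variable {Ω : Type*} [Group Ω] {S : Subgroup Ω}

/-- The least subsystem of `F` containing a collection of its maps. -/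
def generatedSystem (F : Cfsg.FusionSystem S) (M : ∀ P : Subgroup Ω, Set (P →* Ω)) : Cfsg.FusionSystem S where
  Hom R := {φ | φ ∈ F.Hom R ∧ ∀ E : Cfsg.FusionSystem S, (∀ P, M P ⊆ E.Hom P) → φ ∈ E.Hom R}
  le_of_mem h := F.le_of_mem h.1
  injective_of_mem h := F.injective_of_mem h.1
  conj_mem := fun hP hg => ⟨F.conj_mem hP hg, fun E _ => E.conj_mem hP hg⟩
  comp_mem := by
    rintro P Q φ ψ ⟨hφ, hφ'⟩ ⟨hψ, hψ'⟩ h
    exact ⟨F.comp_mem hφ hψ h, fun E hE => E.comp_mem (hφ' E hE) (hψ' E hE) h⟩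
  inv_mem := by
    rintro P φ ⟨hφ, hφ'⟩
    obtain ⟨ψ, hψ, hψφ⟩ := F.inv_mem hφ
    refine ⟨ψ, ⟨hψ, fun E hE => ?_⟩, hψφ⟩
    obtain ⟨χ, hχ, hχφ⟩ := E.inv_mem (hφ' E hE)
    refine mem_of_eq hχ ?_
    rintro ⟨_, x, rfl⟩
    exact (hψφ x).trans (hχφ x).symm

lemma generatedSystem_le (F : Cfsg.FusionSystem S) (M : ∀ P : Subgroup Ω, Set (P →* Ω)) :
    generatedSystem F M ≤ F := fun _ _ h => h.1

variable {F : Cfsg.FusionSystem S} {P Q R : Subgroup Ω} {p : ℕ}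

/-- The subgroup of `Aut_F(P)` generated by its elements of `p`-power order. -/
abbrev pElems (F : Cfsg.FusionSystem S) (p : ℕ) (P : Subgroup Ω) : Subgroup (MulAut P) :=
  (Subgroup.closure {α : F.autGroup P | ∃ k : ℕ, orderOf α = p ^ k}).map (F.autGroup P).subtype

/-- A family of centric subgroups containing `S` and the essential subgroups. -/
structure PFamily (F : Cfsg.FusionSystem S) (p : ℕ) (ℋ : Set (Subgroup Ω)) : Prop where
  centric : ∀ P ∈ ℋ, F.IsCentric P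
  conj : ∀ P ∈ ℋ, ∀ Q, F.IsConj P Q → Q ∈ ℋ
  essential : ∀ P, P = S ∨ F.IsEssential p P → P ∈ ℋ

/-- The system generated by the automorphisms of `p`-power order of the members of a family. -/
def pElemSystem (F : Cfsg.FusionSystem S) (p : ℕ) (ℋ : Set (Subgroup Ω)) : Cfsg.FusionSystem S :=
  generatedSystem F fun P => {φ | P ∈ ℋ ∧ ∃ γ : F.autGroup P, (∃ k : ℕ, orderOf γ = p ^ k) ∧
    φ = P.subtype.comp (γ : MulAut P).toMonoidHom}

/-- The automorphisms of `S` agreeing on a member of the family with a map of the generated system. -/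
def baseAut (F : Cfsg.FusionSystem S) (p : ℕ) (ℋ : Set (Subgroup Ω)) : Subgroup (MulAut S) :=
  Subgroup.closure {α | α ∈ F.autGroup S ∧ ∃ R ∈ ℋ, ∃ hR : R ≤ S,
    (S.subtype.comp α.toMonoidHom).comp (Subgroup.inclusion hR) ∈ (pElemSystem F p ℋ).Hom R}

variable {ℋ : Set (Subgroup Ω)}

lemma baseAut_le : baseAut F p ℋ ≤ F.autGroup S := (Subgroup.closure_le _).2 fun _ h => h.1

variable [Finite S] [Fact p.Prime]
variable (hS : IsPGroup p S) (hF : F.IsSaturated p) (hℋ : PFamily F p ℋ)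

include hℋ

omit [Finite S] [Fact p.Prime] in
lemma pElems_le_pElemSystem (hP : P ∈ ℋ) : pElems F p P ≤ (pElemSystem F p ℋ).autGroup P := by
  rw [Subgroup.map_le_iff_le_comap, Subgroup.closure_le]
  rintro γ hγ
  exact (mem_autGroup (hℋ.centric P hP).1).2 ⟨(mem_autGroup (hℋ.centric P hP).1).1 γ.2,
    fun E hE => hE P ⟨hP, γ, hγ, rfl⟩⟩

omit [Fact p.Prime] in
/-- The generated system is stable under `Aut_F(S)`. -/
lemma invBy_pElemSystem [Fact p.Prime] : InvBy (pElemSystem F p ℋ) (F.autGroup S) := by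
  have hle : ∀ P, (pElemSystem F p ℋ).Hom P ⊆ (invariantCore (pElemSystem F p ℋ) (F.autGroup S)).Hom P := by
    intro P φ hφ
    refine hφ.2 _ ?_
    rintro P _ ⟨hP, γ, ⟨k, hγ⟩, rfl⟩
    have hPS := (hℋ.centric P hP).1
    refine ⟨⟨(mem_autGroup hPS).1 γ.2, fun E hE => hE P ⟨hP, γ, ⟨k, hγ⟩, rfl⟩⟩, fun α hα R hR hm => ?_⟩
    set σ : P →* Ω := S.subtype.comp ((α⁻¹ : MulAut S).toMonoidHom.comp (Subgroup.inclusion hPS))
    have hσ : σ ∈ F.Hom P := restrict_of_eq ((mem_autGroup le_rfl).1 (inv_mem hα)) hPS fun _ => rfl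
    have hRσ : R ≤ σ.range := fun r hr => ⟨⟨_, hm ⟨r, hr⟩⟩, by
      show ((α⁻¹ (α ⟨r, hR hr⟩) : S) : Ω) = r
      rw [MulAut.inv_apply_self]⟩
    set e := isoOfHom (F.injective_of_mem hσ) (rfl : σ.range = σ.range)
    set γ' := MulAut.congr e (γ : MulAut P)
    have hγ'F : γ' ∈ F.autGroup σ.range := congr_mem_autGroup hσ rfl γ.2
    have hord : orderOf (⟨γ', hγ'F⟩ : F.autGroup σ.range) = p ^ k := by
      rw [← Subgroup.orderOf_coe]
      show orderOf ((MulAut.congr e).toMonoidHom (γ : MulAut P)) = _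
      rw [orderOf_injective (MulAut.congr e).toMonoidHom (MulEquiv.injective _), Subgroup.orderOf_coe, hγ]
    have hσℋ : σ.range ∈ ℋ := hℋ.conj P hP _ ⟨σ, hσ, rfl⟩
    have hγ'E := (mem_autGroup (range_le hσ)).1
      (pElems_le_pElemSystem hℋ hσℋ ⟨⟨γ', hγ'F⟩, Subgroup.subset_closure ⟨k, hord⟩, rfl⟩)
    refine restrict_of_eq hγ'E hRσ fun r => ?_
    show _ = ((e ((γ : MulAut P) (e.symm ⟨r, hRσ r.2⟩)) : σ.range) : Ω)
    have e1 : e.symm ⟨r, hRσ r.2⟩ = ⟨_, hm r⟩ := by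
      rw [MulEquiv.symm_apply_eq]
      refine Subtype.ext ?_
      show (r : Ω) = ((α⁻¹ (α ⟨(r : Ω), hR r.2⟩) : S) : Ω)
      rw [MulAut.inv_apply_self]
    rw [e1]
    rfl
  intro P φ hφ α hα R hR h
  obtain ⟨hφ', h'⟩ := hle P hφ
  exact h' α hα R hR h

omit [Fact p.Prime] in
lemma invBy_pElemSystem_of_le [Fact p.Prime] {A : Subgroup (MulAut S)} (hA : A ≤ F.autGroup S) :
    InvBy (pElemSystem F p ℋ) A := fun P φ hφ α hα => invBy_pElemSystem hℋ P φ hφ α (hA hα)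

/-- The system of composites of `A` with the generated system. -/
def indexSystem (A : Subgroup (MulAut S)) (hA : A ≤ F.autGroup S) : Cfsg.FusionSystem S :=
  twistProduct (pElemSystem F p ℋ) A (invBy_pElemSystem_of_le hℋ hA)

include hS hF

/-- The Frattini decomposition. -/
theorem exists_decomp_pElemSystem {φ : P →* Ω} (hφ : φ ∈ F.Hom P) :
    ∃ α ∈ F.autGroup S, ∃ φ₀ ∈ (pElemSystem F p ℋ).Hom P, ∀ (x : P) (hx : φ₀ x ∈ S),
      φ x = ((α ⟨φ₀ x, hx⟩ : S) : Ω) := by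
  suffices h : F ≤ twistProduct (pElemSystem F p ℋ) (F.autGroup S) (invBy_pElemSystem hℋ) from h P hφ
  refine le_of_essential_rec hS hF fun P hP hrec => ?_
  have hPℋ := hℋ.essential P hP
  rcases hP with rfl | ⟨-, hn, -⟩
  · intro α hα
    exact (mem_autGroup le_rfl).2 ⟨α, hα, P.subtype, subtype_mem le_rfl, fun x _ => rfl⟩
  rcases hn.1.eq_or_lt with rfl | hlt
  · intro α hα
    exact (mem_autGroup le_rfl).2 ⟨α, hα, P.subtype, subtype_mem le_rfl, fun x _ => rfl⟩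
  haveI := finite_mulAut hn.1
  refine autGroup_le_of_normal (p := p) hS (fullyAutomized_of_fullyNormalized hS hF hn)
    (receptive_of_fullyNormalized hS hF hn) le_rfl hn.1 (pElems F p P) ?_ (Subgroup.map_subtype_le _)
    (fun β hβ c hc => conj_mem_closure_pElements β hβ c hc) ?_ ?_
  · intro γ hγ
    exact (mem_autGroup hn.1).2
      (mem_twistProduct_of_mem ((mem_autGroup hn.1).1 (pElems_le_pElemSystem hℋ hPℋ hγ)))
  · intro γ hγ
    refine ⟨⟨γ, autInducedBy_le_autGroup hn.1 hγ⟩, Subgroup.subset_closure ?_, rfl⟩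
    obtain ⟨j, hj⟩ := (IsPGroup.iff_orderOf.1 (isPGroup_autInducedBy p hS P)) ⟨γ, hγ⟩
    refine ⟨j, ?_⟩
    rw [← Subgroup.orderOf_coe] at hj ⊢
    exact hj
  · intro φ hφ _ hPN
    haveI := finite_normalizerIn (S := S) P
    refine restrict (hrec _ φ hφ (lt_of_le_of_ne (Subgroup.card_le_of_le hPN) fun he => ?_)) hPN
    exact (lt_normalizerIn hS hlt).ne (Subgroup.eq_of_le_of_card_ge hPN he.ge)

/-- The generated system contains every automorphism of `p`-power order. -/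
theorem pElems_le_pElemSystem_all (hP : P ≤ S) : pElems F p P ≤ (pElemSystem F p ℋ).autGroup P := by
  rw [Subgroup.map_le_iff_le_comap, Subgroup.closure_le]
  rintro γ ⟨k, hk⟩
  show (γ : MulAut P) ∈ (pElemSystem F p ℋ).autGroup P
  obtain ⟨Q, ⟨φ, hφ, hφQ⟩, ha, -⟩ := hF P hP
  set e := isoOfHom (F.injective_of_mem hφ) hφQ
  have hγ' : MulAut.congr e (γ : MulAut P) ∈ F.autGroup Q := congr_mem_autGroup hφ hφQ γ.2
  have hXp : IsPGroup p (Subgroup.zpowers (MulAut.congr e (γ : MulAut P))) := by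
    refine IsPGroup.of_card (n := k) ?_
    rw [Nat.card_zpowers]
    show orderOf ((MulAut.congr e).toMonoidHom (γ : MulAut P)) = _
    rw [orderOf_injective (MulAut.congr e).toMonoidHom (MulEquiv.injective _), Subgroup.orderOf_coe, hk]
  obtain ⟨χ, hχ, hχγ⟩ := exists_conj_le_autInducedBy p ha _ hXp (Subgroup.zpowers_le.2 hγ')
  obtain ⟨g, hg, hgx⟩ := mem_autInducedBy.1 (hχγ _ (Subgroup.mem_zpowers _))
  let φ' : P →* Ω := Q.subtype.comp ((χ : Q ≃* Q).toMonoidHom.comp e.toMonoidHom)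
  have hφ' : φ' ∈ F.Hom P :=
    comp_of_eq hφ ((mem_autGroup ha.1).1 hχ) (mem_of_range_eq hφQ) fun _ => rfl
  have hφ'γ : ∀ x : P, φ' ((γ : MulAut P) x) = g * φ' x * g⁻¹ := by
    intro x
    have h1 := hgx (χ (e x))
    have h2 : MulAut.congr e (γ : MulAut P) (e x) = e ((γ : MulAut P) x) := by
      show e ((γ : MulAut P) (e.symm (e x))) = _
      rw [MulEquiv.symm_apply_apply]
    simp only [MulAut.mul_apply, MulAut.inv_apply_self, h2] at h1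
    exact h1
  obtain ⟨α, hα, φ₀, hφ₀, hag⟩ := exists_decomp_pElemSystem hS hF hℋ hφ'
  set D := pElemSystem F p ℋ
  obtain ⟨ψ₀, hψ₀, -, h1, -⟩ := exists_inv hφ₀ (rfl : φ₀.range = φ₀.range)
  have key : ∀ x : P,
      φ₀ ((γ : MulAut P) x) = ((α⁻¹ ⟨g, hg⟩ : S) : Ω) * φ₀ x * ((α⁻¹ ⟨g, hg⟩ : S) : Ω)⁻¹ := by
    intro x
    have h2 : α ⟨φ₀ ((γ : MulAut P) x), val_mem hφ₀ _⟩ =
        ⟨g, hg⟩ * α ⟨φ₀ x, val_mem hφ₀ x⟩ * ⟨g, hg⟩⁻¹ := by
      refine Subtype.ext ?_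
      rw [← hag, hφ'γ, hag x (val_mem hφ₀ x)]
      rfl
    have h3 := congrArg (fun z : S => ((α⁻¹ z : S) : Ω)) h2
    simp only [map_mul, map_inv, MulAut.inv_apply_self, Subgroup.coe_mul, Subgroup.coe_inv] at h3
    exact h3
  have hc : conjHom φ₀.range ((α⁻¹ ⟨g, hg⟩ : S) : Ω) ∈ D.Hom φ₀.range :=
    D.conj_mem (range_le hφ₀) (α⁻¹ _).2
  have hm : ∀ x : P, φ₀ x ∈ φ₀.range := fun x => ⟨x, rfl⟩
  have hm2 : ∀ y : φ₀.range, conjHom φ₀.range ((α⁻¹ ⟨g, hg⟩ : S) : Ω) y ∈ φ₀.range := by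
    rintro ⟨_, x, rfl⟩
    exact ⟨_, key x⟩
  refine (mem_autGroup hP).2 (comp_of_eq hφ₀ (D.comp_mem hc hψ₀ hm2) hm fun x => ?_)
  show (((γ : MulAut P) x : P) : Ω) = ψ₀ ⟨_, hm2 ⟨φ₀ x, hm x⟩⟩
  refine (h1 ((γ : MulAut P) x) (hm _)).symm.trans (congrArg ψ₀ (Subtype.ext ?_))
  exact key x

variable {A : Subgroup (MulAut S)} (hA : A ≤ F.autGroup S)

lemma indexSystem_le : (indexSystem hℋ A hA).IsSubsystemOf F := by
  rintro P φ ⟨α, hα, φ₀, hφ₀, hag⟩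
  exact comp_of_eq hφ₀.1 ((mem_autGroup le_rfl).1 (hA hα)) (val_mem hφ₀) fun x => hag x _

theorem hasPrimeToPIndexIn_indexSystem : (indexSystem hℋ A hA).HasPrimeToPIndexIn F p :=
  ⟨indexSystem_le hS hF hℋ hA, fun _ hP => (pElems_le_pElemSystem_all hS hF hℋ hP).trans fun _ hα =>
    (mem_autGroup hP).2 (mem_twistProduct_of_mem ((mem_autGroup hP).1 hα))⟩

omit [Fact p.Prime] in
lemma card_normalizerIn_le_of_aut [Fact p.Prime] {φ φ₀ : P →* Ω} {α : MulAut S} (hφ₀ : φ₀ ∈ F.Hom P)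
    (hag : ∀ (x : P) (hx : φ₀ x ∈ S), φ x = ((α ⟨φ₀ x, hx⟩ : S) : Ω)) :
    Nat.card (normalizerIn S φ.range) ≤ Nat.card (normalizerIn S φ₀.range) := by
  haveI := finite_normalizerIn (S := S) φ₀.range
  have hmem : ∀ g (hg : g ∈ normalizerIn S φ.range), ((α⁻¹ ⟨g, hg.1⟩ : S) : Ω) ∈ normalizerIn S φ₀.range := by
    intro g hg
    refine ⟨(α⁻¹ _).2, Subgroup.mem_normalizer_iff.2 fun y => ?_⟩
    have key : ∀ (z : S), (z : Ω) ∈ φ₀.range ↔ ((α z : S) : Ω) ∈ φ.range := by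
      intro z
      constructor
      · rintro ⟨x, hx⟩
        refine ⟨x, (hag x (val_mem hφ₀ x)).trans ?_⟩
        exact congrArg (fun w : S => ((α w : S) : Ω)) (Subtype.ext hx)
      · rintro ⟨x, hx⟩
        rw [hag x (val_mem hφ₀ x)] at hx
        exact ⟨x, congrArg Subtype.val (α.injective (Subtype.ext hx))⟩
    constructor
    · intro hy
      have hyS : y ∈ S := range_le hφ₀ hy
      have h1 := (Subgroup.mem_normalizer_iff.1 hg.2 _).1 ((key ⟨y, hyS⟩).1 hy)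
      have h2 : α (α⁻¹ ⟨g, hg.1⟩ * ⟨y, hyS⟩ * (α⁻¹ ⟨g, hg.1⟩)⁻¹) = ⟨g, hg.1⟩ * α ⟨y, hyS⟩ * ⟨g, hg.1⟩⁻¹ := by
        simp
      have h3 := (key (α⁻¹ ⟨g, hg.1⟩ * ⟨y, hyS⟩ * (α⁻¹ ⟨g, hg.1⟩)⁻¹)).2 (by rw [h2]; exact h1)
      exact h3
    · intro hy
      have hyS : y ∈ S := by
        have := S.mul_mem (S.mul_mem (S.inv_mem (α⁻¹ ⟨g, hg.1⟩).2) (range_le hφ₀ hy)) (α⁻¹ ⟨g, hg.1⟩).2
        simpa [mul_assoc] using this
      have h1 := (key (α⁻¹ ⟨g, hg.1⟩ * ⟨y, hyS⟩ * (α⁻¹ ⟨g, hg.1⟩)⁻¹)).1 hy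
      have h2 : α (α⁻¹ ⟨g, hg.1⟩ * ⟨y, hyS⟩ * (α⁻¹ ⟨g, hg.1⟩)⁻¹) = ⟨g, hg.1⟩ * α ⟨y, hyS⟩ * ⟨g, hg.1⟩⁻¹ := by
        simp
      rw [h2] at h1
      exact (key ⟨y, hyS⟩).2 ((Subgroup.mem_normalizer_iff.1 hg.2 _).2 h1)
  refine Nat.card_le_card_of_injective (fun g : normalizerIn S φ.range => (⟨_, hmem g g.2⟩ : normalizerIn S φ₀.range))
    fun a b hab => ?_
  have h1 : (⟨(a : Ω), a.2.1⟩ : S) = ⟨(b : Ω), b.2.1⟩ := α⁻¹.injective (Subtype.ext (congrArg Subtype.val hab :))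
  exact Subtype.ext (congrArg Subtype.val h1 :)

lemma isCentric_of_indexSystem (hc : (indexSystem hℋ A hA).IsCentric P) : F.IsCentric P := by
  refine ⟨hc.1, ?_⟩
  rintro _ ⟨φ, hφ, rfl⟩
  obtain ⟨α, hα, φ₀, hφ₀, hag⟩ := exists_decomp_pElemSystem hS hF hℋ hφ
  have h0 := hc.2 φ₀.range ⟨φ₀, mem_twistProduct_of_mem hφ₀, rfl⟩
  rintro y ⟨hyS, hy⟩
  have hy0 : ((α⁻¹ ⟨y, hyS⟩ : S) : Ω) ∈ φ₀.range := by
    refine h0 ⟨(α⁻¹ _).2, Subgroup.mem_centralizer_iff.2 ?_⟩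
    rintro _ ⟨x, rfl⟩
    have h1 := Subgroup.mem_centralizer_iff.1 hy (φ x) ⟨x, rfl⟩
    rw [hag x (val_mem hφ₀ x)] at h1
    have h2 : α ⟨φ₀ x, val_mem hφ₀ x⟩ * ⟨y, hyS⟩ = ⟨y, hyS⟩ * α ⟨φ₀ x, val_mem hφ₀ x⟩ := Subtype.ext h1
    have h3 := congrArg (fun z : S => ((α⁻¹ z : S) : Ω)) h2
    simp only [map_mul, MulAut.inv_apply_self, Subgroup.coe_mul] at h3
    exact h3
  obtain ⟨x, hx⟩ := hy0
  refine ⟨x, ?_⟩
  rw [hag x (val_mem hφ₀ x)]
  have : (⟨φ₀ x, val_mem hφ₀ x⟩ : S) = α⁻¹ ⟨y, hyS⟩ := Subtype.ext hx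
  rw [this, MulAut.apply_inv_self]

/-- The system attached to `A` is saturated. -/
theorem isSaturated_indexSystem (hbase : baseAut F p ℋ ≤ A)
    (hstar : ∀ P : Subgroup Ω, F.IsCentric P → P ∉ ℋ → ∃ Q, F.IsConj P Q ∧ ∃ x, ∃ hx : x ∈ normalizerIn S Q,
      x ∉ Q ∧ conjAut Q S ⟨x, hx⟩ ∈ (Cfsg.pCore p (F.autGroup Q)).map (F.autGroup Q).subtype) :
    (indexSystem hℋ A hA).IsSaturated p := by
  set E := indexSystem hℋ A hA with hE
  have hEF : E.IsSubsystemOf F := indexSystem_le hS hF hℋ hA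
  have hDE : ∀ {P : Subgroup Ω} {φ : P →* Ω}, φ ∈ (pElemSystem F p ℋ).Hom P → φ ∈ E.Hom P :=
    fun h => mem_twistProduct_of_mem h
  refine isSaturated_of_family hS E ℋ (fun P hP Q hQ => hℋ.conj P hP Q (isConj_mono hEF hQ))
    (fun P hP => ?_) (fun G hG => ?_) fun P hc hP => ?_
  · have hPS := (hℋ.centric P hP).1
    obtain ⟨Q, hPQ, hQn⟩ := exists_fullyNormalized (F := E) hPS
    have hQℋ : Q ∈ ℋ := hℋ.conj P hP Q (isConj_mono hEF hPQ)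
    have hQS := hQn.1
    have hQF : F.IsFullyNormalized Q := ⟨hQS, fun R hR => by
      obtain ⟨φ, hφ, rfl⟩ := hR
      obtain ⟨α, hα, φ₀, hφ₀, hag⟩ := exists_decomp_pElemSystem hS hF hℋ hφ
      exact (card_normalizerIn_le_of_aut hS hF hℋ hφ₀.1 hag).trans (hQn.2 _ ⟨φ₀, hDE hφ₀, rfl⟩)⟩
    refine ⟨Q, hPQ, ?_, hQS, fun R φ hφ hr => ?_⟩
    · obtain ⟨-, T, hT⟩ := fullyAutomized_of_fullyNormalized hS hF hQF
      haveI := finite_mulAut hQS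
      obtain ⟨V, hV⟩ := (((isPGroup_autInducedBy p hS Q).comap_of_injective _
        (E.autGroup Q).subtype_injective)).exists_le_sylow
      refine ⟨hQS, V, le_antisymm (fun v hv => ?_) hV⟩
      have hle : E.autGroup Q ≤ F.autGroup Q := fun a ha =>
        (mem_autGroup hQS).2 (hEF Q ((mem_autGroup hQS).1 ha))
      let ι : E.autGroup Q →* F.autGroup Q := Subgroup.inclusion hle
      have hmax := T.is_maximal' (V.isPGroup'.map ι) (fun t ht => by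
        have ht' := Subgroup.mem_subgroupOf.1 (hT.le ht)
        exact ⟨⟨t, autInducedBy_le_autGroup hQS ht'⟩, hV (Subgroup.mem_subgroupOf.2 ht'), Subtype.ext rfl⟩)
      exact Subgroup.mem_subgroupOf.1 (hT.le (hmax.le ⟨v, hv, rfl⟩))
    · obtain ⟨ψ, hψ, hag⟩ := (receptive_of_fullyNormalized hS hF hQF).2 R φ (hEF R hφ) hr
      refine ⟨ψ, ?_, hag⟩
      obtain ⟨α, hα, ψ₀, hψ₀, hψag⟩ := exists_decomp_pElemSystem hS hF hℋ hψ
      obtain ⟨β, hβ, φ₀, hφ₀, hφag⟩ := id hφ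
      have hRN : R ≤ extender S R φ := le_extender (hEF R hφ)
      set χ := ψ₀.comp (Subgroup.inclusion hRN)
      have hχ : χ ∈ (pElemSystem F p ℋ).Hom R := restrict hψ₀ hRN
      have hχℋ : χ.range ∈ ℋ := hℋ.conj R (hℋ.conj Q hQℋ R (IsConj.symm ⟨φ, hEF R hφ, hr⟩)) _ ⟨χ, hχ.1, rfl⟩
      have hαA : α ∈ A := by
        suffices h : β⁻¹ * α ∈ A by simpa using mul_mem hβ h
        refine hbase (Subgroup.subset_closure ⟨mul_mem (inv_mem (hA hβ)) hα, _, hχℋ, range_le hχ, ?_⟩)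
        obtain ⟨θ, hθ, -, hθ1, -⟩ := exists_inv hχ (rfl : χ.range = χ.range)
        refine mem_of_eq (comp_of_eq hθ hφ₀ (fun y => ?_) fun _ => rfl :
          φ₀.comp (θ.codRestrict R fun y => ?_) ∈ _) ?_
        · obtain ⟨_, x, rfl⟩ := y
          rw [hθ1 x ⟨x, rfl⟩]
          exact x.2
        · obtain ⟨_, x, rfl⟩ := y
          rw [hθ1 x ⟨x, rfl⟩]
          exact x.2
        · rintro ⟨_, x, rfl⟩
          show ((β⁻¹ (α ⟨χ x, _⟩) : S) : Ω) = φ₀ ⟨θ ⟨χ x, _⟩, _⟩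
          have h1 : α ⟨χ x, range_le hχ ⟨x, rfl⟩⟩ = β ⟨φ₀ x, val_mem hφ₀ x⟩ := Subtype.ext (by
            rw [← hφag x (val_mem hφ₀ x), ← hag x x.2 (hRN x.2), hψag _ (val_mem hψ₀ _)]
            rfl)
          rw [h1, MulAut.inv_apply_self]
          exact congrArg φ₀ (Subtype.ext (hθ1 x ⟨x, rfl⟩).symm)
      exact ⟨α, hαA, ψ₀, hψ₀, hψag⟩
  · have hD : ∀ (P : Subgroup Ω), (pElemSystem F p ℋ).Hom P ⊆ G.Hom P := fun P φ hφ => hφ.2 G (by
      rintro R _ ⟨hR, γ, hγ, rfl⟩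
      exact hG R hR (hDE ⟨(mem_autGroup (hℋ.centric R hR).1).1 γ.2, fun E' hE' => hE' R ⟨hR, γ, hγ, rfl⟩⟩))
    rintro P φ ⟨α, hα, φ₀, hφ₀, hag⟩
    exact comp_of_eq (hD P hφ₀)
      (hG S (hℋ.essential S (Or.inl rfl)) (⟨α, hα, S.subtype, subtype_mem le_rfl, fun x _ => rfl⟩ :
        S.subtype.comp α.toMonoidHom ∈ E.Hom S)) (val_mem hφ₀) fun x => hag x _
  · have hcF := isCentric_of_indexSystem hS hF hℋ hA hc
    obtain ⟨Q, hPQ, x, hx, hxQ, hxO⟩ := hstar P hcF hP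
    obtain ⟨φ, hφ, rfl⟩ := hPQ
    obtain ⟨α, hα, φ₀, hφ₀, hag⟩ := exists_decomp_pElemSystem hS hF hℋ hφ
    refine ⟨φ₀.range, ⟨φ₀, hDE hφ₀, rfl⟩, fun hle => ?_⟩
    -- move the element back along `α`
    obtain ⟨Q₁, hQ₁⟩ : ∃ Q₁, Q₁ = φ₀.range := ⟨_, rfl⟩
    rw [← hQ₁] at hle
    let σ : φ.range →* Ω := S.subtype.comp ((α⁻¹ : MulAut S).toMonoidHom.comp (Subgroup.inclusion (range_le hφ)))
    have hσ : σ ∈ F.Hom φ.range := restrict_of_eq ((mem_autGroup le_rfl).1 (inv_mem hα)) (range_le hφ) fun _ => rfl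
    have hσv : ∀ (y : P), σ ⟨φ y, y, rfl⟩ = φ₀ y := fun y => by
      show ((α⁻¹ (⟨φ y, _⟩ : S) : S) : Ω) = φ₀ y
      rw [show (⟨φ y, range_le hφ ⟨y, rfl⟩⟩ : S) = α ⟨φ₀ y, val_mem hφ₀ y⟩ from Subtype.ext (hag y _),
        MulAut.inv_apply_self]
    have hσr : σ.range = Q₁ := by
      rw [hQ₁]
      ext z
      constructor
      · rintro ⟨⟨_, y, rfl⟩, rfl⟩; exact ⟨y, (hσv y).symm⟩
      · rintro ⟨y, rfl⟩; exact ⟨_, hσv y⟩
    have hx' : ((α⁻¹ ⟨x, hx.1⟩ : S) : Ω) ∈ normalizerIn S Q₁ := by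
      refine ⟨(α⁻¹ _).2, ?_⟩
      have := map_mem_normalizer (φ := σ) (ψ := S.subtype.comp (α⁻¹ : MulAut S).toMonoidHom) (range_le hφ)
        (fun _ => rfl) hx.1 hx.2
      rwa [hσr] at this
    have hcongr := congr_mem_pCore (p := p) (e := isoOfHom (F.injective_of_mem hσ) hσr) (isoIn_isoOfHom hσ hσr) hxO
    rw [congr_conjAut (ψ := S.subtype.comp (α⁻¹ : MulAut S).toMonoidHom) (range_le hφ) (fun y => rfl) hx.1 hx hx']
      at hcongr
    have hQ₁S : Q₁ ≤ S := hσr ▸ range_le hσ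
    have hc2 : conjAut Q₁ S ⟨_, hx'⟩ ∈ (Cfsg.pCore p (E.autGroup Q₁)).map (E.autGroup Q₁).subtype := by
      obtain ⟨c, hc, hce⟩ := hcongr
      have hEA : conjAut Q₁ S ⟨_, hx'⟩ ∈ E.autGroup Q₁ :=
        autInducedBy_le_autGroup hQ₁S ((range_conjAut (P := Q₁) S).le ⟨_, rfl⟩)
      haveI := finite_mulAut hQ₁S
      set O := ((Cfsg.pCore p (F.autGroup Q₁)).map (F.autGroup Q₁).subtype).subgroupOf (E.autGroup Q₁)
      have hn : O.Normal := ⟨fun d hd b => pCore_conj_mem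
        ((mem_autGroup hQ₁S).2 (hEF Q₁ ((mem_autGroup hQ₁S).1 b.2))) hd⟩
      have hO : IsPGroup p O := ((CfsgLib.PCore.isPGroup_pCore p _).map _).comap_of_injective _
        (E.autGroup Q₁).subtype_injective
      exact ⟨⟨_, hEA⟩, CfsgLib.PCore.le_pCore hn hO (Subgroup.mem_subgroupOf.2 ⟨c, hc, hce⟩), rfl⟩
    obtain ⟨y, hy⟩ := hle ⟨(range_conjAut (P := Q₁) S).le ⟨_, rfl⟩, hc2⟩
    have hzc : (y : Ω)⁻¹ * ((α⁻¹ ⟨x, hx.1⟩ : S) : Ω) ∈ centralizerIn S Q₁ := by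
      refine ⟨S.mul_mem (S.inv_mem (hQ₁S y.2)) (α⁻¹ _).2, Subgroup.mem_centralizer_iff.2 fun q hq => ?_⟩
      have h1 := congrArg (fun c : MulAut Q₁ => ((c ⟨q, hq⟩ : Q₁) : Ω)) hy
      simp only [MulAut.conj_apply, Subgroup.coe_mul, Subgroup.coe_inv, conjAut_apply] at h1
      rw [show q * ((y : Ω)⁻¹ * ((α⁻¹ ⟨x, hx.1⟩ : S) : Ω)) =
        (y : Ω)⁻¹ * ((y : Ω) * q * (y : Ω)⁻¹) * ((α⁻¹ ⟨x, hx.1⟩ : S) : Ω) by group, h1]
      group
    have hc' : F.IsConj P Q₁ := hQ₁ ▸ ⟨φ₀, hφ₀.1, rfl⟩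
    have h1 : ((α⁻¹ ⟨x, hx.1⟩ : S) : Ω) ∈ Q₁ := by
      simpa using Q₁.mul_mem y.2 (hcF.2 Q₁ hc' hzc)
    rw [← hσr] at h1
    obtain ⟨⟨z, hz⟩, hzx⟩ := h1
    have h2 : α⁻¹ ⟨z, range_le hφ hz⟩ = α⁻¹ ⟨x, hx.1⟩ := Subtype.ext hzx
    have h3 : z = x := congrArg Subtype.val (α⁻¹.injective h2)
    exact hxQ (h3 ▸ hz)

theorem autGroup_indexSystem (hbase : baseAut F p ℋ ≤ A) : (indexSystem hℋ A hA).autGroup S = A := by
  refine le_antisymm (fun a ha => ?_) fun a ha =>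
    (mem_autGroup le_rfl).2 ⟨a, ha, S.subtype, subtype_mem le_rfl, fun x _ => rfl⟩
  obtain ⟨α, hα, φ₀, hφ₀, hag⟩ := (mem_autGroup le_rfl).1 ha
  have h : α⁻¹ * a ∈ baseAut F p ℋ := by
    refine Subgroup.subset_closure ⟨mul_mem (inv_mem (hA hα)) ((mem_autGroup le_rfl).2
      (indexSystem_le hS hF hℋ hA S ((mem_autGroup le_rfl).1 ha))), S, hℋ.essential S (Or.inl rfl), le_rfl, ?_⟩
    refine mem_of_eq hφ₀ fun x => ?_
    show ((α⁻¹ (a x) : S) : Ω) = φ₀ x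
    rw [show a x = α ⟨φ₀ x, val_mem hφ₀ x⟩ from Subtype.ext (hag x _), MulAut.inv_apply_self]
  simpa using mul_mem hα (hbase h)

/-- The least saturated subsystem of index prime to `p` contains the generated system. -/
theorem pElemSystem_le_of_primeToP {G : Cfsg.FusionSystem S} (hG : G.HasPrimeToPIndexIn F p) :
    ∀ P, (pElemSystem F p ℋ).Hom P ⊆ G.Hom P := by
  intro P φ hφ
  refine hφ.2 G ?_
  rintro R _ ⟨hR, γ, hγ, rfl⟩
  exact (mem_autGroup (hℋ.centric R hR).1).1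
    (hG.2 R (hℋ.centric R hR).1 ⟨γ, Subgroup.subset_closure hγ, rfl⟩)

theorem indexSystem_le_of_primeToP {G : Cfsg.FusionSystem S} (hG : G.HasPrimeToPIndexIn F p)
    (hGs : G.IsSaturated p) : (indexSystem hℋ (baseAut F p ℋ) baseAut_le).IsSubsystemOf G := by
  have hD := pElemSystem_le_of_primeToP hS hF hℋ hG
  have hbase : baseAut F p ℋ ≤ G.autGroup S := by
    refine (Subgroup.closure_le _).2 fun α hα => ?_
    obtain ⟨hαF, R, hR, hRS, hD'⟩ := hα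
    exact (mem_autGroup le_rfl).2 (mem_of_restrict_centric hS hF hGs hG.1 (hℋ.centric R hR) hRS
      ((mem_autGroup le_rfl).1 hαF) (hD R hD'))
  rintro P φ ⟨α, hα, φ₀, hφ₀, hag⟩
  exact comp_of_eq (hD P hφ₀) ((mem_autGroup le_rfl).1 (hbase hα)) (val_mem hφ₀) fun x => hag x _

end CfsgLib.Fusion
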