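import Cfsg.Agent.Fusion.PrimeToPFamily
import Cfsg.Agent.Fusion.AlperinCor

/-!
The least saturated subsystem of index prime to `p`.
-/

set_option autoImplicit false

open Cfsg

namespace CfsgLib.Fusion

open Cfsg.FusionSystem

variable {Ω : Type*} [Group Ω] {S : Subgroup Ω} [Finite S] {p : ℕ} [Fact p.Prime]

/-- All centric subgroups. -/
lemma pFamily_centric (F : Cfsg.FusionSystem S) : PFamily F p {P | F.IsCentric P} :=
  ⟨fun _ h => h, fun _ h _ hQ => isCentric_of_conj h hQ, fun _ h => by
    rcases h with rfl | h
    exacts [isCentric_self F, h.1]⟩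

variable (hS : IsPGroup p S) (F : Cfsg.FusionSystem S) (hF : F.IsSaturated p)

/-- The candidate for the least saturated subsystem of index prime to `p`. -/
def pPrimeResidualSystem : Cfsg.FusionSystem S :=
  indexSystem (pFamily_centric (p := p) F) (baseAut F p {P | F.IsCentric P}) baseAut_le

include hS hF

theorem isPPrimeResidual_pPrimeResidualSystem : F.IsPPrimeResidual p (pPrimeResidualSystem (p := p) F) :=
  ⟨isSaturated_indexSystem hS hF (pFamily_centric F) baseAut_le le_rfl fun _ hc hn => absurd hc hn,
    hasPrimeToPIndexIn_indexSystem hS hF (pFamily_centric F) baseAut_le,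
    fun _ hG hGi => indexSystem_le_of_primeToP hS hF (pFamily_centric F) hGi hG⟩

/-- Any two residuals have the same maps. -/
theorem residual_hom_eq {D : Cfsg.FusionSystem S} (hD : F.IsPPrimeResidual p D) (P : Subgroup Ω) :
    D.Hom P = (pPrimeResidualSystem (p := p) F).Hom P :=
  (hD.2.2 _ (isPPrimeResidual_pPrimeResidualSystem hS F hF).1 (isPPrimeResidual_pPrimeResidualSystem hS F hF).2.1 P).antisymm
    ((isPPrimeResidual_pPrimeResidualSystem hS F hF).2.2 D hD.1 hD.2.1 P)

end CfsgLib.Fusion
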