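import Cfsg.Agent.Fusion.Abelian
import Cfsg.Agent.Fusion.FactorSat
import Cfsg.Agent.Fusion.Inner
import Cfsg.Agent.Fusion.Control
import Cfsg.Agent.S5144
import Cfsg.Agent.S5290

/-!
A quasisimple fusion system lives over a nonabelian group.
-/

set_option autoImplicit false
set_option linter.style.haveILetI false

open Cfsg

namespace CfsgLib.Fusion

open Cfsg.FusionSystem

universe u

variable {Ω : Type u} [Group Ω] {S : Subgroup Ω} {F : Cfsg.FusionSystem S} {p : ℕ} [Fact p.Prime]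

/-- A simple system over an abelian group has only identity maps on the whole group. -/
lemma eq_inner_of_isSimple_abelian [Finite S] (hS : IsPGroup p S) (hF : F.IsSimple p)
    (hab : ∀ x ∈ S, ∀ y ∈ S, x * y = y * x) {φ : S →* Ω} (hφ : φ ∈ F.Hom S) (x : S) : φ x = x := by
  have hN : F.IsNormal S := by
    refine ⟨le_rfl, fun P φ hφ => ?_⟩
    obtain ⟨α, hα, hαφ⟩ := exists_aut_of_hom hS hF.1 hab hφ
    have hle : P ⊔ S ≤ S := sup_le (le_of_hom hφ) le_rfl
    refine ⟨_, restrict ((mem_autGroup le_rfl).1 hα) hle, fun x => hαφ x, le_antisymm ?_ ?_⟩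
    · rintro _ ⟨y, -, rfl⟩; exact (α (Subgroup.inclusion hle y)).2
    · intro y hy
      exact ⟨⟨(α⁻¹ ⟨y, hy⟩ : S), Subgroup.mem_sup_right (α⁻¹ _).2⟩, (α⁻¹ ⟨y, hy⟩).2,
        congrArg Subtype.val (MulAut.apply_inv_self _ α ⟨y, hy⟩)⟩
  have hw := (Cfsg.Agent.S5290.result p hS F hF.1 S le_rfl).1 hN
  have hn : (Cfsg.innerFusionSystem S).IsNormalIn F p := by
    refine ⟨hw, fun α hα => ⟨1, one_mem _, fun z => ?_, fun c hc => ?_⟩⟩
    · rw [autGroup_innerFS le_rfl, autInducedBy_self, inn_eq_bot_of_abelian hab, Subgroup.mem_bot] at hα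
      subst hα; rfl
    · show (c : Ω)⁻¹ * (c : Ω) ∈ _
      rw [inv_mul_cancel]; exact one_mem _
  rcases hF.2.2 S _ hn with h | ⟨-, h⟩
  · exact absurd h hF.2.1
  · rw [← h S] at hφ
    obtain ⟨-, g, hg, hx⟩ := hφ
    rw [hx x, hab g hg x x.2, mul_inv_cancel_right]

theorem not_abelian_of_quasisimple [Finite S] (hS : IsPGroup p S) (hq : F.Quasisimple p) :
    ¬ IsMulCommutative S := by
  intro hc
  have hab : ∀ x ∈ S, ∀ y ∈ S, x * y = y * x := fun x hx y hy =>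
    congrArg Subtype.val (hc.1.1 (⟨x, hx⟩ : S) ⟨y, hy⟩)
  obtain ⟨hF, hhyp, hsimple⟩ := hq
  have hZ : F.IsCentral F.center := Cfsg.Agent.S5144.result F
  have hQ : F.StronglyClosed F.center := ⟨hZ.1, fun R hR φ hφ x => by
    rw [apply_of_isCentral hZ hφ x (hR x.2)]; exact hR x.2⟩
  set θ := QuotientGroup.mk' ((F.center).subgroupOf S) with hθ
  have hker : ∀ s : S, θ s = 1 ↔ (s : Ω) ∈ F.center := fun s =>
    (QuotientGroup.eq_one_iff s).trans Subgroup.mem_subgroupOf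
  have hr : θ.range = ⊤ := MonoidHom.range_eq_top.2 (QuotientGroup.mk'_surjective _)
  obtain ⟨E, hE⟩ : ∃ E : Cfsg.FusionSystem (⊤ : Subgroup (S ⧸ (F.center).subgroupOf S)),
      F.IsFactorSystem F.center θ E := by
    rw [← hr]; exact ⟨_, isFactorSystem_factorSystem hker hQ⟩
  have hEs := hsimple E hE
  haveI : Finite (⊤ : Subgroup (S ⧸ (F.center).subgroupOf S)) := Subgroup.instFiniteSubtypeMem _
  have hS' : IsPGroup p (⊤ : Subgroup (S ⧸ (F.center).subgroupOf S)) :=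
    (hS.to_quotient _).of_equiv Subgroup.topEquiv.symm
  have hab' : ∀ x ∈ (⊤ : Subgroup (S ⧸ (F.center).subgroupOf S)), ∀ y ∈ (⊤ : Subgroup _),
      x * y = y * x := by
    intro x _ y _
    obtain ⟨a, rfl⟩ := QuotientGroup.mk'_surjective _ x
    obtain ⟨b, rfl⟩ := QuotientGroup.mk'_surjective _ y
    rw [← map_mul, ← map_mul, hc.1.1 a b]
  have key : ∀ γ ∈ F.autGroup S, ∀ x : S, (x : Ω)⁻¹ * ((γ x : S) : Ω) ∈ F.center := by
    intro γ hγ x
    have hφ := restrict ((mem_autGroup le_rfl).1 hγ) (show preimageAlong θ ⊤ ≤ S from preimageAlong_le _)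
    obtain ⟨φ', hi, -⟩ := exists_induced hker hQ hr.ge hφ
    have hφ' : φ' ∈ E.Hom ⊤ := (hE.2.2.2 _ _).2 ⟨le_rfl, _, hφ, hi⟩
    have hx : (x : Ω) ∈ preimageAlong θ ⊤ := mem_preimageAlong.2 ⟨x.2, Subgroup.mem_top _⟩
    have h1 := induced_apply hi hx (val_mem hφ ⟨_, hx⟩) (x := ⟨θ x, Subgroup.mem_top _⟩) rfl
    rw [eq_inner_of_isSimple_abelian hS' hEs hab' hφ'] at h1
    have h2 : θ x = θ (γ x) := h1
    have h3 : θ (x⁻¹ * γ x) = 1 := by rw [map_mul, map_inv, h2, inv_mul_cancel]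
    exact (hker _).1 h3
  have hle : S ≤ F.center := by
    refine hhyp.ge.trans ?_
    rw [FusionSystem.hyperfocalSubgroup, Subgroup.closure_le]
    rintro y ⟨P, α, x, hP, -, rfl⟩
    obtain ⟨γ, hγ, hγα⟩ := exists_aut_of_hom hS hF hab ((mem_autGroup hP).1 α.2)
    have := key γ hγ ⟨x, hP x.2⟩
    rw [hγα x] at this
    exact this
  refine hEs.2.1 (eq_bot_iff.2 fun z _ => ?_)
  obtain ⟨a, rfl⟩ := QuotientGroup.mk'_surjective _ z
  exact Subgroup.mem_bot.2 ((hker a).2 (hle a.2))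

end CfsgLib.Fusion
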