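import Cfsg.Agent.Fusion.NormalOfGroup

/-!
The normal subsystem induced by a normal subgroup of a finite group realizing a fusion system.
-/

set_option autoImplicit false
set_option linter.style.haveILetI false

open Cfsg

namespace CfsgLib.Fusion

open Cfsg.FusionSystem

variable {Ω : Type*} [Group Ω] {S : Subgroup Ω} {F : Cfsg.FusionSystem S}
variable {G : Type*} [Group G]

/-- The conjugations by elements of `N`, read through `ι`. -/
def subgroupSystem (ι : S →* G) (N : Subgroup G) : Cfsg.FusionSystem (preimageAlong ι N) where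
  Hom P := {φ | ∃ hP : P ≤ preimageAlong ι N, ∃ hφ : ∀ x : P, φ x ∈ preimageAlong ι N, Function.Injective φ ∧
    ∃ g ∈ N, ∀ x : P, ι ⟨φ x, preimageAlong_le N (hφ x)⟩ = g * ι ⟨x, preimageAlong_le N (hP x.2)⟩ * g⁻¹}
  le_of_mem h := ⟨h.1, h.2.1⟩
  injective_of_mem h := h.2.2.1
  conj_mem := by
    intro P c hP hc
    refine ⟨hP, fun x => ?_, fun a b hab => Subtype.ext ?_, ι ⟨c, preimageAlong_le N hc⟩,
      (mem_preimageAlong.1 hc).2, fun x => ?_⟩
    · show c * x * c⁻¹ ∈ preimageAlong ι N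
      exact (preimageAlong ι N).mul_mem ((preimageAlong ι N).mul_mem hc (hP x.2)) ((preimageAlong ι N).inv_mem hc)
    · exact mul_left_cancel (mul_right_cancel hab)
    · rw [← map_inv, ← map_mul, ← map_mul]
      rfl
  comp_mem := by
    rintro P Q φ ψ ⟨hP, hφ, hφi, g, hg, hgx⟩ ⟨hQ, hψ, hψi, k, hk, hkx⟩ h
    refine ⟨hP, fun x => hψ _, fun a b hab => hφi (congrArg Subtype.val (hψi hab)), k * g, N.mul_mem hk hg,
      fun x => ?_⟩
    refine (hkx ⟨φ x, h x⟩).trans ?_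
    rw [hgx]
    group
  inv_mem := by
    rintro P φ ⟨hP, hφ, hφi, g, hg, hgx⟩
    refine ⟨P.subtype.comp (MonoidHom.ofInjective hφi).symm.toMonoidHom,
      ⟨by rintro _ ⟨x, rfl⟩; exact hφ x, fun y => hP (Subtype.prop _), ?_, g⁻¹, N.inv_mem hg, fun y => ?_⟩,
      fun x => ?_⟩
    · exact P.subtype_injective.comp (MonoidHom.ofInjective hφi).symm.injective
    · obtain ⟨x, hx⟩ := y.2
      have e : (MonoidHom.ofInjective hφi).symm y = x := by
        rw [MulEquiv.symm_apply_eq]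
        exact Subtype.ext hx.symm
      show ι ⟨((MonoidHom.ofInjective hφi).symm y : P), _⟩ = _
      simp only [e, ← hx, hgx x]
      group
    · show (((MonoidHom.ofInjective hφi).symm ⟨φ x, _⟩ : P) : Ω) = x
      exact congrArg Subtype.val ((MonoidHom.ofInjective hφi).symm_apply_apply x)

variable [Finite G] {p : ℕ} [Fact p.Prime] {ι : S →* G}

theorem isNormalIn_subgroupSystem (hR : F.IsRealizedBy ι) (T : Sylow p G) (hT : (T : Subgroup G) = ι.range)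
    (N : Subgroup G) [N.Normal] : (subgroupSystem ι N).IsNormalIn F p := by
  haveI : Finite S := Finite.of_injective _ hR.1
  set Q := preimageAlong ι N with hQdef
  have hQS : Q ≤ S := preimageAlong_le N
  have hmem : ∀ x : Q, ι (Subgroup.inclusion hQS x) ∈ N := fun x => (mem_preimageAlong.1 x.2).2
  let ι' : Q →* N := (ι.comp (Subgroup.inclusion hQS)).codRestrict N hmem
  set T₁ := (T : Subgroup G) ⊓ N with hT₁
  have himg : ∀ y : G, y ∈ T₁ ↔ ∃ x : Q, ι (Subgroup.inclusion hQS x) = y := fun y => by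
    constructor
    · rintro ⟨h1, h2⟩
      rw [hT] at h1
      obtain ⟨s, rfl⟩ := h1
      exact ⟨⟨s, mem_preimageAlong.2 ⟨s.2, h2⟩⟩, rfl⟩
    · rintro ⟨x, rfl⟩
      exact ⟨hT ▸ ⟨_, rfl⟩, hmem x⟩
  -- conjugations normalizing `T ⊓ N` give automorphisms of the preimage
  have hautQ : ∀ a ∈ Subgroup.normalizer (T₁ : Set G), ∃ α ∈ F.autGroup Q,
      ∀ x : Q, ι (Subgroup.inclusion hQS (α x)) = a * ι (Subgroup.inclusion hQS x) * a⁻¹ := by
    intro a ha
    have hin : ∀ x : Q, a * ι (Subgroup.inclusion hQS x) * a⁻¹ ∈ T₁ := fun x =>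
      conj_mem_of_normalizer ha ((himg _).2 ⟨x, rfl⟩)
    obtain ⟨φ, hφ, hφι⟩ := exists_hom_of_conj hR hQS a fun x => hT ▸ (hin x).1
    have hr : φ.range ≤ Q := by
      rintro _ ⟨x, rfl⟩
      refine mem_preimageAlong.2 ⟨val_mem hφ x, ?_⟩
      rw [hφι]
      exact (hin x).2
    haveI := finite_of_le hQS
    have hr' : φ.range = Q := Subgroup.eq_of_le_of_card_ge hr
      (le_of_eq (Nat.card_congr (MonoidHom.ofInjective (F.injective_of_mem hφ)).toEquiv))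
    exact ⟨isoOfHom (F.injective_of_mem hφ) hr', mem_autGroup_of_eq hφ fun _ => rfl, fun x => hφι x _⟩
  refine ⟨⟨?_, isSaturated_of_realized hR T hT, ?_, ⟨hQS, ?_⟩, ?_, ?_⟩, ?_⟩
  · obtain ⟨P, hP⟩ := CfsgLib.PReduced.exists_sylow_inf T N
    refine isSaturated_of_realized (ι := ι') ⟨fun x y h => Subgroup.inclusion_injective hQS
      (hR.1 (congrArg Subtype.val h)), fun U hU φ hφ => ?_⟩ P ?_
    · constructor
      · rintro ⟨_, _, -, g, hg, h⟩
        exact ⟨⟨g, hg⟩, fun x => Subtype.ext (h x)⟩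
      · rintro ⟨g, h⟩
        refine ⟨hU, hφ, fun a b hab => ?_, g, g.2, fun x => congrArg Subtype.val (h x)⟩
        have h1 := h a
        have h2 : ι' ⟨φ b, hφ b⟩ = g * ι' ⟨b, hU b.2⟩ * g⁻¹ := h b
        simp only [hab] at h1
        rw [h2] at h1
        have h3 := hR.1 (congrArg Subtype.val (mul_left_cancel (mul_right_cancel h1)))
        exact Subtype.ext (congrArg Subtype.val h3.symm :)
    · rw [hP]
      ext y
      constructor
      · intro hy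
        obtain ⟨x, hx⟩ := (himg _).1 hy
        exact ⟨x, Subtype.ext hx⟩
      · rintro ⟨x, rfl⟩
        exact (himg _).2 ⟨x, rfl⟩
  · rintro P φ ⟨hP, hφ, -, g, -, h⟩
    exact hom_of_realized hR (hP.trans hQS) (fun x => hQS (hφ x)) g h
  · intro R hR' φ hφ x
    obtain ⟨g, hg⟩ := exists_of_hom hR hφ
    refine mem_preimageAlong.2 ⟨val_mem hφ x, ?_⟩
    rw [hg]
    exact Subgroup.Normal.conj_mem ‹N.Normal› _ (mem_preimageAlong.1 (hR' x.2)).2 g
  · rintro P hPQ φ ⟨_, hφQ, hφi, g, hgN, hg⟩ α hα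
    obtain ⟨a, ha⟩ := (mem_autGroup_realized hR hQS).1 hα
    set P' := (P.subgroupOf Q).map (Q.subtype.comp α.toMonoidHom)
    have hP'Q : P' ≤ Q := by rintro _ ⟨w, -, rfl⟩; exact (α w).2
    have hval : ∀ (x : P), a * g * a⁻¹ * ι (Subgroup.inclusion hQS (α ⟨x, hPQ x.2⟩)) * (a * g * a⁻¹)⁻¹ =
        ι (Subgroup.inclusion hQS (α ⟨φ x, hφQ x⟩)) := by
      intro x
      rw [ha, ha]
      show _ = a * ι ⟨φ x, _⟩ * a⁻¹
      rw [hg]
      show a * g * a⁻¹ * (a * ι ⟨x, _⟩ * a⁻¹) * (a * g * a⁻¹)⁻¹ = _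
      group
    have hrep : ∀ z : P', ∃ x : P, ((α ⟨x, hPQ x.2⟩ : Q) : Ω) = z := by
      rintro ⟨_, w, hw, rfl⟩
      exact ⟨⟨w, hw⟩, rfl⟩
    obtain ⟨χ, hχ, hχι⟩ := exists_hom_of_conj hR (hP'Q.trans hQS) (a * g * a⁻¹) fun z => by
      obtain ⟨x, hx⟩ := hrep z
      refine ⟨Subgroup.inclusion hQS (α ⟨φ x, hφQ x⟩), ?_⟩
      rw [← hval x]
      congr 3
      exact Subtype.ext hx
    have hout : ∀ z, χ z ∈ Q := fun z => mem_preimageAlong.2 ⟨val_mem hχ z, by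
      rw [hχι]
      exact Subgroup.Normal.conj_mem ‹N.Normal› _ (mem_preimageAlong.1 (hP'Q z.2)).2 _⟩
    refine ⟨χ, ⟨hP'Q, hout, F.injective_of_mem hχ, a * g * a⁻¹, Subgroup.Normal.conj_mem ‹N.Normal› g hgN a,
      fun z => hχι z _⟩, fun x hφx hαx => ?_⟩
    have h1 := (hχι ⟨_, hαx⟩ (val_mem hχ _)).trans (hval x)
    exact congrArg Subtype.val (hR.1 h1)
  · intro P hPQ φ hφ
    obtain ⟨g, hg⟩ := exists_of_hom hR hφ
    obtain ⟨T₀, hT₀⟩ := CfsgLib.PReduced.exists_sylow_inf T N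
    have hfr := Sylow.normalizer_sup_eq_top T₀
    rw [hT₀, Subgroup.map_subgroupOf_eq_of_le (inf_le_right : T₁ ≤ N)] at hfr
    obtain ⟨a, ha, y, hy, rfl⟩ := Subgroup.mem_sup_of_normal_right.1 (hfr ▸ Subgroup.mem_top g)
    obtain ⟨α, hα, hαι⟩ := hautQ a ha
    have hm : ∀ x : P, y * ι (Subgroup.inclusion hQS ⟨x, hPQ x.2⟩) * y⁻¹ ∈ T₁ := fun x => by
      have h1 : ι ⟨φ x, val_mem hφ x⟩ ∈ T₁ := ⟨hT ▸ ⟨_, rfl⟩, by
        rw [hg]
        exact Subgroup.Normal.conj_mem ‹N.Normal› _ (hmem ⟨x, hPQ x.2⟩) (a * y)⟩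
      have h2 := conj_mem_of_normalizer (inv_mem ha) h1
      rwa [hg, show a⁻¹ * (a * y * ι ⟨x, (hPQ.trans hQS) x.2⟩ * (a * y)⁻¹) * a⁻¹⁻¹ =
        y * ι ⟨x, (hPQ.trans hQS) x.2⟩ * y⁻¹ by group] at h2
    obtain ⟨φ₀, hφ₀, hφ₀ι⟩ := exists_hom_of_conj hR (hPQ.trans hQS) y fun x => hT ▸ (hm x).1
    have hout : ∀ x, φ₀ x ∈ Q := fun x => mem_preimageAlong.2 ⟨val_mem hφ₀ x, by rw [hφ₀ι]; exact (hm x).2⟩
    refine ⟨α, hα, φ₀, ⟨hPQ, hout, F.injective_of_mem hφ₀, y, hy, fun x => hφ₀ι x _⟩, fun x hx => ?_⟩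
    have h1 : ι ⟨φ x, val_mem hφ x⟩ = ι (Subgroup.inclusion hQS (α ⟨φ₀ x, hx⟩)) := by
      rw [hαι, hg]
      show _ = a * ι ⟨φ₀ x, _⟩ * a⁻¹
      rw [hφ₀ι]
      group
    exact congrArg Subtype.val (hR.1 h1)
  · intro α hα
    obtain ⟨_, _, -, g, hgN, hg⟩ := (mem_autGroup le_rfl).1 hα
    have hgn : g ∈ Subgroup.normalizer (T₁ : Set G) := by
      apply Subgroup.mem_normalizer_iff_map_conj_eq.2
      refine Subgroup.eq_of_le_of_card_ge ?_ (card_map_conj T₁ g).ge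
      rintro _ ⟨z, hz, rfl⟩
      obtain ⟨x, rfl⟩ := (himg z).1 hz
      exact (himg _).2 ⟨α x, hg x⟩
    obtain ⟨n, hnN, hnT, hnC⟩ := exists_extension_element T N hgN hgn
    set C := centralizerIn S Q
    set D := Q ⊔ C
    have hDS : D ≤ S := sup_le hQS inf_le_left
    have hnn : n ∈ Subgroup.normalizer (T₁ : Set G) := by
      apply Subgroup.mem_normalizer_iff_map_conj_eq.2
      refine Subgroup.eq_of_le_of_card_ge ?_ (card_map_conj T₁ n).ge
      rintro _ ⟨z, hz, rfl⟩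
      show n * z * n⁻¹ ∈ T₁
      rw [hnT z hz]
      exact conj_mem_of_normalizer hgn hz
    -- the image of `C_S(Q)` is the centralizer of `T ⊓ N` in `T`
    have hC : ∀ s : S, ι s ∈ centralizerIn (T : Subgroup G) T₁ ↔ (s : Ω) ∈ C := by
      intro s
      constructor
      · intro hs
        refine ⟨s.2, Subgroup.mem_centralizer_iff.2 fun x hx => ?_⟩
        have := Subgroup.mem_centralizer_iff.1 hs.2 _ ((himg _).2 ⟨⟨x, hx⟩, rfl⟩)
        rw [← map_mul, ← map_mul] at this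
        exact congrArg Subtype.val (hR.1 this)
      · intro hs
        refine ⟨hT ▸ ⟨_, rfl⟩, Subgroup.mem_centralizer_iff.2 fun z hz => ?_⟩
        obtain ⟨x, rfl⟩ := (himg z).1 hz
        rw [← map_mul, ← map_mul]
        exact congrArg ι (Subtype.ext (Subgroup.mem_centralizer_iff.1 hs.2 x x.2))
    -- conjugation by `n` keeps the image of `Q ⊔ C_S(Q)` inside that of `S`
    have hD : ∀ w : D, ∃ s : S, (s : Ω) ∈ D ∧ ι s = n * ι (Subgroup.inclusion hDS w) * n⁻¹ := by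
      rintro ⟨w, hw⟩
      let U : Subgroup Ω :=
        { carrier := {w | ∃ hw : w ∈ S, w ∈ D ∧ ∃ s : S, (s : Ω) ∈ D ∧ ι s = n * ι ⟨w, hw⟩ * n⁻¹}
          one_mem' := ⟨S.one_mem, D.one_mem, 1, D.one_mem, by
            rw [map_one, show (⟨1, S.one_mem⟩ : S) = 1 from rfl, map_one]; group⟩
          mul_mem' := by
            rintro u v ⟨hu, huD, s, hs, es⟩ ⟨hv, hvD, t, ht, et⟩
            refine ⟨S.mul_mem hu hv, D.mul_mem huD hvD, s * t, D.mul_mem hs ht, ?_⟩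
            rw [map_mul, es, et, show (⟨u * v, S.mul_mem hu hv⟩ : S) = ⟨u, hu⟩ * ⟨v, hv⟩ from rfl, map_mul]
            group
          inv_mem' := by
            rintro u ⟨hu, huD, s, hs, es⟩
            refine ⟨S.inv_mem hu, D.inv_mem huD, s⁻¹, D.inv_mem hs, ?_⟩
            rw [map_inv, es, show (⟨u⁻¹, S.inv_mem hu⟩ : S) = ⟨u, hu⟩⁻¹ from rfl, map_inv]
            group }
      have hU : D ≤ U := by
        refine sup_le (fun u hu => ?_) (fun u hu => ?_)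
        · obtain ⟨x, hx⟩ := (himg _).1 (conj_mem_of_normalizer hnn ((himg _).2 ⟨⟨u, hu⟩, rfl⟩))
          exact ⟨hQS hu, Subgroup.mem_sup_left hu, _, Subgroup.mem_sup_left x.2, hx⟩
        · have h1 := conj_mem_of_normalizer hnC ((hC ⟨u, hu.1⟩).2 hu)
          obtain ⟨s, hs⟩ : n * ι ⟨u, hu.1⟩ * n⁻¹ ∈ ι.range := hT ▸ h1.1
          exact ⟨hu.1, Subgroup.mem_sup_right hu, s, Subgroup.mem_sup_right ((hC s).1 (hs ▸ h1)), hs⟩
      obtain ⟨_, -, h⟩ := hU hw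
      exact h
    obtain ⟨φ, hφ, hφι⟩ := exists_hom_of_conj hR hDS n fun w => by
      obtain ⟨s, -, hs⟩ := hD w
      exact ⟨s, hs⟩
    have hφD : φ.range = D := by
      haveI := finite_of_le hDS
      refine Subgroup.eq_of_le_of_card_ge ?_
        (le_of_eq (Nat.card_congr (MonoidHom.ofInjective (F.injective_of_mem hφ)).toEquiv))
      rintro _ ⟨w, rfl⟩
      obtain ⟨s, hsD, hs⟩ := hD w
      rwa [show φ w = s from congrArg Subtype.val (hR.1 ((hφι w (val_mem hφ w)).trans hs.symm))]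
    refine ⟨isoOfHom (F.injective_of_mem hφ) hφD, mem_autGroup_of_eq hφ fun _ => rfl, fun x => ?_, fun c hc => ?_⟩
    · have h1 := (hφι (Subgroup.inclusion le_sup_left x) (val_mem hφ _)).trans
        ((hnT _ ((himg _).2 ⟨x, rfl⟩)).trans (hg x).symm)
      exact congrArg Subtype.val (hR.1 h1)
    · show (c : Ω)⁻¹ * φ c ∈ Q ⊓ Subgroup.centralizer (Q : Set Ω)
      have h1 := conj_mem_of_normalizer hnC ((hC ⟨c, hc.1⟩).2 hc)
      rw [← hφι c (val_mem hφ c)] at h1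
      have h2 : φ c ∈ C := (hC ⟨φ c, val_mem hφ c⟩).1 h1
      refine ⟨mem_preimageAlong.2 ⟨S.mul_mem (S.inv_mem hc.1) h2.1, ?_⟩,
        (C.mul_mem (C.inv_mem hc) h2).2⟩
      rw [show (⟨(c : Ω)⁻¹ * φ c, _⟩ : S) = ⟨c, hc.1⟩⁻¹ * ⟨φ c, h2.1⟩ from rfl, map_mul, map_inv, hφι,
        show (ι ⟨c, hc.1⟩)⁻¹ * (n * ι ⟨c, hc.1⟩ * n⁻¹) =
          (ι ⟨c, hc.1⟩)⁻¹ * n * ((ι ⟨c, hc.1⟩)⁻¹)⁻¹ * n⁻¹ by group]
      exact N.mul_mem (Subgroup.Normal.conj_mem ‹N.Normal› n hnN _) (N.inv_mem hnN)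

end CfsgLib.Fusion
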