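import Cfsg.Agent.Fusion.IndexPSystem
import Cfsg.Agent.Fusion.PrimeToPResidual
import Cfsg.Agent.S5124

/-!
Residual limits: uniqueness, and invariance under subsystems of `p`-power index.
-/

set_option autoImplicit false
set_option linter.style.haveILetI false

open Cfsg

namespace CfsgLib.Fusion

open Cfsg.FusionSystem

variable {Ω : Type*} [Group Ω] {S T : Subgroup Ω} {F : Cfsg.FusionSystem S} {E : Cfsg.FusionSystem T}
variable {p : ℕ} [Fact p.Prime]

omit [Fact p.Prime] in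
lemma hyperfocal_le_self (F : Cfsg.FusionSystem S) : F.hyperfocalSubgroup p ≤ S := by
  rw [FusionSystem.hyperfocalSubgroup, Subgroup.closure_le]
  rintro _ ⟨P, α, x, hP, -, rfl⟩
  exact S.mul_mem (S.inv_mem (hP x.2)) (hP (Subtype.prop _))

omit [Fact p.Prime] in
lemma sat_le_of_hom_eq {X : Subgroup Ω} {D : Cfsg.FusionSystem X} (h : ∀ P, D.Hom P = F.Hom P) : X = S := by
  refine le_antisymm ?_ ?_
  · exact le_of_hom (h X ▸ subtype_mem (F := D) le_rfl)
  · exact le_of_hom ((h S).symm ▸ subtype_mem (F := F) le_rfl)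

variable [Finite S]

/-- A saturated subsystem of `p`-power index has the same hyperfocal subgroup. -/
theorem hyperfocal_eq_of_pPowerIndex (hS : IsPGroup p S) (hF : F.IsSaturated p) (hTS : T ≤ S)
    (hE : E.IsSaturated p) (hEi : E.HasPPowerIndexIn F p) : E.hyperfocalSubgroup p = F.hyperfocalSubgroup p := by
  refine le_antisymm (hyperfocal_le_of_subsystem hEi.1 hTS) ?_
  haveI := finite_of_le hTS
  have hT := hS.to_le hTS
  have hH := Cfsg.Agent.S5124.result p hS F hF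
  have hH' := Cfsg.Agent.S5124.result p hT E hE
  have hn' : T ≤ Subgroup.normalizer (E.hyperfocalSubgroup p : Set Ω) :=
    le_normalizer_of_weaklyClosed_fusion (weaklyClosed_of_stronglyClosed hH')
  obtain ⟨H, hHdef⟩ : ∃ H, H = F.hyperfocalSubgroup p := ⟨_, rfl⟩
  obtain ⟨H', hH'def⟩ : ∃ H', H' = E.hyperfocalSubgroup p := ⟨_, rfl⟩
  rw [← hHdef] at hH ⊢
  rw [← hH'def] at hH' hn' ⊢
  have hHT : H ≤ T := hHdef ▸ hEi.2.1
  rw [hHdef, FusionSystem.hyperfocalSubgroup, Subgroup.closure_le]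
  rintro _ ⟨P, α, x, hP, hα, rfl⟩
  revert x
  unfold Cfsg.pResidual at hα
  induction hα using Subgroup.closure_induction with
  | one => intro x; simp
  | mul a b _ _ iha ihb =>
    intro x
    have h2 := H'.mul_mem (ihb x) (iha ((b : MulAut P) x))
    simpa [mul_assoc] using h2
  | inv a _ iha =>
    intro x
    have h2 := H'.inv_mem (iha ((a : MulAut P)⁻¹ x))
    simpa using h2
  | mem γ hγ =>
    intro x
    haveI := finite_of_le hP
    haveI := finite_mulAut hP
    have hγF := (mem_autGroup hP).1 γ.2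
    obtain ⟨c, hc⟩ : ∃ c, c = (x : Ω)⁻¹ * (((γ : MulAut P) x : P) : Ω) := ⟨_, rfl⟩
    show (x : Ω)⁻¹ * (((γ : MulAut P) x : P) : Ω) ∈ H'
    rw [← hc]
    have hcH : c ∈ H := by
      rw [hc, hHdef]
      exact Subgroup.subset_closure ⟨P, γ, x, hP, Subgroup.subset_closure hγ, rfl⟩
    have hcP : c ∈ P := hc ▸ P.mul_mem (P.inv_mem x.2) (Subtype.prop _)
    have hinv : ∀ y : ↥(P ⊓ H), (((γ : MulAut P) ⟨y, y.2.1⟩ : P) : Ω) ∈ P ⊓ H := fun y =>
      ⟨Subtype.prop _, hH.2 (P ⊓ H) inf_le_right _ (restrict hγF inf_le_left) y⟩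
    obtain ⟨a, haco, hax⟩ := exists_restrict_coprime (p := p) hP (inf_le_left : P ⊓ H ≤ P) γ.2
      (by rw [Subgroup.orderOf_coe]; exact hγ) hinv
    have hPT : P ⊓ H ≤ T := inf_le_right.trans hHT
    have haE : (a : MulAut ↥(P ⊓ H)) ∈ E.autGroup (P ⊓ H) :=
      hEi.2.2 _ hPT ⟨a, Subgroup.subset_closure haco, rfl⟩
    have hw : ∀ y : ↥(P ⊓ H), (y : Ω)⁻¹ * (((γ : MulAut P) ⟨y, y.2.1⟩ : P) : Ω) ∈ H' := fun y => by
      rw [← hax y, hH'def]
      refine Subgroup.subset_closure ⟨_, ⟨_, haE⟩, y, hPT, Subgroup.subset_closure ?_, rfl⟩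
      show Nat.Coprime (orderOf (⟨(a : MulAut ↥(P ⊓ H)), haE⟩ : E.autGroup (P ⊓ H))) p
      rw [← Subgroup.orderOf_coe]
      show Nat.Coprime (orderOf (a : MulAut ↥(P ⊓ H))) p
      rw [Subgroup.orderOf_coe]
      exact haco
    have hγH' : ∀ (y : Ω) (hy : y ∈ P ⊓ H), y ∈ H' → (((γ : MulAut P) ⟨y, hy.1⟩ : P) : Ω) ∈ H' := fun y hy hy' => by
      have h1 := H'.mul_mem hy' (hw ⟨y, hy⟩)
      simpa using h1
    obtain ⟨w, hwdef⟩ : ∃ w, w = c⁻¹ * (((γ : MulAut P) ⟨c, hcP⟩ : P) : Ω) := ⟨_, rfl⟩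
    have hwH' : w ∈ H' := hwdef ▸ hw ⟨c, hcP, hcH⟩
    have hwH : w ∈ H := by
      rw [hwdef]
      exact H.mul_mem (H.inv_mem hcH) (hinv ⟨c, hcP, hcH⟩).2
    have hit : ∀ i : ℕ, ∃ h : Ω, h ∈ P ⊓ H ∧ h ∈ H' ∧
        ((((γ : MulAut P) ^ i) x : P) : Ω) = (x : Ω) * c ^ i * h := by
      intro i
      induction i with
      | zero => exact ⟨1, one_mem _, one_mem _, by simp⟩
      | succ i ih =>
        obtain ⟨h, hh, hh', e⟩ := ih
        have hwP : w ∈ P := hwdef ▸ P.mul_mem (P.inv_mem hcP) (Subtype.prop _)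
        refine ⟨(c ^ i)⁻¹ * (c * w) ^ i * (((γ : MulAut P) ⟨h, hh.1⟩ : P) : Ω),
          ⟨P.mul_mem (P.mul_mem (P.inv_mem (P.pow_mem hcP i)) (P.pow_mem (P.mul_mem hcP hwP) i)) (Subtype.prop _),
            H.mul_mem (H.mul_mem (H.inv_mem (H.pow_mem hcH i)) (H.pow_mem (H.mul_mem hcH hwH) i))
              (hinv ⟨h, hh⟩).2⟩, H'.mul_mem ?_ (hγH' h hh hh'), ?_⟩
        · have hc' : c ∈ Subgroup.normalizer (H' : Set Ω) := hn' (hHT hcH)
          clear e
          induction i with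
          | zero => simp
          | succ i ih2 =>
            have h1 : c⁻¹ * ((c ^ i)⁻¹ * (c * w) ^ i) * c ∈ H' := conj_inv_mem_of_normalizer hc' ih2
            have h2 := H'.mul_mem h1 hwH'
            rw [pow_succ c, pow_succ (c * w), mul_inv_rev]
            simpa [mul_assoc] using h2
        · have e1 : ((γ : MulAut P) ^ i) x = x * (⟨c, hcP⟩ : P) ^ i * ⟨h, hh.1⟩ := Subtype.ext (by simp [e])
          rw [pow_succ', MulAut.mul_apply, e1, map_mul, map_mul, map_pow, Subgroup.coe_mul, Subgroup.coe_mul,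
            Subgroup.coe_pow, show (((γ : MulAut P) x : P) : Ω) = (x : Ω) * c by rw [hc, mul_inv_cancel_left],
            show (((γ : MulAut P) ⟨c, hcP⟩ : P) : Ω) = c * w by rw [hwdef, mul_inv_cancel_left], pow_succ' c]
          group
    obtain ⟨h, -, hh', e⟩ := hit (orderOf (γ : MulAut P))
    rw [pow_orderOf_eq_one, MulAut.one_apply, mul_assoc] at e
    have hcn : c ^ orderOf (γ : MulAut P) ∈ H' := by
      rw [eq_inv_of_mul_eq_one_left (a := c ^ orderOf (γ : MulAut P)) (b := h)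
        (mul_left_cancel (e.symm.trans (mul_one _).symm))]
      exact H'.inv_mem hh'
    obtain ⟨j, hj⟩ := (IsPGroup.iff_orderOf.1 hS) ⟨c, hP hcP⟩
    obtain ⟨m, hm⟩ := exists_pow_eq_self_of_coprime (x := (⟨c, hP hcP⟩ : S)) (n := orderOf (γ : MulAut P)) (by
      rw [hj, Subgroup.orderOf_coe]; exact (show Nat.Coprime (orderOf γ) p from hγ).pow_right j)
    rw [← show (c ^ orderOf (γ : MulAut P)) ^ m = c from congrArg Subtype.val hm]
    exact H'.pow_mem hcn m

omit [Fact p.Prime] [Finite S] in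
/-- `p`-power index composes. -/
theorem hasPPowerIndexIn_trans {R : Subgroup Ω} {D : Cfsg.FusionSystem R} (hRT : R ≤ T)
    (hEi : E.HasPPowerIndexIn F p) (hDi : D.HasPPowerIndexIn E p) (hR : F.hyperfocalSubgroup p ≤ R) :
    D.HasPPowerIndexIn F p := by
  refine ⟨fun P φ hφ => hEi.1 P (hDi.1 P hφ), hR, fun P hP => ?_⟩
  rw [Subgroup.map_le_iff_le_comap, Cfsg.pResidual, Subgroup.closure_le]
  intro γ hγ
  have hγE : (γ : MulAut P) ∈ E.autGroup P := hEi.2.2 P (hP.trans hRT) ⟨γ, Subgroup.subset_closure hγ, rfl⟩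
  refine hDi.2.2 P hP ⟨⟨γ, hγE⟩, Subgroup.subset_closure ?_, rfl⟩
  show Nat.Coprime (orderOf (⟨(γ : MulAut P), hγE⟩ : E.autGroup P)) p
  rw [← Subgroup.orderOf_coe]
  show Nat.Coprime (orderOf (γ : MulAut P)) p
  rw [Subgroup.orderOf_coe]
  exact hγ

/-- At a stable point the `p`-residual is the system. -/
lemma pResidual_eq_self (hS : IsPGroup p S) (hF : F.IsSaturated p) {X : Subgroup Ω} {D : Cfsg.FusionSystem X}
    (hX : X = S) (hh : F.hyperfocalSubgroup p = S) (hD : D.IsSaturated p) (hDi : D.HasPPowerIndexIn F p) :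
    ∀ P, D.Hom P = F.Hom P := by
  subst hX
  intro P
  rw [pPowerIndex_unique hS le_rfl hF ⟨fun _ => subset_rfl, hh.le, fun P _ => Subgroup.map_subtype_le _⟩ hD hDi]

omit [Finite S] [Fact p.Prime] in
/-- A limit of a system equal to a stable one has the same maps. -/
lemma limit_of_stable : ∀ {U X : Subgroup Ω} {L : Cfsg.FusionSystem U} {G : Cfsg.FusionSystem X} {p : ℕ}
    (_ : L.IsResidualLimitOf G p) [Fact p.Prime] {S : Subgroup Ω} [Finite S] {F : Cfsg.FusionSystem S},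
    IsPGroup p S → F.IsSaturated p → F.hyperfocalSubgroup p = S → F.IsPPrimeResidual p F →
    (∀ P, G.Hom P = F.Hom P) → ∀ P, L.Hom P = F.Hom P := by
  intro U X L G p hL
  induction hL with
  | stable G p _ _ => intro _ S _ F _ _ _ _ h P; exact h P
  | @step X L G p D D' hD hD' _ ih =>
    intro _ S _ F hS hF hh hres hGF
    obtain rfl : X = S := sat_le_of_hom_eq hGF
    obtain rfl : G = F := ext_hom hGF
    have h1 : ∀ P, D.Hom P = G.Hom P := pResidual_eq_self hS hF hh hh hD.1 hD.2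
    refine ih hS hF hh hres fun P => ?_
    have key : ∀ (X₁ : Subgroup Ω) (D₁ D₁' : Cfsg.FusionSystem X₁), X₁ = X → (∀ P, D₁.Hom P = G.Hom P) →
        D₁.IsPPrimeResidual p D₁' → ∀ P, D₁'.Hom P = G.Hom P := by
      intro X₁ D₁ D₁' e h1 h2 P
      subst e
      obtain rfl : D₁ = G := ext_hom h1
      rw [residual_hom_eq hS D₁ hF h2, residual_hom_eq hS D₁ hF hres]
    exact key _ D D' hh h1 hD' P

omit [Finite S] [Fact p.Prime] in
/-- Residual limits are unique. -/
theorem limit_unique : ∀ {U S : Subgroup Ω} {L : Cfsg.FusionSystem U} {F : Cfsg.FusionSystem S} {p : ℕ}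
    (_ : L.IsResidualLimitOf F p) [Fact p.Prime] [Finite S], IsPGroup p S → F.IsSaturated p →
    ∀ {U' : Subgroup Ω} (L' : Cfsg.FusionSystem U'), L'.IsResidualLimitOf F p → ∀ P, L.Hom P = L'.Hom P := by
  intro U S L F p hL
  induction hL with
  | stable F p h1 h2 =>
    intro _ _ hS hF U' L' hL' P
    exact (limit_of_stable hL' hS hF h1 h2 (fun _ => rfl) P).symm
  | @step S L F p D D' hD hD' hL ih =>
    intro _ _ hS hF U' L' hL' P
    cases hL' with
    | stable _ _ h1 h2 =>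
      exact limit_of_stable (IsResidualLimitOf.step F p D D' hD hD' hL) hS hF h1 h2 (fun _ => rfl) P
    | step _ _ D₂ D₂' hD₂ hD₂' hL' =>
      have hHS := hyperfocal_le_self (p := p) F
      haveI := finite_of_le hHS
      obtain rfl : D₂ = D := pPowerIndex_unique hS hHS hD.1 hD.2 hD₂.1 hD₂.2
      obtain rfl : D₂' = D' := ext_hom fun P => by
        rw [residual_hom_eq (hS.to_le hHS) D₂ hD.1 hD₂', residual_hom_eq (hS.to_le hHS) D₂ hD.1 hD']
      exact ih (hS.to_le hHS) hD'.1 L' hL' P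

/-- Subsystems of `p`-power index have the same residual limits. -/
theorem limit_eq_of_pPowerIndex (hS : IsPGroup p S) (hF : F.IsSaturated p) (hTS : T ≤ S) (hE : E.IsSaturated p)
    (hEi : E.HasPPowerIndexIn F p) {U V : Subgroup Ω} {Finf : Cfsg.FusionSystem U}
    (hFinf : Finf.IsResidualLimitOf F p) {Einf : Cfsg.FusionSystem V} (hEinf : Einf.IsResidualLimitOf E p) :
    ∀ P, Finf.Hom P = Einf.Hom P := by
  haveI := finite_of_le hTS
  have hh := hyperfocal_eq_of_pPowerIndex hS hF hTS hE hEi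
  cases hFinf with
  | stable _ _ h1 h2 =>
    obtain rfl : T = S := le_antisymm hTS (h1.ge.trans hEi.2.1)
    obtain rfl : E = F := ext_hom (pResidual_eq_self hS hF rfl h1 hE hEi)
    exact limit_unique (IsResidualLimitOf.stable E p h1 h2) hS hF Einf hEinf
  | step _ _ D D' hD hD' hL =>
    have key : ∀ (X : Subgroup Ω) (D D' : Cfsg.FusionSystem X), X = E.hyperfocalSubgroup p →
        D.IsSaturated p → D.HasPPowerIndexIn E p → D.IsPPrimeResidual p D' → Finf.IsResidualLimitOf D' p →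
        Finf.IsResidualLimitOf E p := by
      rintro X D D' rfl h1 h2 h3 h4
      exact IsResidualLimitOf.step E p D D' ⟨h1, h2⟩ h3 h4
    refine limit_unique (key _ D D' hh.symm hD.1 ?_ hD' hL) (hS.to_le hTS) hE Einf hEinf
    obtain ⟨G, hG, hGi⟩ := exists_pPowerIndex (p := p) (Nat.card T) (hS.to_le hTS) hE hEi.2.1 hh.le le_rfl
    rw [pPowerIndex_unique hS (hEi.2.1.trans hTS) hG (hasPPowerIndexIn_trans hEi.2.1 hEi hGi le_rfl) hD.1 hD.2]
    exact hGi

end CfsgLib.Fusion
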