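import Cfsg.Agent.Fusion.RadicalLift
import Cfsg.Agent.PReduced.StronglyEmbedded

/-!
The centralizer of the second centre of a group of maximal class, when the system moves the centre inside it.
-/

set_option autoImplicit false
set_option linter.style.haveILetI false

open Cfsg

namespace CfsgLib.Fusion

open Cfsg.FusionSystem
open scoped commutatorElement

section UpperSeries

variable {p : ℕ} [hp : Fact p.Prime] {G : Type*} [Group G] [Finite G]

/-- The orders of the first two terms of the upper central series of a group of maximal class. -/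
theorem card_ucs_of_maximalClass {n : ℕ} (hG : Nat.card G = p ^ n) (hn : 4 ≤ n)
    (hmax : (⊤ : Subgroup G).lowerCentralSeries (n - 2) ≠ ⊥) :
    Nat.card (Subgroup.upperCentralSeries G 1) = p ∧ Nat.card (Subgroup.upperCentralSeries G 2) = p ^ 2 := by
  have hpg : IsPGroup p G := IsPGroup.of_card hG
  haveI := hpg.isNilpotent
  set c := Group.nilpotencyClass G with hc
  set U := Subgroup.upperCentralSeries G with hU
  have hcn : n - 1 ≤ c := by
    by_contra h
    exact hmax (Subgroup.lowerCentralSeries_eq_bot_iff_nilpotencyClass_le.2 (by omega))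
  have htop : U c = ⊤ := Subgroup.upperCentralSeries_nilpotencyClass
  choose a ha using fun k => IsPGroup.iff_card.mp (hpg.to_subgroup (U k))
  have hinc : ∀ k < c, a k + 1 ≤ a (k + 1) := fun k hk => by
    have hlt : U k < U (k + 1) :=
      Subgroup.upperCentralSeries.StrictMonoOn G (Set.mem_Iic.2 hk.le) (Set.mem_Iic.2 hk) (Nat.lt_succ_self k)
    have hcard : Nat.card (U k) < Nat.card (U (k + 1)) := lt_of_le_of_ne (Subgroup.card_le_of_le hlt.le)
      fun e => hlt.ne (Subgroup.eq_of_le_of_card_ge hlt.le e.ge)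
    rw [ha, ha] at hcard
    exact (Nat.pow_lt_pow_iff_right hp.out.one_lt).1 hcard
  have h0 : a 0 = 0 := by
    have h := ha 0
    rw [hU, Subgroup.upperCentralSeries_zero, Subgroup.card_bot] at h
    exact (Nat.pow_eq_one.1 h.symm).resolve_left hp.out.ne_one
  -- the last step has index at least `p ^ 2`
  obtain ⟨d, hd⟩ : ∃ d, c = d + 2 := ⟨c - 2, by omega⟩
  have htop2 : a (d + 1) + 2 ≤ n := by
    by_contra hlt
    have hne : U (d + 1) ≠ ⊤ :=
      ne_of_lt (htop ▸ Subgroup.upperCentralSeries.StrictMonoOn G (Set.mem_Iic.2 (show d + 1 ≤ c by omega))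
        (Set.mem_Iic.2 le_rfl) (show d + 1 < c by omega))
    have hmul := (U (d + 1)).card_mul_index
    obtain ⟨i, hi⟩ := hpg.index (U (d + 1))
    rw [ha, hi, hG, ← pow_add] at hmul
    have hin : a (d + 1) + i = n := Nat.pow_right_injective hp.out.two_le hmul
    haveI : IsCyclic (G ⧸ U (d + 1)) := isCyclic_of_card_dvd_prime (p := p) (by
      rw [← Subgroup.index_eq_card, hi]
      calc p ^ i ∣ p ^ 1 := pow_dvd_pow p (by omega)
        _ = p := pow_one p)
    obtain ⟨x₀, hx⟩ := IsCyclic.exists_zpow_surjective (G := G ⧸ U (d + 1))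
    obtain ⟨x, rfl⟩ := QuotientGroup.mk'_surjective (U (d + 1)) x₀
    have hgen : ∀ g : G, ∃ i : ℤ, ∃ u ∈ U (d + 1), g = x ^ i * u := fun g => by
      obtain ⟨i, hi⟩ := hx (QuotientGroup.mk' (U (d + 1)) g)
      refine ⟨i, (x ^ i)⁻¹ * g, ?_, by group⟩
      have hi' : QuotientGroup.mk' (U (d + 1)) (x ^ i) = QuotientGroup.mk' (U (d + 1)) g :=
        (map_zpow _ x i).trans hi
      exact QuotientGroup.eq.1 hi'
    have hxU : x ∈ U (d + 1) := by
      refine Subgroup.mem_upperCentralSeries_succ_iff.2 fun g => ?_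
      obtain ⟨i, u, hu, rfl⟩ := hgen g
      have hq := Subgroup.mem_upperCentralSeries_succ_iff.1 hu x
      rw [← QuotientGroup.eq_one_iff (N := U d), ← QuotientGroup.mk'_apply, map_commutatorElement,
        commutatorElement_eq_one_iff_mul_comm] at hq ⊢
      rw [map_mul, map_zpow]
      exact ((Commute.refl _).zpow_right i).mul_right (Commute.symm hq)
    refine hne (eq_top_iff.2 fun g _ => ?_)
    obtain ⟨i, u, hu, rfl⟩ := hgen g
    exact mul_mem (zpow_mem hxU i) hu
  have hlow : ∀ k ≤ c, k ≤ a k := by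
    intro k
    induction k with
    | zero => intro _; exact Nat.zero_le _
    | succ k ih => intro hk; have := hinc k (by omega); have := ih (by omega); omega
  have hhigh : ∀ e ≤ d + 1, a (d + 1 - e) + e + 2 ≤ n := by
    intro e
    induction e with
    | zero => intro _; simpa using htop2
    | succ e ih =>
      intro he
      have := hinc (d + 1 - (e + 1)) (by omega)
      rw [show d + 1 - (e + 1) + 1 = d + 1 - e by omega] at this
      have := ih (by omega)
      omega
  have hak : ∀ k ≤ d + 1, a k = k := by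
    intro k hk
    have := hhigh (d + 1 - k) (by omega)
    rw [show d + 1 - (d + 1 - k) = k by omega] at this
    have := hlow k (by omega)
    omega
  exact ⟨(ha 1).trans (by rw [hak 1 (by omega), pow_one]), (ha 2).trans (by rw [hak 2 (by omega)])⟩

end UpperSeries

universe u

variable {Ω : Type u} [Group Ω] {S : Subgroup Ω} [Finite S] {F : Cfsg.FusionSystem S} {p : ℕ} [Fact p.Prime]

/-- A subgroup normalized by all of `S` is fully normalized. -/
private lemma fullyNormalized_of_normal {Q : Subgroup Ω} (hQ : Q ≤ S)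
    (hn : S ≤ Subgroup.normalizer (Q : Set Ω)) : F.IsFullyNormalized Q := by
  refine ⟨hQ, fun R _ => ?_⟩
  have e : normalizerIn S Q = S := le_antisymm inf_le_left (le_inf le_rfl hn)
  rw [e]
  exact Subgroup.card_le_of_le inf_le_left

/-- If an `S`-normal subgroup of order `p ^ 2` has a centre-moving automorphism in the system, its centralizer is
essential. -/
theorem isEssential_centralizerIn_of_moves (hS : IsPGroup p S) (hF : F.IsSaturated p) {Z C : Subgroup Ω}
    (hZS : Z ≤ S) (hCZ : C ≤ Z) (hcC : Nat.card C = p) (hcZ : Nat.card Z = p ^ 2)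
    (hCc : ∀ s ∈ S, ∀ x ∈ C, s * x = x * s) (hCmax : ∀ x ∈ S, (∀ s ∈ S, s * x = x * s) → x ∈ C)
    (hcomm : ∀ s ∈ S, ∀ x ∈ Z, s * x * s⁻¹ * x⁻¹ ∈ C) {α : MulAut Z} (hα : α ∈ F.autGroup Z)
    (hmove : ∃ x : Z, (x : Ω) ∈ C ∧ (α x : Ω) ∉ C) : F.IsEssential p (centralizerIn S Z) := by
  have hp := (Fact.out : p.Prime)
  haveI := finite_of_le hZS
  have hZn : S ≤ Subgroup.normalizer (Z : Set Ω) := by
    intro s hs
    have key : ∀ t ∈ S, ∀ x ∈ Z, t * x * t⁻¹ ∈ Z := fun t ht x hx => by
      have := Z.mul_mem (hCZ (hcomm t ht x hx)) hx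
      rwa [inv_mul_cancel_right] at this
    refine Subgroup.mem_normalizer_iff.2 fun x => ⟨key s hs x, fun hx => ?_⟩
    have := key _ (S.inv_mem hs) _ hx
    simpa [mul_assoc] using this
  have hZab : ∀ x y : Z, x * y = y * x :=
    (IsPGroup.isMulCommutative_of_card_eq_prime_sq hcZ).is_comm.comm
  set E := centralizerIn S Z with hEdef
  have hES : E ≤ S := inf_le_left
  have hZE : Z ≤ E := fun x hx => ⟨hZS hx, Subgroup.mem_centralizer_iff.2 fun y hy =>
    congrArg Subtype.val (hZab ⟨y, hy⟩ ⟨x, hx⟩)⟩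
  -- index of `E`
  have hNZ : normalizerIn S Z = S := le_antisymm inf_le_left (le_inf le_rfl hZn)
  have hlt : C < Z := lt_of_le_of_ne hCZ fun e => by
    have := hcC.symm.trans (by rw [e, hcZ])
    nlinarith [hp.two_le]
  obtain ⟨z₀, hz₀, hz₀C⟩ := SetLike.exists_of_lt hlt
  have hgen : ∀ M : Subgroup Ω, C ≤ M → z₀ ∈ M → Z ≤ M := by
    intro M hCM hzM
    have h2 : C < M ⊓ Z := lt_of_le_of_ne (le_inf hCM hCZ) fun e => hz₀C (e.symm ▸ ⟨hzM, hz₀⟩)
    haveI : Finite (M ⊓ Z : Subgroup Ω) := finite_of_le (inf_le_right.trans hZS)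
    have h3 : Nat.card C < Nat.card (M ⊓ Z : Subgroup Ω) := by
      refine lt_of_le_of_ne (Subgroup.card_le_of_le h2.le) fun e => h2.ne ?_
      exact Subgroup.eq_of_le_of_card_ge h2.le e.ge
    have h4 : Nat.card (M ⊓ Z : Subgroup Ω) ∣ p ^ 2 := hcZ ▸ Subgroup.card_dvd_of_le inf_le_right
    obtain ⟨i, hi, hi'⟩ := (Nat.dvd_prime_pow hp).1 h4
    rw [hcC, hi', ← pow_one p, ← pow_mul, one_mul] at h3
    have h1 := (Nat.pow_lt_pow_iff_right hp.one_lt).1 h3
    have hi2 : i = 2 := by omega
    exact (Subgroup.eq_of_le_of_card_ge inf_le_right (by rw [hi', hcZ, hi2])).ge.trans inf_le_left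
  have hAle : Nat.card (autInducedBy S Z) ≤ p := by
    rw [← hcC]
    haveI := finite_of_le (hCZ.trans hZS)
    refine Nat.card_le_card_of_injective (fun γ : autInducedBy S Z =>
      (⟨((γ : MulAut Z) ⟨z₀, hz₀⟩ : Ω) * z₀⁻¹, ?_⟩ : C)) ?_
    · obtain ⟨g, hg, hgγ⟩ := mem_autInducedBy.1 γ.2
      rw [hgγ]
      exact hcomm g hg z₀ hz₀
    · intro γ δ h
      obtain ⟨g, hg, hgγ⟩ := mem_autInducedBy.1 γ.2
      obtain ⟨g', hg', hgδ⟩ := mem_autInducedBy.1 δ.2
      have h' := congrArg Subtype.val h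
      simp only [mul_left_inj] at h'
      let M : Subgroup Ω := ((γ : MulAut Z).toMonoidHom.eqLocus (δ : MulAut Z).toMonoidHom).map Z.subtype
      have hM : ∀ (x : Ω) (hx : x ∈ Z), (γ : MulAut Z) ⟨x, hx⟩ = (δ : MulAut Z) ⟨x, hx⟩ → x ∈ M :=
        fun x hx e => ⟨⟨x, hx⟩, e, rfl⟩
      have hZM : Z ≤ M := hgen M (fun x hx => hM x (hCZ hx) (Subtype.ext (by
        rw [hgγ, hgδ]
        show g * x * g⁻¹ = g' * x * g'⁻¹
        rw [hCc g hg x hx, hCc g' hg' x hx, mul_inv_cancel_right, mul_inv_cancel_right])))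
        (hM z₀ hz₀ (Subtype.ext h'))
      refine Subtype.ext (MulEquiv.ext fun x => ?_)
      obtain ⟨y, hy, hyx⟩ := hZM x.2
      rw [show x = y from Subtype.ext hyx.symm]
      exact hy
  have hne : autInducedBy S Z ≠ ⊥ := fun e => by
    refine hz₀C (hCmax z₀ (hZS hz₀) fun s hs => ?_)
    have h1 : conjAut Z S ⟨s, hs, hZn hs⟩ = 1 := by
      rw [← Subgroup.mem_bot, ← e, ← range_conjAut]; exact ⟨_, rfl⟩
    have h2 := congrArg (fun γ : MulAut Z => ((γ ⟨z₀, hz₀⟩ : Z) : Ω)) h1
    simp only [conjAut_apply, MulAut.one_apply] at h2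
    exact mul_inv_eq_iff_eq_mul.1 h2
  have hAeq : Nat.card (autInducedBy S Z) = p := by
    obtain ⟨k, hk⟩ := IsPGroup.iff_card.1 (isPGroup_autInducedBy p hS Z)
    haveI := finite_mulAut hZS
    have h1 := (Subgroup.one_lt_card_iff_ne_bot _).2 hne
    rw [hk] at h1 hAle ⊢
    have h2 : k ≤ 1 := (Nat.pow_le_pow_iff_right hp.one_lt).1 (by rwa [pow_one])
    have h3 : k ≠ 0 := by rintro rfl; simp at h1
    rw [show k = 1 by omega, pow_one]
  have hScard : Nat.card S = p * Nat.card E := by
    have := card_normalizerIn S Z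
    rwa [hNZ, hAeq] at this
  -- `E` is normal, fully normalized and centric
  have hEn : S ≤ Subgroup.normalizer (E : Set Ω) := by
    have key : ∀ t ∈ S, ∀ x ∈ E, t * x * t⁻¹ ∈ E := fun t ht x hx => by
      refine ⟨S.mul_mem (S.mul_mem ht hx.1) (S.inv_mem ht), Subgroup.mem_centralizer_iff.2 fun y hy => ?_⟩
      have h1 := Subgroup.mem_centralizer_iff.1 hx.2 _ (conj_inv_mem_of_normalizer (hZn ht) hy)
      calc y * (t * x * t⁻¹) = t * (t⁻¹ * y * t * x) * t⁻¹ := by group
        _ = t * (x * (t⁻¹ * y * t)) * t⁻¹ := by rw [h1]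
        _ = t * x * t⁻¹ * y := by group
    intro s hs
    refine Subgroup.mem_normalizer_iff.2 fun x => ⟨key s hs x, fun hx => ?_⟩
    have := key _ (S.inv_mem hs) _ hx
    simpa [mul_assoc] using this
  have hEfn : F.IsFullyNormalized E := fullyNormalized_of_normal hES hEn
  have hCE : centralizerIn S E ≤ E := fun x hx => ⟨hx.1, Subgroup.centralizer_le hZE hx.2⟩
  have hcen : F.IsCentric E := by
    have := centric_sup_centralizerIn (fullyCentralized_of_fullyNormalized hS hF hEfn)
    rwa [sup_eq_left.2 hCE] at this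
  -- extend `α`
  haveI := finite_of_le hES
  haveI := finite_mulAut hES
  obtain ⟨ψ, hψ, hψα⟩ := (receptive_of_fullyNormalized hS hF (fullyNormalized_of_normal hZS hZn)).2 Z
    (Z.subtype.comp α.toMonoidHom) ((mem_autGroup hZS).1 hα) (range_aut α)
  have hEx : E ≤ extender S Z (Z.subtype.comp α.toMonoidHom) := centralizerIn_le_extender
  have hEmap : ∀ x : E, ψ ⟨x, hEx x.2⟩ ∈ E := fun x => by
    have := map_mem_centralizerIn (φ := Z.subtype.comp α.toMonoidHom) hψ (hZE.trans hEx)
      (fun y => hψα y y.2 _) (hEx x.2) x.2.2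
    rwa [range_aut α] at this
  let f : E →* E := (ψ.comp (Subgroup.inclusion hEx)).codRestrict E hEmap
  have hf : Function.Injective f := fun x y h =>
    Subtype.ext (congrArg Subtype.val (F.injective_of_mem hψ (congrArg Subtype.val h)) :)
  let β : MulAut E := MulEquiv.ofBijective f (Finite.injective_iff_bijective.1 hf)
  have hβ : β ∈ F.autGroup E := mem_autGroup_of_eq (restrict hψ hEx) fun x => rfl
  have hβα : ∀ x : Z, ((β ⟨x, hZE x.2⟩ : E) : Ω) = α x := fun x => hψα x x.2 _
  -- the outer automizer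
  set B := F.autGroup E with hB
  have hInn : ((Inn E).subgroupOf B).Normal := by
    constructor
    rintro ⟨a, _⟩ ha ⟨b, _⟩
    obtain ⟨q, hq⟩ := ha
    refine ⟨b q, MulEquiv.ext fun x => ?_⟩
    show b q * x * (b q)⁻¹ = b (a (b⁻¹ x))
    rw [show a = MulAut.conj q from hq.symm]
    simp
  refine ⟨hcen, hEfn, hInn, ?_⟩
  set π := QuotientGroup.mk' ((Inn E).subgroupOf B)
  have hπ : Function.Surjective π := QuotientGroup.mk'_surjective _
  set P0 := (autInducedBy S E).subgroupOf B with hP0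
  set P := P0.map π with hP
  have hcomap : P.comap π = P0 := by
    rw [hP, Subgroup.comap_map_eq, QuotientGroup.ker_mk', sup_eq_left]
    exact Subgroup.comap_mono (inn_le_autInducedBy hES)
  obtain ⟨-, T, hT⟩ := fullyAutomized_of_fullyNormalized hS hF hEfn
  set T' := Sylow.mapSurjective hπ T
  have hT' : (T' : Subgroup _) = P := by rw [Sylow.coe_mapSurjective, hT]
  -- `P` has order `p`
  have hPcard : Nat.card P = p := by
    set g : normalizerIn S E →* B ⧸ (Inn E).subgroupOf B :=
      π.comp ((conjAut E S).codRestrict B fun x => autInducedBy_le_autGroup hES (range_conjAut (P := E) S ▸ ⟨x, rfl⟩))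
    have hgr : g.range = P := by
      ext y
      constructor
      · rintro ⟨x, rfl⟩
        exact ⟨⟨conjAut E S x, autInducedBy_le_autGroup hES ((range_conjAut (P := E) S).le ⟨x, rfl⟩)⟩,
          Subgroup.mem_subgroupOf.2 ((range_conjAut (P := E) S).le ⟨x, rfl⟩), rfl⟩
      · rintro ⟨b, hb, rfl⟩
        have hb' : (b : MulAut E) ∈ (conjAut E S).range := by rw [range_conjAut]; exact hb
        obtain ⟨x, hx⟩ := hb'
        exact ⟨x, congrArg π (Subtype.ext hx)⟩
    have hker : E.subgroupOf (normalizerIn S E) ≤ g.ker := by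
      intro x hx
      refine (QuotientGroup.eq_one_iff _).2 (Subgroup.mem_subgroupOf.2 ⟨⟨x, hx⟩, MulEquiv.ext fun y => ?_⟩)
      exact Subtype.ext rfl
    have hdvd : Nat.card P ∣ p := by
      rw [← hgr, ← Subgroup.index_ker]
      refine (Subgroup.index_dvd_of_le hker).trans (dvd_of_eq ?_)
      have h1 := (E.subgroupOf (normalizerIn S E)).card_mul_index
      rw [Nat.card_congr (Subgroup.subgroupOfEquivOfLe (show E ≤ normalizerIn S E from
        le_inf hES Subgroup.le_normalizer)).toEquiv,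
        show Nat.card (normalizerIn S E) = Nat.card S by rw [show normalizerIn S E = S from
          le_antisymm inf_le_left (le_inf le_rfl hEn)], hScard, mul_comm p] at h1
      exact Nat.eq_of_mul_eq_mul_left Nat.card_pos h1
    refine (hp.eq_one_or_self_of_dvd _ hdvd).resolve_left fun h1 => ?_
    have hbot : P = ⊥ := Subgroup.eq_bot_of_card_eq _ h1
    have hSE : S ≤ E := fun s hs => by
      set b : B := ⟨conjAut E S ⟨s, hs, hEn hs⟩,
        autInducedBy_le_autGroup hES (range_conjAut (P := E) S ▸ ⟨_, rfl⟩)⟩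
      have hb : π b ∈ P := ⟨b, Subgroup.mem_subgroupOf.2 (range_conjAut (P := E) S ▸ ⟨_, rfl⟩), rfl⟩
      rw [hbot, Subgroup.mem_bot] at hb
      obtain ⟨e, he⟩ := Subgroup.mem_subgroupOf.1 ((QuotientGroup.eq_one_iff b).1 hb)
      have hc : (e : Ω)⁻¹ * s ∈ centralizerIn S E := by
        refine ⟨S.mul_mem (S.inv_mem (hES e.2)) hs, Subgroup.mem_centralizer_iff.2 fun x hx => ?_⟩
        have h2 := congrArg (fun γ : MulAut E => ((γ ⟨x, hx⟩ : E) : Ω)) he
        have h3 : (e : Ω) * x * (e : Ω)⁻¹ = s * x * s⁻¹ := h2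
        calc x * ((e : Ω)⁻¹ * s) = (e : Ω)⁻¹ * ((e : Ω) * x * (e : Ω)⁻¹) * s := by group
          _ = (e : Ω)⁻¹ * (s * x * s⁻¹) * s := by rw [h3]
          _ = (e : Ω)⁻¹ * s * x := by group
      simpa using E.mul_mem e.2 (hCE hc)
    haveI := finite_of_le hES
    have := Subgroup.card_le_of_le hSE
    rw [hScard] at this
    nlinarith [hp.two_le, (Nat.card_pos : 0 < Nat.card E)]
  refine ⟨Subgroup.normalizer (P : Set _), CfsgLib.PReduced.isStronglyPEmbedded_of_normalizer ?_ ?_ ?_⟩
  · intro htop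
    have hmem : (⟨β, hβ⟩ : B) ∈ (Subgroup.normalizer (P : Set _)).comap π := by rw [htop]; trivial
    rw [Subgroup.comap_normalizer_eq_of_surjective _ hπ, hcomap] at hmem
    obtain ⟨x, hxC, hxα⟩ := hmove
    refine hxα (hCmax _ (hZS (α x).2) fun t ht => ?_)
    have ht' : conjAut E S ⟨t, ht, hEn ht⟩ ∈ autInducedBy S E := range_conjAut (P := E) S ▸ ⟨_, rfl⟩
    have h1 := (Subgroup.mem_normalizer_iff''.1 hmem
      ⟨_, autInducedBy_le_autGroup hES ht'⟩).1 (Subgroup.mem_subgroupOf.2 ht')
    obtain ⟨s, hs, hsx⟩ := mem_autInducedBy.1 (Subgroup.mem_subgroupOf.1 h1)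
    have h2 : ((β⁻¹ * conjAut E S ⟨t, ht, hEn ht⟩ * β) ⟨x, hZE x.2⟩ : E) = ⟨x, hZE x.2⟩ := by
      refine Subtype.ext ((hsx ⟨x, hZE x.2⟩).trans ?_)
      show s * (x : Ω) * s⁻¹ = x
      rw [hCc s hs x hxC, mul_inv_cancel_right]
    simp only [MulAut.mul_apply] at h2
    have h3 := congrArg (fun e : E => ((β e : E) : Ω)) h2
    simp only [MulAut.apply_inv_self, conjAut_apply, hβα] at h3
    exact mul_inv_eq_iff_eq_mul.1 h3
  · exact hPcard ▸ Subgroup.card_dvd_of_le Subgroup.le_normalizer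
  · intro R hR hRp hRne
    have hsup : IsPGroup p (R ⊔ P : Subgroup _) := hRp.to_sup_of_normal_right' (show IsPGroup p P by rw [← hT']; exact T'.isPGroup') hR
    have hRP : R ≤ P := by
      have := T'.is_maximal' hsup (by rw [hT']; exact le_sup_right)
      rw [hT'] at this
      exact this ▸ le_sup_left
    have : R = P := Subgroup.eq_of_le_of_card_ge hRP (by
      rw [hPcard]
      obtain ⟨k, hk⟩ := IsPGroup.iff_card.1 hRp
      rcases k with _ | k
      · exact absurd (Subgroup.eq_bot_of_card_eq _ (by rwa [pow_zero] at hk)) hRne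
      · rw [hk]; exact Nat.le_self_pow (Nat.succ_ne_zero k) p)
    rw [this]

end CfsgLib.Fusion
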