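import Cfsg.Agent.S5195
import Cfsg.Agent.S5098
import Cfsg.Agent.Fusion.AxiomaticThompson
import Cfsg.Agent.Fusion.ConstrainedSub
import Cfsg.Agent.Fusion.KNormalizer

/-!
Sparse fusion systems are constrained.
-/

set_option autoImplicit false
set_option linter.style.haveILetI false

open Cfsg

namespace CfsgLib.Sparse

open CfsgLib.Fusion Cfsg.FusionSystem
open scoped Pointwise

universe u

variable {Ω : Type u} [Group Ω] {S : Subgroup Ω} {p : ℕ} [Fact p.Prime]

/-- The maps extending to a normal subgroup `R` by an element of `K`. -/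
def kSystem [Finite S] (F : Cfsg.FusionSystem S) {R : Subgroup Ω} (hR : R ≤ S) (K : Subgroup (MulAut R))
    (hK : autInducedBy S R ≤ K) (hn : S ≤ Subgroup.normalizer (R : Set Ω)) : Cfsg.FusionSystem S where
  Hom P := {φ | φ ∈ F.Hom P ∧ ∃ ψ ∈ F.Hom (P ⊔ R), (∀ x : P, ψ (Subgroup.inclusion le_sup_left x) = φ x) ∧
    ∃ κ ∈ K, ∀ q : R, ψ (Subgroup.inclusion le_sup_right q) = ((κ q : R) : Ω)}
  le_of_mem h := F.le_of_mem h.1
  injective_of_mem h := F.injective_of_mem h.1
  conj_mem := by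
    intro P g hP hg
    refine ⟨F.conj_mem hP hg, conjHom (P ⊔ R) g, F.conj_mem (sup_le hP hR) hg, fun x => rfl,
      conjAut R S ⟨g, hg, hn hg⟩, hK (range_conjAut (P := R) S ▸ ⟨_, rfl⟩), fun q => rfl⟩
  comp_mem := by
    rintro P T φ ψ ⟨hφ, α, hα, hαφ, κ, hκ, hακ⟩ ⟨hψ, β, hβ, hβψ, μ, hμ, hβμ⟩ h
    have hαT : ∀ x : ↥(P ⊔ R), α x ∈ T ⊔ R := by
      intro x
      have hle : P ⊔ R ≤ ((T ⊔ R).comap α).map (P ⊔ R).subtype := by
        refine sup_le (fun y hy => ⟨Subgroup.inclusion le_sup_left (⟨y, hy⟩ : P), ?_, rfl⟩)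
          (fun y hy => ⟨Subgroup.inclusion le_sup_right (⟨y, hy⟩ : R), ?_, rfl⟩)
        · show α _ ∈ T ⊔ R
          rw [hαφ]; exact Subgroup.mem_sup_left (h _)
        · show α _ ∈ T ⊔ R
          rw [hακ]; exact Subgroup.mem_sup_right (κ _).2
      obtain ⟨z, hz, hzx⟩ := hle x.2
      rwa [← (Subtype.ext hzx : z = x)]
    refine ⟨F.comp_mem hφ hψ h, β.comp (α.codRestrict _ hαT), F.comp_mem hα hβ hαT, fun x => ?_,
      μ * κ, K.mul_mem hμ hκ, fun q => ?_⟩
    · show β ⟨α _, _⟩ = ψ ⟨φ x, h x⟩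
      rw [← hβψ ⟨φ x, h x⟩]
      exact congrArg β (Subtype.ext (hαφ x))
    · show β ⟨α _, _⟩ = _
      rw [MulAut.mul_apply, ← hβμ (κ q)]
      exact congrArg β (Subtype.ext (hακ q))
  inv_mem := by
    rintro P φ ⟨hφ, α, hα, hαφ, κ, hκ, hακ⟩
    obtain ⟨γ, hγ, -, hγ1, -⟩ := exists_inv hα (rfl : α.range = α.range)
    have hle : φ.range ≤ α.range := by
      rintro _ ⟨x, rfl⟩; exact ⟨_, hαφ x⟩
    have hRle : R ≤ α.range := fun y hy =>
      ⟨Subgroup.inclusion le_sup_right (κ⁻¹ ⟨y, hy⟩), by rw [hακ, MulAut.apply_inv_self]⟩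
    have hback : ∀ x : P, γ ⟨φ x, hle ⟨x, rfl⟩⟩ = x := by
      intro x
      rw [← show γ ⟨α (Subgroup.inclusion le_sup_left x), ⟨_, rfl⟩⟩ = x from hγ1 _ _]
      congr 1
      exact Subtype.ext (hαφ x).symm
    refine ⟨γ.comp (Subgroup.inclusion hle), ⟨restrict hγ hle,
      γ.comp (Subgroup.inclusion (sup_le hle hRle)), restrict hγ _, fun x => rfl, κ⁻¹, K.inv_mem hκ, fun q => ?_⟩,
      hback⟩
    show γ _ = _
    rw [← show γ ⟨α (Subgroup.inclusion le_sup_right (κ⁻¹ q)), ⟨_, rfl⟩⟩ = ((κ⁻¹ q : R) : Ω) from hγ1 _ _]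
    congr 1
    refine Subtype.ext ?_
    show (q : Ω) = α _
    rw [hακ, MulAut.apply_inv_self]

theorem kSystem_saturated [Finite S] (hS : IsPGroup p S) {F : Cfsg.FusionSystem S} (hF : F.IsSaturated p)
    {R : Subgroup Ω} (hR : R ≤ S) (hn : S ≤ Subgroup.normalizer (R : Set Ω)) :
    (kSystem F hR (autInducedBy S R) le_rfl hn).IsSaturated p := by
  haveI := finite_mulAut hR
  have hfn := isFullyNormalized_of_le_normalizer (M := F) hR hn
  have hNK : S = NK S (autInducedBy S R) := by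
    refine le_antisymm (fun g hg => mem_NK.2 ⟨hg, conjAut R S ⟨g, hg, hn hg⟩, conjAut_mem _, fun x => rfl⟩) ?_
    exact (NK_le_normalizerIn _).trans inf_le_left
  have hfull : FullK p F (autInducedBy S R) := by
    refine ⟨receptive_of_fullyNormalized hS hF hfn, ?_⟩
    have hle : autInducedBy S R ≤ F.autGroup R := autInducedBy_le_autGroup hR
    rw [inf_idem, inf_eq_right.2 hle]
    obtain ⟨k, hk⟩ := (isPGroup_autInducedBy p hS R).exists_card_eq
    rw [hk, (Fact.out : p.Prime).factorization_pow, Finsupp.single_eq_same]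
  refine isSaturated_of_isKSystem p hS hF hfull hNK _ fun P φ => ?_
  constructor
  · rintro ⟨hφ, h⟩
    exact ⟨le_of_hom hφ, val_mem hφ, h⟩
  · rintro ⟨-, -, ψ, hψ, hext, h⟩
    exact ⟨restrict_of_eq hψ le_sup_left fun x => (hext x).symm, ψ, hψ, hext, h⟩

/-- A system whose only saturated subsystems over `S` are itself and the inner one. -/
theorem isConstrained [Finite S] (hS : IsPGroup p S) {F : Cfsg.FusionSystem S} (hF : F.IsSaturated p)
    (hne : ¬ ∀ P : Subgroup Ω, F.Hom P = (Cfsg.innerFusionSystem S).Hom P)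
    (hsp : ∀ E : Cfsg.FusionSystem S, E.IsSaturated p → E.IsSubsystemOf F →
      (∀ P : Subgroup Ω, E.Hom P = F.Hom P) ∨ ∀ P : Subgroup Ω, E.Hom P = (Cfsg.innerFusionSystem S).Hom P)
    (hp : p ≠ 2 ∨ F.IsSectionFree p (Equiv.Perm (Fin 4))) : F.IsConstrained p := by
  -- a characteristic subgroup with an automizer which is not a `p`-group
  obtain ⟨Q, hQS, -, hQch, hQaut⟩ : ∃ Q : Subgroup Ω, Q ≤ S ∧ Q ≠ ⊥ ∧ (Q.subgroupOf S).Characteristic ∧
      ¬ IsPGroup p (F.autGroup Q) := by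
    by_contra hcon
    push Not at hcon
    exact hne (Cfsg.Agent.S5195.result p hS F hF hp hcon)
  have hQn : S ≤ Subgroup.normalizer (Q : Set Ω) :=
    (Subgroup.normal_subgroupOf_iff_le_normalizer hQS).1 inferInstance
  haveI := finite_mulAut hQS
  have hinner : ∀ {A : Subgroup Ω}, A ≤ S → F.autGroup A ≤ autInducedBy S A → IsPGroup p (F.autGroup A) :=
    fun _ h => (isPGroup_autInducedBy p hS _).to_le h
  -- it is normal
  have hQnorm : F.IsNormal Q := by
    have hSe : normalizerIn S Q = S := inf_eq_left.2 hQn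
    haveI := finite_normalizerIn (S := S) Q
    set N := retarget (normalizerSystem F hQS) hSe
    have hNsat : N.IsSaturated p := isSaturated_retarget _ hSe (Cfsg.Agent.S5098.result p hS F hF Q
      (isFullyNormalized_of_le_normalizer hQS hQn) _ (isNormalizerSystem_normalizerSystem F hQS))
    rcases hsp N hNsat (fun P φ hφ => hφ.1) with h | h
    · refine isNormal_of_extends hQS fun P φ hφ => ?_
      obtain ⟨-, -, -, ψ, hψ, hext, hmap⟩ := (h P).ge hφ
      exact ⟨ψ, hψ, hext, fun q hq => hmap.le ⟨⟨q, Subgroup.mem_sup_right hq⟩, hq, rfl⟩⟩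
    · refine absurd (hinner hQS fun α hα => ?_) hQaut
      have hm := (mem_autGroup hQS).1 hα
      have hN : Q.subtype.comp α.toMonoidHom ∈ N.Hom Q := by
        refine ⟨hm, le_inf hQS Subgroup.le_normalizer, fun x => ⟨val_mem hm x, Subgroup.le_normalizer (α x).2⟩,
          (Q.subtype.comp α.toMonoidHom).comp (Subgroup.inclusion (sup_le le_rfl le_rfl)), restrict hm _,
          fun x => rfl, le_antisymm ?_ ?_⟩
        · rintro _ ⟨x, hx, rfl⟩
          exact (α _).2
        · intro y hy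
          exact ⟨Subgroup.inclusion le_sup_left (α.symm ⟨y, hy⟩), (α.symm ⟨y, hy⟩).2,
            congrArg Subtype.val (α.apply_symm_apply ⟨y, hy⟩)⟩
      rw [h] at hN
      obtain ⟨-, g, hg, hgx⟩ := hN
      exact mem_autInducedBy.2 ⟨g, hg, hgx⟩
  -- a maximal normal subgroup above it
  obtain ⟨R, hQR, hRnorm, hmax⟩ : ∃ R : Subgroup Ω, Q ≤ R ∧ F.IsNormal R ∧
      ∀ T : Subgroup Ω, F.IsNormal T → R ≤ T → T = R := by
    have hfin : {T : Subgroup Ω | F.IsNormal T ∧ Q ≤ T}.Finite := by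
      refine Set.Finite.subset (Set.finite_range fun H : Subgroup S => H.map S.subtype) fun T hT =>
        ⟨T.subgroupOf S, Subgroup.map_subgroupOf_eq_of_le hT.1.1⟩
    obtain ⟨R, hR⟩ := hfin.exists_maximal ⟨Q, hQnorm, le_rfl⟩
    exact ⟨R, hR.1.2, hR.1.1, fun T hT hle => le_antisymm (hR.2 ⟨hT, hR.1.2.trans hle⟩ hle) hle⟩
  have hRS := hRnorm.1
  have hRn := le_normalizer_of_isNormal hRnorm
  haveI := finite_mulAut hRS
  haveI := finite_of_le hRS
  have hRaut : ¬ IsPGroup p (F.autGroup R) := by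
    intro hp'
    apply hQaut
    rintro ⟨β, hβ⟩
    obtain ⟨α, hα, hαβ⟩ := exists_aut_of_isNormal hRnorm hQR ((mem_autGroup hQS).1 hβ)
    obtain ⟨k, hk⟩ := hp' ⟨α, hα⟩
    refine ⟨k, Subtype.ext (MulEquiv.ext fun x => ?_)⟩
    have hiter : ∀ (m : ℕ) (x : Q), (((β ^ m) x : Q) : Ω) = (((α ^ m) ⟨x, hQR x.2⟩ : R) : Ω) := by
      intro m
      induction m with
      | zero => intro x; rfl
      | succ m ih =>
        intro x
        rw [pow_succ, pow_succ, MulAut.mul_apply, MulAut.mul_apply, ih]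
        exact congrArg (fun z : R => (((α ^ m) z : R) : Ω)) (Subtype.ext (hαβ x))
    have h1 : α ^ p ^ k = 1 := congrArg Subtype.val hk
    refine Subtype.ext ?_
    rw [SubmonoidClass.coe_pow]
    show (((β ^ p ^ k) x : Q) : Ω) = x
    rw [hiter, h1]
    rfl
  -- the maps acting on `R` as elements of `S` are inner
  set E := kSystem F hRS (autInducedBy S R) le_rfl hRn
  have hEinner : ∀ P : Subgroup Ω, E.Hom P = (Cfsg.innerFusionSystem S).Hom P := by
    refine (hsp E (kSystem_saturated hS hF hRS hRn) (fun P φ hφ => hφ.1)).resolve_left fun h => ?_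
    refine hRaut (hinner hRS fun α hα => ?_)
    obtain ⟨-, ψ, -, hext, κ, hκ, hψκ⟩ := (h R).ge ((mem_autGroup hRS).1 hα)
    have : α = κ := MulEquiv.ext fun x => Subtype.ext ((hext x).symm.trans (hψκ x))
    rwa [this]
  -- so `R C_S(R)` is normal
  set C := R ⊔ centralizerIn S R with hC
  have hCS : C ≤ S := sup_le hRS inf_le_left
  have hcent : ∀ s ∈ S, ∀ c ∈ centralizerIn S R, s * c * s⁻¹ ∈ centralizerIn S R := by
    intro s hs c hc
    refine ⟨S.mul_mem (S.mul_mem hs hc.1) (S.inv_mem hs), Subgroup.mem_centralizer_iff.2 fun q hq => ?_⟩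
    have h2 := Subgroup.mem_centralizer_iff.1 hc.2 _ (conj_inv_mem_of_normalizer (hRn hs) hq)
    calc q * (s * c * s⁻¹) = s * (s⁻¹ * q * s * c) * s⁻¹ := by group
      _ = s * (c * (s⁻¹ * q * s)) * s⁻¹ := by rw [h2]
      _ = s * c * s⁻¹ * q := by group
  have hCn : S ≤ Subgroup.normalizer (C : Set Ω) := by
    intro s hs
    rw [Subgroup.mem_normalizer_iff_map_conj_eq, hC, Subgroup.map_sup,
      Subgroup.mem_normalizer_iff_map_conj_eq.1 (hRn hs)]
    congr 1
    refine Subgroup.mem_normalizer_iff_map_conj_eq.1 (Subgroup.mem_normalizer_iff.2 fun c =>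
      ⟨hcent s hs c, fun hc => ?_⟩)
    have := hcent s⁻¹ (S.inv_mem hs) _ hc
    simpa [mul_assoc] using this
  have hCnorm : F.IsNormal C := by
    refine isNormal_of_centricRadical hS hF hCS hCn fun P hPn hPc hPr => ?_
    have hPS := hPn.1
    haveI := finite_mulAut hPS
    haveI := finite_of_le hPS
    have hRP : R ≤ P := le_centricRadical_of_isNormal hS hF hRnorm hPn hPc hPr
    have hsc := stronglyClosed_of_isNormal hRnorm
    have hstab : ∀ (a : F.autGroup P) (x : P), (x : Ω) ∈ R → (((a : MulAut P) x : P) : Ω) ∈ R := fun a x hx =>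
      stronglyClosed_mapsTo hsc ((mem_autGroup hPS).1 a.2) x hx
    let K : Subgroup (F.autGroup P) :=
      { carrier := {a | ∀ x : P, (x : Ω) ∈ R → (a : MulAut P) x = x}
        one_mem' := fun x _ => rfl
        mul_mem' := by
          intro a b ha hb x hx
          show (a : MulAut P) ((b : MulAut P) x) = x
          rw [hb x hx, ha x hx]
        inv_mem' := by
          intro a ha x hx
          show (a : MulAut P)⁻¹ x = x
          conv_lhs => rw [← ha x hx]
          exact (a : MulAut P).symm_apply_apply x }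
    have hKn : K.Normal := by
      constructor
      intro a ha b x hx
      show (b : MulAut P) ((a : MulAut P) ((b : MulAut P)⁻¹ x)) = x
      have h1 : (((b : MulAut P)⁻¹ x : P) : Ω) ∈ R := hstab b⁻¹ x hx
      rw [ha _ h1, MulAut.apply_inv_self]
    have hKp : IsPGroup p K := by
      have hle : K.map (F.autGroup P).subtype ≤ autInducedBy S P := by
        rintro _ ⟨a, ha, rfl⟩
        have hm := (mem_autGroup hPS).1 a.2
        have h1 : P.subtype.comp (a : MulAut P).toMonoidHom ∈ E.Hom P :=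
          ⟨hm, (P.subtype.comp (a : MulAut P).toMonoidHom).comp (Subgroup.inclusion (sup_le le_rfl hRP)),
            restrict hm _, fun x => rfl, 1, one_mem _, fun q => congrArg Subtype.val (ha ⟨q, hRP q.2⟩ q.2)⟩
        rw [hEinner] at h1
        obtain ⟨-, g, hg, hgx⟩ := h1
        exact mem_autInducedBy.2 ⟨g, hg, hgx⟩
      exact ((isPGroup_autInducedBy p hS P).to_le hle).of_equiv
        (K.equivMapOfInjective _ (F.autGroup P).subtype_injective).symm
    have hKI : K.map (F.autGroup P).subtype ≤ Cfsg.Inn P :=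
      (Subgroup.map_mono (CfsgLib.PCore.le_pCore hKn hKp)).trans hPr.2.le
    have hcP : centralizerIn S R ≤ P := by
      by_contra hle
      haveI : Finite ↥(P ⊔ centralizerIn S R) := finite_of_le (sup_le hPS inf_le_left)
      obtain ⟨g, hg, hgN, hgP⟩ := exists_normalizer_not_mem (Q := P) (P := P ⊔ centralizerIn S R)
        (hS.to_le (sup_le hPS inf_le_left))
        (lt_of_le_of_ne le_sup_left fun e => hle (e ▸ le_sup_right))
      have hPnc : P ≤ Subgroup.normalizer (centralizerIn S R : Set Ω) := fun s hs =>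
        Subgroup.mem_normalizer_iff.2 fun c => ⟨hcent s (hPS hs) c, fun hc => by
          have := hcent s⁻¹ (S.inv_mem (hPS hs)) _ hc
          simpa [mul_assoc] using this⟩
      have hg' : g ∈ ((P : Set Ω) * (centralizerIn S R : Set Ω)) := by
        rw [← Subgroup.coe_mul_of_left_le_normalizer_right _ _ hPnc]
        exact hg
      obtain ⟨a, ha, d, hd, rfl⟩ := hg'
      have hdN : d ∈ Subgroup.normalizer (P : Set Ω) := by
        simpa using mul_mem (inv_mem (Subgroup.le_normalizer ha)) hgN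
      refine hgP (P.mul_mem ha (mem_self_of_inn hPc hd.1 (α := conjAut P S ⟨d, hd.1, hdN⟩) (fun x => rfl) (hKI
        ⟨⟨conjAut P S ⟨d, hd.1, hdN⟩, autInducedBy_le_autGroup hPS (conjAut_mem _)⟩, fun x hx => ?_, rfl⟩)))
      refine Subtype.ext ?_
      show d * (x : Ω) * d⁻¹ = x
      rw [← Subgroup.mem_centralizer_iff.1 hd.2 _ hx, mul_inv_cancel_right]
    refine ⟨sup_le hRP hcP, fun α hα q hq => ?_⟩
    have hcle : C ≤ ((C.subgroupOf P).comap α.toMonoidHom).map P.subtype := by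
      refine sup_le (fun r hr => ⟨⟨r, hRP hr⟩, Subgroup.mem_sup_left (hstab ⟨α, hα⟩ ⟨r, hRP hr⟩ hr), rfl⟩)
        fun c hc => ⟨⟨c, hcP hc⟩, Subgroup.mem_sup_right ⟨hPS (α _).2, Subgroup.mem_centralizer_iff.2 fun r hr => ?_⟩, rfl⟩
      have hr' : (((α⁻¹ : MulAut P) ⟨r, hRP hr⟩ : P) : Ω) ∈ R := hstab ⟨α, hα⟩⁻¹ ⟨r, hRP hr⟩ hr
      have h2 : (α⁻¹ : MulAut P) ⟨r, hRP hr⟩ * ⟨c, hcP hc⟩ = ⟨c, hcP hc⟩ * (α⁻¹ : MulAut P) ⟨r, hRP hr⟩ :=
        Subtype.ext (Subgroup.mem_centralizer_iff.1 hc.2 _ hr')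
      have h3 := congrArg α h2
      rw [map_mul, map_mul, MulAut.apply_inv_self] at h3
      exact congrArg Subtype.val h3
    obtain ⟨z, hz, hzx⟩ := hcle hq
    obtain rfl : z = q := Subtype.ext hzx
    exact hz
  -- hence centric
  have hCR : centralizerIn S R ≤ R := (le_sup_right : _ ≤ C).trans (hmax C hCnorm le_sup_left).le
  refine ⟨hF, R, hRnorm, hRS, fun T hT => ?_⟩
  obtain ⟨φ, hφ, rfl⟩ := hT
  obtain ⟨α, -, hαφ⟩ := exists_aut_of_isNormal hRnorm le_rfl hφ
  have hr : φ.range = R := by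
    refine le_antisymm ?_ fun y hy => ⟨α.symm ⟨y, hy⟩, ?_⟩
    · rintro _ ⟨x, rfl⟩
      rw [hαφ]
      exact (α _).2
    · rw [hαφ]
      exact congrArg Subtype.val (α.apply_symm_apply ⟨y, hy⟩)
  rw [hr]
  exact hCR

end CfsgLib.Sparse
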