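import Cfsg.Prelude.Def_FusionSystem
import Cfsg.Agent.Fusion.Goldschmidt
import Cfsg.Agent.S3060
import Cfsg.Agent.Signalizer.Grow
import Cfsg.Agent.Components.PLayerBalance
import Cfsg.Agent.CoprimeAction.Basic

/-!
In a group all whose `p`-locals are stable (`p` odd), `D*(S)` is normal in the fusion system.
-/

set_option autoImplicit false

namespace CfsgLib.StableDStar

open CfsgLib.GroupAlperin CfsgLib.Goldschmidt
open scoped commutatorElement

/-! ### Equivariance of `D*` -/

theorem dStar_equiv_le {A B : Type*} [Group A] [Group B] (e : A ≃* B) :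
    (Cfsg.dStar A).map e.toMonoidHom ≤ Cfsg.dStar B := by
  rw [Subgroup.map_le_iff_le_comap]
  refine sSup_le fun X hX => ?_
  rw [← Subgroup.map_le_iff_le_comap]
  refine le_sSup ⟨?_, fun y hy => ?_⟩
  · haveI := hX.1; exact Subgroup.map_isMulCommutative _ _
  · rintro _ ⟨a, ha, rfl⟩
    have h1 : ⁅⁅X ⊔ Subgroup.zpowers (e.symm y), X ⊔ Subgroup.zpowers (e.symm y)⁆,
        X ⊔ Subgroup.zpowers (e.symm y)⁆ = ⊥ := by
      apply Subgroup.map_injective (f := e.toMonoidHom) e.injective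
      rw [Subgroup.map_commutator, Subgroup.map_commutator, Subgroup.map_sup, MonoidHom.map_zpowers, Subgroup.map_bot,
        show e.toMonoidHom (e.symm y) = y from e.apply_symm_apply y]
      exact hy
    have h2 := congrArg e (hX.2 _ h1 a ha)
    rw [map_mul, map_mul, e.apply_symm_apply] at h2
    exact h2

theorem dStar_equiv {A B : Type*} [Group A] [Group B] (e : A ≃* B) :
    (Cfsg.dStar A).map e.toMonoidHom = Cfsg.dStar B := by
  refine le_antisymm (dStar_equiv_le e) fun b hb => ⟨e.symm b, ?_, e.apply_symm_apply b⟩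
  exact dStar_equiv_le e.symm ⟨b, hb, rfl⟩

theorem dStarOf_map {A B : Type*} [Group A] [Group B] (f : A →* B) (S : Subgroup A)
    (hf : ∀ x ∈ S, f x = 1 → x = 1) : Cfsg.dStarOf (S.map f) = (Cfsg.dStarOf S).map f := by
  let e : S ≃* S.map f := MulEquiv.ofBijective (f.subgroupMap S)
    ⟨(injective_iff_map_eq_one _).2 fun x hx => Subtype.ext (hf x x.2 (congrArg Subtype.val hx)),
      f.subgroupMap_surjective S⟩
  rw [Cfsg.dStarOf, Cfsg.dStarOf, ← dStar_equiv e, Subgroup.map_map, Subgroup.map_map]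
  rfl

theorem dStarOf_conj {G : Type*} [Group G] (S : Subgroup G) (g : G) :
    Cfsg.dStarOf (S.map (MulAut.conj g).toMonoidHom) = (Cfsg.dStarOf S).map (MulAut.conj g).toMonoidHom :=
  dStarOf_map _ S fun _ _ hx => (MulAut.conj g).injective (hx.trans (map_one (MulAut.conj g)).symm)

theorem normalizer_le_normalizer_dStarOf {G : Type*} [Group G] (S : Subgroup G) :
    Subgroup.normalizer (S : Set G) ≤ Subgroup.normalizer (Cfsg.dStarOf S : Set G) := by
  intro g hg
  rw [Subgroup.mem_normalizer_iff_map_conj_eq] at hg ⊢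
  exact (dStarOf_conj S g).symm.trans (congrArg Cfsg.dStarOf hg)

theorem dStarOf_mono {G : Type*} [Group G] [Finite G] {p : ℕ} [Fact p.Prime] {S T : Subgroup G} (hS : IsPGroup p S)
    (hTS : T ≤ S) (hD : Cfsg.dStarOf S ≤ T) : Cfsg.dStarOf S ≤ Cfsg.dStarOf T := by
  obtain ⟨hab, hprop⟩ := CfsgLib.PGroup.dStar_mem_family hS
  intro d hd
  suffices key : (Cfsg.dStarOf S).subgroupOf T ≤ Cfsg.dStar T from ⟨⟨d, hD hd⟩, key hd, rfl⟩
  refine le_sSup ⟨?_, fun x hx a ha => ?_⟩
  · haveI := hab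
    haveI : IsMulCommutative (Cfsg.dStarOf S) := Subgroup.map_isMulCommutative _ _
    exact ⟨⟨fun a b => Subtype.ext (Subtype.ext (congrArg Subtype.val
      (mul_comm' (⟨_, a.2⟩ : Cfsg.dStarOf S) ⟨_, b.2⟩) :))⟩⟩
  · have h1 := (Cfsg.Agent.S3060.class_two_map _ x).mpr hx
    rw [Subgroup.subgroupOf_map_subtype, inf_eq_left.2 hD] at h1
    have ha' : (a : G) ∈ (Cfsg.dStar S).map S.subtype := ha
    obtain ⟨a', ha', he⟩ := ha'
    have h2 := hprop ⟨(x : G), hTS x.2⟩ ((Cfsg.Agent.S3060.class_two_map _ (⟨(x : G), hTS x.2⟩ : S)).mp h1) a' ha'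
    refine Subtype.ext ?_
    show (a : G) * (x : G) = (x : G) * (a : G)
    rw [show (a : G) = (a' : G) from he.symm]
    exact congrArg Subtype.val h2

/-! ### The local model -/

theorem centralizer_le_pPrimePCore {p : ℕ} [hp : Fact p.Prime] {M : Type*} [Group M] [Finite M] (V : Subgroup M) [V.Normal]
    (hV : IsPGroup p V) (h : ∀ R : Subgroup M, R ≤ Subgroup.centralizer (V : Set M) → IsPGroup p R → R ≤ V) :
    Subgroup.centralizer (V : Set M) ≤ Cfsg.pPrimePCore p M := by
  set C := Subgroup.centralizer (V : Set M)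
  have hVPP : V ≤ Cfsg.pPrimePCore p M :=
    (CfsgLib.PCore.le_pCore inferInstance hV).trans CfsgLib.PCore.pCore_le_pPrimePCore
  obtain ⟨U⟩ : Nonempty (Sylow p C) := inferInstance
  have hU : ∀ u ∈ (U : Subgroup C), (u : M) ∈ V := fun u hu =>
    h ((U : Subgroup C).map C.subtype) (Subgroup.map_subtype_le _) (U.isPGroup'.map _) ⟨u, hu, rfl⟩
  obtain ⟨U', K, hKn, hK⟩ := CfsgLib.Transfer.burnside_normal_complement U (fun c _ =>
    Subgroup.mem_centralizer_iff.2 fun u hu => Subtype.ext (Subgroup.mem_centralizer_iff.1 c.2 _ (hU u hu)))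
  have hKc : (Nat.card K).Coprime p := CfsgLib.PCore.coprime_of_not_dvd (hK.index_eq_card ▸ U'.not_dvd_index)
  intro c hc
  obtain ⟨⟨k, u⟩, hku, -⟩ := hK.existsUnique (⟨c, hc⟩ : C)
  have hc' : c = ((k : C) : M) * ((u : C) : M) := (congrArg Subtype.val hku).symm
  rw [hc']
  refine mul_mem (CfsgLib.PCore.pPrimeCore_le_pPrimePCore ?_)
    (hVPP (h ((U' : Subgroup C).map C.subtype) (Subgroup.map_subtype_le _) (U'.isPGroup'.map _) ⟨u, u.2, rfl⟩))
  exact ((CfsgLib.PCore.map_pPrimeCore_normal (p := p) C).le.trans inf_le_left)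
    ⟨k, CfsgLib.PCore.le_pPrimeCore hKn hKc k.2, rfl⟩

/-- Elements acting quadratically on a normal `p`-subgroup of a subgroup are `p`-elements modulo its centralizer. -/
theorem stable_mem {p : ℕ} [Fact p.Prime] {G : Type*} [Group G] [Finite G] (hst : Cfsg.IsNormalizerPStable p G)
    {M : Subgroup G} {P : Subgroup M} [P.Normal] (hP : IsPGroup p P) (x : M)
    (hq : ⁅⁅P, Subgroup.zpowers x⁆, Subgroup.zpowers x⁆ = ⊥) :
    QuotientGroup.mk' (Subgroup.centralizer (P : Set M)) x ∈ Cfsg.pCore p (M ⧸ Subgroup.centralizer (P : Set M)) := by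
  set P' := P.map M.subtype with hP'
  set N := Subgroup.normalizer (P' : Set G) with hN
  have hMN : M ≤ N := fun m hm => Subgroup.mem_normalizer_fintype (by
    rintro _ ⟨a, ha, rfl⟩
    exact ⟨⟨m, hm⟩ * a * ⟨m, hm⟩⁻¹, (inferInstance : P.Normal).conj_mem a ha _, rfl⟩)
  have hq' : ⁅⁅P', Subgroup.zpowers (x : G)⁆, Subgroup.zpowers (x : G)⁆ = ⊥ := by
    have h := congrArg (Subgroup.map M.subtype) hq
    rwa [Subgroup.map_commutator, Subgroup.map_commutator, MonoidHom.map_zpowers, Subgroup.map_bot] at h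
  have h1 := hst P' (hP.map _) (x : G) (hMN x.2) hq'
  set C' := (Subgroup.centralizer (P' : Set G)).subgroupOf N with hC'
  let ψ : M ⧸ Subgroup.centralizer (P : Set M) →* N ⧸ C' :=
    QuotientGroup.map _ C' (Subgroup.inclusion hMN) (fun c hc => Subgroup.mem_centralizer_iff.2 (by
      rintro _ ⟨a, ha, rfl⟩
      exact congrArg Subtype.val (Subgroup.mem_centralizer_iff.1 hc a ha)))
  have hψ : Function.Injective ψ := (injective_iff_map_eq_one _).2 fun z hz => by
    obtain ⟨c, rfl⟩ := QuotientGroup.mk'_surjective _ z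
    refine (QuotientGroup.eq_one_iff c).2 (Subgroup.mem_centralizer_iff.2 fun a ha => Subtype.ext ?_)
    have h2 : (QuotientGroup.mk (Subgroup.inclusion hMN c) : N ⧸ C') = 1 := hz
    have h3 : ((Subgroup.inclusion hMN c : N) : G) ∈ Subgroup.centralizer (P' : Set G) :=
      Subgroup.mem_subgroupOf.1 ((QuotientGroup.eq_one_iff (N := C') _).1 h2)
    exact Subgroup.mem_centralizer_iff.1 h3 _ ⟨a, ha, rfl⟩
  haveI := Cfsg.pCore_normal p (N ⧸ C')
  exact CfsgLib.PCore.le_pCore (Subgroup.Normal.comap inferInstance ψ)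
    ((CfsgLib.PCore.isPGroup_pCore p _).comap_of_injective ψ hψ) (show ψ (QuotientGroup.mk' _ x) ∈ _ from h1)

/-- In a `p`-constrained subgroup `D*` of a Sylow subgroup is normal modulo `O_{p'}`. -/
theorem model {p : ℕ} [hp : Fact p.Prime] {G : Type*} [Group G] [Finite G] (hp2 : p ≠ 2)
    (hst : Cfsg.IsNormalizerPStable p G) {M : Subgroup G} (T : Sylow p M) (R : Subgroup M) [R.Normal]
    (hR : IsPGroup p R) (hcon : Subgroup.centralizer (R : Set M) ≤ Cfsg.pPrimePCore p M) (g : M) :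
    ∃ o m : M, g = o * m ∧ (∀ r ∈ R, o * r = r * o) ∧
      (m : G) ∈ Subgroup.normalizer (Cfsg.dStarOf ((T : Subgroup M).map M.subtype) : Set G) := by
  set O := Cfsg.pPrimeCore p M with hO
  haveI hOn : O.Normal := (CfsgLib.PCore.pPrimeCore_mem p M).1
  set π := QuotientGroup.mk' O with hπ
  have hπs : Function.Surjective π := QuotientGroup.mk'_surjective O
  have hker : π.ker = O := QuotientGroup.ker_mk' O
  have hpO : ∀ Q : Subgroup M, IsPGroup p Q → ∀ y ∈ Q, y ∈ O → y = 1 := by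
    intro Q hQ y hy hyO
    have h1 : Q ⊓ O = ⊥ := Subgroup.inf_eq_bot_of_coprime (by
      obtain ⟨i, hi⟩ := hQ.exists_card_eq
      rw [hi]
      exact ((CfsgLib.PCore.pPrimeCore_coprime p M).symm).pow_left i)
    exact Subgroup.mem_bot.1 (h1 ▸ ⟨hy, hyO⟩)
  have hOR : ∀ o ∈ O, ∀ r ∈ R, o * r = r * o := fun o ho r hr =>
    Subgroup.mem_centralizer_iff.1 (by
      refine Subgroup.mem_centralizer_iff.2 fun x hx => ?_
      exact (Subgroup.commute_of_normal_of_disjoint O R hOn inferInstance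
        (Subgroup.disjoint_def.2 fun {y} hy hy' => hpO R hR y hy' hy) o x ho hx).symm.eq :
        o ∈ Subgroup.centralizer (R : Set M)) r hr |>.symm
  -- constrained quotient
  have hc : Subgroup.centralizer (Cfsg.pCore p (M ⧸ O) : Set (M ⧸ O)) ≤ Cfsg.pCore p (M ⧸ O) := by
    intro z hz
    obtain ⟨c, rfl⟩ := hπs z
    refine (CfsgLib.PCore.map_pPrimePCore (p := p) (G := M)).le ⟨c, hcon (Subgroup.mem_centralizer_iff.2 fun r hr => ?_), rfl⟩
    have h1 : π r ∈ Cfsg.pCore p (M ⧸ O) :=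
      CfsgLib.PCore.le_pCore ((inferInstance : R.Normal).map π hπs) (hR.map π) ⟨r, hr, rfl⟩
    have h2 := Subgroup.mem_centralizer_iff.1 hz _ h1
    have h3 : c * r * c⁻¹ * r⁻¹ = 1 := hpO R hR _
      (R.mul_mem ((inferInstance : R.Normal).conj_mem r hr c) (R.inv_mem hr))
      (by rw [← QuotientGroup.eq_one_iff]; show π _ = 1; rw [map_mul, map_mul, map_mul, map_inv, map_inv, ← h2]; group)
    rw [mul_inv_eq_one, mul_inv_eq_iff_eq_mul] at h3
    exact h3.symm
  -- stability
  have hstab : ∀ (P : Subgroup (M ⧸ O)) [P.Normal], IsPGroup p P → Cfsg.IsPStableOn p P := by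
    intro P hPn hPp z hz
    set K := P.comap π with hK
    haveI : K.Normal := hPn.comap π
    obtain ⟨P₀⟩ : Nonempty (Sylow p K) := inferInstance
    set P₁ := (P₀ : Subgroup K).map K.subtype with hP₁
    have hP₁p : IsPGroup p P₁ := P₀.isPGroup'.map _
    have hKP : K ≤ O ⊔ P₁ := by
      rw [← Subgroup.relIndex_eq_one]
      by_contra hne
      obtain ⟨r, hr, hrd⟩ := Nat.exists_prime_and_dvd hne
      haveI := Fact.mk hr
      by_cases hrp : r = p
      · subst hrp
        refine P₀.not_dvd_index (hrd.trans ?_)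
        refine dvd_trans (Subgroup.relIndex_dvd_of_le_left K (le_sup_right : P₁ ≤ O ⊔ P₁)) ?_
        rw [Subgroup.relIndex, hP₁, Subgroup.subgroupOf, Subgroup.comap_map_eq_self_of_injective K.subtype_injective]
      · refine hrp ?_
        have h1 := hrd.trans (Subgroup.relIndex_dvd_of_le_left K (le_sup_left : O ≤ O ⊔ P₁))
        have h2 : O.relIndex K = Nat.card P := by
          calc O.relIndex K = ((⊥ : Subgroup (M ⧸ O)).comap π).relIndex K := by rw [MonoidHom.comap_bot, hker]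
            _ = Nat.card P := by
              rw [hK, Subgroup.relIndex_comap, Subgroup.map_comap_eq_self_of_surjective hπs, Subgroup.relIndex_bot_left]
        obtain ⟨i, hi⟩ := hPp.exists_card_eq
        rw [h2, hi] at h1
        exact (Nat.prime_dvd_prime_iff_eq hr hp.out).1 (hr.dvd_of_dvd_pow h1)
    have hmap : P₁.map π = P := by
      refine le_antisymm (Subgroup.map_le_iff_le_comap.2 (Subgroup.map_subtype_le _)) fun y hy => ?_
      obtain ⟨k, rfl⟩ := hπs y
      obtain ⟨o, ho, a, ha, rfl⟩ := Subgroup.mem_sup_of_normal_left.1 (hKP hy)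
      exact ⟨a, ha, by rw [map_mul, show π o = 1 from (QuotientGroup.eq_one_iff o).2 ho, one_mul]⟩
    set M₁ := Subgroup.normalizer (P₁ : Set M) with hM₁
    have hfr : M₁ ⊔ K = ⊤ := Sylow.normalizer_sup_eq_top P₀
    have hcover : ∀ y : M ⧸ O, ∃ n ∈ M₁, π n = y := by
      intro y
      obtain ⟨k, rfl⟩ := hπs y
      have hk : k ∈ O ⊔ M₁ := by
        refine (le_trans hfr.ge (sup_le le_sup_right (hKP.trans (sup_le le_sup_left ?_)))) (Subgroup.mem_top k)
        exact Subgroup.le_normalizer.trans le_sup_right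
      obtain ⟨o, ho, n, hn, rfl⟩ := Subgroup.mem_sup_of_normal_left.1 hk
      exact ⟨n, hn, by rw [map_mul, show π o = 1 from (QuotientGroup.eq_one_iff o).2 ho, one_mul]⟩
    obtain ⟨n, hn, rfl⟩ := hcover z
    -- quadratic before the quotient
    have hq : ⁅⁅P₁, Subgroup.zpowers n⁆, Subgroup.zpowers n⁆ = ⊥ := by
      have h1 : ⁅P₁, Subgroup.zpowers n⁆ ≤ P₁ :=
        Subgroup.le_normalizer_iff_commutator_le_left.1 (Subgroup.zpowers_le.2 hn)
      have h2 : ⁅⁅P₁, Subgroup.zpowers n⁆, Subgroup.zpowers n⁆ ≤ P₁ :=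
        (Subgroup.commutator_mono h1 le_rfl).trans h1
      refine eq_bot_iff.2 fun y hy => Subgroup.mem_bot.2 (hpO P₁ hP₁p y (h2 hy) ?_)
      rw [← QuotientGroup.eq_one_iff]
      have h3 : π y ∈ (⁅⁅P₁, Subgroup.zpowers n⁆, Subgroup.zpowers n⁆).map π := ⟨y, hy, rfl⟩
      rw [Subgroup.map_commutator, Subgroup.map_commutator, MonoidHom.map_zpowers, hmap, hz, Subgroup.mem_bot] at h3
      exact h3
    -- stability in `G`
    let M' : Subgroup G := M₁.map M.subtype
    let e : M₁ ≃* M' := M₁.equivMapOfInjective M.subtype M.subtype_injective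
    let P₂ : Subgroup M' := (P₁.subgroupOf M₁).map e.toMonoidHom
    haveI : (P₁.subgroupOf M₁).Normal := Subgroup.normal_subgroupOf_of_le_normalizer le_rfl
    haveI : P₂.Normal := (inferInstance : (P₁.subgroupOf M₁).Normal).map _ e.surjective
    have hq₂ : ⁅⁅P₂, Subgroup.zpowers (e ⟨n, hn⟩)⁆, Subgroup.zpowers (e ⟨n, hn⟩)⁆ = ⊥ := by
      have h1 : ⁅⁅P₁.subgroupOf M₁, Subgroup.zpowers (⟨n, hn⟩ : M₁)⁆, Subgroup.zpowers (⟨n, hn⟩ : M₁)⁆ = ⊥ := by
        apply Subgroup.map_injective M₁.subtype_injective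
        rw [Subgroup.map_commutator, Subgroup.map_commutator, MonoidHom.map_zpowers, Subgroup.subgroupOf_map_subtype,
          inf_eq_left.2 Subgroup.le_normalizer, Subgroup.map_bot]
        exact hq
      have h2 := congrArg (Subgroup.map e.toMonoidHom) h1
      rwa [Subgroup.map_commutator, Subgroup.map_commutator, MonoidHom.map_zpowers, Subgroup.map_bot] at h2
    have hP₂p : IsPGroup p P₂ :=
      (hP₁p.of_equiv (Subgroup.subgroupOfEquivOfLe Subgroup.le_normalizer).symm).map _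
    have h4 := stable_mem hst hP₂p (e ⟨n, hn⟩) hq₂
    -- push to the quotient
    let f : M' →* M ⧸ O := π.comp (M₁.subtype.comp e.symm.toMonoidHom)
    have hPle : ∀ a : M', a ∈ P₂ → f a ∈ P := by
      rintro _ ⟨b, hb, rfl⟩
      rw [← hmap]
      exact ⟨(b : M), hb, by simp [f]⟩
    let φ : M' ⧸ Subgroup.centralizer (P₂ : Set M') →* (M ⧸ O) ⧸ Subgroup.centralizer (P : Set (M ⧸ O)) :=
      QuotientGroup.map _ _ f (fun c hc => by
        refine Subgroup.mem_centralizer_iff.2 fun y hy => ?_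
        rw [SetLike.mem_coe, ← hmap] at hy
        obtain ⟨a, ha, rfl⟩ := hy
        have h5 := Subgroup.mem_centralizer_iff.1 hc (e ⟨a, Subgroup.le_normalizer ha⟩) ⟨⟨a, Subgroup.le_normalizer ha⟩, ha, rfl⟩
        have h6 := congrArg f h5
        simpa [f] using h6)
    have hφ : Function.Surjective φ := fun z => by
      obtain ⟨y, rfl⟩ := QuotientGroup.mk'_surjective _ z
      obtain ⟨w, hw, rfl⟩ := hcover y
      refine ⟨QuotientGroup.mk' _ (e ⟨w, hw⟩), ?_⟩
      show QuotientGroup.mk (f (e ⟨w, hw⟩)) = _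
      simp [f]
    have h5 := CfsgLib.PCore.map_pCore_le (p := p) φ hφ ⟨_, h4, rfl⟩
    have h6 : φ (QuotientGroup.mk' _ (e ⟨n, hn⟩)) = QuotientGroup.mk (π n) := by
      show QuotientGroup.mk (f (e ⟨n, hn⟩)) = _
      simp [f]
    rwa [h6] at h5
  -- `D*` of the Sylow subgroup is normal in the quotient
  have hD := Cfsg.Agent.S3060.result hp2 hc hstab (T.mapSurjective hπs)
  rw [Sylow.coe_mapSurjective, dStarOf_map π _ (fun x hx h1 => hpO _ T.isPGroup' x hx (by rwa [← hker, MonoidHom.mem_ker]))] at hD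
  set U := Cfsg.dStarOf (T : Subgroup M) with hU
  have hUp : IsPGroup p U := T.isPGroup'.to_le (Subgroup.map_subtype_le _)
  haveI hOU : (O ⊔ U).Normal := by
    rw [show O ⊔ U = (U.map π).comap π by rw [Subgroup.comap_map_eq, hker, sup_comm]]
    exact hD.comap π
  -- Frattini
  have hsyl : ∃ U₀ : Sylow p ↥(O ⊔ U), (U₀ : Subgroup ↥(O ⊔ U)) = U.subgroupOf (O ⊔ U) := by
    refine ⟨(hUp.of_equiv (Subgroup.subgroupOfEquivOfLe le_sup_right).symm).toSylow fun hd => ?_, rfl⟩
    have h1 : (U.subgroupOf (O ⊔ U)).index ∣ Nat.card O := by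
      show U.relIndex (O ⊔ U) ∣ _
      rw [sup_comm]
      have := CfsgLib.PCore.card_sup_dvd O U
      rw [← Subgroup.relIndex_bot_left U, ← Subgroup.relIndex_bot_left (U ⊔ O),
        ← Subgroup.relIndex_mul_relIndex ⊥ U (U ⊔ O) bot_le le_sup_left] at this
      exact Nat.dvd_of_mul_dvd_mul_left Nat.card_pos (by rw [← Subgroup.relIndex_bot_left U] ; exact this)
    exact (CfsgLib.PCore.not_dvd_card_pPrimeCore p M) (hd.trans h1)
  obtain ⟨U₀, hU₀⟩ := hsyl
  have hfr := Sylow.normalizer_sup_eq_top U₀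
  rw [hU₀, Subgroup.subgroupOf_map_subtype, inf_eq_left.2 le_sup_right] at hfr
  have hg : g ∈ O ⊔ Subgroup.normalizer (U : Set M) := by
    refine (le_trans hfr.ge (sup_le le_sup_right (sup_le le_sup_left ?_))) (Subgroup.mem_top g)
    exact Subgroup.le_normalizer.trans le_sup_right
  obtain ⟨o, ho, m, hm, rfl⟩ := Subgroup.mem_sup_of_normal_left.1 hg
  refine ⟨o, m, rfl, hOR o ho, ?_⟩
  rw [dStarOf_map M.subtype _ fun x _ hx => M.subtype_injective (hx.trans (map_one _).symm)]
  exact Subgroup.le_normalizer_map M.subtype ⟨m, hm, rfl⟩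

/-! ### `D*(S)` is normalized by all fusion -/

theorem le_normalizer_cj {G : Type*} [Group G] {T : Subgroup G} {x : G} {D : Subgroup G}
    (hx : x ∈ Subgroup.normalizer (D : Set G)) (h : D ≤ T) : D ≤ cj T x := by
  rw [← cj_eq_self hx]
  exact cj_mono h x

variable {p : ℕ} [hp : Fact p.Prime] {G : Type*} [Group G] [Finite G]

/-- An element of `S` acting as an element of `O_p` on a good subgroup lies in it. -/
theorem mem_of_mem_pCore (S : Sylow p G) {Q : Subgroup G} (hQ : Good S Q) {d : G} (hdS : d ∈ (S : Subgroup G))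
    (hdN : d ∈ Subgroup.normalizer (Q : Set G))
    [((Q.subgroupOf (Subgroup.normalizer (Q : Set G)))).Normal]
    (h : QuotientGroup.mk' (Subgroup.centralizer ((Q.subgroupOf (Subgroup.normalizer (Q : Set G))) : Set _)) ⟨d, hdN⟩ ∈
      Cfsg.pCore p (Subgroup.normalizer (Q : Set G) ⧸
        Subgroup.centralizer ((Q.subgroupOf (Subgroup.normalizer (Q : Set G))) : Set _))) : d ∈ Q := by
  obtain ⟨hQS, hCQ, ⟨-, -, -, -, hsup⟩, -⟩ := hQ
  set N := Subgroup.normalizer (Q : Set G) with hN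
  have hQN : Q ≤ N := Subgroup.le_normalizer
  set C := Subgroup.centralizer ((Q.subgroupOf N : Subgroup N) : Set N) with hC
  have hCPP : C ≤ Cfsg.pPrimePCore p N := fun c hc => by
    obtain ⟨a, ha, hac⟩ := hCQ (Subgroup.mem_centralizer_iff.2 fun x hx =>
      congrArg Subtype.val (Subgroup.mem_centralizer_iff.1 hc ⟨x, hQN hx⟩ hx) : (c : G) ∈ Subgroup.centralizer (Q : Set G))
    rwa [← Subtype.ext (a1 := a) (a2 := c) hac]
  haveI hPPn : (Cfsg.pPrimePCore p N).Normal := CfsgLib.PCore.pPrimePCore_normal p N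
  haveI hOn : (Cfsg.pPrimeCore p N).Normal := (CfsgLib.PCore.pPrimeCore_mem p N).1
  have hdPP : (⟨d, hdN⟩ : N) ∈ Cfsg.pPrimePCore p N := by
    set π := QuotientGroup.mk' (Cfsg.pPrimeCore p N) with hπ
    set K := (Cfsg.pCore p (N ⧸ C)).comap (QuotientGroup.mk' C) with hK
    set L := K ⊔ Cfsg.pPrimePCore p N with hL
    haveI := Cfsg.pCore_normal p (N ⧸ C)
    haveI : K.Normal := Subgroup.Normal.comap inferInstance _
    suffices hLP : L.map π ≤ Cfsg.pCore p (N ⧸ Cfsg.pPrimeCore p N) from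
      CfsgLib.PCore.mem_pPrimePCore.2 (hLP ⟨_, Subgroup.mem_sup_left (show (⟨d, hdN⟩ : N) ∈ K from h), rfl⟩)
    refine CfsgLib.PCore.le_pCore (Subgroup.Normal.map inferInstance π (QuotientGroup.mk'_surjective _)) ?_
    rw [hL, Subgroup.map_sup, CfsgLib.PCore.map_pPrimePCore]
    -- `K` is a `p`-group modulo `O_{p',p}(N)`
    intro z
    obtain ⟨k, hk, y, hy, hzy⟩ := Subgroup.mem_sup_of_normal_right.1 z.2
    obtain ⟨k, hk', rfl⟩ := hk
    obtain ⟨e, he⟩ := CfsgLib.PCore.isPGroup_pCore p (N ⧸ C) ⟨QuotientGroup.mk' C k, hk'⟩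
    have hkC : k ^ p ^ e ∈ C := (QuotientGroup.eq_one_iff _).1 (congrArg Subtype.val he)
    have hz : (z : N ⧸ Cfsg.pPrimeCore p N) ^ p ^ e ∈ Cfsg.pCore p (N ⧸ Cfsg.pPrimeCore p N) := by
      haveI := Cfsg.pCore_normal p (N ⧸ Cfsg.pPrimeCore p N)
      rw [← hzy, ← QuotientGroup.eq_one_iff, QuotientGroup.mk_pow, QuotientGroup.mk_mul,
        (QuotientGroup.eq_one_iff y).2 hy, mul_one, ← QuotientGroup.mk_pow, QuotientGroup.eq_one_iff,
        ← map_pow]
      exact CfsgLib.PCore.mem_pPrimePCore.1 (hCPP hkC)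
    obtain ⟨f, hf⟩ := CfsgLib.PCore.isPGroup_pCore p (N ⧸ Cfsg.pPrimeCore p N) ⟨_, hz⟩
    refine ⟨e + f, Subtype.ext ?_⟩
    rw [Subgroup.coe_pow, pow_add, pow_mul]
    exact congrArg Subtype.val hf
  -- and in `S`
  have h3 : d ∈ (Cfsg.pPrimePCore p N).map N.subtype := ⟨_, hdPP, rfl⟩
  have hQnorm : (Cfsg.pPrimeCore p N).map N.subtype ≤ Subgroup.normalizer (Q : Set G) := Subgroup.map_subtype_le _
  rw [← hsup, ← SetLike.mem_coe, Subgroup.coe_mul_of_left_le_normalizer_right _ _ hQnorm] at h3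
  obtain ⟨a, ⟨o, ho, rfl⟩, b, hb, rfl⟩ := h3
  have hoS : (o : G) ∈ (S : Subgroup G) := by
    have := (S : Subgroup G).mul_mem hdS ((S : Subgroup G).inv_mem (hQS hb))
    simpa using this
  obtain ⟨j, hj⟩ := S.isPGroup' ⟨o, hoS⟩
  have ho1 : o = 1 := by
    have h4 : orderOf o ∣ p ^ j := orderOf_dvd_of_pow_eq_one (Subtype.ext (by
      have := congrArg Subtype.val hj
      simpa using this))
    have h5 : orderOf o ∣ Nat.card (Cfsg.pPrimeCore p N) := Subgroup.orderOf_dvd_natCard _ ho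
    rw [← orderOf_eq_one_iff]
    exact Nat.eq_one_of_dvd_coprimes ((CfsgLib.PCore.pPrimeCore_coprime p N).symm.pow_left j) h4 h5
  subst ho1
  simpa using hb

theorem dStar_le_good (hst : Cfsg.IsNormalizerPStable p G) (S : Sylow p G) {Q : Subgroup G} (hQ : Good S Q) :
    Cfsg.dStarOf (S : Subgroup G) ≤ Q := by
  have hQ' := hQ
  obtain ⟨hQS, -⟩ := hQ
  set D := Cfsg.dStarOf (S : Subgroup G) with hD
  set N := Subgroup.normalizer (Q : Set G) with hN
  have hDS : D ≤ S := Subgroup.map_subtype_le _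
  have hSD : (S : Subgroup G) ≤ Subgroup.normalizer (D : Set G) :=
    Subgroup.le_normalizer.trans (normalizer_le_normalizer_dStarOf _)
  haveI : IsMulCommutative (Cfsg.dStar (S : Subgroup G)) := (CfsgLib.PGroup.dStar_mem_family S.isPGroup').1
  haveI : IsMulCommutative D := Subgroup.map_isMulCommutative _ _
  by_contra hnot
  refine CfsgLib.Signalizer.exists_mem_normalizer_of_lt (S.isPGroup'.to_le (sup_le hQS hDS))
    (left_lt_sup.2 hnot) fun y hy => ?_
  obtain ⟨hy1, hy2⟩ := hy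
  obtain ⟨q, hq, d, hd, rfl⟩ := CfsgLib.CoprimeAction.exists_mul_of_mem_sup (hQS.trans hSD) hy1
  have hdN : d ∈ N := by
    have := N.mul_mem (N.inv_mem (Subgroup.le_normalizer hq)) hy2
    rwa [← mul_assoc, inv_mul_cancel, one_mul] at this
  refine Q.mul_mem hq ?_
  -- `d` acts quadratically on `Q`
  haveI : (Q.subgroupOf N).Normal := Subgroup.normal_subgroupOf_of_le_normalizer le_rfl
  have hQN : Q ≤ N := Subgroup.le_normalizer
  have hq2 : ⁅⁅Q.subgroupOf N, Subgroup.zpowers (⟨d, hdN⟩ : N)⁆, Subgroup.zpowers (⟨d, hdN⟩ : N)⁆ = ⊥ := by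
    apply Subgroup.map_injective N.subtype_injective
    rw [Subgroup.map_commutator, Subgroup.map_commutator, MonoidHom.map_zpowers, Subgroup.subgroupOf_map_subtype,
      inf_eq_left.2 hQN, Subgroup.map_bot]
    have hz : Subgroup.zpowers (N.subtype ⟨d, hdN⟩) ≤ D := Subgroup.zpowers_le.2 hd
    have h1 : ⁅Q, Subgroup.zpowers (N.subtype ⟨d, hdN⟩)⁆ ≤ D :=
      (Subgroup.commutator_mono le_rfl hz).trans
        (Subgroup.le_normalizer_iff_commutator_le_right.1 (hQS.trans hSD))
    refine eq_bot_iff.2 ((Subgroup.commutator_mono h1 hz).trans (le_of_eq ?_))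
    rw [Subgroup.commutator_eq_bot_iff_le_centralizer]
    exact Subgroup.le_centralizer D
  have h := stable_mem hst ((S.isPGroup'.to_le hQS).of_equiv (Subgroup.subgroupOfEquivOfLe hQN).symm) _ hq2
  exact mem_of_mem_pCore S hQ' (hDS hd) hdN h

/-- `N(D*(T)) ≤ N(D*(S))` and fusion between subgroups above `D*(S)` normalizes `D*(S)`, by downward induction. -/
theorem key (hp2 : p ≠ 2) (hst : Cfsg.IsNormalizerPStable p G) (S : Sylow p G) : ∀ (m : ℕ),
    (∀ T : Subgroup G, Cfsg.dStarOf (S : Subgroup G) ≤ T → T ≤ S → Nat.card (S : Subgroup G) - Nat.card T = m →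
      Subgroup.normalizer (Cfsg.dStarOf T : Set G) ≤ Subgroup.normalizer (Cfsg.dStarOf (S : Subgroup G) : Set G)) ∧
    (∀ (A : Subgroup G) (g : G), Cfsg.dStarOf (S : Subgroup G) ≤ A → A ≤ S →
      Nat.card (S : Subgroup G) - Nat.card A = m → cj A g ≤ S →
      g ∈ Subgroup.normalizer (Cfsg.dStarOf (S : Subgroup G) : Set G)) := by
  intro m
  induction m using Nat.strong_induction_on with
  | _ m ih =>
    set D := Cfsg.dStarOf (S : Subgroup G) with hD
    haveI : IsMulCommutative (Cfsg.dStar (S : Subgroup G)) := (CfsgLib.PGroup.dStar_mem_family S.isPGroup').1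
    have hCD : ∀ {A : Subgroup G}, D ≤ A →
        Subgroup.centralizer (A : Set G) ≤ Subgroup.normalizer (D : Set G) := fun hA =>
      (Subgroup.centralizer_le (by exact hA)).trans (Subgroup.centralizer_le_normalizer _)
    have hlargeK : ∀ {T : Subgroup G}, D ≤ T → T ≤ S → Nat.card (S : Subgroup G) - Nat.card T < m →
        Subgroup.normalizer (Cfsg.dStarOf T : Set G) ≤ Subgroup.normalizer (D : Set G) :=
      fun h1 h2 h3 => (ih _ h3).1 _ h1 h2 rfl
    have hlargeI : ∀ {A : Subgroup G} {g : G}, D ≤ A → A ≤ S → Nat.card (S : Subgroup G) - Nat.card A < m →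
        cj A g ≤ S → g ∈ Subgroup.normalizer (D : Set G) := fun h1 h2 h3 => (ih _ h3).2 _ _ h1 h2 rfl
    have hK : ∀ T : Subgroup G, D ≤ T → T ≤ S → Nat.card (S : Subgroup G) - Nat.card T = m →
        Subgroup.normalizer (Cfsg.dStarOf T : Set G) ≤ Subgroup.normalizer (D : Set G) := by
      intro T hDT hTS hm g hg
      rcases eq_or_ne T S with hTeq | hne
      · rwa [hTeq] at hg
      set U := Cfsg.dStarOf T with hU
      set A := (S : Subgroup G) ⊓ Subgroup.normalizer (U : Set G) with hA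
      have hTA : T < A := by
        have hTN : T ≤ Subgroup.normalizer (U : Set G) :=
          Subgroup.le_normalizer.trans (normalizer_le_normalizer_dStarOf T)
        refine lt_of_le_not_ge (le_inf hTS hTN) fun hle => ?_
        refine CfsgLib.Signalizer.exists_mem_normalizer_of_lt S.isPGroup' (lt_of_le_of_ne hTS hne) ?_
        exact le_trans (inf_le_inf_left _ (normalizer_le_normalizer_dStarOf T)) hle
      -- a Sylow subgroup of `N(U)` above `A`
      obtain ⟨R, hR⟩ := ((S.isPGroup'.to_le inf_le_left).of_equiv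
        (Subgroup.subgroupOfEquivOfLe (inf_le_right : A ≤ _)).symm).exists_le_sylow
      set R' := (R : Subgroup (Subgroup.normalizer (U : Set G))).map (Subgroup.normalizer (U : Set G)).subtype with hR'
      have hAR : A ≤ R' := fun a ha => ⟨⟨a, ha.2⟩, hR ha, rfl⟩
      have hR'i : ¬ p ∣ R'.relIndex (Subgroup.normalizer (U : Set G)) := by
        rw [Subgroup.relIndex, hR', Subgroup.subgroupOf, Subgroup.comap_map_eq_self_of_injective Subtype.val_injective]
        exact R.not_dvd_index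
      obtain ⟨S', hS'⟩ := (R.isPGroup'.map (Subgroup.normalizer (U : Set G)).subtype).exists_le_sylow
      obtain ⟨k, hk⟩ := MulAction.exists_smul_eq G S' S
      have hh : cj R' k⁻¹ ≤ S := by
        rw [← hk]
        rintro _ ⟨a, ha, rfl⟩
        exact ⟨a, hS' ha, by simp [MulDistribMulAction.toMonoidEnd_apply]⟩
      set h := k⁻¹ with hhdef
      have hcardA : Nat.card (S : Subgroup G) - Nat.card A < m := by
        have h1 := CfsgLib.GroupAlperin.card_lt_of_lt hTA
        have h2 : Nat.card A ≤ Nat.card (S : Subgroup G) := Subgroup.card_le_of_le inf_le_left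
        omega
      have hhD : h ∈ Subgroup.normalizer (D : Set G) :=
        hlargeI (hDT.trans hTA.le) inf_le_left hcardA ((cj_mono hAR h).trans hh)
      set T₁ := cj T h with hT₁
      set U' := Cfsg.dStarOf T₁ with hU'
      have hUU' : cj U h = U' := (dStarOf_conj T h⁻¹).symm
      set M₀ := Subgroup.normalizer (U' : Set G) with hM₀
      set T' := cj R' h with hT'
      have hT'M₀ : T' ≤ M₀ := by
        rw [hM₀, ← hUU', ← cj_normalizer]
        exact cj_mono (Subgroup.map_subtype_le _) h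
      have hT'i : ¬ p ∣ T'.relIndex M₀ := by
        rw [hM₀, ← hUU', ← cj_normalizer, hT', relIndex_cj]
        exact hR'i
      have hT₁T' : T₁ ≤ T' := cj_mono (hTA.le.trans hAR) h
      have hT₁S : T₁ ≤ S := hT₁T'.trans hh
      have hDT₁ : D ≤ T₁ := le_normalizer_cj hhD hDT
      have hDU' : D ≤ U' := dStarOf_mono S.isPGroup' hT₁S hDT₁
      have hg' : h⁻¹ * g * h ∈ M₀ := by
        rw [hM₀, ← hUU', ← cj_normalizer, mem_cj]
        simpa [mul_assoc] using hg
      suffices hgD : h⁻¹ * g * h ∈ Subgroup.normalizer (D : Set G) by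
        have := mul_mem (mul_mem hhD hgD) (inv_mem hhD)
        simpa [mul_assoc] using this
      -- `V = T' ∩ C(U')` is Sylow in `C(U')`
      haveI : (U'.subgroupOf M₀).Normal := Subgroup.normal_subgroupOf_of_le_normalizer le_rfl
      set C := (Subgroup.centralizer (U' : Set G)).subgroupOf M₀ with hC
      haveI hCn : C.Normal := Subgroup.normal_subgroupOf_of_le_normalizer
        (CfsgLib.Components.normalizer_le_normalizer_centralizer _)
      have hT'p : IsPGroup p T' := S.isPGroup'.to_le hh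
      let W : Sylow p M₀ := (hT'p.of_equiv (Subgroup.subgroupOfEquivOfLe hT'M₀).symm).toSylow hT'i
      obtain ⟨Q, hQ⟩ := CfsgLib.QDWr.exists_sylow_inf_normal W C
      have hfr := Sylow.normalizer_sup_eq_top Q
      rw [hQ, Subgroup.subgroupOf_map_subtype, inf_eq_left.2 inf_le_right, sup_comm] at hfr
      set V₀ := (W : Subgroup M₀) ⊓ C with hV₀
      obtain ⟨c, hc, n, hn, hcn⟩ := Subgroup.mem_sup_of_normal_left.1 (hfr.ge (Subgroup.mem_top (⟨_, hg'⟩ : M₀)))
      rw [show h⁻¹ * g * h = (c : G) * (n : G) from (congrArg Subtype.val hcn).symm]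
      refine mul_mem (hCD hDU' hc) ?_
      -- inside `N(V)`
      set V := T' ⊓ Subgroup.centralizer (U' : Set G) with hV
      have hVmap : V₀.map M₀.subtype = V := by
        refine le_antisymm ?_ fun v hv => ⟨⟨v, hT'M₀ hv.1⟩, ⟨hv.1, hv.2⟩, rfl⟩
        rintro _ ⟨v, hv, rfl⟩
        exact ⟨hv.1, hv.2⟩
      have hU'T₁ : U' ≤ T₁ := Subgroup.map_subtype_le _
      haveI : IsMulCommutative (Cfsg.dStar T₁) :=
        (CfsgLib.PGroup.dStar_mem_family (S.isPGroup'.to_le hT₁S)).1
      haveI : IsMulCommutative U' := Subgroup.map_isMulCommutative _ _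
      have hU'V : U' ≤ V := le_inf (hU'T₁.trans hT₁T') (Subgroup.le_centralizer U')
      set M := Subgroup.normalizer (V : Set G) ⊓ M₀ with hM
      have hnM : (n : G) ∈ M := by
        refine ⟨?_, n.2⟩
        rw [← hVmap]
        exact Subgroup.le_normalizer_map M₀.subtype ⟨n, hn, rfl⟩
      have hT'M : T' ≤ M := le_inf (CfsgLib.Signalizer.le_normalizer_inf Subgroup.le_normalizer
        (hT'M₀.trans (CfsgLib.Components.normalizer_le_normalizer_centralizer _))) hT'M₀
      let T'' : Sylow p M := (hT'p.of_equiv (Subgroup.subgroupOfEquivOfLe hT'M).symm).toSylow fun hd => hT'i (by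
        rw [← Subgroup.relIndex_mul_relIndex T' M M₀ hT'M inf_le_right]
        exact dvd_mul_of_dvd_left hd _)
      have hVM : V ≤ M := inf_le_left.trans hT'M
      haveI : (V.subgroupOf M).Normal := Subgroup.normal_subgroupOf_of_le_normalizer inf_le_left
      have hVp : IsPGroup p V := hT'p.to_le inf_le_left
      have hcon : Subgroup.centralizer ((V.subgroupOf M : Subgroup M) : Set M) ≤ Cfsg.pPrimePCore p M := by
        refine centralizer_le_pPrimePCore _ (hVp.of_equiv (Subgroup.subgroupOfEquivOfLe hVM).symm) ?_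
        intro X hXC hX
        -- `X V` is a `p`-subgroup of `C`
        have hXV : IsPGroup p ↥(X ⊔ V.subgroupOf M) :=
          hX.to_sup_of_normal_right (hVp.of_equiv (Subgroup.subgroupOfEquivOfLe hVM).symm)
        set Y := X ⊔ V.subgroupOf M with hY
        let j : M →* M₀ := Subgroup.inclusion inf_le_right
        have hYC : Y.map j ≤ C := by
          rw [Subgroup.map_le_iff_le_comap]
          refine sup_le (fun x hx => Subgroup.mem_centralizer_iff.2 fun u hu => ?_) (fun x hx => hx.2)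
          exact congrArg Subtype.val (Subgroup.mem_centralizer_iff.1 (hXC hx) ⟨u, hVM (hU'V hu)⟩ (hU'V hu))
        have hVY : V₀ ≤ Y.map j := fun v hv =>
          ⟨⟨v, hVM ⟨hv.1, hv.2⟩⟩, Subgroup.mem_sup_right (show (v : G) ∈ V from ⟨hv.1, hv.2⟩), rfl⟩
        have hQle : (Q : Subgroup C) ≤ (Y.map j).subgroupOf C := by
          rw [hQ]
          exact Subgroup.comap_mono hVY
        have hQeq := Q.is_maximal' ((hXV.map j).of_equiv (Subgroup.subgroupOfEquivOfLe hYC).symm) hQle
        intro x hx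
        have hxQ : (⟨j x, hYC ⟨x, Subgroup.mem_sup_left hx, rfl⟩⟩ : C) ∈ (Q : Subgroup C) :=
          hQeq ▸ (show j x ∈ Y.map j from ⟨x, Subgroup.mem_sup_left hx, rfl⟩)
        rw [hQ] at hxQ
        exact ⟨hxQ.1, hxQ.2⟩
      obtain ⟨o, m', hom, ho, hm'⟩ := model hp2 hst T'' (V.subgroupOf M)
        (hVp.of_equiv (Subgroup.subgroupOfEquivOfLe hVM).symm) hcon ⟨n, hnM⟩
      rw [show (n : G) = (o : G) * (m' : G) from congrArg Subtype.val hom]
      refine mul_mem ?_ ?_
      · refine hCD (le_refl D) (Subgroup.mem_centralizer_iff.2 fun d hd => ?_)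
        exact (congrArg Subtype.val (ho ⟨d, hVM (hU'V (hDU' hd))⟩ (hU'V (hDU' hd)))).symm
      · have hT'' : (T'' : Subgroup M).map M.subtype = T' :=
          (Subgroup.subgroupOf_map_subtype T' M).trans (inf_eq_left.2 hT'M)
        rw [hT''] at hm'
        refine hlargeK (le_normalizer_cj hhD ((hDT.trans hTA.le).trans hAR)) hh ?_ hm'
        have h1 : Nat.card A ≤ Nat.card (cj R' h) := by
          rw [card_cj]
          exact Subgroup.card_le_of_le hAR
        have h1' : Nat.card T < Nat.card A := CfsgLib.GroupAlperin.card_lt_of_lt hTA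
        have h2 : Nat.card (cj R' h) ≤ Nat.card (S : Subgroup G) := Subgroup.card_le_of_le hh
        omega
    refine ⟨hK, fun A g hDA hAS hm hAg => ?_⟩
    obtain ⟨c, hc, y, hy, rfl⟩ := fusion S _ A g hAS hAg rfl
    refine mul_mem (hCD hDA hc) ?_
    clear hAg hc
    induction hy with
    | nil _ => exact one_mem _
    | @cons T Q x y hQ hx hTQ _ ih' =>
      have hQS := hQ.1
      suffices hxD : x ∈ Subgroup.normalizer (D : Set G) by
        refine mul_mem hxD (ih' (le_normalizer_cj hxD hDA) ?_ ?_)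
        · exact (cj_mono hTQ x).trans ((cj_eq_self hx).le.trans hQS)
        · rw [card_cj]; exact hm
      by_cases hlt : Nat.card T < Nat.card Q
      · refine hlargeI (hDA.trans hTQ) hQS ?_ (by rw [cj_eq_self hx]; exact hQS)
        have := Subgroup.card_le_of_le hQS
        omega
      set M := Subgroup.normalizer (Q : Set G) with hM
      obtain ⟨W, hW⟩ := exists_sylow_subgroupOf hQ.2.2.2
      haveI : (Q.subgroupOf M).Normal := Subgroup.normal_subgroupOf_of_le_normalizer le_rfl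
      have hQM : Q ≤ M := Subgroup.le_normalizer
      have hcon : Subgroup.centralizer ((Q.subgroupOf M : Subgroup M) : Set M) ≤ Cfsg.pPrimePCore p M := fun z hz => by
        obtain ⟨a, ha, hac⟩ := hQ.2.1 (Subgroup.mem_centralizer_iff.2 fun v hv =>
          congrArg Subtype.val (Subgroup.mem_centralizer_iff.1 hz ⟨v, hQM hv⟩ hv) : (z : G) ∈ Subgroup.centralizer (Q : Set G))
        rwa [← Subtype.ext (a1 := a) (a2 := z) hac]
      obtain ⟨o, m', hom, ho, hm'⟩ := model hp2 hst W (Q.subgroupOf M)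
        ((S.isPGroup'.to_le hQS).of_equiv (Subgroup.subgroupOfEquivOfLe hQM).symm) hcon ⟨x, hx⟩
      rw [show x = (o : G) * (m' : G) from congrArg Subtype.val hom]
      refine mul_mem ?_ ?_
      · refine hCD (le_refl D) (Subgroup.mem_centralizer_iff.2 fun d hd => ?_)
        exact (congrArg Subtype.val (ho ⟨d, hQM (hTQ (hDA hd))⟩ (hTQ (hDA hd)))).symm
      · rw [hW, Subgroup.subgroupOf_map_subtype, inf_eq_left.2 inf_le_right] at hm'
        set T₂ := (S : Subgroup G) ⊓ M with hT₂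
        have hTT₂ : T ≤ T₂ := hTQ.trans (le_inf hQS hQM)
        have hle2 := Subgroup.card_le_of_le hTT₂
        have hle3 : Nat.card T₂ ≤ Nat.card (S : Subgroup G) := Subgroup.card_le_of_le inf_le_left
        by_cases heq : Nat.card T₂ = Nat.card T
        · exact hK T₂ (hDA.trans hTT₂) inf_le_left (by omega) hm'
        · exact hlargeK (hDA.trans hTT₂) inf_le_left (by omega) hm'

/-- Fusion is controlled by the normalizer of `D*(S)`. -/
theorem control (hp2 : p ≠ 2) (hst : Cfsg.IsNormalizerPStable p G) (S : Sylow p G) {P : Subgroup G} {g : G}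
    (hPS : P ≤ S) (hcj : cj P g ≤ (S : Subgroup G)) :
    ∃ c ∈ Subgroup.centralizer (P : Set G), ∃ y ∈ Subgroup.normalizer (Cfsg.dStarOf (S : Subgroup G) : Set G),
      cj P y ≤ (S : Subgroup G) ∧ g = c * y := by
  obtain ⟨c, hc, y, hy, rfl⟩ := fusion S _ P g hPS hcj rfl
  refine ⟨c, hc, y, ?_, ?_, rfl⟩
  · clear hc hcj
    induction hy with
    | nil _ => exact one_mem _
    | @cons T Q x y hQ hx hTQ _ ih' =>
      exact mul_mem ((key hp2 hst S _).2 Q x (dStar_le_good hst S hQ) hQ.1 rfl ((cj_eq_self hx).le.trans hQ.1))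
        (ih' ((cj_mono hTQ x).trans ((cj_eq_self hx).le.trans hQ.1)))
  · rwa [← cj_cj, cj_of_centralizer hc] at hcj

theorem dStar_isNormal (hp2 : p ≠ 2) (hst : Cfsg.IsNormalizerPStable p G) (S : Sylow p G) :
    (Cfsg.groupFusionSystem (S : Subgroup G)).IsNormal (Cfsg.dStarOf (S : Subgroup G)) := by
  set D := Cfsg.dStarOf (S : Subgroup G) with hD
  have hDS : D ≤ S := Subgroup.map_subtype_le _
  refine ⟨hDS, fun P φ hφ => ?_⟩
  obtain ⟨hPS, hφS, g, hg⟩ := hφ
  have hcj : cj P g⁻¹ ≤ (S : Subgroup G) := by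
    rintro _ ⟨a, ha, rfl⟩
    have := hφS ⟨a, ha⟩
    rw [hg] at this
    simpa using this
  obtain ⟨c, hc, y, hyN, hcy, hgy⟩ := control hp2 hst S hPS hcj
  have hyD : y ∈ Subgroup.normalizer (D : Set G) ∧ cj P y ≤ (S : Subgroup G) := ⟨hyN, hcy⟩
  let ψ : ↥(P ⊔ D) →* G := (MulAut.conj y⁻¹).toMonoidHom.comp (P ⊔ D).subtype
  have hψ : ∀ x : ↥(P ⊔ D), ψ x = y⁻¹ * (x : G) * y := fun x => by simp [ψ]
  have hmem : cj (P ⊔ D) y ≤ (S : Subgroup G) := by
    rw [cj, Subgroup.map_sup]
    exact sup_le hyD.2 ((cj_eq_self hyD.1).le.trans hDS)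
  refine ⟨ψ, ⟨sup_le hPS hDS, fun x => hmem ⟨x, x.2, rfl⟩, y⁻¹, fun x => by simp [ψ]⟩, fun x => ?_, ?_⟩
  · rw [hψ, hg, Subgroup.coe_inclusion]
    have h1 := Subgroup.mem_centralizer_iff.1 hc _ x.2
    rw [show g = y⁻¹ * c⁻¹ by rw [← inv_inv g, hgy, mul_inv_rev]]
    calc y⁻¹ * (x : G) * y = y⁻¹ * (c⁻¹ * (c * (x : G))) * y := by group
      _ = y⁻¹ * c⁻¹ * (x : G) * (y⁻¹ * c⁻¹)⁻¹ := by rw [← h1]; group
  · show (D.subgroupOf (P ⊔ D)).map ((MulAut.conj y⁻¹).toMonoidHom.comp (P ⊔ D).subtype) = D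
    rw [← Subgroup.map_map, Subgroup.subgroupOf_map_subtype, inf_eq_left.2 le_sup_right]
    exact cj_eq_self hyD.1

end CfsgLib.StableDStar
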