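import Cfsg.Agent.QdFree.Section
import Cfsg.Agent.QdFree.SectionLift
import Cfsg.Agent.Fusion.StableDStar

/-!
For `p ≥ 5`, `p`-stability passes to the quotient by a central `p`-subgroup.
-/

set_option autoImplicit false
set_option linter.style.haveILetI false

open Matrix
open scoped commutatorElement Pointwise

universe u

namespace CfsgLib.StableQuotient

open CfsgLib.QdFree

variable {p : ℕ} [hp : Fact p.Prime]

/-- The irreducible quadratic pair module, with the action of the section `SL₂(p)`. -/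
theorem sl2_of_irreducible (hp2 : p ≠ 2) {E : Type u} [Group E] [Finite E] (V : Subgroup E) [V.Normal]
    (hVc : ∀ v ∈ V, ∀ w ∈ V, v * w = w * v) (hVe : ∀ v ∈ V, v ^ p = 1) (a b : E)
    (hgen : Subgroup.closure {a, b} ⊔ V = ⊤) (ha : ∀ v ∈ V, ⁅a, ⁅a, v⁆⁆ = 1) (hb : ∀ v ∈ V, ⁅b, ⁅b, v⁆⁆ = 1)
    (hirr : ∀ W : Subgroup E, W.Normal → W ≤ V → W = ⊥ ∨ W = V)
    (hne : ∃ y : E, (orderOf y).Coprime p ∧ y ∉ Subgroup.centralizer (V : Set E)) :
    ∃ (X : Subgroup E) (f : X →* SpecialLinearGroup (Fin 2) (ZMod p)), Function.Surjective f ∧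
      Subgroup.centralizer (V : Set E) ≤ X ∧
      (∀ x : X, f x = 1 ↔ (x : E) ∈ Subgroup.centralizer (V : Set E)) ∧
      (∀ x : X, f x = -1 → ∀ v ∈ V, (x : E) * v * (x : E)⁻¹ = v⁻¹) ∧
      (∀ x : X, f x = CfsgLib.H29.SL2.upper 1 → ∀ v ∈ V, ⁅(x : E), ⁅(x : E), v⁆⁆ = 1) := by
  classical
  letI cgV : CommGroup V := { (inferInstance : Group V) with mul_comm := fun v w => Subtype.ext (hVc v v.2 w w.2) }
  have hcm : ∀ (x : E) (v : V), ⁅x, (v : E)⁆ ∈ V := fun x v => by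
    rw [commutatorElement_def]
    exact V.mul_mem (‹V.Normal›.conj_mem v v.2 x) (V.inv_mem v.2)
  let D : E → AddMonoid.End (Additive V) := fun x => AddMonoidHom.mk'
    (fun v => Additive.ofMul ⟨⁅x, ((Additive.toMul v : V) : E)⁆, hcm x _⟩) fun v w => by
      refine congrArg Additive.ofMul (Subtype.ext ?_)
      set v' : V := Additive.toMul v
      set w' : V := Additive.toMul w
      show ⁅x, (v' : E) * w'⁆ = ⁅x, (v' : E)⁆ * ⁅x, (w' : E)⁆
      have h := hVc _ (hcm x w') _ v'.2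
      calc ⁅x, (v' : E) * w'⁆ = ⁅x, (v' : E)⁆ * ((v' : E) * ⁅x, (w' : E)⁆ * (v' : E)⁻¹) := by
            rw [commutatorElement_def, commutatorElement_def, commutatorElement_def]; group
        _ = ⁅x, (v' : E)⁆ * ⁅x, (w' : E)⁆ := by rw [← h, mul_inv_cancel_right]
  have hD : ∀ x (v : V), ((Additive.toMul (D x (Additive.ofMul v)) : V) : E) = ⁅x, (v : E)⁆ := fun _ _ => rfl
  have hDsq : ∀ x, (∀ v ∈ V, ⁅x, ⁅x, v⁆⁆ = 1) → D x * D x = 0 := fun x hx =>
    AddMonoidHom.ext fun v => congrArg Additive.ofMul (Subtype.ext (hx _ (Additive.toMul v).2))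
  -- if `a` centralized `V`, the automizer would be a `p`-group
  have hA0 : D a ≠ 0 := by
    intro h
    obtain ⟨y, hy, hyC⟩ := hne
    set C := Subgroup.centralizer (V : Set E) with hC
    haveI : C.Normal := Subgroup.normal_centralizer
    have haC : a ∈ C := Subgroup.mem_centralizer_iff.2 fun v hv => by
      have h1 : ⁅a, v⁆ = 1 := congrArg (fun t : Additive V => ((Additive.toMul t : V) : E))
        (DFunLike.congr_fun h (Additive.ofMul (⟨v, hv⟩ : V)))
      exact (commutatorElement_eq_one_iff_mul_comm.1 h1).symm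
    have hbp : b ^ p ∈ C := Subgroup.mem_centralizer_iff.2 fun v hv => by
      have hz := commutatorElement_eq_one_iff_mul_comm.1 (hb v hv)
      have hn : ∀ n : ℕ, b ^ n * v * (b ^ n)⁻¹ = ⁅b, v⁆ ^ n * v := by
        intro n
        induction n with
        | zero => simp
        | succ n ih =>
          calc b ^ (n + 1) * v * (b ^ (n + 1))⁻¹ = b * (b ^ n * v * (b ^ n)⁻¹) * b⁻¹ := by
                rw [pow_succ']; group
            _ = b * ⁅b, v⁆ ^ n * (v * b⁻¹) := by rw [ih]; group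
            _ = ⁅b, v⁆ ^ n * b * (v * b⁻¹) := by rw [(Commute.pow_right hz n).eq]
            _ = ⁅b, v⁆ ^ (n + 1) * v := by rw [pow_succ, commutatorElement_def]; group
      have h1 := hn p
      rw [hVe _ (hcm b ⟨v, hv⟩), one_mul, mul_inv_eq_iff_eq_mul] at h1
      exact h1.symm
    have hle : (⊤ : Subgroup E) ≤ C ⊔ Subgroup.zpowers b := by
      rw [← hgen]
      refine sup_le ((Subgroup.closure_le _).2 ?_) (le_sup_of_le_left fun v hv =>
        Subgroup.mem_centralizer_iff.2 fun w hw => hVc w hw v hv)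
      rintro z (rfl | rfl)
      exacts [(le_sup_left : C ≤ _) haC, (le_sup_right : Subgroup.zpowers _ ≤ _) (Subgroup.mem_zpowers _)]
    obtain ⟨c, hc, z, hz, rfl⟩ := Subgroup.mem_sup_of_normal_left.1 (hle (Subgroup.mem_top y))
    obtain ⟨n, rfl⟩ := Subgroup.mem_zpowers_iff.1 hz
    apply hyC
    have h1 : ((c * b ^ n : E) : E ⧸ C) ^ p = 1 := by
      rw [QuotientGroup.mk_mul, (QuotientGroup.eq_one_iff c).2 hc, one_mul, QuotientGroup.mk_zpow,
        ← zpow_natCast, zpow_comm, zpow_natCast, ← QuotientGroup.mk_pow, (QuotientGroup.eq_one_iff _).2 hbp,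
        _root_.one_zpow]
    refine (QuotientGroup.eq_one_iff _).1 (orderOf_eq_one_iff.1 (Nat.eq_one_of_dvd_coprimes hy
      (orderOf_map_dvd (QuotientGroup.mk' C) (c * b ^ n)) (orderOf_dvd_of_pow_eq_one h1)))
  obtain ⟨k, _, _, _, lam, e, hlam, he⟩ := exists_coords (V := Additive V) p
    (fun v => congrArg Additive.ofMul (Subtype.ext (hVe _ (Additive.toMul v).2)))
    (D a) (D b) (hDsq a ha) (hDsq b hb) hA0 fun W hWa hWb => by
    set W' : Subgroup E := (AddSubgroup.toSubgroup' W).map V.subtype with hW'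
    have hmem : ∀ v : V, Additive.ofMul v ∈ W ↔ (v : E) ∈ W' := fun v => by
      rw [hW']
      exact ⟨fun h => ⟨v, h, rfl⟩, fun ⟨w, hw, hwv⟩ => by rwa [Subtype.ext hwv] at hw⟩
    have hle : W' ≤ V := Subgroup.map_subtype_le _
    have hnorm : ∀ x, (∀ w ∈ W, D x w ∈ W) → x ∈ Subgroup.normalizer (W' : Set E) := fun x hx =>
      Subgroup.mem_normalizer_fintype fun v hv => by
        have h1 := (hmem (⟨_, hcm x ⟨v, hle hv⟩⟩ : V)).1 (hx _ ((hmem ⟨v, hle hv⟩).2 hv))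
        have h2 := W'.mul_mem h1 hv
        rwa [show ⁅x, v⁆ * v = x * v * x⁻¹ by group] at h2
    have hWn : W'.Normal := by
      rw [← Subgroup.normalizer_eq_top_iff, eq_top_iff, ← hgen]
      refine sup_le ((Subgroup.closure_le _).2 ?_) fun v hv => ?_
      · rintro z (rfl | rfl)
        exacts [hnorm _ hWa, hnorm _ hWb]
      · exact Subgroup.centralizer_le_normalizer _
          (Subgroup.mem_centralizer_iff.2 fun w hw => hVc w (hle hw) v hv)
    rcases hirr W' hWn hle with h | h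
    · refine Or.inl (eq_bot_iff.2 fun w hw => ?_)
      have := (hmem (Additive.toMul w)).1 hw
      rw [h, Subgroup.mem_bot, OneMemClass.coe_eq_one] at this
      exact (AddSubgroup.mem_bot).2 this
    · refine Or.inr (eq_top_iff.2 fun w _ => ?_)
      exact (hmem (Additive.toMul w)).2 (h.ge (Additive.toMul w).2)
  -- coordinates
  let c : V → (Fin 2 → k) := fun v => ![(e (Additive.ofMul v)).1, (e (Additive.ofMul v)).2]
  have hcmul : ∀ v w, c (v * w) = c v + c w := fun v w => by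
    have h : e (Additive.ofMul (v * w)) = e (Additive.ofMul v) + e (Additive.ofMul w) :=
      map_add e (Additive.ofMul v) (Additive.ofMul w)
    funext i
    fin_cases i <;> simp [c, h]
  have hcinj : Function.Injective c := fun v w h => by
    have h0 := congrFun h 0
    have h1 := congrFun h 1
    simp [c] at h0 h1
    exact Additive.ofMul.injective (e.injective (Prod.ext h0 h1))
  have hcsurj : Function.Surjective c := fun r => ⟨Additive.toMul (e.symm (r 0, r 1)), by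
    funext i
    fin_cases i <;> simp [c]⟩
  let act : E → V → V := fun x v => ⟨x * v * x⁻¹, ‹V.Normal›.conj_mem v v.2 x⟩
  have hact : ∀ x (v : V), c (act x v) = c (Additive.toMul (D x (Additive.ofMul v))) + c v := fun x v => by
    rw [← hcmul]
    exact congrArg c (Subtype.ext (by simp [act, hD, commutatorElement_def]))
  let R : Subgroup E :=
    { carrier := {x | ∃ M : SpecialLinearGroup (Fin 2) k, ∀ v, c (act x v) = M.1 *ᵥ c v}
      one_mem' := ⟨1, fun v => by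
        rw [sl_one, one_mulVec]
        exact congrArg c (Subtype.ext (by simp [act]))⟩
      mul_mem' := by
        rintro x y ⟨M, hM⟩ ⟨N, hN⟩
        refine ⟨M * N, fun v => ?_⟩
        rw [sl_mul, ← mulVec_mulVec, ← hN, ← hM]
        exact congrArg c (Subtype.ext (by simp [act, mul_assoc]))
      inv_mem' := by
        rintro x ⟨M, hM⟩
        refine ⟨M⁻¹, fun v => ?_⟩
        have h1 : act x (act x⁻¹ v) = v := Subtype.ext (by simp [act, mul_assoc])
        conv_rhs => rw [← h1, hM, mulVec_mulVec, ← sl_mul, inv_mul_cancel,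
          sl_one, one_mulVec] }
  have haM : ∀ v, c (act a v) = (CfsgLib.H29.SL2.upper lam).1 *ᵥ c v := fun v => by
    rw [hact]
    have h := (he (Additive.ofMul v)).1
    funext i
    fin_cases i <;> simp [c, h, CfsgLib.H29.SL2.coe_upper, CfsgLib.H29.SL2.coe_lower, add_comm, mul_comm]
  have hbM : ∀ v, c (act b v) = (CfsgLib.H29.SL2.lower (1 : k)).1 *ᵥ c v := fun v => by
    rw [hact]
    have h := (he (Additive.ofMul v)).2
    funext i
    fin_cases i <;> simp [c, h, CfsgLib.H29.SL2.coe_upper, CfsgLib.H29.SL2.coe_lower, add_comm]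
  have hVM : ∀ x ∈ V, ∀ v, c (act x v) = (1 : SpecialLinearGroup (Fin 2) k).1 *ᵥ c v := fun x hx v => by
    rw [sl_one, one_mulVec]
    exact congrArg c (Subtype.ext (by simp [act, hVc x hx v v.2]))
  have hR : ∀ x : E, x ∈ R := fun x => by
    refine (show (⊤ : Subgroup E) ≤ R from ?_) (Subgroup.mem_top x)
    rw [← hgen]
    refine sup_le ((Subgroup.closure_le _).2 ?_) fun v hv => ⟨1, hVM v hv⟩
    rintro z (rfl | rfl)
    exacts [⟨_, haM⟩, ⟨_, hbM⟩]
  choose Mf hMf using hR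
  have huniq : ∀ x M, (∀ v, c (act x v) = (M : SpecialLinearGroup (Fin 2) k).1 *ᵥ c v) → Mf x = M := by
    intro x M hM
    refine Subtype.ext (Matrix.ext_iff_mulVec.2 fun r => ?_)
    obtain ⟨v, rfl⟩ := hcsurj r
    rw [← hMf, hM]
  let ρ : E →* SpecialLinearGroup (Fin 2) k := MonoidHom.mk' Mf fun x y => huniq _ _ fun v => by
    rw [sl_mul, ← mulVec_mulVec, ← hMf y, ← hMf x]
    exact congrArg c (Subtype.ext (by simp [act, mul_assoc]))
  obtain ⟨γ, hγ⟩ := exists_conj_castSL p hp2 hlam ρ.range ⟨a, huniq a _ haM⟩ ⟨b, huniq b _ hbM⟩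
  let Φ := (conjSL γ).comp (castSL (k := k) p)
  have hγ' : (↑γ⁻¹ : Matrix (Fin 2) (Fin 2) k) * (γ : Matrix (Fin 2) (Fin 2) k) = 1 := by
    rw [← Units.val_mul, inv_mul_cancel, Units.val_one]
  have hΦ : ∀ M w, (Φ M).1 *ᵥ ((γ : Matrix (Fin 2) (Fin 2) k) *ᵥ (fun i => ZMod.castHom dvd_rfl k (w i))) =
      (γ : Matrix (Fin 2) (Fin 2) k) *ᵥ fun i => ZMod.castHom dvd_rfl k ((M.1 *ᵥ w) i) := by
    intro M w
    rw [mulVec_mulVec]
    show ((γ : Matrix (Fin 2) (Fin 2) k) * M.1.map (ZMod.castHom dvd_rfl k) * (↑γ⁻¹ : Matrix (Fin 2) (Fin 2) k) *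
      (γ : Matrix (Fin 2) (Fin 2) k)) *ᵥ _ = _
    rw [mul_assoc _ _ (γ : Matrix (Fin 2) (Fin 2) k), hγ', mul_one, ← mulVec_mulVec]
    congr 1
    funext i
    exact (RingHom.map_mulVec _ _ _ i).symm
  have hcastinj : Function.Injective (ZMod.castHom dvd_rfl k : ZMod p →+* k) := RingHom.injective _
  have hΦinj : Function.Injective Φ := fun M N h => Subtype.ext (Matrix.ext_iff_mulVec.2 fun w => by
    have h1 := congrArg ((↑γ⁻¹ : Matrix (Fin 2) (Fin 2) k) *ᵥ ·) ((hΦ M w).symm.trans (h ▸ hΦ N w))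
    simp only [mulVec_mulVec, hγ', one_mulVec] at h1
    exact funext fun i => hcastinj (congrFun h1 i))
  set X := Φ.range.comap ρ with hX
  let f : X →* SpecialLinearGroup (Fin 2) (ZMod p) :=
    (MonoidHom.ofInjective hΦinj).symm.toMonoidHom.comp ((ρ.comp X.subtype).codRestrict Φ.range fun x => x.2)
  have hf : ∀ x : X, Φ (f x) = ρ x := fun x =>
    congrArg Subtype.val ((MonoidHom.ofInjective hΦinj).apply_symm_apply ⟨ρ x, x.2⟩)
  have hfs : Function.Surjective f := fun M => by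
    obtain ⟨x, hx⟩ := hγ M
    exact ⟨⟨x, M, hx.symm⟩, hΦinj ((hf _).trans hx)⟩
  have hρC : ∀ x : E, ρ x = 1 ↔ x ∈ Subgroup.centralizer (V : Set E) := by
    intro x
    constructor
    · intro h
      refine Subgroup.mem_centralizer_iff.2 fun v hv => ?_
      have h1 : act x ⟨v, hv⟩ = ⟨v, hv⟩ := hcinj (by
        rw [hMf]
        show (ρ x).1 *ᵥ _ = _
        rw [h, sl_one, one_mulVec])
      exact (mul_inv_eq_iff_eq_mul.1 (congrArg Subtype.val h1)).symm
    · intro h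
      refine huniq x 1 fun v => ?_
      rw [sl_one, one_mulVec]
      refine congrArg c (Subtype.ext ?_)
      show x * v * x⁻¹ = v
      rw [← Subgroup.mem_centralizer_iff.1 h v v.2, mul_inv_cancel_right]
  have hdiff : ∀ (x : E) (v : V), c (Additive.toMul (D x (Additive.ofMul v))) = ((ρ x).1 - 1) *ᵥ c v := by
    intro x v
    rw [sub_mulVec, one_mulVec]
    show _ = (Mf x).1 *ᵥ c v - c v
    rw [← hMf, hact, add_sub_cancel_right]
  refine ⟨X, f, hfs, fun x hx => ⟨1, by rw [map_one]; exact ((hρC x).2 hx).symm⟩, fun x => ?_, ?_, ?_⟩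
  · rw [← hρC, ← hf]
    exact ⟨fun h => by rw [h, map_one], fun h => hΦinj (h.trans (map_one Φ).symm)⟩
  · intro x hx v hv
    have hm : Φ (-1) = -1 := by
      refine Subtype.ext ?_
      show (γ : Matrix (Fin 2) (Fin 2) k) * ((-1 : SpecialLinearGroup (Fin 2) (ZMod p)).1.map
        (ZMod.castHom dvd_rfl k)) * (↑γ⁻¹ : Matrix (Fin 2) (Fin 2) k) = _
      rw [SpecialLinearGroup.coe_neg, sl_one, SpecialLinearGroup.coe_neg, sl_one,
        Matrix.map_neg _ (map_neg _), Matrix.map_one _ (map_zero _) (map_one _), mul_neg, mul_one, neg_mul,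
        ← Units.val_mul, mul_inv_cancel, Units.val_one]
    have h1 : c (act x ⟨v, hv⟩) = c (⟨v, hv⟩⁻¹ : V) := by
      rw [hMf]
      show (ρ x).1 *ᵥ _ = _
      rw [← hf, hx, hm, SpecialLinearGroup.coe_neg, sl_one, neg_mulVec, one_mulVec]
      have h2 := hcmul (⟨v, hv⟩⁻¹ : V) ⟨v, hv⟩
      rw [inv_mul_cancel] at h2
      have h3 := hcmul 1 1
      rw [one_mul] at h3
      rw [show c 1 = 0 from left_eq_add.1 h3] at h2
      exact (eq_neg_of_add_eq_zero_left h2.symm).symm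
    exact congrArg Subtype.val (hcinj h1)
  · intro x hx v hv
    have hN : ((ρ x).1 - 1) * ((ρ x).1 - 1) = 0 := by
      have hU : ((CfsgLib.H29.SL2.upper (1 : ZMod p)).1 - 1) * ((CfsgLib.H29.SL2.upper (1 : ZMod p)).1 - 1) = 0 := by
        rw [CfsgLib.H29.SL2.coe_upper]
        ext i j
        fin_cases i <;> fin_cases j <;> simp [Matrix.mul_apply, Fin.sum_univ_two]
      have e : (Φ (CfsgLib.H29.SL2.upper 1)).1 - 1 = (γ : Matrix (Fin 2) (Fin 2) k) *
          ((CfsgLib.H29.SL2.upper (1 : ZMod p)).1 - 1).map (ZMod.castHom dvd_rfl k) * (↑γ⁻¹ : Matrix (Fin 2) (Fin 2) k) := by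
        rw [Matrix.map_sub _ (map_sub _), Matrix.map_one _ (map_zero _) (map_one _), mul_sub, sub_mul, mul_one,
          ← Units.val_mul, mul_inv_cancel, Units.val_one]
        rfl
      rw [← hf, hx, e]
      calc _ = (γ : Matrix (Fin 2) (Fin 2) k) * (((CfsgLib.H29.SL2.upper (1 : ZMod p)).1 - 1).map (ZMod.castHom dvd_rfl k) *
            ((CfsgLib.H29.SL2.upper (1 : ZMod p)).1 - 1).map (ZMod.castHom dvd_rfl k)) * (↑γ⁻¹ : Matrix (Fin 2) (Fin 2) k) := by
            simp only [mul_assoc]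
            rw [← mul_assoc (↑γ⁻¹ : Matrix (Fin 2) (Fin 2) k) (γ : Matrix (Fin 2) (Fin 2) k), hγ', one_mul]
        _ = 0 := by rw [← Matrix.map_mul, hU, Matrix.map_zero _ (map_zero _), mul_zero, zero_mul]
    have h1 : c (⟨_, hcm x (⟨_, hcm x ⟨v, hv⟩⟩ : V)⟩ : V) = c 1 := by
      show c (Additive.toMul (D x (Additive.ofMul (⟨_, hcm x ⟨v, hv⟩⟩ : V)))) = c 1
      rw [hdiff]
      show _ *ᵥ c (Additive.toMul (D x (Additive.ofMul (⟨v, hv⟩ : V)))) = _
      rw [hdiff, mulVec_mulVec, hN, zero_mulVec]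
      have h3 := hcmul 1 1
      rw [one_mul] at h3
      exact (left_eq_add.1 h3).symm
    exact congrArg Subtype.val (hcinj h1)

theorem exists_coprime_lift {G H : Type*} [Group G] [Finite G] [Group H] [Finite H] (f : G →* H) (g : G)
    (hg : (orderOf (f g)).Coprime p) : ∃ c ∈ Subgroup.zpowers g, (orderOf c).Coprime p ∧ f c = f g := by
  obtain ⟨s, c, hsc, -, ⟨k, hk⟩, hc, hs, hcz⟩ := CfsgLib.Transfer.exists_pPart_mul (p := p) g
  refine ⟨c, hcz, hc, ?_⟩
  have h1 : f s = 1 := by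
    obtain ⟨i, hi⟩ := Subgroup.mem_zpowers_iff.1 hs
    rw [← orderOf_eq_one_iff]
    exact Nat.eq_one_of_dvd_coprimes ((hg.symm.pow_left k))
      (hk ▸ orderOf_map_dvd f s) (hi ▸ (by rw [map_zpow]; exact orderOf_dvd_of_mem_zpowers (Subgroup.zpow_mem_zpowers _ i)))
  rw [hsc, map_mul, h1, one_mul]

/-- For `p ≥ 5` an upper transvection is a product of two `p'`-elements. -/
theorem upper_eq_mul (h5 : 5 ≤ p) : ∃ e₁ e₂ : SpecialLinearGroup (Fin 2) (ZMod p),
    (orderOf e₁).Coprime p ∧ (orderOf e₂).Coprime p ∧ CfsgLib.H29.SL2.upper 1 = e₁ * e₂ := by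
  have h2 : (2 : ZMod p) ≠ 0 := fun h => by
    exact absurd (Nat.le_of_dvd two_pos ((ZMod.natCast_eq_zero_iff 2 p).1 (by exact_mod_cast h))) (by omega)
  have h3 : (3 : ZMod p) ≠ 0 := fun h =>
    absurd (Nat.le_of_dvd three_pos ((ZMod.natCast_eq_zero_iff 3 p).1 (by exact_mod_cast h))) (by omega)
  set u : (ZMod p)ˣ := Units.mk0 2 h2
  set s : ZMod p := (3 : ZMod p)⁻¹
  have hd : ∀ n : ℕ, CfsgLib.H29.SL2.diag u ^ n = CfsgLib.H29.SL2.diag (u ^ n) := by
    intro n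
    induction n with
    | zero => ext i j; fin_cases i <;> fin_cases j <;> simp [CfsgLib.H29.SL2.coe_diag]
    | succ n ih =>
      rw [pow_succ, ih]
      refine Subtype.ext ?_
      rw [Matrix.SpecialLinearGroup.coe_mul, CfsgLib.H29.SL2.coe_diag, CfsgLib.H29.SL2.coe_diag,
        CfsgLib.H29.SL2.coe_diag, Matrix.mul_fin_two, pow_succ u n, _root_.mul_inv_rev,
        mul_comm u⁻¹ (u ^ n)⁻¹, Units.val_mul, Units.val_mul]
      simp only [mul_zero, zero_mul, add_zero, zero_add]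
  have hu : (orderOf (CfsgLib.H29.SL2.diag u)).Coprime p := by
    refine Nat.Coprime.coprime_dvd_left (orderOf_dvd_of_pow_eq_one (n := p - 1) ?_) ?_
    · rw [hd, ZMod.units_pow_card_sub_one_eq_one]
      ext i j
      fin_cases i <;> fin_cases j <;> simp [CfsgLib.H29.SL2.coe_diag]
    · exact ((hp.out.coprime_iff_not_dvd).2 (Nat.not_dvd_of_pos_of_lt (by omega) (by omega))).symm
  refine ⟨CfsgLib.H29.SL2.diag u,
    CfsgLib.H29.SL2.upper s * (CfsgLib.H29.SL2.diag u)⁻¹ * (CfsgLib.H29.SL2.upper s)⁻¹, hu, ?_, ?_⟩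
  · rw [show CfsgLib.H29.SL2.upper s * (CfsgLib.H29.SL2.diag u)⁻¹ * (CfsgLib.H29.SL2.upper s)⁻¹ =
      MulAut.conj (CfsgLib.H29.SL2.upper s) (CfsgLib.H29.SL2.diag u)⁻¹ from rfl,
      MulEquiv.orderOf_eq, orderOf_inv]
    exact hu
  ·
    rw [← mul_assoc, ← mul_assoc, eq_mul_inv_iff_mul_eq, eq_mul_inv_iff_mul_eq, ← CfsgLib.H29.SL2.upper_add]
    refine Subtype.ext ?_
    simp only [Matrix.SpecialLinearGroup.coe_mul, CfsgLib.H29.SL2.coe_upper, CfsgLib.H29.SL2.coe_diag, Matrix.mul_fin_two]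
    have hs : (3 : ZMod p) * s = 1 := mul_inv_cancel₀ h3
    have h5' : (2 : ZMod p) * s = (1 + s) * (2 : ZMod p)⁻¹ := by
      rw [eq_mul_inv_iff_mul_eq₀ h2]; linear_combination hs
    ext i j
    fin_cases i <;> fin_cases j <;> simp [u, h5']

/-- The core: two elements quadratic modulo a central subgroup act on a `p`-subgroup as a `p`-group. -/
theorem pair_false (h5 : 5 ≤ p) {G : Type u} [Group G] [Finite G] (hst : Cfsg.IsNormalizerPStable p G)
    {Z P : Subgroup G} (hZc : Z ≤ Subgroup.center G) (hP : IsPGroup p P) (hZP : Z ≤ P) {g h : G}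
    (hg : g ∈ Subgroup.normalizer (P : Set G)) (hh : h ∈ Subgroup.normalizer (P : Set G))
    (qg : ∀ v ∈ P, ⁅g, ⁅g, v⁆⁆ ∈ Z) (qh : ∀ v ∈ P, ⁅h, ⁅h, v⁆⁆ ∈ Z)
    (hy : ∃ y ∈ Subgroup.closure {g, h} ⊔ Z, (orderOf y).Coprime p ∧ y ∉ Subgroup.centralizer (P : Set G)) :
    False := by
  classical
  have hp2 : p ≠ 2 := by omega
  set H := Subgroup.closure {g, h} ⊔ Z with hH
  have hHP : H ≤ Subgroup.normalizer (P : Set G) := sup_le ((Subgroup.closure_le _).2 (by
    rintro z (rfl | rfl)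
    exacts [hg, hh])) (hZc.trans (Subgroup.center_le_normalizer _))
  set Bad : Set (Subgroup G) := {Q | Z ≤ Q ∧ Q ≤ P ∧ H ≤ Subgroup.normalizer (Q : Set G) ∧
    ∃ y ∈ H, (orderOf y).Coprime p ∧ y ∉ Subgroup.centralizer (Q : Set G)} with hBad
  obtain ⟨Q, ⟨hZQ, hQP, hHQ, y₀, hyH, hyp, hyQ⟩, hQmin⟩ := Set.exists_min_image Bad (fun Q => Nat.card Q)
    (Set.toFinite _) ⟨P, hZP, le_rfl, hHP, hy⟩
  have hQp : IsPGroup p Q := hP.to_le hQP
  have hcentral : ∀ z ∈ Z, ∀ x : G, x * z = z * x := fun z hz x => Subgroup.mem_center_iff.1 (hZc hz) x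
  have hFQ : CfsgLib.Transfer.phi Q ⊔ Z < Q := by
    refine lt_of_le_of_ne (sup_le (CfsgLib.Transfer.phi_le Q) hZQ) fun e => ?_
    rcases eq_top_or_exists_le_coatom (Z.subgroupOf Q) with h0 | ⟨K, hK, hZK⟩
    · refine hyQ (Subgroup.mem_centralizer_iff.2 fun v hv => ?_)
      exact (hcentral v (Subgroup.subgroupOf_eq_top.1 h0 hv) y₀).symm
    · refine hK.1 (eq_top_iff.2 fun x _ => ?_)
      have hle : CfsgLib.Transfer.phi Q ⊔ Z ≤ K.map Q.subtype :=
        sup_le (Subgroup.map_mono (frattini_le_coatom hK)) fun z hz => ⟨⟨z, hZQ hz⟩, hZK hz, rfl⟩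
      obtain ⟨a, ha, hae⟩ := hle (e.ge x.2)
      rwa [← Subtype.ext (a1 := a) (a2 := x) hae]
  set Mid : Set (Subgroup G) :=
    {M | CfsgLib.Transfer.phi Q ⊔ Z ≤ M ∧ M < Q ∧ H ≤ Subgroup.normalizer (M : Set G)} with hMid
  obtain ⟨M, ⟨hFM, hMQ, hHM⟩, hMmax⟩ := Set.exists_max_image Mid (fun M => Nat.card M) (Set.toFinite _)
    ⟨_, le_rfl, hFQ, fun x hx => by
      rw [Subgroup.mem_normalizer_iff_map_conj_eq, Subgroup.map_sup,
        Subgroup.mem_normalizer_iff_map_conj_eq.1 (CfsgLib.Transfer.mem_normalizer_phi (hHQ hx)),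
        Subgroup.mem_normalizer_iff_map_conj_eq.1 (Subgroup.mem_normalizer_fintype (fun z hz => by
            rw [SetLike.mem_coe, hcentral z hz x, mul_inv_cancel_right]; exact hz) :
              x ∈ Subgroup.normalizer (Z : Set G))]⟩
  have hphiM : CfsgLib.Transfer.phi Q ≤ M := le_sup_left.trans hFM
  have hZM : Z ≤ M := le_sup_right.trans hFM
  -- `p'`-elements of `H` centralize `M`
  have hM' : ∀ c ∈ H, (orderOf c).Coprime p → c ∈ Subgroup.centralizer (M : Set G) := by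
    intro c hc hcp
    by_contra hc'
    exact hMQ.ne (Subgroup.eq_of_le_of_card_ge hMQ.le (hQmin M ⟨hZM, hMQ.le.trans hQP, hHM, c, hc, hcp, hc'⟩))
  obtain ⟨n₀, hn₀⟩ := IsPGroup.iff_card.1 (hQp.to_le hMQ.le)
  have hcC : ∀ c ∈ H, (orderOf c).Coprime p → (∀ q ∈ Q, ⁅q, c⁆ ∈ M) → c ∈ Subgroup.centralizer (Q : Set G) := by
    intro c hc hcp hq
    refine CfsgLib.CoprimeAction.le_centralizer_of_chain (A := Subgroup.zpowers c) (N := M) (K := Q)
      (by rw [Nat.card_zpowers, hn₀]; exact hcp.pow_right n₀) (Subgroup.zpowers_le.2 (hM' c hc hcp)) ?_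
      (Subgroup.mem_zpowers c)
    refine Subgroup.commutator_le.2 fun q hq' z hz => ?_
    obtain ⟨i, rfl⟩ := (isOfFinOrder_of_finite c).mem_powers_iff_mem_zpowers.2 hz
    show ⁅q, c ^ i⁆ ∈ M
    induction i with
    | zero => simp
    | succ i ih =>
      rw [pow_succ', show ⁅q, c * c ^ i⁆ = ⁅q, c⁆ * (c * ⁅q, c ^ i⁆ * c⁻¹) by
        simp only [commutatorElement_def]; group]
      exact M.mul_mem (hq q hq') ((Subgroup.mem_normalizer_iff.1 (hHM hc) _).1 (ih (Subgroup.pow_mem _ (Subgroup.mem_zpowers c) i)))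
  -- the irreducible module `Q / M`
  set E0 := Q ⊔ H with hE0
  have hQM : Q ≤ Subgroup.normalizer (M : Set G) := fun x hx => Subgroup.mem_normalizer_fintype fun m hm => by
    rw [SetLike.mem_coe, show x * m * x⁻¹ = ⁅x, m⁆ * m by group]
    exact M.mul_mem (hphiM (CfsgLib.Transfer.commutatorElement_mem_phi hQp hx (hMQ.le hm))) hm
  have hE0M : E0 ≤ Subgroup.normalizer (M : Set G) := sup_le hQM hHM
  have hE0Q : E0 ≤ Subgroup.normalizer (Q : Set G) := sup_le Subgroup.le_normalizer hHQ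
  haveI hMn : (M.subgroupOf E0).Normal := Subgroup.normal_subgroupOf_of_le_normalizer hE0M
  haveI hQn : (Q.subgroupOf E0).Normal := Subgroup.normal_subgroupOf_of_le_normalizer hE0Q
  set π := QuotientGroup.mk' (M.subgroupOf E0) with hπ
  set V := (Q.subgroupOf E0).map π with hV
  haveI hVn : V.Normal := hQn.map π (QuotientGroup.mk'_surjective _)
  have hgH : g ∈ H := Subgroup.mem_sup_left (Subgroup.subset_closure (Or.inl rfl))
  have hhH : h ∈ H := Subgroup.mem_sup_left (Subgroup.subset_closure (Or.inr rfl))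
  have hgE : g ∈ E0 := (le_sup_right : H ≤ E0) hgH
  have hhE : h ∈ E0 := (le_sup_right : H ≤ E0) hhH
  have hVmk : ∀ (q : G) (hq : q ∈ Q), π ⟨q, (le_sup_left : Q ≤ E0) hq⟩ ∈ V := fun q hq => ⟨_, hq, rfl⟩
  have hmemV : ∀ v ∈ V, ∃ (q : G) (hq : q ∈ Q), π ⟨q, (le_sup_left : Q ≤ E0) hq⟩ = v := by
    rintro v ⟨q, hq, rfl⟩
    exact ⟨q, hq, rfl⟩
  have h1M : ∀ x : E0, π x = 1 ↔ (x : G) ∈ M := fun x => QuotientGroup.eq_one_iff x
  have hq2 : ∀ (s : G) (hs : s ∈ E0), (∀ v ∈ P, ⁅s, ⁅s, v⁆⁆ ∈ Z) →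
      ∀ v ∈ V, ⁅π ⟨s, hs⟩, ⁅π ⟨s, hs⟩, v⁆⁆ = 1 := by
    intro s hs hquad v hv
    obtain ⟨q, hq, rfl⟩ := hmemV v hv
    rw [← map_commutatorElement, ← map_commutatorElement, h1M]
    exact hZM (hquad q (hQP hq))
  have hVc : ∀ v ∈ V, ∀ w ∈ V, v * w = w * v := by
    intro v hv w hw
    obtain ⟨q, hq, rfl⟩ := hmemV v hv
    obtain ⟨r, hr, rfl⟩ := hmemV w hw
    rw [← commutatorElement_eq_one_iff_mul_comm, ← map_commutatorElement, h1M]
    exact hphiM (CfsgLib.Transfer.commutatorElement_mem_phi hQp hq hr)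
  obtain ⟨X, f, hfs, hCX, hf1, hfneg, hfup⟩ := sl2_of_irreducible hp2 V hVc
    (by
      intro v hv
      obtain ⟨q, hq, rfl⟩ := hmemV v hv
      rw [← map_pow, h1M]
      exact hphiM (CfsgLib.Transfer.pow_mem_phi hQp hq))
    (π ⟨g, hgE⟩) (π ⟨h, hhE⟩)
    (by
      set K := Subgroup.closure {π ⟨g, hgE⟩, π ⟨h, hhE⟩} ⊔ V with hK
      have hle : E0 ≤ (K.comap π).map E0.subtype := by
        refine sup_le (fun q hq => ⟨⟨q, (le_sup_left : Q ≤ E0) hq⟩, Subgroup.mem_sup_right (hVmk q hq), rfl⟩)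
          (sup_le ((Subgroup.closure_le _).2 ?_) fun z hz => ⟨⟨z, (le_sup_left : Q ≤ E0) (hZQ hz)⟩,
            Subgroup.mem_sup_right (hVmk z (hZQ hz)), rfl⟩)
        rintro z (rfl | rfl)
        · exact ⟨⟨z, hgE⟩, (le_sup_left : _ ≤ K) (Subgroup.subset_closure (Or.inl rfl)), rfl⟩
        · exact ⟨⟨z, hhE⟩, (le_sup_left : _ ≤ K) (Subgroup.subset_closure (Or.inr rfl)), rfl⟩
      refine eq_top_iff.2 fun x _ => ?_
      obtain ⟨x, rfl⟩ := QuotientGroup.mk'_surjective _ x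
      obtain ⟨x', hx', hxe⟩ := hle x.2
      obtain rfl : x' = x := Subtype.ext hxe
      exact hx')
    (hq2 g hgE qg) (hq2 h hhE qh)
    (by
      intro W hW hWV
      set W' := (W.comap π).map E0.subtype with hW'
      have hMW : M ≤ W' := fun m hm => ⟨⟨m, (le_sup_left : Q ≤ E0) (hMQ.le hm)⟩, by
        show π _ ∈ W
        rw [(h1M _).2 hm]; exact one_mem W, rfl⟩
      have hWQ : W' ≤ Q := by
        rintro _ ⟨x, hx, rfl⟩
        obtain ⟨q, hq, hqe⟩ := hmemV _ (hWV hx)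
        have h3 : (q : G)⁻¹ * x ∈ M := (QuotientGroup.eq.1 hqe : _)
        simpa using Q.mul_mem hq (hMQ.le h3)
      have hHW : H ≤ Subgroup.normalizer (W' : Set G) := fun x hx => Subgroup.le_normalizer_map E0.subtype
        ⟨⟨x, (le_sup_right : H ≤ E0) hx⟩, by rw [Subgroup.normalizer_eq_top]; exact Subgroup.mem_top _, rfl⟩
      rcases eq_or_lt_of_le hWQ with h0 | h0
      · refine Or.inr (le_antisymm hWV fun v hv => ?_)
        obtain ⟨q, hq, rfl⟩ := hmemV v hv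
        obtain ⟨x, hx, hxe⟩ := h0.ge hq
        obtain rfl : x = ⟨q, (le_sup_left : Q ≤ E0) hq⟩ := Subtype.ext hxe
        exact hx
      · refine Or.inl (eq_bot_iff.2 fun w hw => ?_)
        obtain ⟨x, rfl⟩ := QuotientGroup.mk'_surjective _ w
        rw [Subgroup.mem_bot, ← hπ, h1M]
        have hWM : W' = M := (Subgroup.eq_of_le_of_card_ge hMW (hMmax W' ⟨hFM.trans hMW, h0, hHW⟩)).symm
        exact hWM.le ⟨x, hw, rfl⟩)
    (by
      refine ⟨π ⟨y₀, (le_sup_right : H ≤ E0) hyH⟩, hyp.coprime_dvd_left ((orderOf_map_dvd π _).trans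
        (Subgroup.orderOf_mk y₀ _).dvd), fun hc => hyQ (hcC y₀ hyH hyp fun q hq => ?_)⟩
      have h5 := (commutatorElement_eq_one_iff_mul_comm (g₁ := π ⟨q, (le_sup_left : Q ≤ E0) hq⟩)
        (g₂ := π ⟨y₀, (le_sup_right : H ≤ E0) hyH⟩)).2 (Subgroup.mem_centralizer_iff.1 hc _ (hVmk q hq))
      rw [← map_commutatorElement, h1M] at h5
      exact h5)
  -- the section inside `H`
  set L : Subgroup G := (X.comap π).map E0.subtype ⊓ H with hL
  have hLH : L ≤ H := inf_le_right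
  have hLE : L ≤ E0 := hLH.trans le_sup_right
  let f' : L →* SpecialLinearGroup (Fin 2) (ZMod p) := f.comp
    ((π.comp (Subgroup.inclusion hLE)).codRestrict X fun x => by
      obtain ⟨a, ha, hae⟩ := x.2.1
      rw [show (π.comp (Subgroup.inclusion hLE)) x = π a from congrArg π (Subtype.ext hae.symm)]
      exact ha)
  have hf's : Function.Surjective f' := by
    intro T
    obtain ⟨⟨x, hxX⟩, hx⟩ := hfs T
    obtain ⟨⟨a, ha⟩, rfl⟩ := QuotientGroup.mk'_surjective _ x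
    obtain ⟨q, hq, b, hb, rfl⟩ := (show a ∈ (Q : Set G) * (H : Set G) by
      rw [← Subgroup.coe_mul_of_right_le_normalizer_left _ _ hHQ]; exact ha)
    have hqC : π ⟨q, (le_sup_left : Q ≤ E0) hq⟩ ∈ Subgroup.centralizer (V : Set (E0 ⧸ M.subgroupOf E0)) :=
      Subgroup.mem_centralizer_iff.2 fun v hv => hVc v hv _ (hVmk q hq)
    have hbX : π ⟨b, (le_sup_right : H ≤ E0) hb⟩ ∈ X := by
      have := X.mul_mem (X.inv_mem (hCX hqC)) hxX
      rwa [← hπ, show (⟨q * b, ha⟩ : E0) = ⟨q, (le_sup_left : Q ≤ E0) hq⟩ * ⟨b, (le_sup_right : H ≤ E0) hb⟩ from rfl,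
        map_mul, inv_mul_cancel_left] at this
    refine ⟨⟨b, ⟨⟨b, (le_sup_right : H ≤ E0) hb⟩, hbX, rfl⟩, hb⟩, ?_⟩
    show f ⟨π ⟨b, (le_sup_right : H ≤ E0) hb⟩, hbX⟩ = T
    rw [← hx, show (⟨QuotientGroup.mk' (M.subgroupOf E0) ⟨q * b, ha⟩, hxX⟩ : X) = ⟨_, hCX hqC⟩ * ⟨_, hbX⟩ from
      Subtype.ext (map_mul π ⟨q, (le_sup_left : Q ≤ E0) hq⟩ ⟨b, (le_sup_right : H ≤ E0) hb⟩),
      map_mul, (hf1 ⟨_, hCX hqC⟩).2 hqC, one_mul]
  have hf'1 : ∀ x : L, f' x = 1 ↔ ∀ q ∈ Q, ⁅q, (x : G)⁆ ∈ M := by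
    intro x
    refine (hf1 _).trans ⟨fun hx q hq => ?_, fun hx => Subgroup.mem_centralizer_iff.2 fun v hv => ?_⟩
    · have h5 := (commutatorElement_eq_one_iff_mul_comm (g₁ := π ⟨q, (le_sup_left : Q ≤ E0) hq⟩)
        (g₂ := π ⟨x, hLE x.2⟩)).2 (Subgroup.mem_centralizer_iff.1 hx _ (hVmk q hq))
      rw [← map_commutatorElement, h1M] at h5
      exact h5
    · obtain ⟨q, hq, rfl⟩ := hmemV v hv
      refine commutatorElement_eq_one_iff_mul_comm.1 ?_
      show ⁅π _, π ⟨x, hLE x.2⟩⁆ = 1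
      rw [← map_commutatorElement, h1M]
      exact hx q hq
  have hLQ : L ≤ Subgroup.normalizer (Q : Set G) := hLH.trans hHQ
  haveI hCn : ((Subgroup.centralizer (Q : Set G)).subgroupOf L).Normal :=
    Subgroup.normal_subgroupOf_of_le_normalizer
      (hLQ.trans (CfsgLib.Components.normalizer_le_normalizer_centralizer Q))
  set CL := (Subgroup.centralizer (Q : Set G)).subgroupOf L with hCLdef
  set r := QuotientGroup.mk' CL with hr
  have hker : ∀ c : L, (orderOf c).Coprime p → f' c = 1 → r c = 1 := fun c hc h1 =>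
    (QuotientGroup.eq_one_iff c).2 (hcC c (hLH c.2) (by rwa [Subgroup.orderOf_coe]) ((hf'1 c).1 h1))
  -- the involution
  obtain ⟨j₀, hj₀⟩ := hf's (-1)
  have hneg : (orderOf (-1 : SpecialLinearGroup (Fin 2) (ZMod p))).Coprime p :=
    ((Nat.coprime_primes Nat.prime_two hp.out).2 (Ne.symm hp2)).coprime_dvd_left
      (orderOf_dvd_of_pow_eq_one (by rw [neg_one_sq]))
  obtain ⟨j, -, hjp, hfj⟩ := exists_coprime_lift f' j₀ (hj₀ ▸ hneg)
  rw [hj₀] at hfj
  have hjj : r j * r j = 1 := by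
    rw [← map_mul]
    refine hker _ (hjp.coprime_dvd_left ?_) (by rw [map_mul, hfj, neg_mul_neg, one_mul])
    rw [← sq]
    exact orderOf_pow_dvd 2
  have hjM : ∀ c : L, (orderOf c).Coprime p → (c : G) ∈ Subgroup.centralizer (M : Set G) := fun c hc =>
    hM' c (hLH c.2) (by rwa [Subgroup.orderOf_coe])
  -- lifting into the centralizer of the involution
  have hlift : ∀ x : L, ∃ x' : L, f' x' = f' x ∧ r x' * r j = r j * r x' ∧
      ((x : G) ∈ Subgroup.centralizer (M : Set G) → (x' : G) ∈ Subgroup.centralizer (M : Set G)) := by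
    intro x
    set d := x * j * x⁻¹ * j with hd
    have hfd : f' d = 1 := by
      simp [hd, hfj]
    obtain ⟨s, c, hsc, -, ⟨k, hk⟩, hcp, hs, hcz⟩ := CfsgLib.Transfer.exists_pPart_mul (p := p) d
    have hrc : r c = 1 := hker c hcp (by
      obtain ⟨i, rfl⟩ := Subgroup.mem_zpowers_iff.1 hcz
      rw [map_zpow, hfd, _root_.one_zpow])
    have hpk : (r d) ^ p ^ k = 1 := by
      rw [hsc, map_mul, hrc, mul_one, ← map_pow, ← hk, pow_orderOf_eq_one, map_one]
    set n := (p ^ k + 1) / 2 with hn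
    have h2n : 2 * n = p ^ k + 1 := by
      have : Odd (p ^ k) := (hp.out.odd_of_ne_two hp2).pow
      obtain ⟨t, ht⟩ := this
      omega
    set b := r j with hb
    have hbinv : b⁻¹ = b := inv_eq_of_mul_eq_one_right hjj
    have hdb : b * r d * b⁻¹ = (r d)⁻¹ := by
      rw [hd, map_mul, map_mul, map_mul, map_inv, ← hb]
      simp only [_root_.mul_inv_rev, inv_inv, hbinv, mul_assoc, hjj, mul_one]
    have hbdn : b * (r d ^ n)⁻¹ = r d ^ n * b := by
      have h1 : b * r d ^ n * b⁻¹ = (r d ^ n)⁻¹ := by rw [← inv_pow, ← hdb, conj_pow]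
      calc b * (r d ^ n)⁻¹ = b * (b * r d ^ n * b⁻¹) := by rw [h1]
        _ = r d ^ n * b := by rw [← mul_assoc, ← mul_assoc, hjj, one_mul, hbinv]
    refine ⟨(d ^ n)⁻¹ * x, by rw [map_mul, map_inv, map_pow, hfd, one_pow, inv_one, one_mul], ?_, fun hxM => ?_⟩
    · have h3 : r x * b * (r x)⁻¹ = r d * b := by
        rw [hd, map_mul, map_mul, map_mul, map_inv, ← hb, mul_assoc _ b b, hjj, mul_one]
      have h5 : r x * b = r d * b * r x := by rw [← h3, inv_mul_cancel_right]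
      have hpow : r d = r d ^ n * r d ^ n := by
        rw [← pow_add, ← two_mul, h2n, pow_succ, hpk, one_mul]
      rw [map_mul, map_inv, map_pow]
      calc (r d ^ n)⁻¹ * r x * b = (r d ^ n)⁻¹ * (r d * b * r x) := by rw [mul_assoc, h5]
        _ = (r d ^ n)⁻¹ * ((r d ^ n * r d ^ n) * b * r x) := by rw [← hpow]
        _ = (r d ^ n * b) * r x := by group
        _ = b * ((r d ^ n)⁻¹ * r x) := by rw [← hbdn, mul_assoc]
    · have hdM : (d : G) ∈ Subgroup.centralizer (M : Set G) := by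
        rw [hd]
        simp only [Subgroup.coe_mul, Subgroup.coe_inv]
        exact mul_mem (mul_mem (mul_mem hxM (hjM j hjp)) (inv_mem hxM)) (hjM j hjp)
      simp only [Subgroup.coe_mul, Subgroup.coe_inv, SubmonoidClass.coe_pow]
      exact mul_mem (inv_mem (pow_mem hdM n)) hxM
  -- the transvection
  obtain ⟨e₁, e₂, he₁, he₂, he⟩ := upper_eq_mul (p := p) h5
  obtain ⟨a₁, rfl⟩ := hf's e₁
  obtain ⟨a₂, rfl⟩ := hf's e₂
  obtain ⟨c₁, -, hc₁, hc₁e⟩ := exists_coprime_lift f' a₁ he₁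
  obtain ⟨c₂, -, hc₂, hc₂e⟩ := exists_coprime_lift f' a₂ he₂
  obtain ⟨y, hyf, hyj, hyM⟩ := hlift (c₁ * c₂)
  rw [map_mul, hc₁e, hc₂e, ← he] at hyf
  replace hyM := hyM (mul_mem (hjM c₁ hc₁) (hjM c₂ hc₂))
  -- the subgroup `B = [Q, j]`
  set B := Subgroup.closure {z : G | ∃ b ∈ Q, z = ⁅b, (j : G)⁆} with hB
  have hBQ : B ≤ Q := (Subgroup.closure_le _).2 (by
    rintro _ ⟨b, hb, rfl⟩
    rw [commutatorElement_def, mul_assoc, mul_assoc, ← mul_assoc (j : G)]
    exact Q.mul_mem hb ((Subgroup.mem_normalizer_iff.1 (hLQ j.2) _).1 (Q.inv_mem hb)))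
  have hBM : B ≤ Subgroup.centralizer (M : Set G) := (Subgroup.closure_le _).2 (by
    rintro _ ⟨b, hb, rfl⟩
    refine Subgroup.mem_centralizer_iff.2 fun m hm => ?_
    have h1 := Subgroup.mem_centralizer_iff.1 (hjM j hjp) m hm
    have h2 : b⁻¹ * m * b ∈ M := (Subgroup.mem_normalizer_iff''.1 (hQM hb) m).1 hm
    have h3 := Subgroup.mem_centralizer_iff.1 (hjM j hjp) _ h2
    calc m * ⁅b, (j : G)⁆ = b * ((b⁻¹ * m * b) * j) * b⁻¹ * (j : G)⁻¹ := by rw [commutatorElement_def]; group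
      _ = b * (j : G) * b⁻¹ * (m * (j : G)⁻¹) := by rw [h3]; group
      _ = b * (j : G) * b⁻¹ * ((j : G)⁻¹ * (j * m) * (j : G)⁻¹) := by group
      _ = ⁅b, (j : G)⁆ * m := by rw [← h1, commutatorElement_def]; group)
  have hcomm : ∀ {x : L}, r x * r j = r j * r x → ∀ q ∈ Q,
      (x : G) * j * q * ((x : G) * j)⁻¹ = (j : G) * x * q * ((j : G) * x)⁻¹ := by
    intro x hx q hq
    rw [← map_mul, ← map_mul] at hx
    have h1 := Subgroup.mem_centralizer_iff.1 (Subgroup.mem_subgroupOf.1 ((QuotientGroup.eq).1 hx)) q hq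
    simp only [Subgroup.coe_mul, Subgroup.coe_inv] at h1
    calc (x : G) * j * q * ((x : G) * j)⁻¹
        = (x : G) * j * (q * (((x : G) * j)⁻¹ * (j * x))) * ((j : G) * x)⁻¹ := by group
      _ = (j : G) * x * q * ((j : G) * x)⁻¹ := by rw [h1]; group
  have hBnorm : ∀ {x : L}, r x * r j = r j * r x → (x : G) ∈ Subgroup.normalizer (B : Set G) := by
    intro x hx
    refine Subgroup.mem_normalizer_fintype fun z hz => ?_
    have hle : B ≤ B.comap (MulAut.conj (x : G)).toMonoidHom := (Subgroup.closure_le _).2 (by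
      rintro _ ⟨b, hb, rfl⟩
      show (x : G) * ⁅b, (j : G)⁆ * (x : G)⁻¹ ∈ B
      refine Subgroup.subset_closure ⟨(x : G) * b * (x : G)⁻¹, (Subgroup.mem_normalizer_iff.1 (hLQ x.2) b).1 hb, ?_⟩
      have h1 := hcomm hx b⁻¹ (Q.inv_mem hb)
      calc (x : G) * ⁅b, (j : G)⁆ * (x : G)⁻¹
          = (x : G) * b * (x : G)⁻¹ * ((x : G) * j * b⁻¹ * ((x : G) * j)⁻¹) := by rw [commutatorElement_def]; group
        _ = _ := by rw [h1, commutatorElement_def]; group)
    exact hle hz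
  have hBsq : ∀ q ∈ Q, ∃ b ∈ B, b⁻¹ * (q * q) ∈ M := by
    intro q hq
    refine ⟨⁅q, (j : G)⁆, Subgroup.subset_closure ⟨q, hq, rfl⟩, ?_⟩
    have h1 := hfneg ⟨π ⟨j, hLE j.2⟩, _⟩ hfj _ (V.inv_mem (hVmk q hq))
    rw [inv_inv] at h1
    rw [← h1M (⟨⁅q, (j : G)⁆⁻¹ * (q * q), mul_mem (inv_mem (mul_mem (mul_mem (mul_mem ((le_sup_left : Q ≤ E0) hq)
      (hLE j.2)) (inv_mem ((le_sup_left : Q ≤ E0) hq))) (inv_mem (hLE j.2))))
      (mul_mem ((le_sup_left : Q ≤ E0) hq) ((le_sup_left : Q ≤ E0) hq))⟩ : E0)]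
    show π (⁅(⟨q, (le_sup_left : Q ≤ E0) hq⟩ : E0), ⟨j, hLE j.2⟩⁆⁻¹ * (⟨q, (le_sup_left : Q ≤ E0) hq⟩ * ⟨q, (le_sup_left : Q ≤ E0) hq⟩)) = 1
    rw [map_mul, map_inv, map_commutatorElement, map_mul, commutatorElement_def, mul_assoc (π ⟨q, _⟩),
      mul_assoc (π ⟨q, _⟩), h1]
    group
  -- quadratic on `B`
  have hyquad : ∀ b ∈ B, ⁅(y : G), ⁅(y : G), b⁆⁆ = 1 := by
    intro b hb
    have hyB := hBnorm hyj
    set z := ⁅(y : G), b⁆ with hz
    have hzB : z ∈ B := B.mul_mem ((Subgroup.mem_normalizer_iff.1 hyB b).1 hb) (B.inv_mem hb)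
    set t := ⁅(y : G), z⁆ with ht
    have htB : t ∈ B := B.mul_mem ((Subgroup.mem_normalizer_iff.1 hyB z).1 hzB) (B.inv_mem hzB)
    have htM : t ∈ M := by
      have h1 := hfup ⟨π ⟨y, hLE y.2⟩, _⟩ hyf _ (hVmk b (hBQ hb))
      rw [← map_commutatorElement, ← map_commutatorElement, h1M] at h1
      exact h1
    set z' := (j : G) * z * (j : G)⁻¹ with hz'
    set m := z * z' with hm
    have hmM : m ∈ M := by
      have h1 := hfneg ⟨π ⟨j, hLE j.2⟩, _⟩ hfj _ (hVmk z (hBQ hzB))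
      rw [← h1M (⟨m, mul_mem ((le_sup_left : Q ≤ E0) (hBQ hzB)) (mul_mem (mul_mem (hLE j.2)
        ((le_sup_left : Q ≤ E0) (hBQ hzB))) (inv_mem (hLE j.2)))⟩ : E0)]
      show π (⟨z, (le_sup_left : Q ≤ E0) (hBQ hzB)⟩ * (⟨j, hLE j.2⟩ * ⟨z, (le_sup_left : Q ≤ E0) (hBQ hzB)⟩ *
        (⟨j, hLE j.2⟩)⁻¹)) = 1
      rw [map_mul, map_mul, map_mul, map_inv, h1, mul_inv_cancel]
    have htinv : ⁅(y : G), z'⁆ = t⁻¹ := by
      rw [show z' = z⁻¹ * m by rw [hm]; group]
      have h1 := Subgroup.mem_centralizer_iff.1 hyM m hmM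
      have h2 := Subgroup.mem_centralizer_iff.1 (hBM hzB) t htM
      calc ⁅(y : G), z⁻¹ * m⁆ = (y : G) * z⁻¹ * (m * (y : G)⁻¹) * m⁻¹ * z := by rw [commutatorElement_def]; group
        _ = (y : G) * z⁻¹ * ((y : G)⁻¹ * (y * m) * (y : G)⁻¹) * m⁻¹ * z := by group
        _ = (y : G) * z⁻¹ * (y : G)⁻¹ * z := by rw [← h1]; group
        _ = z⁻¹ * t⁻¹ * z := by rw [ht, commutatorElement_def]; group
        _ = t⁻¹ * (z⁻¹ * z) := by
          have h3 : Commute t z := h2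
          rw [(h3.inv_inv).symm.eq, mul_assoc]
        _ = t⁻¹ := by group
    have htj : ⁅(y : G), z'⁆ = t := by
      have h1 := hcomm hyj z (hBQ hzB)
      have h2 := Subgroup.mem_centralizer_iff.1 (hjM j hjp) t htM
      calc ⁅(y : G), z'⁆ = ((y : G) * j * z * ((y : G) * j)⁻¹) * (j * z⁻¹ * (j : G)⁻¹) := by
            rw [hz', commutatorElement_def]; group
        _ = (j : G) * t * (j : G)⁻¹ := by rw [h1, ht, commutatorElement_def]; group
        _ = t := by rw [← h2, mul_inv_cancel_right]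
    have ht2 : t ^ 2 = 1 := by rw [sq]; nth_rewrite 2 [← htj]; rw [htinv, mul_inv_cancel]
    obtain ⟨k, hk⟩ := (hQp.to_le hBQ) ⟨t, htB⟩
    rw [← orderOf_eq_one_iff]
    exact Nat.eq_one_of_dvd_coprimes (((Nat.coprime_primes Nat.prime_two hp.out).2 (Ne.symm hp2)).pow_right k)
      (orderOf_dvd_of_pow_eq_one ht2) (orderOf_dvd_of_pow_eq_one (congrArg Subtype.val hk))
  -- stability gives a contradiction in `SL₂(p)`
  set N1 := (Subgroup.centralizer ({r j} : Set (L ⧸ CL))).comap r with hN1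
  have hN1j : ∀ x : N1, r (x : L) * r j = r j * r (x : L) := fun x =>
    (Subgroup.mem_centralizer_singleton_iff.1 x.2)
  set NB := Subgroup.normalizer (B : Set G) with hNB
  have hqB : ⁅⁅B, Subgroup.zpowers (y : G)⁆, Subgroup.zpowers (y : G)⁆ = ⊥ := by
    rw [Subgroup.commutator_eq_bot_iff_le_centralizer, Subgroup.commutator_le]
    intro b hb w hw
    obtain ⟨k, rfl⟩ := (isOfFinOrder_of_finite (y : G)).mem_powers_iff_mem_zpowers.2 hw
    set z := ⁅(y : G), b⁆ with hz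
    have hzy : Commute (y : G) z := commutatorElement_eq_one_iff_mul_comm.1 (hyquad b hb)
    have hkb : ∀ k : ℕ, (y : G) ^ k * b * ((y : G) ^ k)⁻¹ = z ^ k * b := by
      intro k
      induction k with
      | zero => simp
      | succ k ih =>
        calc (y : G) ^ (k + 1) * b * ((y : G) ^ (k + 1))⁻¹
            = y * ((y : G) ^ k * b * ((y : G) ^ k)⁻¹) * (y : G)⁻¹ := by rw [pow_succ']; group
          _ = y * z ^ k * (b * (y : G)⁻¹) := by rw [ih]; group
          _ = z ^ k * ((y : G) * b * (y : G)⁻¹) := by rw [(hzy.pow_right k).eq]; group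
          _ = z ^ (k + 1) * b := by rw [pow_succ, hz, commutatorElement_def]; group
    show ⁅b, (y : G) ^ k⁆ ∈ Subgroup.centralizer (Subgroup.zpowers (y : G) : Set G)
    rw [show ⁅b, (y : G) ^ k⁆ = ((y : G) ^ k * b * ((y : G) ^ k)⁻¹ * b⁻¹)⁻¹ by rw [commutatorElement_def]; group,
      hkb, mul_inv_cancel_right, Subgroup.zpowers_eq_closure, Subgroup.centralizer_closure,
      Subgroup.mem_centralizer_singleton_iff]
    exact ((hzy.pow_right k).inv_right).eq.symm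
  have hst' := hst B (hQp.to_le hBQ) (y : G) (hBnorm hyj) hqB
  let φ : N1 →* NB ⧸ (Subgroup.centralizer (B : Set G)).subgroupOf NB := (QuotientGroup.mk' _).comp
    ((L.subtype.comp N1.subtype).codRestrict NB fun x => hBnorm (hN1j x))
  have hφker : ∀ x : N1, φ x = 1 → f' (x : L) = 1 := by
    intro x hx
    have hxB := Subgroup.mem_subgroupOf.1 ((QuotientGroup.eq_one_iff _).1 hx)
    rw [hf'1]
    intro q hq
    obtain ⟨i, hi⟩ := hQp ⟨q, hq⟩
    obtain ⟨a, ha⟩ : ∃ a : ℕ, q = q ^ a * q ^ a := by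
      have : Odd (p ^ i) := (hp.out.odd_of_ne_two hp2).pow
      obtain ⟨t, ht⟩ := this
      refine ⟨t + 1, ?_⟩
      rw [← pow_add, show t + 1 + (t + 1) = p ^ i + 1 by omega, pow_succ, show q ^ p ^ i = 1 from congrArg Subtype.val hi, one_mul]
    obtain ⟨b, hb, hbM⟩ := hBsq (q ^ a) (pow_mem hq a)
    rw [← ha] at hbM
    have hxN := hHM (hLH (x : L).2)
    have h1 : b * ((x : L) : G) = ((x : L) : G) * b := Subgroup.mem_centralizer_iff.1 hxB b hb
    set m := b⁻¹ * q with hm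
    have hmx : ((x : L) : G) * m⁻¹ * ((x : L) : G)⁻¹ ∈ M := (Subgroup.mem_normalizer_iff.1 hxN _).1 (M.inv_mem hbM)
    rw [show q = b * m by rw [hm]; group]
    rw [show ⁅b * m, ((x : L) : G)⁆ = b * (m * (((x : L) : G) * m⁻¹ * ((x : L) : G)⁻¹)) * b⁻¹ by
      rw [commutatorElement_def]
      calc b * m * ((x : L) : G) * (b * m)⁻¹ * ((x : L) : G)⁻¹
          = b * m * ((x : L) : G) * m⁻¹ * (b⁻¹ * ((x : L) : G)⁻¹) := by group
        _ = b * m * ((x : L) : G) * m⁻¹ * (((x : L) : G)⁻¹ * b⁻¹) := by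
          rw [← _root_.mul_inv_rev, ← _root_.mul_inv_rev, ← h1]
        _ = _ := by group]
    exact (Subgroup.mem_normalizer_iff.1 (hQM (hBQ hb)) _).1 (M.mul_mem hbM hmx)
  set K := (Cfsg.pCore p (NB ⧸ (Subgroup.centralizer (B : Set G)).subgroupOf NB)).comap φ with hKdef
  have hf1s : Function.Surjective (f'.comp N1.subtype) := fun T => by
    obtain ⟨x, rfl⟩ := hf's T
    obtain ⟨x', hx', hxj, -⟩ := hlift x
    exact ⟨⟨x', Subgroup.mem_centralizer_singleton_iff.2 hxj⟩, hx'⟩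
  haveI := Cfsg.pCore_normal p (NB ⧸ (Subgroup.centralizer (B : Set G)).subgroupOf NB)
  haveI hKn : K.Normal := Subgroup.Normal.comap inferInstance φ
  have hKp : IsPGroup p (K.map (f'.comp N1.subtype)) := by
    rintro ⟨_, x, hx, rfl⟩
    obtain ⟨k, hk⟩ := CfsgLib.PCore.isPGroup_pCore p _ ⟨φ x, hx⟩
    refine ⟨k, Subtype.ext ?_⟩
    rw [SubmonoidClass.coe_pow, ← map_pow]
    exact hφker _ ((map_pow φ x _).trans (congrArg Subtype.val hk))
  have h6 : CfsgLib.H29.SL2.upper (1 : ZMod p) ∈ Cfsg.pCore p (SpecialLinearGroup (Fin 2) (ZMod p)) := by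
    rw [← hyf]
    exact CfsgLib.PCore.le_pCore (hKn.map _ hf1s) hKp
      ⟨⟨y, Subgroup.mem_centralizer_singleton_iff.2 hyj⟩, hst', rfl⟩
  rw [pCore_sl2_eq_bot, Subgroup.mem_bot] at h6
  have h7 := congrArg (fun A : SpecialLinearGroup (Fin 2) (ZMod p) => A 0 1) h6
  simp [CfsgLib.H29.SL2.coe_upper] at h7

/-- **`p`-stability passes to the quotient by a central `p`-subgroup**, for `p ≥ 5`. -/
theorem stable_quotient (h5 : 5 ≤ p) {G : Type u} [Group G] [Finite G] (hst : Cfsg.IsNormalizerPStable p G)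
    (Z : Subgroup G) [Z.Normal] (hZc : Z ≤ Subgroup.center G) (hZ : IsPGroup p Z) :
    Cfsg.IsNormalizerPStable p (G ⧸ Z) := by
  intro Pb hPb gb hgb hq
  set N := Subgroup.normalizer (Pb : Set (G ⧸ Z)) with hN
  set C := (Subgroup.centralizer (Pb : Set (G ⧸ Z))).subgroupOf N with hC
  by_contra hne
  rw [CfsgLib.Subnormal.mem_pCore_iff] at hne
  push Not at hne
  obtain ⟨xb, hxb⟩ := hne
  obtain ⟨x, rfl⟩ := QuotientGroup.mk'_surjective C xb
  set g' : N := ⟨gb, hgb⟩ with hg'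
  set h' : N := x * g' * x⁻¹ with hh'
  set H' := Subgroup.closure ({g', h'} : Set N) with hH'
  set ρ := QuotientGroup.mk' C with hρ
  have himg : H'.map ρ = Subgroup.closure ({ρ g', ρ x * ρ g' * (ρ x)⁻¹} : Set (N ⧸ C)) := by
    rw [hH', MonoidHom.map_closure, Set.image_pair, hh', map_mul, map_mul, map_inv]
  have hex : ∃ z ∈ H'.map ρ, (orderOf z).Coprime p ∧ z ≠ 1 := by
    by_contra hc
    push Not at hc
    exact hxb ((CfsgLib.PCore.isPGroup_of_forall_coprime (H'.map ρ) hc).to_le himg.ge)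
  obtain ⟨_, ⟨y, hy, rfl⟩, hyp, hy1⟩ := hex
  obtain ⟨y₁, hy₁z, hy₁p, hy₁⟩ := exists_coprime_lift ρ y hyp
  have hy₁H : y₁ ∈ H' := (Subgroup.zpowers_le.2 hy) hy₁z
  have hy₁C : (y₁ : G ⧸ Z) ∉ Subgroup.centralizer (Pb : Set (G ⧸ Z)) := fun h =>
    hy1 (hy₁.symm.trans ((QuotientGroup.eq_one_iff y₁).2 h))
  set π := QuotientGroup.mk' Z with hπ
  have hπs : Function.Surjective π := QuotientGroup.mk'_surjective Z
  set P := Pb.comap π with hP
  have hPp : IsPGroup p P := hPb.comap_of_ker_isPGroup π (by rwa [hπ, QuotientGroup.ker_mk'])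
  have hZP : Z ≤ P := fun z hz => by
    show π z ∈ Pb
    rw [show π z = 1 from (QuotientGroup.eq_one_iff z).2 hz]
    exact one_mem _
  obtain ⟨g, hgg⟩ := hπs gb
  obtain ⟨h, hhh⟩ := hπs (h' : G ⧸ Z)
  have hnorm : ∀ a : G, π a ∈ N → a ∈ Subgroup.normalizer (P : Set G) := fun a ha =>
    Subgroup.mem_normalizer_iff.2 fun v => by
      show π v ∈ Pb ↔ π (a * v * a⁻¹) ∈ Pb
      rw [map_mul, map_mul, map_inv]
      exact Subgroup.mem_normalizer_iff.1 ha (π v)
  have hquad0 : ∀ v ∈ Pb, ⁅gb, ⁅gb, v⁆⁆ = 1 := by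
    intro v hv
    have h1 : ⁅⁅v, gb⁆, gb⁆ = 1 := Subgroup.mem_bot.1 (hq ▸ Subgroup.commutator_mem_commutator
      (Subgroup.commutator_mem_commutator hv (Subgroup.mem_zpowers gb)) (Subgroup.mem_zpowers gb))
    rw [commutatorElement_eq_one_iff_mul_comm] at h1 ⊢
    rw [← commutatorElement_inv v gb]
    exact ((show Commute ⁅v, gb⁆ gb from h1).inv_left).eq.symm
  have hquad1 : ∀ v ∈ Pb, ⁅(h' : G ⧸ Z), ⁅(h' : G ⧸ Z), v⁆⁆ = 1 := by
    intro v hv
    have h1 := hquad0 ((x : G ⧸ Z)⁻¹ * v * x) (by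
      simpa using (Subgroup.mem_normalizer_iff.1 (N.inv_mem x.2) v).1 hv)
    rw [show (h' : G ⧸ Z) = (x : G ⧸ Z) * gb * (x : G ⧸ Z)⁻¹ from rfl]
    calc _ = (x : G ⧸ Z) * ⁅gb, ⁅gb, (x : G ⧸ Z)⁻¹ * v * x⁆⁆ * (x : G ⧸ Z)⁻¹ := by
          simp only [commutatorElement_def]; group
      _ = 1 := by rw [h1]; group
  -- lift `y₁`
  have hmap : (Subgroup.closure {g, h}).map π = H'.map N.subtype := by
    rw [MonoidHom.map_closure, Set.image_pair, hH', MonoidHom.map_closure, Set.image_pair, hgg, hhh]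
    rfl
  obtain ⟨a, ha, hay⟩ := hmap.ge (⟨y₁, hy₁H, rfl⟩ : (y₁ : G ⧸ Z) ∈ H'.map N.subtype)
  obtain ⟨a₁, ha₁z, ha₁p, ha₁⟩ := exists_coprime_lift π a (by rw [hay, Subgroup.orderOf_coe]; exact hy₁p)
  refine pair_false h5 hst hZc hPp hZP (hnorm g (hgg ▸ hgb)) (hnorm h (hhh ▸ h'.2)) (fun v hv => ?_)
    (fun v hv => ?_) ⟨a₁, Subgroup.mem_sup_left ((Subgroup.zpowers_le.2 ha) ha₁z), ha₁p, fun hc => hy₁C ?_⟩
  · rw [← QuotientGroup.eq_one_iff]
    show π ⁅g, ⁅g, v⁆⁆ = 1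
    rw [map_commutatorElement, map_commutatorElement, hgg]
    exact hquad0 _ hv
  · rw [← QuotientGroup.eq_one_iff]
    show π ⁅h, ⁅h, v⁆⁆ = 1
    rw [map_commutatorElement, map_commutatorElement, hhh]
    exact hquad1 _ hv
  · rw [← hay, ← ha₁]
    refine Subgroup.mem_centralizer_iff.2 fun v hv => ?_
    obtain ⟨v, rfl⟩ := hπs v
    rw [← map_mul, ← map_mul, Subgroup.mem_centralizer_iff.1 hc v hv]

end CfsgLib.StableQuotient
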