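import Cfsg.Agent.Fusion.StableDStar
import Cfsg.Agent.Fusion.StableQuotient
import Cfsg.Agent.S3836
import Cfsg.Agent.Fusion.Group

/-!
For `p ≥ 5`, a group whose `p`-locals are stable has a constrained fusion system.
-/

set_option autoImplicit false

universe u

namespace CfsgLib.StableConstrained

open CfsgLib.GroupAlperin CfsgLib.Goldschmidt CfsgLib.StableDStar
open scoped commutatorElement

variable {p : ℕ} [hp : Fact p.Prime]

/-- `Q` is normal in the fusion of `G` on `S`. -/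
def Ctrl {G : Type u} [Group G] (S Q : Subgroup G) : Prop :=
  Q ≤ S ∧ ∀ (T : Subgroup G) (g : G), T ≤ S → cj T g ≤ S →
    ∃ c ∈ Subgroup.centralizer (T : Set G), ∃ n ∈ Subgroup.normalizer (Q : Set G), g = c * n

section basic

variable {G : Type u} [Group G] {S Q : Subgroup G}

theorem Ctrl.normalizes (h : Ctrl S Q) {g : G} (hg : cj S g ≤ S) : g ∈ Subgroup.normalizer (Q : Set G) := by
  obtain ⟨c, hc, n, hn, rfl⟩ := h.2 S g le_rfl hg
  exact mul_mem (Subgroup.centralizer_le_normalizer _ (Subgroup.centralizer_le (by exact h.1) hc)) hn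

theorem Ctrl.le_normalizer (h : Ctrl S Q) : S ≤ Subgroup.normalizer (Q : Set G) := fun g hg =>
  h.normalizes (le_of_eq (cj_eq_self (Subgroup.le_normalizer hg)))

theorem Ctrl.sup {Q₁ Q₂ : Subgroup G} (h₁ : Ctrl S Q₁) (h₂ : Ctrl S Q₂) : Ctrl S (Q₁ ⊔ Q₂) := by
  refine ⟨sup_le h₁.1 h₂.1, fun T g hT hg => ?_⟩
  obtain ⟨c₁, hc₁, n₁, hn₁, rfl⟩ := h₁.2 T g hT hg
  have hn : cj (T ⊔ Q₁) n₁ ≤ S := by
    rw [cj, Subgroup.map_sup]
    refine sup_le ?_ ((cj_eq_self hn₁).le.trans h₁.1)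
    rw [← cj_cj, cj_of_centralizer hc₁] at hg
    exact hg
  obtain ⟨c₂, hc₂, n₂, hn₂, hne⟩ := h₂.2 _ n₁ (sup_le hT h₁.1) hn
  have hn₂' : n₂ ∈ Subgroup.normalizer (Q₁ : Set G) := by
    have h1 : c₂ ∈ Subgroup.normalizer (Q₁ : Set G) :=
      Subgroup.centralizer_le_normalizer _ (Subgroup.centralizer_le (by exact (le_sup_right : Q₁ ≤ T ⊔ Q₁)) hc₂)
    have := mul_mem (inv_mem h1) hn₁
    rwa [hne, inv_mul_cancel_left] at this
  refine ⟨c₁ * c₂, mul_mem hc₁ (Subgroup.centralizer_le (by exact (le_sup_left : T ≤ T ⊔ Q₁)) hc₂), n₂, ?_,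
    by rw [hne, mul_assoc]⟩
  rw [Subgroup.mem_normalizer_iff_map_conj_eq, Subgroup.map_sup, Subgroup.mem_normalizer_iff_map_conj_eq.1 hn₂',
    Subgroup.mem_normalizer_iff_map_conj_eq.1 hn₂]

theorem Ctrl.map_equiv {H : Type u} [Group H] (e : G ≃* H) (h : Ctrl S Q) :
    Ctrl (S.map e.toMonoidHom) (Q.map e.toMonoidHom) := by
  refine ⟨Subgroup.map_mono h.1, fun T g hT hg => ?_⟩
  have h1 : T.map e.symm.toMonoidHom ≤ S := by
    rintro _ ⟨t, ht, rfl⟩
    obtain ⟨s, hs, rfl⟩ := hT ht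
    simpa using hs
  have h2 : cj (T.map e.symm.toMonoidHom) (e.symm g) ≤ S := by
    rintro _ ⟨_, ⟨t, ht, rfl⟩, rfl⟩
    obtain ⟨s, hs, hse⟩ := hg ⟨t, ht, rfl⟩
    have : (MulAut.conj (e.symm g)⁻¹).toMonoidHom (e.symm.toMonoidHom t) = s := e.injective (by
      show e ((e.symm g)⁻¹ * e.symm t * ((e.symm g)⁻¹)⁻¹) = e.toMonoidHom s
      rw [hse]
      simp)
    rwa [this]
  obtain ⟨c, hc, n, hn, hgn⟩ := h.2 _ _ h1 h2
  refine ⟨e c, Subgroup.mem_centralizer_iff.2 fun t ht => ?_, e n,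
    Subgroup.le_normalizer_map e.toMonoidHom ⟨n, hn, rfl⟩, by rw [← map_mul, ← hgn, e.apply_symm_apply]⟩
  have := congrArg e (Subgroup.mem_centralizer_iff.1 hc (e.symm t) ⟨t, ht, rfl⟩)
  simpa using this

end basic

/-- The statement proved by induction. -/
def Constr {G : Type u} [Group G] (S : Subgroup G) : Prop :=
  ∃ Q : Subgroup G, Ctrl S Q ∧ S ⊓ Subgroup.centralizer (Q : Set G) ≤ Q

theorem dStarOf_eq_bot {G : Type u} [Group G] [Finite G] {S : Subgroup G} (hS : IsPGroup p S)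
    (h : Cfsg.dStarOf S = ⊥) : S = ⊥ := by
  by_contra hne
  haveI : Nontrivial S := (Subgroup.nontrivial_iff_ne_bot _).2 hne
  haveI : Nontrivial (Subgroup.center S) := hS.center_nontrivial
  obtain ⟨z, hz⟩ := exists_ne (1 : Subgroup.center S)
  refine hz (Subtype.ext (Subtype.ext (Subgroup.mem_bot.1 (h.le ?_))))
  exact ⟨z, le_sSup CfsgLib.PGroup.center_mem_dStarFamily z.2, rfl⟩

/-- The step from a normalizer controlling fusion. -/
theorem constr_of_normalizer {G : Type u} [Group G] [Finite G] (hp2 : p ≠ 2) (hst : Cfsg.IsNormalizerPStable p G)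
    (S : Sylow p G) (h : ∀ N : Subgroup G, N = Subgroup.normalizer (Cfsg.dStarOf (S : Subgroup G) : Set G) →
      ∀ S' : Sylow p N, Constr (S' : Subgroup N)) : Constr (S : Subgroup G) := by
  set N := Subgroup.normalizer (Cfsg.dStarOf (S : Subgroup G) : Set G) with hN
  have hSN : (S : Subgroup G) ≤ N := Subgroup.le_normalizer.trans (normalizer_le_normalizer_dStarOf _)
  obtain ⟨Q', ⟨hQ'S, hQ'ctrl⟩, hQ'c⟩ := h N rfl (S.subtype hSN)
  rw [Sylow.coe_subtype] at hQ'S hQ'ctrl hQ'c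
  refine ⟨Q'.map N.subtype, ⟨?_, fun T g hT hg => ?_⟩, ?_⟩
  · rintro _ ⟨q, hq, rfl⟩
    exact hQ'S hq
  · obtain ⟨c, hc, y, hy, hTy, rfl⟩ := control hp2 hst S hT hg
    have h1 : cj (T.subgroupOf N) ⟨y, hy⟩ ≤ (S : Subgroup G).subgroupOf N := by
      rintro _ ⟨t, ht, rfl⟩
      exact hTy ⟨t, ht, rfl⟩
    obtain ⟨c', hc', n, hn, hyn⟩ := hQ'ctrl (T.subgroupOf N) ⟨y, hy⟩ (Subgroup.comap_mono hT) h1
    refine ⟨c * (c' : G), mul_mem hc (Subgroup.mem_centralizer_iff.2 fun t ht => ?_), n,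
      Subgroup.le_normalizer_map N.subtype ⟨n, hn, rfl⟩, by rw [mul_assoc]; exact congrArg (c * ·) (congrArg Subtype.val hyn)⟩
    exact congrArg Subtype.val (Subgroup.mem_centralizer_iff.1 hc' ⟨t, hSN (hT ht)⟩ ht)
  · rintro x ⟨hxS, hxC⟩
    exact ⟨⟨x, hSN hxS⟩, hQ'c ⟨hxS, Subgroup.mem_centralizer_iff.2 fun q hq =>
      Subtype.ext (Subgroup.mem_centralizer_iff.1 hxC q ⟨q, hq, rfl⟩)⟩, rfl⟩

/-- A subgroup normal in the fusion of `C = C(D)` is normal in the fusion of `G = N(D)`. -/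
theorem constr_of_centralizer {G : Type u} [Group G] [Finite G] (S : Sylow p G) (D : Subgroup G) [D.Normal]
    (hDS : D ≤ S) (hDC : D ≤ Subgroup.centralizer (D : Set G))
    (h : ∀ S' : Sylow p ↥(Subgroup.centralizer (D : Set G)),
      Constr (S' : Subgroup ↥(Subgroup.centralizer (D : Set G)))) : Constr (S : Subgroup G) := by
  classical
  set C := Subgroup.centralizer (D : Set G) with hC
  haveI hCn : C.Normal := Subgroup.normal_centralizer
  obtain ⟨SC, hSC⟩ := CfsgLib.QDWr.exists_sylow_inf_normal S C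
  obtain ⟨Q', hQ', hQ'c⟩ := h SC
  obtain ⟨Q₀, hQ₀, hmax⟩ := Set.exists_max_image {Q : Subgroup C | Ctrl (SC : Subgroup C) Q}
    (fun Q => Nat.card Q) (Set.toFinite _) ⟨Q', hQ'⟩
  have hle : ∀ R : Subgroup C, Ctrl (SC : Subgroup C) R → R ≤ Q₀ := fun R hR => by
    have h1 := hmax _ (hQ₀.sup hR)
    rw [Subgroup.eq_of_le_of_card_ge (le_sup_left : Q₀ ≤ Q₀ ⊔ R) h1]
    exact le_sup_right
  have hQ₀S : ∀ q ∈ Q₀, (q : G) ∈ (S : Subgroup G) := fun q hq => by
    have := hQ₀.1 hq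
    rw [hSC] at this
    exact this.1
  have hQ₀c : (SC : Subgroup C) ⊓ Subgroup.centralizer (Q₀ : Set C) ≤ Q₀ :=
    (inf_le_inf_left _ (Subgroup.centralizer_le (by exact hle Q' hQ'))).trans (hQ'c.trans (hle Q' hQ'))
  set Q := Q₀.map C.subtype with hQ
  have hQS : Q ≤ (S : Subgroup G) ⊓ C := by
    rintro _ ⟨q, hq, rfl⟩
    exact ⟨hQ₀S q hq, q.2⟩
  have hDQ : D ≤ Q := fun d hd => by
    refine ⟨⟨d, hDC hd⟩, hQ₀c ⟨?_, Subgroup.mem_centralizer_iff.2 fun q _ => Subtype.ext ?_⟩, rfl⟩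
    · show (⟨d, hDC hd⟩ : C) ∈ (SC : Subgroup C)
      rw [hSC]
      exact ⟨hDS hd, hDC hd⟩
    · exact (Subgroup.mem_centralizer_iff.1 q.2 d hd).symm
  -- fusion of subgroups of `S ∩ C` above `Q`
  have hfus : ∀ (A : Subgroup G) (x : G), Q ≤ A → A ≤ (S : Subgroup G) ⊓ C → cj A x ≤ (S : Subgroup G) →
      x ∈ Subgroup.normalizer (Q : Set G) := by
    intro A x hQA hAS hAx
    have hAxC : cj A x ≤ C := by
      rintro _ ⟨a, ha, rfl⟩
      exact hCn.conj_mem a (hAS ha).2 x⁻¹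
    have hfr := Sylow.normalizer_sup_eq_top SC
    rw [hSC, Subgroup.subgroupOf_map_subtype, inf_eq_left.2 inf_le_right, sup_comm] at hfr
    obtain ⟨c₀, hc₀, a, ha, rfl⟩ := Subgroup.mem_sup_of_normal_left.1 (hfr.ge (Subgroup.mem_top x))
    have hc₀A : cj A c₀ ≤ (S : Subgroup G) ⊓ C := by
      have h1 : cj A c₀ = cj (cj A (c₀ * a)) a⁻¹ := by rw [cj_cj, mul_inv_cancel_right]
      rw [h1, ← cj_eq_self (inv_mem ha)]
      exact cj_mono (le_inf hAx hAxC) _
    have h1 : cj (A.subgroupOf C) ⟨c₀, hc₀⟩ ≤ (SC : Subgroup C) := by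
      rw [hSC]
      rintro _ ⟨t, ht, rfl⟩
      exact hc₀A ⟨t, ht, rfl⟩
    have h2 : A.subgroupOf C ≤ (SC : Subgroup C) := by
      rw [hSC]
      exact Subgroup.comap_mono hAS
    obtain ⟨c, hc, n, hn, hcn⟩ := hQ₀.2 _ _ h2 h1
    refine mul_mem ?_ ?_
    · rw [show c₀ = (c : G) * (n : G) from congrArg Subtype.val hcn]
      refine mul_mem (Subgroup.centralizer_le_normalizer _ (Subgroup.mem_centralizer_iff.2 fun q hq => ?_))
        (Subgroup.le_normalizer_map C.subtype ⟨n, hn, rfl⟩)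
      exact congrArg Subtype.val (Subgroup.mem_centralizer_iff.1 hc ⟨q, (hQS hq).2⟩ (hQA hq))
    · let e : C ≃* C := MulAut.conjNormal a
      have heS : (SC : Subgroup C).map e.toMonoidHom = (SC : Subgroup C) := by
        rw [hSC]
        refine le_antisymm ?_ fun y hy => ?_
        · rintro _ ⟨y, hy, rfl⟩
          show ((MulAut.conjNormal a y : C) : G) ∈ (S : Subgroup G) ⊓ C
          rw [MulAut.conjNormal_apply]
          exact (Subgroup.mem_normalizer_iff.1 ha (y : G)).1 hy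
        · refine ⟨MulAut.conjNormal a⁻¹ y, ?_, ?_⟩
          · show ((MulAut.conjNormal a⁻¹ y : C) : G) ∈ (S : Subgroup G) ⊓ C
            rw [MulAut.conjNormal_apply]
            exact (Subgroup.mem_normalizer_iff.1 (inv_mem ha) (y : G)).1 hy
          · show MulAut.conjNormal a (MulAut.conjNormal a⁻¹ y) = y
            rw [← MulAut.mul_apply, ← map_mul, mul_inv_cancel, map_one, MulAut.one_apply]
      have h3 := hle (Q₀.map e.toMonoidHom) (heS ▸ hQ₀.map_equiv e)
      refine Subgroup.mem_normalizer_fintype ?_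
      rintro _ ⟨q, hq, rfl⟩
      exact ⟨e q, h3 ⟨q, hq, rfl⟩, MulAut.conjNormal_apply _ _⟩
  have hSQ : (S : Subgroup G) ≤ Subgroup.normalizer (Q : Set G) := fun s hs => hfus _ s hQS le_rfl (by
    rintro _ ⟨a, ha, rfl⟩
    exact (S : Subgroup G).mul_mem ((S : Subgroup G).mul_mem ((S : Subgroup G).inv_mem hs) ha.1)
      (by rw [inv_inv]; exact hs))
  -- `Q` lies in every good subgroup
  have hgood : ∀ R : Subgroup G, Good S R → Q ≤ R := by
    intro R hR
    have hRS := hR.1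
    have hQS' : Q ≤ (S : Subgroup G) := hQS.trans inf_le_left
    by_contra hnot
    refine CfsgLib.Signalizer.exists_mem_normalizer_of_lt (S.isPGroup'.to_le (sup_le hRS hQS'))
      (left_lt_sup.2 hnot) fun w hw => ?_
    obtain ⟨hw1, hw2⟩ := hw
    obtain ⟨r, hr, q, hq, rfl⟩ := CfsgLib.CoprimeAction.exists_mul_of_mem_sup (hRS.trans hSQ) hw1
    set N := Subgroup.normalizer (R : Set G) with hN
    have hqN : q ∈ N := by
      have := N.mul_mem (N.inv_mem (Subgroup.le_normalizer hr)) hw2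
      rwa [← mul_assoc, inv_mul_cancel, one_mul] at this
    refine R.mul_mem hr ?_
    haveI : (R.subgroupOf N).Normal := Subgroup.normal_subgroupOf_of_le_normalizer le_rfl
    have hRN : R ≤ N := Subgroup.le_normalizer
    refine mem_of_mem_pCore S hR (hQS' hq) hqN ?_
    set CR := Subgroup.centralizer ((R.subgroupOf N : Subgroup N) : Set N) with hCR
    set ρ := QuotientGroup.mk' CR with hρ
    set R₁ := R ⊓ C with hR₁
    set CR₁ := Subgroup.centralizer (R₁ : Set G) with hCR₁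
    set V := Q ⊓ Subgroup.normalizer (R₁ : Set G) with hV
    set Y := (C ⊓ (V ⊔ CR₁)).subgroupOf N with hY
    set NC := C.subgroupOf N with hNC
    haveI hNCn : NC.Normal := Subgroup.normal_subgroupOf
    have hVN : V ≤ Subgroup.normalizer (CR₁ : Set G) :=
      inf_le_right.trans (CfsgLib.Components.normalizer_le_normalizer_centralizer R₁)
    have hR₁C : R₁ ≤ (S : Subgroup G) ⊓ C := inf_le_inf_right _ hRS
    have hNCR₁ : ∀ a : G, a ∈ N → a ∈ Subgroup.normalizer (R₁ : Set G) := fun a ha =>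
      Subgroup.mem_normalizer_fintype fun v hv =>
        ⟨(Subgroup.mem_normalizer_iff.1 ha v).1 hv.1, hCn.conj_mem v hv.2 a⟩
    -- `Y` is normal in `N ∩ C`
    have hYn : (Y.subgroupOf NC).Normal := by
      refine ⟨fun z hz a => ?_⟩
      obtain ⟨a, haC⟩ := a
      have haC' : (a : G) ∈ C := haC
      have h1 : cj (R₁.subgroupOf C) ⟨a, haC'⟩ ≤ (SC : Subgroup C) := by
        rw [hSC]
        rintro _ ⟨t, ht, rfl⟩
        refine hR₁C ?_
        show (a : G)⁻¹ * (t : G) * (a : G)⁻¹⁻¹ ∈ R₁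
        exact (Subgroup.mem_normalizer_iff.1 (inv_mem (hNCR₁ _ a.2)) (t : G)).1 ht
      have h2 : R₁.subgroupOf C ≤ (SC : Subgroup C) := by
        rw [hSC]
        exact Subgroup.comap_mono hR₁C
      obtain ⟨c, hc, n, hn, hcn⟩ := hQ₀.2 _ _ h2 h1
      have hc' : (c : G) ∈ CR₁ := Subgroup.mem_centralizer_iff.2 fun v hv =>
        congrArg Subtype.val (Subgroup.mem_centralizer_iff.1 hc ⟨v, hv.2⟩ hv)
      have hae : (a : G) = (c : G) * (n : G) := congrArg Subtype.val hcn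
      have hnR : (n : G) ∈ Subgroup.normalizer (R₁ : Set G) := by
        have := mul_mem (inv_mem (Subgroup.centralizer_le_normalizer _ hc')) (hNCR₁ _ a.2)
        rwa [hae, inv_mul_cancel_left] at this
      have hnV : (n : G) ∈ Subgroup.normalizer ((V ⊔ CR₁ : Subgroup G) : Set G) := by
        rw [Subgroup.mem_normalizer_iff_map_conj_eq, Subgroup.map_sup, hV,
          Subgroup.map_inf _ _ _ (MulAut.conj (n : G)).injective,
          Subgroup.mem_normalizer_iff_map_conj_eq.1 (Subgroup.le_normalizer_map C.subtype ⟨n, hn, rfl⟩ :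
            (n : G) ∈ Subgroup.normalizer (Q : Set G)),
          Subgroup.mem_normalizer_iff_map_conj_eq.1 (Subgroup.le_normalizer hnR),
          Subgroup.mem_normalizer_iff_map_conj_eq.1 (CfsgLib.Components.normalizer_le_normalizer_centralizer R₁ hnR)]
      refine ⟨hCn.conj_mem _ hz.1 _, ?_⟩
      refine (Subgroup.mem_normalizer_iff.1 ?_ _).1 hz.2
      show (a : G) ∈ _
      rw [hae]
      exact mul_mem (Subgroup.le_normalizer (Subgroup.mem_sup_right hc')) hnV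
    -- `Y` is a `p`-group modulo the centralizer
    have hYp : IsPGroup p (Y.map ρ) := by
      rintro ⟨_, z, hz, rfl⟩
      obtain ⟨v, hv, c, hc, hvc⟩ := CfsgLib.CoprimeAction.exists_mul_of_mem_sup hVN hz.2
      obtain ⟨i, hi⟩ := S.isPGroup' ⟨v, hQS' hv.1⟩
      obtain ⟨s, c', hsc, -, ⟨k, hk⟩, hcp, hs, hcz⟩ := CfsgLib.Transfer.exists_pPart_mul (p := p) (z ^ p ^ i)
      have hzR₁ : ((z ^ p ^ i : N) : G) ∈ CR₁ := by
        set K := V ⊔ CR₁
        haveI : (CR₁.subgroupOf K).Normal := Subgroup.normal_subgroupOf_of_le_normalizer (sup_le hVN Subgroup.le_normalizer)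
        have h1 : ((⟨v, Subgroup.mem_sup_left hv⟩ : K) * ⟨c, Subgroup.mem_sup_right hc⟩) ^ p ^ i ∈ CR₁.subgroupOf K := by
          rw [← QuotientGroup.eq_one_iff, QuotientGroup.mk_pow, QuotientGroup.mk_mul,
            (QuotientGroup.eq_one_iff (⟨c, Subgroup.mem_sup_right hc⟩ : K)).2 hc, mul_one, ← QuotientGroup.mk_pow,
            QuotientGroup.eq_one_iff, show (⟨v, Subgroup.mem_sup_left hv⟩ : K) ^ p ^ i = 1 from
              Subtype.ext (by simpa using congrArg Subtype.val hi)]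
          exact one_mem _
        rw [SubmonoidClass.coe_pow, show ((z : G)) = v * c from hvc.symm]
        exact h1
      have hc'R : c' ∈ CR := by
        have hc'1 : (c' : G) ∈ CR₁ := by
          obtain ⟨j, rfl⟩ := Subgroup.mem_zpowers_iff.1 hcz
          rw [SubgroupClass.coe_zpow]
          exact zpow_mem hzR₁ j
        have hc'C : (c' : G) ∈ C := by
          obtain ⟨j, rfl⟩ := Subgroup.mem_zpowers_iff.1 hcz
          rw [SubgroupClass.coe_zpow, SubmonoidClass.coe_pow]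
          exact C.zpow_mem (C.pow_mem hz.1 _) j
        have hcent : (c' : G) ∈ Subgroup.centralizer (R : Set G) := by
          obtain ⟨n₀, hn₀⟩ := IsPGroup.iff_card.1 (S.isPGroup'.to_le (inf_le_left.trans hRS : R₁ ≤ (S : Subgroup G)))
          refine CfsgLib.CoprimeAction.le_centralizer_of_chain (A := Subgroup.zpowers (c' : G)) (N := R₁) (K := R)
            (by rw [Nat.card_zpowers, Subgroup.orderOf_coe, hn₀]; exact hcp.pow_right n₀)
            (Subgroup.zpowers_le.2 hc'1) ?_ (Subgroup.mem_zpowers _)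
          refine le_inf (Subgroup.le_normalizer_iff_commutator_le_left.1 (Subgroup.zpowers_le.2 c'.2)) ?_
          exact (Subgroup.commutator_mono le_rfl (Subgroup.zpowers_le.2 hc'C)).trans (Subgroup.commutator_le_right R C)
        exact Subgroup.mem_centralizer_iff.2 fun v hv => Subtype.ext (Subgroup.mem_centralizer_iff.1 hcent v hv)
      refine ⟨i + k, Subtype.ext ?_⟩
      rw [SubmonoidClass.coe_pow, pow_add, pow_mul, ← map_pow, hsc, map_mul,
        show ρ c' = 1 from (QuotientGroup.eq_one_iff c').2 hc'R, mul_one, ← map_pow, ← hk, pow_orderOf_eq_one, map_one]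
      rfl
    -- so inside `O_p`
    haveI : (NC.map ρ).Normal := hNCn.map ρ (QuotientGroup.mk'_surjective _)
    have hYNC : Y.map ρ ≤ NC.map ρ := Subgroup.map_mono (Subgroup.comap_mono inf_le_left)
    haveI : ((Y.map ρ).subgroupOf (NC.map ρ)).Normal := by
      refine ⟨fun z hz a => ?_⟩
      obtain ⟨z', hz', hze⟩ := hz
      obtain ⟨a', ha', hae⟩ := a.2
      refine ⟨a' * z' * a'⁻¹, hYn.conj_mem ⟨z', hz'.1⟩ hz' ⟨a', ha'⟩, ?_⟩
      rw [map_mul, map_mul, map_inv, hze, hae]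
      rfl
    have h5 : ρ ⟨q, hqN⟩ ∈ Y.map ρ :=
      ⟨⟨q, hqN⟩, ⟨(hQS hq).2, Subgroup.mem_sup_left ⟨hq, hNCR₁ q hqN⟩⟩, rfl⟩
    have h6 : (⟨ρ ⟨q, hqN⟩, hYNC h5⟩ : NC.map ρ) ∈ Cfsg.pCore p (NC.map ρ) :=
      CfsgLib.PCore.le_pCore inferInstance (hYp.of_equiv (Subgroup.subgroupOfEquivOfLe hYNC).symm) h5
    exact ((CfsgLib.PCore.map_pCore_normal (p := p) (NC.map ρ)).le.trans inf_le_left) ⟨_, h6, rfl⟩
  refine ⟨Q, ⟨hQS.trans inf_le_left, fun T g hT hg => ?_⟩, ?_⟩
  · obtain ⟨c, hc, y, hy, rfl⟩ := fusion S _ T g hT hg rfl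
    refine ⟨c, hc, y, ?_, rfl⟩
    clear hc hg
    induction hy with
    | nil _ => exact one_mem _
    | @cons T R x y hR hx hTR _ ih' =>
      refine mul_mem ?_ (ih' ((cj_mono hTR x).trans ((cj_eq_self hx).le.trans hR.1)))
      exact hfus (R ⊓ C) x (le_inf (hgood R hR) (hQS.trans inf_le_right)) (inf_le_inf_right _ hR.1)
        ((cj_mono inf_le_left x).trans ((cj_eq_self hx).le.trans hR.1))
  · rintro x ⟨hxS, hxC⟩
    have hxC' : x ∈ C := Subgroup.centralizer_le (by exact hDQ) hxC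
    refine ⟨⟨x, hxC'⟩, hQ₀c ⟨?_, Subgroup.mem_centralizer_iff.2 fun q hq =>
      Subtype.ext (Subgroup.mem_centralizer_iff.1 hxC q ⟨q, hq, rfl⟩)⟩, rfl⟩
    show (⟨x, hxC'⟩ : C) ∈ (SC : Subgroup C)
    rw [hSC]
    exact ⟨hxS, hxC'⟩

/-- Lifting through a central `p`-subgroup. -/
theorem constr_of_quotient {G : Type u} [Group G] [Finite G] (S : Sylow p G) (Z : Subgroup G) [hZn : Z.Normal]
    (hZS : Z ≤ S) (hZc : Z ≤ Subgroup.center G)
    (h : ∀ S' : Sylow p (G ⧸ Z), Constr (S' : Subgroup (G ⧸ Z))) : Constr (S : Subgroup G) := by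
  classical
  set π := QuotientGroup.mk' Z with hπ
  have hπs : Function.Surjective π := QuotientGroup.mk'_surjective Z
  have hker : π.ker = Z := QuotientGroup.ker_mk' Z
  obtain ⟨Qb, hQb, hQbc⟩ := h (S.mapSurjective hπs)
  rw [Sylow.coe_mapSurjective] at hQb hQbc
  have hSback : ((S : Subgroup G).map π).comap π = (S : Subgroup G) := by
    rw [Subgroup.comap_map_eq, hker, sup_eq_left.2 hZS]
  set Q := Qb.comap π with hQdef
  have hQS : Q ≤ (S : Subgroup G) := (Subgroup.comap_mono hQb.1).trans hSback.le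
  have hnorm : ∀ n : G, π n ∈ Subgroup.normalizer (Qb : Set (G ⧸ Z)) → n ∈ Subgroup.normalizer (Q : Set G) :=
    fun n hn => Subgroup.mem_normalizer_iff.2 fun v => by
      show π v ∈ Qb ↔ π (n * v * n⁻¹) ∈ Qb
      rw [map_mul, map_mul, map_inv]
      exact Subgroup.mem_normalizer_iff.1 hn (π v)
  have hSQ : (S : Subgroup G) ≤ Subgroup.normalizer (Q : Set G) := fun s hs =>
    hnorm s (hQb.le_normalizer ⟨s, hs, rfl⟩)
  have hcen : ∀ z ∈ Z, ∀ x : G, x * z = z * x := fun z hz x => Subgroup.mem_center_iff.1 (hZc hz) x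
  -- for fully normalized subgroups
  have hfull : ∀ (T : Subgroup G) (g : G), T ≤ S →
      Nat.card (Cfsg.FusionSystem.normalizerIn (S : Subgroup G) (T ⊔ Z)) =
        CfsgLib.Fusion.pPartCard p (Subgroup.normalizer ((T ⊔ Z : Subgroup G) : Set G)) →
      cj T g ≤ S → ∃ c ∈ Subgroup.centralizer (T : Set G), ∃ n ∈ Subgroup.normalizer (Q : Set G), g = c * n := by
    intro T g hT hcard hg
    have h1 : cj (T.map π) (π g) ≤ (S : Subgroup G).map π := by
      rintro _ ⟨_, ⟨t, ht, rfl⟩, rfl⟩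
      exact ⟨g⁻¹ * t * g, hg ⟨t, ht, by simp⟩, by simp⟩
    obtain ⟨cb, hcb, nb, hnb, hgb⟩ := hQb.2 (T.map π) (π g) (Subgroup.map_mono hT) h1
    obtain ⟨c, rfl⟩ := hπs cb
    have hn : c⁻¹ * g ∈ Subgroup.normalizer (Q : Set G) :=
      hnorm _ (by rw [map_mul, map_inv, hgb, inv_mul_cancel_left]; exact hnb)
    set T' := T ⊔ Z with hT'
    set N := Subgroup.normalizer (T' : Set G) with hN
    set A := (Subgroup.centralizer ((T.map π : Subgroup (G ⧸ Z)) : Set (G ⧸ Z))).comap π with hA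
    have hTcomap : (T.map π).comap π = T' := by rw [Subgroup.comap_map_eq, hker]
    have hAcomm : ∀ a ∈ A, ∀ t ∈ T, ⁅t, a⁆ ∈ Z := fun a ha t ht => by
      rw [← QuotientGroup.eq_one_iff]
      show π ⁅t, a⁆ = 1
      rw [map_commutatorElement, commutatorElement_eq_one_iff_mul_comm]
      exact Subgroup.mem_centralizer_iff.1 ha _ ⟨t, ht, rfl⟩
    have hAN : A ≤ N := fun a ha => Subgroup.mem_normalizer_iff.2 fun v => by
      rw [← hTcomap]
      show π v ∈ T.map π ↔ π (a * v * a⁻¹) ∈ T.map π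
      rw [map_mul, map_mul, map_inv]
      exact Subgroup.mem_normalizer_iff.1 (Subgroup.centralizer_le_normalizer _ ha) (π v)
    haveI hAn : (A.subgroupOf N).Normal := by
      refine Subgroup.normal_subgroupOf_of_le_normalizer fun x hx => ?_
      have h2 : π x ∈ Subgroup.normalizer ((T.map π : Subgroup (G ⧸ Z)) : Set (G ⧸ Z)) := by
        refine Subgroup.mem_normalizer_fintype ?_
        rintro _ ⟨t, ht, rfl⟩
        have h4 : x * t * x⁻¹ ∈ T' := (Subgroup.mem_normalizer_iff.1 hx t).1 (Subgroup.mem_sup_left ht)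
        rw [← hTcomap] at h4
        rw [← map_inv, ← map_mul, ← map_mul]
        exact h4
      have h3 := CfsgLib.Components.normalizer_le_normalizer_centralizer _ h2
      refine Subgroup.mem_normalizer_iff.2 fun v => ?_
      show π v ∈ Subgroup.centralizer ((T.map π : Subgroup (G ⧸ Z)) : Set (G ⧸ Z)) ↔
        π (x * v * x⁻¹) ∈ Subgroup.centralizer ((T.map π : Subgroup (G ⧸ Z)) : Set (G ⧸ Z))
      rw [map_mul, map_mul, map_inv]
      exact Subgroup.mem_normalizer_iff.1 h3 (π v)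
    obtain ⟨W, hW⟩ := (CfsgLib.Fusion.exists_sylow_subgroupOf_iff (p := p)
      (inf_le_right : Cfsg.FusionSystem.normalizerIn (S : Subgroup G) T' ≤ N)).2 hcard
    set A' := A.subgroupOf N with hA'
    obtain ⟨V, hV⟩ := CfsgLib.QDWr.exists_sylow_inf_normal W A'
    set CT := Subgroup.centralizer (T : Set G) with hCT
    have hCTA : CT ≤ A := fun a ha => Subgroup.mem_centralizer_iff.2 (by
      rintro _ ⟨t, ht, rfl⟩
      rw [← map_mul, ← map_mul, Subgroup.mem_centralizer_iff.1 ha t ht])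
    set K := ((CT.subgroupOf N).subgroupOf A') with hK
    have hCT' : CT = Subgroup.centralizer (T' : Set G) := by
      refine le_antisymm ?_ (Subgroup.centralizer_le (by exact (le_sup_left : T ≤ T')))
      rw [Subgroup.le_centralizer_iff]
      exact sup_le (Subgroup.le_centralizer_iff.1 le_rfl) (hZc.trans (Subgroup.center_le_centralizer _))
    haveI hKn : K.Normal := by
      refine ⟨fun z hz a => ?_⟩
      have h1 : ((z : N) : G) ∈ CT := hz
      show ((a : N) : G) * ((z : N) : G) * ((a : N) : G)⁻¹ ∈ CT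
      rw [hCT'] at h1 ⊢
      exact (Subgroup.mem_normalizer_iff.1 (CfsgLib.Components.normalizer_le_normalizer_centralizer T' (a : N).2) _).1 h1
    have hquot : IsPGroup p (A' ⧸ K) := fun z => by
      obtain ⟨a, rfl⟩ := QuotientGroup.mk'_surjective K z
      obtain ⟨s, c', hsc, -, ⟨k, hk⟩, hcp, -, -⟩ := CfsgLib.Transfer.exists_pPart_mul (p := p) a
      have hc' : c' ∈ K := by
        show ((c' : N) : G) ∈ CT
        obtain ⟨n₀, hn₀⟩ := IsPGroup.iff_card.1 (S.isPGroup'.to_le hZS)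
        refine CfsgLib.CoprimeAction.le_centralizer_of_chain (A := Subgroup.zpowers ((c' : N) : G)) (N := Z) (K := T)
          (by rw [Nat.card_zpowers, Subgroup.orderOf_coe, Subgroup.orderOf_coe, hn₀]; exact hcp.pow_right n₀)
          (Subgroup.zpowers_le.2 (Subgroup.mem_centralizer_iff.2 fun v hv => (hcen v hv _).symm)) ?_ (Subgroup.mem_zpowers _)
        refine Subgroup.commutator_le.2 fun t ht w hw => hAcomm w ((Subgroup.zpowers_le.2 c'.2 : _ ≤ A) hw) t ht
      refine ⟨k, ?_⟩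
      show (QuotientGroup.mk a : A' ⧸ K) ^ p ^ k = 1
      rw [hsc, QuotientGroup.mk_mul, (QuotientGroup.eq_one_iff c').2 hc', mul_one, ← QuotientGroup.mk_pow, ← hk,
        pow_orderOf_eq_one, QuotientGroup.mk_one]
    have htop : K ⊔ (V : Subgroup A') = ⊤ := by
      rw [← Subgroup.index_eq_one]
      obtain ⟨k, hk⟩ := IsPGroup.iff_card.1 hquot
      have h1 : (K ⊔ (V : Subgroup A')).index ∣ p ^ k := by
        rw [← hk, ← Subgroup.index_eq_card]; exact Subgroup.index_dvd_of_le le_sup_left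
      have h2 : (K ⊔ (V : Subgroup A')).index ∣ (V : Subgroup A').index := Subgroup.index_dvd_of_le le_sup_right
      exact Nat.eq_one_of_dvd_coprimes ((hp.out.coprime_iff_not_dvd.2 V.not_dvd_index).pow_left k) h1 h2
    have hcA : c ∈ A := hcb
    obtain ⟨k, hk, v, hv, hkv⟩ := Subgroup.mem_sup_of_normal_left.1
      (htop.ge (Subgroup.mem_top (⟨⟨c, hAN hcA⟩, hcA⟩ : A')))
    rw [hV, hW] at hv
    have hvS : ((v : N) : G) ∈ (S : Subgroup G) := hv.1.1
    have hce : c = ((k : N) : G) * ((v : N) : G) :=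
      (congrArg (fun x : A' => ((x : N) : G)) hkv).symm
    refine ⟨((k : N) : G), hk, ((v : N) : G) * (c⁻¹ * g), mul_mem (hSQ hvS) hn, ?_⟩
    rw [← mul_assoc, ← hce, mul_inv_cancel_left]
  refine ⟨Q, ⟨hQS, fun T g hT hg => ?_⟩, ?_⟩
  · obtain ⟨h₀, hh₀, hcard⟩ := CfsgLib.Fusion.exists_conj_normalizerIn S (sup_le hT hZS)
    have hcj : (T ⊔ Z).map (MulAut.conj h₀).toMonoidHom = cj T h₀⁻¹ ⊔ Z := by
      rw [Subgroup.map_sup, cj, inv_inv]
      congr 1
      exact Subgroup.mem_normalizer_iff_map_conj_eq.1 (Subgroup.normalizer_eq_top_iff.2 hZn ▸ Subgroup.mem_top h₀)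
    rw [hcj] at hh₀ hcard
    rw [CfsgLib.Fusion.pPartCard, ← CfsgLib.Fusion.card_conj_normalizer (T ⊔ Z) h₀, hcj, ← CfsgLib.Fusion.pPartCard] at hcard
    set T₁ := cj T h₀⁻¹ with hT₁
    have hT₁S : T₁ ≤ S := le_sup_left.trans hh₀
    obtain ⟨c₁, hc₁, n₁, hn₁, h₁⟩ := hfull T₁ h₀ hT₁S hcard (by rw [cj_cj, inv_mul_cancel, cj_one]; exact hT)
    obtain ⟨c₂, hc₂, n₂, hn₂, h₂⟩ := hfull T₁ (h₀ * g) hT₁S hcard (by rw [cj_cj, inv_mul_cancel_left]; exact hg)
    refine ⟨n₁⁻¹ * (c₁⁻¹ * c₂) * n₁, ?_, n₁⁻¹ * n₂, mul_mem (inv_mem hn₁) hn₂, ?_⟩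
    · have hT : T = cj T₁ n₁ := by
        rw [← cj_of_centralizer hc₁, cj_cj, ← h₁, cj_cj, inv_mul_cancel, cj_one]
      rw [hT]
      refine Subgroup.mem_centralizer_iff.2 ?_
      rintro _ ⟨t, ht, rfl⟩
      have h3 := Subgroup.mem_centralizer_iff.1 (mul_mem (inv_mem hc₁) hc₂) t ht
      show n₁⁻¹ * t * n₁⁻¹⁻¹ * (n₁⁻¹ * (c₁⁻¹ * c₂) * n₁) = n₁⁻¹ * (c₁⁻¹ * c₂) * n₁ * (n₁⁻¹ * t * n₁⁻¹⁻¹)
      calc _ = n₁⁻¹ * (t * (c₁⁻¹ * c₂)) * n₁ := by group
        _ = _ := by rw [h3]; group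
    · calc g = h₀⁻¹ * (h₀ * g) := by group
        _ = (c₁ * n₁)⁻¹ * (c₂ * n₂) := by rw [h₂, h₁]
        _ = _ := by group
  · rintro x ⟨hxS, hxC⟩
    refine hQbc ⟨⟨x, hxS, rfl⟩, Subgroup.mem_centralizer_iff.2 fun y hy => ?_⟩
    obtain ⟨y, rfl⟩ := hπs y
    rw [← map_mul, ← map_mul, Subgroup.mem_centralizer_iff.1 hxC y hy]

theorem constr (h5 : 5 ≤ p) : ∀ (n : ℕ) (G : Type u) [Group G] [Finite G], Nat.card G = n →
    Cfsg.IsNormalizerPStable p G → ∀ S : Sylow p G, Constr (S : Subgroup G) := by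
  have hp2 : p ≠ 2 := by omega
  intro n
  induction n using Nat.strong_induction_on with
  | _ n ih =>
    intro G _ _ hn hst S
    have hsub : ∀ H : Subgroup G, H ≠ ⊤ → ∀ S' : Sylow p H, Constr (S' : Subgroup H) := fun H hH S' => by
      refine ih _ ?_ H rfl (Cfsg.Agent.S3836.result hst H) S'
      have h1 := CfsgLib.GroupAlperin.card_lt_of_lt (lt_top_iff_ne_top.2 hH)
      rw [Subgroup.card_top] at h1
      omega
    set D := Cfsg.dStarOf (S : Subgroup G) with hD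
    by_cases hN : Subgroup.normalizer (D : Set G) = ⊤
    swap
    · exact constr_of_normalizer hp2 hst S fun N hNe S' => hsub N (hNe ▸ hN) S'
    haveI hDn : D.Normal := Subgroup.normalizer_eq_top_iff.1 hN
    have hDS : D ≤ S := Subgroup.map_subtype_le _
    haveI : IsMulCommutative (Cfsg.dStar (S : Subgroup G)) := (CfsgLib.PGroup.dStar_mem_family S.isPGroup').1
    haveI : IsMulCommutative D := Subgroup.map_isMulCommutative _ _
    by_cases hC : Subgroup.centralizer (D : Set G) = ⊤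
    swap
    · exact constr_of_centralizer S D hDS (Subgroup.le_centralizer D) (hsub _ hC)
    have hDc : D ≤ Subgroup.center G := Subgroup.centralizer_eq_top_iff_subset.1 hC
    rcases eq_or_ne D ⊥ with hbot | hne
    · refine ⟨⊥, ⟨bot_le, fun T g _ _ => ⟨1, one_mem _, g, ?_, (one_mul g).symm⟩⟩, ?_⟩
      · rw [Subgroup.normalizer_eq_top]; exact Subgroup.mem_top g
      · rw [dStarOf_eq_bot S.isPGroup' hbot]; exact inf_le_left
    · refine constr_of_quotient S D hDS hDc fun S' => ih _ ?_ (G ⧸ D) rfl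
        (CfsgLib.StableQuotient.stable_quotient h5 hst D hDc (S.isPGroup'.to_le hDS)) S'
      have h1 := Subgroup.card_eq_card_quotient_mul_card_subgroup D
      have h2 : 1 < Nat.card D := (Subgroup.one_lt_card_iff_ne_bot (H := D)).2 hne
      have h3 : 0 < Nat.card (G ⧸ D) := Nat.card_pos
      rw [← hn, h1]
      exact lt_mul_of_one_lt_right h3 h2

theorem isConstrained (h5 : 5 ≤ p) {G : Type u} [Group G] [Finite G] (hst : Cfsg.IsNormalizerPStable p G)
    (S : Sylow p G) : (Cfsg.groupFusionSystem (S : Subgroup G)).IsConstrained p := by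
  obtain ⟨Q, hQ, hQc⟩ := constr h5 _ G rfl hst S
  refine ⟨CfsgLib.Fusion.isSaturated_group S, Q, ⟨hQ.1, fun P φ hφ => ?_⟩, hQ.1, fun R hR => ?_⟩
  · obtain ⟨hPS, hφS, g, hg⟩ := hφ
    have hcj : cj P g⁻¹ ≤ (S : Subgroup G) := by
      rintro _ ⟨a, ha, rfl⟩
      have := hφS ⟨a, ha⟩
      rw [hg] at this
      simpa using this
    obtain ⟨c, hc, y, hy, hgy⟩ := hQ.2 P g⁻¹ hPS hcj
    rw [hgy, ← cj_cj, cj_of_centralizer hc] at hcj
    let ψ : ↥(P ⊔ Q) →* G := (MulAut.conj y⁻¹).toMonoidHom.comp (P ⊔ Q).subtype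
    have hψ : ∀ x : ↥(P ⊔ Q), ψ x = y⁻¹ * (x : G) * y := fun x => by simp [ψ]
    have hmem : cj (P ⊔ Q) y ≤ (S : Subgroup G) := by
      rw [cj, Subgroup.map_sup]
      exact sup_le hcj ((cj_eq_self hy).le.trans hQ.1)
    refine ⟨ψ, ⟨sup_le hPS hQ.1, fun x => hmem ⟨x, x.2, rfl⟩, y⁻¹, fun x => by simp [ψ]⟩, fun x => ?_, ?_⟩
    · rw [hψ, hg, Subgroup.coe_inclusion]
      have h1 := Subgroup.mem_centralizer_iff.1 hc _ x.2
      rw [show g = y⁻¹ * c⁻¹ by rw [← inv_inv g, hgy, mul_inv_rev]]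
      calc y⁻¹ * (x : G) * y = y⁻¹ * (c⁻¹ * (c * (x : G))) * y := by group
        _ = y⁻¹ * c⁻¹ * (x : G) * (y⁻¹ * c⁻¹)⁻¹ := by rw [← h1]; group
    · show (Q.subgroupOf (P ⊔ Q)).map ((MulAut.conj y⁻¹).toMonoidHom.comp (P ⊔ Q).subtype) = Q
      rw [← Subgroup.map_map, Subgroup.subgroupOf_map_subtype, inf_eq_left.2 le_sup_right]
      exact cj_eq_self hy
  · obtain ⟨-, hRS, g, rfl⟩ := CfsgLib.Fusion.isConj_group_iff.1 hR
    have hcj : cj Q g⁻¹ ≤ (S : Subgroup G) := by rw [cj, inv_inv]; exact hRS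
    obtain ⟨c, hc, y, hy, hgy⟩ := hQ.2 Q g⁻¹ hQ.1 hcj
    have hRQ : Q.map (MulAut.conj g).toMonoidHom = Q := by
      have : cj Q g⁻¹ = Q := by rw [hgy, ← cj_cj, cj_of_centralizer hc, cj_eq_self hy]
      rwa [cj, inv_inv] at this
    rw [hRQ]
    exact hQc

end CfsgLib.StableConstrained
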