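import Cfsg.Agent.Fusion.CyclicChain
import Cfsg.Agent.Fusion.RestrictionSystem
import Cfsg.Agent.S5301

/-!
Saturated fusion systems with a chain of strongly closed subgroups with cyclic factors.
-/

set_option autoImplicit false
set_option linter.style.haveILetI false

open Cfsg

namespace CfsgLib.Fusion

open Cfsg.FusionSystem

variable {Ω : Type*} [Group Ω] {S : Subgroup Ω} {p : ℕ} [Fact p.Prime]

/-- A map of a piece of a cyclic factor is a power map on it. -/
theorem exists_power_on_part {C U : Subgroup ↥S} [C.Normal] {x : ↥S} (hU : U ≤ C ⊔ Subgroup.zpowers x)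
    (f : U →* ↥S) (hfC : ∀ u : U, (u : ↥S) ∈ C → f u ∈ C) (hfU : ∀ u, f u ∈ U) :
    ∃ k : ℤ, ∀ u : U, (QuotientGroup.mk (f u) : ↥S ⧸ C) = (QuotientGroup.mk (u : ↥S) : ↥S ⧸ C) ^ k := by
  let π := QuotientGroup.mk' C
  have h1 : U.map π ≤ Subgroup.zpowers (π x) := by
    refine (Subgroup.map_mono hU).trans (le_of_eq ?_)
    rw [Subgroup.map_sup, MonoidHom.map_zpowers, (Subgroup.map_eq_bot_iff C).2 (QuotientGroup.ker_mk' C).ge,
      bot_sup_eq]
  haveI : IsCyclic ↥(U.map π) := isCyclic_of_injective (Subgroup.inclusion h1) (Subgroup.inclusion_injective h1)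
  obtain ⟨⟨_, y, hy, rfl⟩, hgen⟩ := IsCyclic.exists_generator (α := ↥(U.map π))
  have hcoord : ∀ u ∈ U, ∃ j : ℤ, π u = π y ^ j := fun u hu => by
    obtain ⟨j, hj⟩ := Subgroup.mem_zpowers_iff.1 (hgen ⟨π u, u, hu, rfl⟩)
    exact ⟨j, (congrArg Subtype.val hj).symm⟩
  obtain ⟨k, hk⟩ := hcoord _ (hfU ⟨y, hy⟩)
  refine ⟨k, fun u => ?_⟩
  obtain ⟨j, hj⟩ := hcoord u u.2
  show π (f u) = π u ^ k
  have hc : ((u * ((⟨y, hy⟩ : U) ^ j)⁻¹ : U) : ↥S) ∈ C := by
    rw [← QuotientGroup.eq_one_iff, ← QuotientGroup.mk'_apply, Subgroup.coe_mul, Subgroup.coe_inv,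
      Subgroup.coe_zpow, map_mul, map_inv, map_zpow]
    show π u * (π y ^ j)⁻¹ = 1
    rw [hj, mul_inv_cancel]
  have h2 := hfC _ hc
  rw [← QuotientGroup.eq_one_iff, ← QuotientGroup.mk'_apply, map_mul, map_inv, map_zpow, map_mul, map_inv,
    map_zpow, mul_inv_eq_one] at h2
  show π (f u) = π u ^ k
  rw [show π (f u) = π (f ⟨y, hy⟩) ^ j from h2, hk, hj, ← zpow_mul, ← zpow_mul, mul_comm]

/-- A fusion system with a chain of strongly closed subgroups with cyclic factors has normal `S`. -/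
theorem isNormal_of_cyclic_chain [Finite S] (hS : IsPGroup p S) {F : Cfsg.FusionSystem S}
    (hF : F.IsSaturated p) {m : ℕ} (L : ℕ → Subgroup Ω) (hL : Monotone L) (h0 : L 0 = ⊥) (hm : S ≤ L m)
    (hLS : ∀ i, F.StronglyClosed (L i))
    (hstep : ∀ i < m, ∃ x ∈ S, L (i + 1) = L i ⊔ Subgroup.zpowers x) : F.IsNormal S := by
  refine Cfsg.Agent.S5301.result p hS F hF fun P hn hc hr => ?_
  have hP : P ≤ S := hn.1
  haveI := finite_mulAut (S := S) hP
  haveI : Finite P := finite_of_le hP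
  set A := F.autGroup P
  have hpres : ∀ γ ∈ A, PreservesChain (P := P) L γ := fun γ hγ i x hx => by
    have h := restrict ((mem_autGroup hP).1 hγ) (inf_le_left : P ⊓ L i ≤ P)
    exact (hLS i).2 (P ⊓ L i) inf_le_right _ h ⟨x, x.2, hx⟩
  set K := (chainStab (P := P) L m hL).subgroupOf A
  have hK : IsPGroup p K :=
    (isPGroup_chainStab (hS.to_le hP) hL h0 (hP.trans hm)).comap_of_injective A.subtype A.subtype_injective
  haveI : K.Normal := ⟨fun β hβ γ i hi x hx => by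
    have hy := hpres _ (inv_mem γ.2) (i + 1) x hx
    have h1 := hpres _ γ.2 i _ ((mem_chainStab (hL := hL).1 hβ) i hi _ hy)
    simp only [map_mul, map_inv, MulAut.apply_inv_self] at h1
    exact h1⟩
  obtain ⟨R⟩ : Nonempty (Sylow p A) := inferInstance
  have hcomm : ∀ a b : A, a * b * (b * a)⁻¹ ∈ K := by
    intro a b i hi y hy
    set C := (L i).subgroupOf S
    haveI : C.Normal := Subgroup.normal_subgroupOf_iff (hLS i).1 |>.2 fun u g hu hg => conj_mem_of_normalizer
      (le_normalizer_of_weaklyClosed_fusion (weaklyClosed_of_stronglyClosed (hLS i)) hg) hu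
    obtain ⟨x, hx, he⟩ := hstep i hi
    set U := ((L (i + 1)) ⊓ P).subgroupOf S
    have hU : U ≤ C ⊔ Subgroup.zpowers (⟨x, hx⟩ : S) := by
      have : (L (i + 1)).subgroupOf S = C ⊔ Subgroup.zpowers (⟨x, hx⟩ : S) := by
        apply Subgroup.map_injective S.subtype_injective
        rw [Subgroup.map_sup, Subgroup.map_subgroupOf_eq_of_le (hLS (i + 1)).1,
          Subgroup.map_subgroupOf_eq_of_le (hLS i).1, MonoidHom.map_zpowers, he]
        rfl
      exact this ▸ fun u hu => hu.1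
    have hpow : ∀ γ ∈ A, ∃ k : ℤ, ∀ (z : P) (hz : (z : Ω) ∈ L (i + 1)),
        (QuotientGroup.mk (⟨(γ z : P), hP (γ z).2⟩ : S) : ↥S ⧸ C) =
          (QuotientGroup.mk (⟨z, hP z.2⟩ : S) : ↥S ⧸ C) ^ k := by
      intro γ hγ
      let f : U →* ↥S :=
        { toFun := fun u => ⟨(γ ⟨(u : S), u.2.2⟩ : P), hP (γ _).2⟩
          map_one' := Subtype.ext (congrArg Subtype.val (map_one γ) :)
          map_mul' := fun u v => Subtype.ext
            (congrArg Subtype.val (map_mul γ ⟨(u : S), u.2.2⟩ ⟨(v : S), v.2.2⟩) :) }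
      obtain ⟨k, hk⟩ := exists_power_on_part hU f (fun u hu => hpres γ hγ i _ hu)
        (fun u => ⟨hpres γ hγ (i + 1) _ u.2.1, (γ _).2⟩)
      exact ⟨k, fun z hz => hk ⟨⟨z, hP z.2⟩, hz, z.2⟩⟩
    obtain ⟨k, hk⟩ := hpow a a.2
    obtain ⟨l, hl⟩ := hpow b b.2
    set z := ((b : MulAut P) * a)⁻¹ y with hz
    have hzm : (z : Ω) ∈ L (i + 1) := hpres _ (inv_mem (mul_mem b.2 a.2)) (i + 1) y hy
    have hyz : y = (b : MulAut P) ((a : MulAut P) z) := by
      rw [← MulAut.mul_apply, hz, MulAut.apply_inv_self]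
    show ((y⁻¹ * ((a : MulAut P) * b * ((b : MulAut P) * a)⁻¹) y : P) : Ω) ∈ L i
    suffices hq : (⟨(y : Ω), hP y.2⟩ : S)⁻¹ * ⟨((a : MulAut P) ((b : MulAut P) z) : P), hP (Subtype.prop _)⟩ ∈ C by
      rw [MulAut.mul_apply, ← hz, MulAut.mul_apply]
      exact hq
    rw [← QuotientGroup.eq, hk _ (hpres _ b.2 (i + 1) z hzm), hl z hzm]
    simp only [hyz]
    rw [hl _ (hpres _ a.2 (i + 1) z hzm), hk z hzm, ← zpow_mul, ← zpow_mul, mul_comm]
  have hKR : K ≤ (R : Subgroup A) := (le_sSup ⟨inferInstance, hK⟩ : K ≤ Cfsg.pCore p A).trans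
    (Cfsg.Agent.S5080.pCore_le_sylow R)
  refine ⟨R, ⟨fun r hr g => ?_⟩⟩
  have h := Subgroup.mul_mem _ (hKR (hcomm g r)) hr
  rwa [show g * r * (r * g)⁻¹ * r = g * r * g⁻¹ by group] at h

/-- With `S` normal, a group of automorphisms invariant subgroup is strongly closed. -/
theorem stronglyClosed_of_invariant [Finite S] {F : Cfsg.FusionSystem S} (hN : F.IsNormal S) {C : Subgroup S}
    (hC : ∀ α ∈ F.autGroup S, ∀ y ∈ C, α y ∈ C) : F.StronglyClosed (C.map S.subtype) := by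
  refine ⟨Subgroup.map_subtype_le C, fun R hR φ hφ x => ?_⟩
  obtain ⟨α, hα, h⟩ := exists_aut_of_isNormal hN (hR.trans (Subgroup.map_subtype_le C)) hφ
  obtain ⟨y, hy, e⟩ := hR x.2
  refine ⟨α y, hC α hα y hy, ?_⟩
  rw [h x]
  exact congrArg (fun w : S => ((α w : S) : Ω)) (Subtype.ext e)

/-- One step of a chain: a proper invariant subgroup extends by a cyclic step. -/
theorem exists_invariant_step [Finite S] (hS : IsPGroup p S) (H : Subgroup (MulAut S))
    (hcomm : IsMulCommutative H) (hpow : ∀ h ∈ H, h ^ (p - 1) = 1) (C : Subgroup S) (hC : ∀ α ∈ Cfsg.Inn S ⊔ H, ∀ y ∈ C, α y ∈ C) (hne : C ≠ ⊤) :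
    ∃ x : S, C < C ⊔ Subgroup.zpowers x ∧
      ∀ α ∈ Cfsg.Inn S ⊔ H, ∀ y ∈ C ⊔ Subgroup.zpowers x, α y ∈ C ⊔ Subgroup.zpowers x := by
  classical
  haveI hCn : C.Normal := ⟨fun y hy g => hC _ (Subgroup.mem_sup_left ⟨g, rfl⟩) y hy⟩
  set π := QuotientGroup.mk' C with hπ
  haveI : Nontrivial (S ⧸ C) := QuotientGroup.nontrivial_iff.2 hne
  have hQ : IsPGroup p (S ⧸ C) := hS.of_surjective π (QuotientGroup.mk'_surjective C)
  have hZ : ∀ a b : Subgroup.center (S ⧸ C), Commute a b := fun a b => Subtype.ext (Subgroup.mem_center_iff.1 b.2 a)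
  let M : Subgroup (Subgroup.center (S ⧸ C)) :=
    { carrier := {z | z ^ p = 1}
      one_mem' := one_pow p
      mul_mem' := fun {a b} ha hb => by
        show (a * b) ^ p = 1
        rw [(hZ a b).mul_pow, ha, hb, one_mul]
      inv_mem' := fun {a} ha => by
        show a⁻¹ ^ p = 1
        rw [inv_pow, ha, inv_one] }
  haveI : Nontrivial (Subgroup.center (S ⧸ C)) := hQ.center_nontrivial
  haveI : Nontrivial M := by
    obtain ⟨n, hn⟩ := IsPGroup.iff_card.1 (hQ.to_subgroup (Subgroup.center (S ⧸ C)))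
    have hp : p ∣ Nat.card (Subgroup.center (S ⧸ C)) := by
      rcases n with _ | n
      · exact absurd hn (by rw [pow_zero]; exact (Finite.one_lt_card).ne')
      · exact hn ▸ dvd_pow_self p n.succ_ne_zero
    obtain ⟨z, hz⟩ := exists_prime_orderOf_dvd_card' p hp
    refine M.nontrivial_iff_exists_ne_one.2 ⟨z, show z ^ p = 1 from hz ▸ pow_orderOf_eq_one z, fun h => ?_⟩
    rw [h, orderOf_one] at hz
    exact (Fact.out : p.Prime).one_lt.ne hz
  have hmap : ∀ α ∈ H, C ≤ C.comap (α : MulAut S).toMonoidHom := fun α hα y hy =>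
    hC α (Subgroup.mem_sup_right hα) y hy
  let σ : H → (S ⧸ C →* S ⧸ C) := fun α => QuotientGroup.map C C (α : MulAut S).toMonoidHom (hmap α α.2)
  have hσmk : ∀ (α : H) (y : S), σ α (π y) = π ((α : MulAut S) y) := fun α y => rfl
  have hσM : ∀ (α : H) (z : M), ∃ z' : M, ((z' : (Subgroup.center (S ⧸ C))) : S ⧸ C) = σ α ((z : (Subgroup.center (S ⧸ C))) : S ⧸ C) := by
    intro α z
    have hc : σ α ((z : (Subgroup.center (S ⧸ C))) : S ⧸ C) ∈ (Subgroup.center (S ⧸ C)) := by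
      rw [Subgroup.mem_center_iff]
      intro w
      obtain ⟨w₀, rfl⟩ := QuotientGroup.mk'_surjective C w
      have : π w₀ = σ α (π ((α : MulAut S)⁻¹ w₀)) := by rw [hσmk, MulAut.apply_inv_self]
      rw [this, ← map_mul, ← map_mul, Subgroup.mem_center_iff.1 (z : (Subgroup.center (S ⧸ C))).2]
    refine ⟨⟨⟨_, hc⟩, Subtype.ext ?_⟩, rfl⟩
    show σ α ((z : (Subgroup.center (S ⧸ C))) : S ⧸ C) ^ p = 1
    rw [← map_pow]
    exact (congrArg (σ α) (congrArg Subtype.val z.2 :)).trans (map_one _)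
  choose g hg using hσM
  have hmul : ∀ (α β : H) (z : M), g (α * β) z = g α (g β z) := by
    intro α β z
    apply Subtype.ext; apply Subtype.ext
    rw [hg, hg, hg]
    obtain ⟨y, hy⟩ := QuotientGroup.mk'_surjective C ((z : (Subgroup.center (S ⧸ C))) : S ⧸ C)
    rw [← hy]
    rfl
  have hone : ∀ z : M, g 1 z = z := by
    intro z
    apply Subtype.ext; apply Subtype.ext
    rw [hg]
    obtain ⟨y, hy⟩ := QuotientGroup.mk'_surjective C ((z : (Subgroup.center (S ⧸ C))) : S ⧸ C)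
    rw [← hy]
    rfl
  let φ : H →* MulAut M :=
    { toFun := fun α =>
        { toFun := g α
          invFun := g α⁻¹
          left_inv := fun z => by rw [← hmul, inv_mul_cancel, hone]
          right_inv := fun z => by rw [← hmul, mul_inv_cancel, hone]
          map_mul' := fun z w => by
            apply Subtype.ext; apply Subtype.ext
            simp only [Subgroup.coe_mul, hg, map_mul] }
      map_one' := MulEquiv.ext hone
      map_mul' := fun α β => MulEquiv.ext (hmul α β) }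
  letI : CommGroup M := { (inferInstance : Group M) with mul_comm := fun a b => Subtype.ext (hZ a b).eq }
  obtain ⟨y, hy1, hy⟩ := exists_common_eigen (p := p) (M := M) (fun z => Subtype.ext z.2) φ.range
    (by rintro _ ⟨a, rfl⟩ _ ⟨b, rfl⟩; rw [Commute, SemiconjBy, ← map_mul, ← map_mul, mul_comm' a b])
    (by rintro _ ⟨a, rfl⟩; rw [← map_pow, show a ^ (p - 1) = 1 from Subtype.ext (hpow a a.2), map_one])
  obtain ⟨x, hx⟩ := QuotientGroup.mk'_surjective C ((y : (Subgroup.center (S ⧸ C))) : S ⧸ C)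
  have hD : C ⊔ Subgroup.zpowers x = (Subgroup.zpowers (π x)).comap π := by
    rw [← MonoidHom.map_zpowers, Subgroup.comap_map_eq, QuotientGroup.ker_mk', sup_comm]
  refine ⟨x, lt_of_le_of_ne le_sup_left fun h => hy1 ?_, ?_⟩
  · have : x ∈ C := h ▸ Subgroup.mem_sup_right (Subgroup.mem_zpowers x)
    apply Subtype.ext; apply Subtype.ext
    rw [← hx]
    exact (QuotientGroup.eq_one_iff x).2 this
  · intro α hα
    refine (Subgroup.closure_induction (p := fun α _ => (∀ w ∈ C ⊔ Subgroup.zpowers x, α w ∈ C ⊔ Subgroup.zpowers x) ∧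
      ∀ w ∈ C ⊔ Subgroup.zpowers x, α⁻¹ w ∈ C ⊔ Subgroup.zpowers x) ?_ ⟨by simp, by simp⟩ ?_ ?_
      (Subgroup.sup_eq_closure _ H ▸ hα)).1
    · intro β hβ
      have key : ∀ γ : MulAut S, γ ∈ (Cfsg.Inn S : Set (MulAut S)) ∪ H →
          ∀ w ∈ C ⊔ Subgroup.zpowers x, γ w ∈ C ⊔ Subgroup.zpowers x := by
        intro γ hγ w hw
        rw [hD] at hw ⊢
        rw [Subgroup.mem_comap] at hw ⊢
        rcases hγ with ⟨t, rfl⟩ | hγ
        · have hcen : π x ∈ (Subgroup.center (S ⧸ C)) := hx ▸ (y : (Subgroup.center (S ⧸ C))).2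
          have hwZ : π w ∈ (Subgroup.center (S ⧸ C)) := (Subgroup.zpowers_le.2 hcen) hw
          show π (t * w * t⁻¹) ∈ _
          rw [map_mul, map_mul, map_inv, Subgroup.mem_center_iff.1 hwZ, mul_inv_cancel_right]
          exact hw
        · obtain ⟨j, hj⟩ := Subgroup.mem_zpowers_iff.1 hw
          show π (γ w) ∈ _
          rw [← hσmk ⟨γ, hγ⟩ w, ← hj, map_zpow]
          refine Subgroup.zpow_mem _ ?_ j
          obtain ⟨i, hi⟩ := Subgroup.mem_zpowers_iff.1 (hy _ ⟨⟨γ, hγ⟩, rfl⟩)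
          have := congrArg (fun z : M => ((z : (Subgroup.center (S ⧸ C))) : S ⧸ C)) hi
          simp only [Subgroup.coe_zpow, ← hx] at this
          exact ⟨i, this.trans ((hg ⟨γ, hγ⟩ y).trans (by rw [hx]))⟩
      exact ⟨key β hβ, key β⁻¹ (hβ.imp (fun h => (Cfsg.Inn S).inv_mem h) (fun h => H.inv_mem h))⟩
    · intro a b _ _ ha hb
      refine ⟨fun w hw => ha.1 _ (hb.1 w hw), fun w hw => ?_⟩
      rw [mul_inv_rev]
      exact hb.2 _ (ha.2 w hw)
    · intro a _ ha
      exact ⟨ha.2, by rw [inv_inv]; exact ha.1⟩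

/-- Chains exist when `S` is normal and the automorphisms of order prime to `p` are abelian of exponent dividing
`p - 1`. -/
theorem exists_cyclic_chain [Finite S] (hS : IsPGroup p S) {F : Cfsg.FusionSystem S} (hF : F.IsSaturated p)
    (hN : F.IsNormal S)
    (hH : ∀ H : Subgroup (MulAut S), (Nat.card H).Coprime p → IsMulCommutative H ∧ ∀ h ∈ H, h ^ (p - 1) = 1) :
    ∃ (m : ℕ) (c : Fin (m + 1) → Subgroup Ω), c 0 = ⊥ ∧ c (Fin.last m) = S ∧
      (∀ i : Fin (m + 1), F.StronglyClosed (c i)) ∧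
        ∀ i : Fin m, c i.castSucc ≤ c i.succ ∧ ∃ x ∈ S, c i.succ = c i.castSucc ⊔ Subgroup.zpowers x := by
  haveI := finite_mulAut (S := S) le_rfl
  set A := F.autGroup S
  obtain ⟨-, T, hT⟩ := fullyAutomized_of_fullyNormalized hS hF (isFullyNormalized_self F)
  rw [autInducedBy_self] at hT
  have hI : Cfsg.Inn S ≤ A := inn_le_autGroup le_rfl
  haveI : ((Cfsg.Inn S).subgroupOf A).Normal := inn_subgroupOf_normal _
  obtain ⟨H₀, hH₀⟩ := Subgroup.exists_right_complement'_of_coprime (N := (Cfsg.Inn S).subgroupOf A)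
    (hT ▸ T.card_coprime_index)
  have hcard : (Nat.card (H₀.map A.subtype)).Coprime p := by
    rw [Subgroup.card_map_of_injective A.subtype_injective, ← hH₀.symm.index_eq_card, ← hT]
    exact Nat.Coprime.symm (((Fact.out : p.Prime).coprime_iff_not_dvd).2 T.not_dvd_index)
  have hAle : A ≤ Cfsg.Inn S ⊔ H₀.map A.subtype := by
    rw [← Subgroup.map_subgroupOf_eq_of_le hI, ← Subgroup.map_sup, hH₀.sup_eq_top, ← MonoidHom.range_eq_map,
      Subgroup.range_subtype]
  obtain ⟨hc, hp⟩ := hH _ hcard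
  have main : ∀ C : Subgroup S, (∀ α ∈ Cfsg.Inn S ⊔ H₀.map A.subtype, ∀ y ∈ C, α y ∈ C) →
      ∃ (m : ℕ) (L : ℕ → Subgroup S), L 0 = C ∧ L m = ⊤ ∧
        (∀ i, ∀ α ∈ Cfsg.Inn S ⊔ H₀.map A.subtype, ∀ y ∈ L i, α y ∈ L i) ∧
        ∀ i < m, ∃ x : S, L (i + 1) = L i ⊔ Subgroup.zpowers x := by
    intro C
    induction C using WellFoundedGT.induction with
    | ind C ih =>
      intro hC
      by_cases hne : C = ⊤
      · exact ⟨0, fun _ => C, rfl, hne, fun _ => hC, fun i hi => absurd hi (Nat.not_lt_zero i)⟩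
      obtain ⟨x, hlt, hx⟩ := exists_invariant_step hS _ hc hp C hC hne
      obtain ⟨m, L, h0, hm, hinv, hst⟩ := ih _ hlt hx
      refine ⟨m + 1, fun i => Nat.rec C (fun j _ => L j) i, rfl, hm, ?_, ?_⟩
      · rintro (_ | i)
        · exact hC
        · exact hinv i
      · rintro (_ | i) hi
        · exact ⟨x, h0⟩
        · exact hst i (by omega)
  obtain ⟨m, L, h0, hm, hinv, hst⟩ := main ⊥ fun α _ y hy => by
    rw [Subgroup.mem_bot] at hy ⊢
    rw [hy, map_one]
  refine ⟨m, fun i => (L i).map S.subtype, ?_, ?_, fun i => ?_, fun i => ?_⟩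
  · simp [h0]
  · simp only [Fin.val_last, hm, ← MonoidHom.range_eq_map, Subgroup.range_subtype]
  · exact stronglyClosed_of_invariant hN fun α hα => hinv i α (hAle hα)
  · obtain ⟨x, hx⟩ := hst i i.2
    have e : (L i.succ).map S.subtype = (L i.castSucc).map S.subtype ⊔ Subgroup.zpowers (x : Ω) := by
      rw [Fin.val_succ, Fin.val_castSucc, hx, Subgroup.map_sup, MonoidHom.map_zpowers]
      rfl
    exact ⟨le_of_le_of_eq le_sup_left e.symm, x, x.2, e⟩

end CfsgLib.Fusion
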